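import Mathlib
import Cfsg.Prelude.Def_Transfer
import Cfsg.Prelude.Def_PLocal

/-!
Abelian subgroups of bounded exponent of largest order and the subgroup they generate: a uniform
treatment of both versions of the Thompson subgroup (`e = 0`: abelian, `e = p`: elementary abelian).
-/

set_option autoImplicit false

namespace Cfsg.Agent.Thompson

open Subgroup

universe u v

variable {G : Type u} [Group G] {H : Type v} [Group H]

/-- abelian of exponent dividing `e` -/
def IsAbExp (e : ℕ) (A : Subgroup G) : Prop :=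
  IsMulCommutative A ∧ ∀ a ∈ A, a ^ e = 1

/-- the subgroups of `P` that are abelian of exponent dividing `e`, of largest order -/
def maxIn (e : ℕ) (P : Subgroup G) : Set (Subgroup G) :=
  {A | A ≤ P ∧ IsAbExp e A ∧ ∀ B ≤ P, IsAbExp e B → Nat.card B ≤ Nat.card A}

/-- the subgroup they generate -/
def jay (e : ℕ) (P : Subgroup G) : Subgroup G := sSup (maxIn e P)

/-- its centre -/
def zjay (e : ℕ) (P : Subgroup G) : Subgroup G := jay e P ⊓ centralizer (jay e P : Set G)

variable {e : ℕ} {P Q A : Subgroup G}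

theorem isMulCommutative_iff_forall {A : Subgroup G} :
    IsMulCommutative A ↔ ∀ a ∈ A, ∀ b ∈ A, a * b = b * a := by
  rw [← le_centralizer_iff_isMulCommutative]
  exact ⟨fun h a ha b hb => (mem_centralizer_iff.mp (h ha) b hb).symm,
    fun h a ha => mem_centralizer_iff.mpr fun b hb => h b hb a ha⟩

theorem IsAbExp.comm (h : IsAbExp e A) {a b : G} (ha : a ∈ A) (hb : b ∈ A) : a * b = b * a :=
  isMulCommutative_iff_forall.mp h.1 a ha b hb

theorem isAbExp_bot : IsAbExp e (⊥ : Subgroup G) :=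
  ⟨isMulCommutative_iff_forall.mpr fun a ha b hb => by simp_all [mem_bot], fun a ha => by simp_all [mem_bot]⟩

theorem IsAbExp.mono {B : Subgroup G} (h : IsAbExp e A) (hle : B ≤ A) : IsAbExp e B :=
  ⟨isMulCommutative_iff_forall.mpr fun _ ha _ hb => h.comm (hle ha) (hle hb), fun a ha => h.2 a (hle ha)⟩

theorem isAbExp_map_iff (f : G →* H) (hf : Function.Injective f) :
    IsAbExp e (A.map f) ↔ IsAbExp e A := by
  simp only [IsAbExp, isMulCommutative_iff_forall, Subgroup.mem_map, forall_exists_index, and_imp,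
    forall_apply_eq_imp_iff₂, ← map_mul, ← map_pow, map_eq_one_iff f hf, hf.eq_iff]

theorem maxIn_nonempty [Finite G] (e : ℕ) (P : Subgroup G) : (maxIn e P).Nonempty := by
  obtain ⟨A, ⟨hA1, hA2⟩, hA3⟩ := Set.exists_max_image {A : Subgroup G | A ≤ P ∧ IsAbExp e A}
    (fun A => Nat.card A) (Set.toFinite _) ⟨⊥, bot_le, isAbExp_bot⟩
  exact ⟨A, hA1, hA2, fun B hB hB' => hA3 B ⟨hB, hB'⟩⟩

theorem le_jay (h : A ∈ maxIn e P) : A ≤ jay e P := le_sSup h

theorem jay_le : jay e P ≤ P := sSup_le fun _ h => h.1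

theorem zjay_le : zjay e P ≤ P := inf_le_left.trans jay_le

theorem zjay_comm {a b : G} (ha : a ∈ zjay e P) (hb : b ∈ zjay e P) : a * b = b * a :=
  mem_centralizer_iff.mp hb.2 a ha.1

theorem card_eq_of_mem_maxIn {B : Subgroup G} (hA : A ∈ maxIn e P) (hB : B ∈ maxIn e P) :
    Nat.card A = Nat.card B :=
  le_antisymm (hB.2.2 A hA.1 hA.2.1) (hA.2.2 B hB.1 hB.2.1)

theorem mem_maxIn_of_card_eq {B : Subgroup G} (hA : A ∈ maxIn e P) (hBP : B ≤ P) (hB : IsAbExp e B)
    (hc : Nat.card B = Nat.card A) : B ∈ maxIn e P :=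
  ⟨hBP, hB, fun C hC hC' => hc ▸ hA.2.2 C hC hC'⟩

/-- if some maximal member lies in `Q ≤ P`, the maximal members of `Q` are those of `P` inside `Q` -/
theorem maxIn_eq_of_mem (hA : A ∈ maxIn e P) (hAQ : A ≤ Q) (hQP : Q ≤ P) :
    maxIn e Q = {B ∈ maxIn e P | B ≤ Q} := by
  ext B
  refine ⟨fun hB => ⟨mem_maxIn_of_card_eq hA (hB.1.trans hQP) hB.2.1 ?_, hB.1⟩,
    fun hB => ⟨hB.2, hB.1.2.1, fun C hC hC' => hB.1.2.2 C (hC.trans hQP) hC'⟩⟩
  exact le_antisymm (hA.2.2 B (hB.1.trans hQP) hB.2.1) (hB.2.2 A hAQ hA.2.1)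

theorem jay_le_jay_of_mem (hA : A ∈ maxIn e P) (hAQ : A ≤ Q) (hQP : Q ≤ P) : jay e Q ≤ jay e P := by
  unfold jay
  rw [maxIn_eq_of_mem hA hAQ hQP]
  exact sSup_le_sSup fun B hB => hB.1

theorem jay_eq_of_le [Finite G] (hJ : jay e P ≤ Q) (hQP : Q ≤ P) : jay e Q = jay e P := by
  obtain ⟨A, hA⟩ := maxIn_nonempty e P
  unfold jay
  rw [maxIn_eq_of_mem hA ((le_jay hA).trans hJ) hQP]
  exact le_antisymm (sSup_le_sSup fun B hB => hB.1)
    (sSup_le_sSup fun B hB => ⟨hB, (le_jay hB).trans hJ⟩)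

theorem maxIn_map (f : G →* H) (hf : Function.Injective f) :
    maxIn e (P.map f) = (Subgroup.map f) '' maxIn e P := by
  ext B
  constructor
  · rintro ⟨hB1, hB2, hB3⟩
    have hBeq : (B.comap f).map f = B :=
      map_comap_eq_self (hB1.trans (map_le_range _ _))
    refine ⟨B.comap f, ⟨?_, ?_, fun C hC hC' => ?_⟩, hBeq⟩
    · rw [← Subgroup.map_le_map_iff_of_injective hf, hBeq]; exact hB1
    · rwa [← isAbExp_map_iff f hf, hBeq]
    · have := hB3 (C.map f) (map_mono hC) ((isAbExp_map_iff f hf).mpr hC')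
      rwa [← hBeq, card_map_of_injective hf, card_map_of_injective hf] at this
  · rintro ⟨A, ⟨hA1, hA2, hA3⟩, rfl⟩
    refine ⟨map_mono hA1, (isAbExp_map_iff f hf).mpr hA2, fun C hC hC' => ?_⟩
    have hCeq : (C.comap f).map f = C := map_comap_eq_self (hC.trans (map_le_range _ _))
    rw [← hCeq, card_map_of_injective hf, card_map_of_injective hf]
    refine hA3 _ ?_ ?_
    · rw [← Subgroup.map_le_map_iff_of_injective hf, hCeq]; exact hC
    · rwa [← isAbExp_map_iff f hf, hCeq]

theorem jay_map (f : G →* H) (hf : Function.Injective f) : jay e (P.map f) = (jay e P).map f := by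
  unfold jay
  rw [maxIn_map f hf, sSup_image, sSup_eq_iSup, Subgroup.map_iSup]
  simp_rw [Subgroup.map_iSup]

theorem zjay_map (f : G →* H) (hf : Function.Injective f) :
    zjay e (P.map f) = (zjay e P).map f := by
  unfold zjay
  rw [jay_map f hf]
  ext x
  constructor
  · rintro ⟨hx1, hx2⟩
    obtain ⟨y, hy, rfl⟩ := hx1
    exact ⟨y, ⟨hy, mem_centralizer_iff.mpr fun z hz => hf (by
      simpa using mem_centralizer_iff.mp hx2 (f z) ⟨z, hz, rfl⟩)⟩, rfl⟩
  · rintro ⟨y, ⟨hy1, hy2⟩, rfl⟩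
    refine ⟨⟨y, hy1, rfl⟩, mem_centralizer_iff.mpr ?_⟩
    rintro _ ⟨z, hz, rfl⟩
    rw [← map_mul, ← map_mul, mem_centralizer_iff.mp hy2 z hz]

/-! ### normalizers -/

theorem mem_normalizer_of_map_conj {g : G} {K : Subgroup G}
    (h : K.map (MulAut.conj g).toMonoidHom = K) : g ∈ normalizer (K : Set G) := by
  rw [Subgroup.mem_normalizer_iff]
  intro x
  constructor
  · intro hx; rw [← h]; exact ⟨x, hx, by simp⟩
  · intro hx
    rw [← h] at hx
    obtain ⟨y, hy, hyx⟩ := hx
    have : y = x := by simpa using hyx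
    exact this ▸ hy

theorem map_conj_of_mem_normalizer {g : G} {K : Subgroup G} (h : g ∈ normalizer (K : Set G)) :
    K.map (MulAut.conj g).toMonoidHom = K := by
  rw [Subgroup.mem_normalizer_iff] at h
  ext x
  constructor
  · rintro ⟨y, hy, rfl⟩; simpa using (h y).mp hy
  · intro hx
    refine ⟨g⁻¹ * x * g, (h _).mpr ?_, by simp [mul_assoc]⟩
    simpa [mul_assoc] using hx

theorem normalizer_le_normalizer_jay (e : ℕ) (P : Subgroup G) :
    normalizer (P : Set G) ≤ normalizer (jay e P : Set G) := fun g hg =>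
  mem_normalizer_of_map_conj (by
    rw [← jay_map _ (MulAut.conj g).injective, map_conj_of_mem_normalizer hg])

theorem normalizer_jay_le_normalizer_zjay (e : ℕ) (P : Subgroup G) :
    normalizer (jay e P : Set G) ≤ normalizer (zjay e P : Set G) := fun g hg => by
  refine mem_normalizer_of_map_conj ?_
  have h := map_conj_of_mem_normalizer hg
  have hz := zjay_map (e := e) (P := P) (MulAut.conj g).toMonoidHom (MulAut.conj g).injective
  rw [← hz]
  have hj := jay_map (e := e) (P := P) (MulAut.conj g).toMonoidHom (MulAut.conj g).injective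
  unfold zjay
  rw [hj, h]

theorem le_normalizer_zjay (e : ℕ) (P : Subgroup G) : P ≤ normalizer (zjay e P : Set G) :=
  le_normalizer.trans ((normalizer_le_normalizer_jay e P).trans (normalizer_jay_le_normalizer_zjay e P))

/-! ### abelian version: self-centralizing members -/

theorem isAbExp_sup_zpowers {A : Subgroup G} (hA : IsAbExp e A) {x : G}
    (hx : x ∈ centralizer (A : Set G)) (hxe : x ^ e = 1) : IsAbExp e (A ⊔ zpowers x) := by
  have hzA : ∀ a ∈ A, Commute a x := fun a ha => mem_centralizer_iff.mp hx a ha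
  have hcomm : ∀ a ∈ A ⊔ zpowers x, ∃ a₀ ∈ A, ∃ n : ℤ, a = a₀ * x ^ n := by
    intro a ha
    rw [← SetLike.mem_coe, Subgroup.coe_mul_of_right_le_normalizer_left A (zpowers x)
      ((Subgroup.zpowers_le.mpr hx).trans (centralizer_le_normalizer _))] at ha
    obtain ⟨a₀, ha₀, y, ⟨n, rfl⟩, rfl⟩ := ha
    exact ⟨a₀, ha₀, n, rfl⟩
  refine ⟨isMulCommutative_iff_forall.mpr ?_, ?_⟩
  · intro a ha b hb
    obtain ⟨a₀, ha₀, m, rfl⟩ := hcomm a ha
    obtain ⟨b₀, hb₀, n, rfl⟩ := hcomm b hb
    have h1 : Commute a₀ b₀ := hA.comm ha₀ hb₀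
    exact ((h1.mul_right ((hzA a₀ ha₀).zpow_right n)).mul_left
      ((((hzA b₀ hb₀).zpow_right m).symm).mul_right (Commute.zpow_zpow_self x m n))).eq
  · intro a ha
    obtain ⟨a₀, ha₀, m, rfl⟩ := hcomm a ha
    rw [((hzA a₀ ha₀).zpow_right m).mul_pow, hA.2 a₀ ha₀, one_mul, ← zpow_natCast, ← zpow_mul,
      mul_comm, zpow_mul, zpow_natCast, hxe, one_zpow]

/-- an element of exponent dividing `e` centralizing a maximal member lies in it -/
theorem mem_of_mem_centralizer [Finite G] (hA : A ∈ maxIn e P) {x : G} (hxP : x ∈ P)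
    (hx : x ∈ centralizer (A : Set G)) (hxe : x ^ e = 1) : x ∈ A := by
  have hle : A ⊔ zpowers x ≤ P := sup_le hA.1 (zpowers_le.mpr hxP)
  have := hA.2.2 _ hle (isAbExp_sup_zpowers hA.2.1 hx hxe)
  have heq : A = A ⊔ zpowers x := Subgroup.eq_of_le_of_card_ge le_sup_left this
  exact heq ▸ (le_sup_right : zpowers x ≤ A ⊔ zpowers x) (mem_zpowers x)

theorem zjay_zero_le [Finite G] (hA : A ∈ maxIn 0 P) : zjay 0 P ≤ A := fun _ hx =>
  mem_of_mem_centralizer hA (zjay_le hx)
    (centralizer_le (le_jay hA) hx.2) (pow_zero _)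

theorem zjay_eq_inf_centralizer [Finite G] : zjay 0 P = P ⊓ centralizer (jay 0 P : Set G) := by
  refine le_antisymm (inf_le_inf_right _ jay_le) (le_inf (fun x hx => ?_) inf_le_right)
  obtain ⟨A, hA⟩ := maxIn_nonempty 0 P
  exact le_jay hA (mem_of_mem_centralizer hA hx.1 (centralizer_le (le_jay hA) hx.2) (pow_zero _))

theorem zjay_ne_bot [Finite G] {p : ℕ} [Fact p.Prime] (hP : IsPGroup p P) (hne : P ≠ ⊥)
    (he : e = 0 ∨ e = p) : zjay e P ≠ ⊥ := by
  have : Nontrivial P := P.nontrivial_iff_ne_bot.mpr hne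
  obtain ⟨x, hx⟩ : ∃ x : P, x ≠ 1 ∧ x ^ p = 1 ∧ x ∈ Subgroup.center P := by
    have hc : Nontrivial (Subgroup.center P) := hP.center_nontrivial
    obtain ⟨n, hn0, hn⟩ := (hP.to_subgroup (Subgroup.center P)).nontrivial_iff_card.mp hc
    obtain ⟨y, hy⟩ := exists_prime_orderOf_dvd_card' p (G := Subgroup.center P) (hn ▸ dvd_pow_self p hn0.ne')
    refine ⟨y, ?_, ?_, y.2⟩
    · rintro h
      rw [show y = 1 from Subtype.ext h, orderOf_one] at hy
      exact (Fact.out : p.Prime).one_lt.ne hy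
    · rw [← SubgroupClass.coe_pow, ← hy, pow_orderOf_eq_one]; rfl
  obtain ⟨A, hA⟩ := maxIn_nonempty e P
  have hxc : (x : G) ∈ centralizer (P : Set G) := mem_centralizer_iff.mpr fun y hy =>
    congrArg Subtype.val (mem_center_iff.mp hx.2.2 ⟨y, hy⟩)
  have hxA : (x : G) ∈ A := mem_of_mem_centralizer hA x.2 (centralizer_le hA.1 hxc) (by
    rcases he with rfl | rfl
    · exact pow_zero _
    · exact congrArg Subtype.val hx.2.1)
  intro h
  have : (x : G) ∈ zjay e P := ⟨le_jay hA hxA, centralizer_le jay_le hxc⟩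
  rw [h, mem_bot] at this
  exact hx.1 (Subtype.ext this)

/-! ### the Prelude's Thompson subgroups -/

theorem maxIn_subtype :
    maxIn e P = (Subgroup.map P.subtype) '' maxIn e (⊤ : Subgroup P) := by
  rw [← maxIn_map _ P.subtype_injective, ← MonoidHom.range_eq_map, range_subtype]

theorem maxIn_zero_top : maxIn 0 (⊤ : Subgroup G) = maxAbelianSubgroups G := by
  ext A
  simp [maxIn, maxAbelianSubgroups, IsAbExp]

theorem maxIn_prime_top (p : ℕ) : maxIn p (⊤ : Subgroup G) = maxElementaryAbelianSubgroups p G := by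
  ext A
  simp [maxIn, maxElementaryAbelianSubgroups, IsAbExp, IsElementaryAbelian]

theorem thompsonSubgroupAOf_eq (P : Subgroup G) : thompsonSubgroupAOf P = jay 0 P := by
  have : P = (⊤ : Subgroup P).map P.subtype := by rw [← MonoidHom.range_eq_map, range_subtype]
  conv_rhs => rw [this, jay_map _ P.subtype_injective]
  unfold thompsonSubgroupAOf thompsonSubgroupA jay
  rw [maxIn_zero_top]

theorem thompsonSubgroupOf_eq (p : ℕ) (P : Subgroup G) : thompsonSubgroupOf p P = jay p P := by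
  have : P = (⊤ : Subgroup P).map P.subtype := by rw [← MonoidHom.range_eq_map, range_subtype]
  conv_rhs => rw [this, jay_map _ P.subtype_injective]
  unfold thompsonSubgroupOf thompsonSubgroup jay
  rw [maxIn_prime_top]

theorem thompsonSubgroup_eq (p : ℕ) : thompsonSubgroup p G = jay p (⊤ : Subgroup G) := by
  unfold thompsonSubgroup jay; rw [maxIn_prime_top]

theorem centerThompsonAOf_eq (P : Subgroup G) : centerThompsonAOf P = zjay 0 P := by
  unfold centerThompsonAOf zjay; rw [thompsonSubgroupAOf_eq]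

theorem centerThompsonOf_eq (p : ℕ) (P : Subgroup G) : centerThompsonOf p P = zjay p P := by
  unfold centerThompsonOf zjay; rw [thompsonSubgroupOf_eq]

end Cfsg.Agent.Thompson
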