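import Mathlib
import Cfsg.Agent.Thompson.Jay

/-!
Glauberman's replacement theorem.
-/

set_option autoImplicit false

namespace Cfsg.Agent.Thompson

open Subgroup
open scoped commutatorElement

variable {G : Type*} [Group G]

/-- `y ^ n * x = d ^ n * (x * y ^ n)` when `d = ⁅y, x⁆` commutes with `x` and `y`. -/
theorem pow_mul_comm_class_two {x y : G} (hx : Commute ⁅y, x⁆ x) (hy : Commute ⁅y, x⁆ y) :
    ∀ n : ℕ, y ^ n * x = ⁅y, x⁆ ^ n * (x * y ^ n)
  | 0 => by simp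
  | n + 1 => by
    have h1 : y * x = ⁅y, x⁆ * (x * y) := by rw [commutatorElement_def]; group
    rw [pow_succ y, mul_assoc, h1, ← mul_assoc, ← (hy.pow_right n).eq, mul_assoc, ← mul_assoc (y ^ n),
      pow_mul_comm_class_two hx hy n, pow_succ' (⁅y, x⁆)]
    simp only [mul_assoc]

theorem mul_pow_class_two {x y : G} (hx : Commute ⁅y, x⁆ x) (hy : Commute ⁅y, x⁆ y) :
    ∀ n : ℕ, (x * y) ^ n = ⁅y, x⁆ ^ n.choose 2 * (x ^ n * y ^ n)
  | 0 => by simp
  | n + 1 => by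
    have hc : (n + 1).choose 2 = n.choose 2 + n := by
      rw [Nat.choose_succ_succ, Nat.choose_one_right, add_comm]
    calc (x * y) ^ (n + 1) = ⁅y, x⁆ ^ n.choose 2 * (x ^ n * ((y ^ n * x) * y)) := by
          rw [pow_succ, mul_pow_class_two hx hy n]; simp only [mul_assoc]
      _ = ⁅y, x⁆ ^ n.choose 2 * (x ^ n * (⁅y, x⁆ ^ n * (x * y ^ n) * y)) := by
          rw [pow_mul_comm_class_two hx hy n]
      _ = _ := by
          rw [hc, pow_add, pow_succ x, pow_succ y]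
          simp only [mul_assoc]
          rw [← mul_assoc (x ^ n), ← ((hx.pow_left n).pow_right n).eq]
          simp only [mul_assoc]

/-- Inside a finite `p`-group: an element of `B` normalizing `N_S(A)` but not `A`. -/
theorem exists_mem_normalizer_normalizer [Finite G] {p : ℕ} [Fact p.Prime] {S B A : Subgroup G}
    (hS : IsPGroup p S) (hBS : B ≤ S) (hSB : S ≤ normalizer (B : Set G))
    (hnot : ¬ B ≤ normalizer (A : Set G)) :
    ∃ b ∈ B, b ∈ normalizer ((S ⊓ normalizer (A : Set G) : Subgroup G) : Set G) ∧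
      b ∉ normalizer (A : Set G) := by
  set N := S ⊓ normalizer (A : Set G) with hN
  set M := B ⊔ N with hM
  have hMS : M ≤ S := sup_le hBS inf_le_left
  have hlt : N.subgroupOf M < ⊤ := by
    refine lt_of_le_of_ne le_top fun h => hnot ?_
    rw [subgroupOf_eq_top] at h
    exact (le_sup_left.trans h).trans inf_le_right
  have : Group.IsNilpotent M := (hS.to_le hMS).isNilpotent
  obtain ⟨m, hm1, hm2⟩ := SetLike.exists_of_lt (Group.normalizerCondition_of_isNilpotent _ hlt)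
  rw [mem_subgroupOf] at hm2
  have hmN : (m : G) ∈ normalizer (N : Set G) := by
    rw [Subgroup.mem_normalizer_iff] at hm1 ⊢
    intro x
    constructor
    · intro hx
      exact (hm1 ⟨x, (le_sup_right : N ≤ M) hx⟩).mp hx
    · intro hx
      have hxM : x ∈ M := by
        have : (m : G)⁻¹ * ((m : G) * x * (m : G)⁻¹) * m ∈ M :=
          mul_mem (mul_mem (inv_mem m.2) ((le_sup_right : N ≤ M) hx)) m.2
        simpa [mul_assoc] using this
      exact (hm1 ⟨x, hxM⟩).mpr hx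
  have hmM : (m : G) ∈ ((B ⊔ N : Subgroup G) : Set G) := m.2
  rw [coe_mul_of_right_le_normalizer_left B N ((inf_le_left).trans hSB)] at hmM
  obtain ⟨b, hb, n, hn, hbn⟩ := hmM
  refine ⟨b, hb, ?_, fun hbA => hm2 ?_⟩
  · rw [show b = (m : G) * n⁻¹ by rw [← hbn]; simp]
    exact mul_mem hmN (inv_mem (le_normalizer hn))
  · rw [← hbn]
    exact mul_mem ⟨hBS hb, hbA⟩ hn

/-- **Glauberman replacement**, for abelian subgroups of exponent dividing `e`. -/
theorem replacement [Finite G] {p : ℕ} [Fact p.Prime] {e : ℕ} {S B A : Subgroup G}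
    (hp : p ≠ 2 ∨ IsMulCommutative B) (he : e = 0 ∨ Odd e)
    (hS : IsPGroup p S) (hBS : B ≤ S) (hSB : S ≤ normalizer (B : Set G)) (hAS : A ≤ S)
    (hA : IsAbExp e A) (hclass : ⁅⁅B, B⁆, B⁆ = ⊥) (hBA : ⁅B, B⁆ ≤ A)
    (hnot : ¬ B ≤ normalizer (A : Set G)) :
    ∃ A' : Subgroup G, A' ≤ S ∧ IsAbExp e A' ∧ Nat.card A' = Nat.card A ∧ A ⊓ B < A' ⊓ B ∧
      A' ≤ normalizer (A : Set G) ∧ (∃ b ∈ B, A' ≤ A ⊔ A.map (MulAut.conj b).toMonoidHom) := by
  obtain ⟨b, hbB, hbN, hbA⟩ := exists_mem_normalizer_normalizer hS hBS hSB hnot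
  set φ : G ≃* G := MulAut.conj b with hφdef
  have hφ : ∀ x, φ x = b * x * b⁻¹ := fun x => rfl
  set A1 := A.map φ.toMonoidHom with hA1
  set N := S ⊓ normalizer (A : Set G) with hN
  have hAN : A ≤ N := le_inf hAS le_normalizer
  have hφN : N.map φ.toMonoidHom = N := map_conj_of_mem_normalizer hbN
  have hA1N : A1 ≤ N := (map_mono hAN).trans hφN.le
  have hφA : ∀ {a}, a ∈ A → φ a ∈ A1 := fun ha => ⟨_, ha, rfl⟩
  have hcA1 : ∀ {x y}, x ∈ A1 → y ∈ A1 → x * y = y * x := by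
    rintro _ _ ⟨x, hx, rfl⟩ ⟨y, hy, rfl⟩
    rw [← map_mul, ← map_mul, hA.comm hx hy]
  have hNA1 : N ≤ normalizer (A1 : Set G) := by
    rw [← hφN]
    refine le_trans ?_ (le_normalizer_map _)
    exact map_mono inf_le_right
  set W := A ⊓ A1 with hW
  have hκW : ∀ {a c}, a ∈ A → c ∈ A → ⁅a, φ c⁆ ∈ W := by
    intro a c ha hc
    rw [commutatorElement_def]
    refine ⟨?_, ?_⟩
    · rw [mul_assoc a, mul_assoc a]
      exact mul_mem ha ((Subgroup.mem_normalizer_iff.mp (hA1N (hφA hc)).2 _).mp (A.inv_mem ha))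
    · exact mul_mem ((Subgroup.mem_normalizer_iff.mp (hNA1 (hAN ha)) _).mp (hφA hc)) (A1.inv_mem (hφA hc))
  have hWA : ∀ {w a}, w ∈ W → a ∈ A → Commute w a := fun hw ha => hA.comm hw.1 ha
  have hWA1 : ∀ {w a}, w ∈ W → a ∈ A1 → Commute w a := fun hw ha => hcA1 hw.2 ha
  let u : G → G := fun a => a⁻¹ * φ a
  have huB : ∀ {a}, a ∈ A → u a ∈ B := fun {a} ha => by
    show a⁻¹ * φ a ∈ B
    rw [hφ]
    have : a⁻¹ * b * a⁻¹⁻¹ ∈ B :=
      (Subgroup.mem_normalizer_iff.mp (hSB (hAS (inv_mem ha))) b).mp hbB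
    rw [inv_inv] at this
    simpa [mul_assoc] using mul_mem this (inv_mem hbB)
  have hcent : ∀ {d}, d ∈ ⁅B, B⁆ → ∀ {y}, y ∈ B → Commute d y := fun hd _ hy =>
    commutatorElement_eq_one_iff_mul_comm.mp
      ((eq_bot_iff.mp hclass) (commutator_mem_commutator hd hy) |> mem_bot.mp)
  have hsplit : ∀ {a c}, a ∈ A → c ∈ A → u a * u c = ⁅φ a, c⁻¹⁆ * u (a * c) := by
    intro a c ha hc
    have hk : Commute ⁅φ a, c⁻¹⁆ a⁻¹ := by
      refine hWA ?_ (inv_mem ha)
      rw [← commutatorElement_inv c⁻¹ (φ a)]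
      exact inv_mem (hκW (inv_mem hc) ha)
    have hac : a * c = c * a := hA.comm ha hc
    show a⁻¹ * φ a * (c⁻¹ * φ c) = _ * ((a * c)⁻¹ * φ (a * c))
    calc a⁻¹ * φ a * (c⁻¹ * φ c) = a⁻¹ * (⁅φ a, c⁻¹⁆ * (c⁻¹ * (φ a * φ c))) := by
          rw [commutatorElement_def]; group
      _ = ⁅φ a, c⁻¹⁆ * (a⁻¹ * (c⁻¹ * (φ a * φ c))) := by rw [← mul_assoc, ← hk.eq, mul_assoc]
      _ = _ := by rw [map_mul, hac, mul_inv_rev, mul_assoc a⁻¹]
  have hκ' : ∀ {a c}, a ∈ A → c ∈ A → ⁅φ a, c⁻¹⁆ = ⁅c, φ a⁆ := by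
    intro a c ha hc
    have h1 : Commute ⁅c, φ a⁆ c⁻¹ := hWA (hκW hc ha) (inv_mem hc)
    calc ⁅φ a, c⁻¹⁆ = c⁻¹ * ⁅c, φ a⁆ * c := by rw [commutatorElement_def, commutatorElement_def]; group
      _ = ⁅c, φ a⁆ := by rw [← h1.eq, mul_assoc, inv_mul_cancel, mul_one]
  -- symmetry of `(a, c) ↦ ⁅a, φ c⁆`
  have hswap : ∀ {a c}, a ∈ A → c ∈ A → φ ⁅a, φ c⁆ = ⁅c, φ a⁆ := by
    intro a c ha hc
    set z := ⁅b, u c⁆ with hz
    have hzB' : z ∈ ⁅B, B⁆ := commutator_mem_commutator hbB (huB hc)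
    have hzW : z ∈ W := by
      refine ⟨hBA hzB', z, hBA hzB', ?_⟩
      show φ z = z
      rw [hφ, ← (hcent hzB' hbB).eq, mul_inv_cancel_right]
    have hφc' : φ (φ c) = φ c * (z * u c) := by
      have hzu : φ (u c) = z * u c := by rw [hφ, hz, commutatorElement_def]; group
      calc φ (φ c) = φ (c * u c) := by rw [show c * u c = φ c from mul_inv_cancel_left c _]
        _ = φ c * (z * u c) := by rw [map_mul, hzu]
    have hz_a : Commute z (φ a) := hWA1 hzW (hφA ha)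
    calc φ ⁅a, φ c⁆ = ⁅φ a, φ c * (z * u c)⁆ := by rw [map_commutatorElement, hφc']
      _ = φ c * ⁅φ a, z * u c⁆ * (φ c)⁻¹ := by
          have : Commute (φ a) (φ c) := hcA1 (hφA ha) (hφA hc)
          simp only [commutatorElement_def, mul_inv_rev]
          rw [show φ a * (φ c * (z * u c)) = φ c * (φ a * (z * u c)) by rw [← mul_assoc, this.eq, mul_assoc]]
          group
      _ = φ c * ⁅φ a, c⁻¹⁆ * (φ c)⁻¹ := by
          congr 2
          simp only [commutatorElement_def, u, mul_inv_rev, inv_inv]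
          have h2 : Commute (φ a) (φ c) := hcA1 (hφA ha) (hφA hc)
          calc φ a * (z * (c⁻¹ * φ c)) * (φ a)⁻¹ * ((φ c)⁻¹ * c * z⁻¹)
              = (φ a * z) * (c⁻¹ * (φ c * (φ a)⁻¹ * (φ c)⁻¹)) * c * z⁻¹ := by group
            _ = (z * φ a) * (c⁻¹ * (φ a)⁻¹) * c * z⁻¹ := by
                rw [hz_a.symm.eq, h2.symm.inv_right.eq, mul_inv_cancel_right]
            _ = z * (φ a * c⁻¹ * (φ a)⁻¹ * c) * z⁻¹ := by group
            _ = φ a * c⁻¹ * (φ a)⁻¹ * c := by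
                have : Commute z (φ a * c⁻¹ * (φ a)⁻¹ * c) :=
                  (((hz_a.mul_right (hWA hzW (inv_mem hc))).mul_right hz_a.inv_right).mul_right (hWA hzW hc))
                rw [this.eq, mul_inv_cancel_right]
      _ = ⁅c, φ a⁆ := by
          rw [hκ' ha hc, ← (hWA1 (hκW hc ha) (hφA hc)).eq, mul_inv_cancel_right]
  have hsym : ∀ {a c}, a ∈ A → c ∈ A → ⁅a, φ c⁆ = ⁅c, φ a⁆ := by
    intro a c ha hc
    rcases hp with hp | hB
    · have h2 : φ (φ ⁅a, φ c⁆) = ⁅a, φ c⁆ := by rw [hswap ha hc, hswap hc ha]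
      have hc2 : Commute (b ^ 2) ⁅a, φ c⁆ := by
        rw [hφ, hφ] at h2
        show b ^ 2 * _ = _ * b ^ 2
        have := congrArg (· * (b * b)) h2
        simpa [mul_assoc, pow_two] using this
      obtain ⟨k, hk⟩ : ∃ k : ℕ, orderOf b = 2 * k + 1 := by
        obtain ⟨n, hn⟩ := IsPGroup.iff_orderOf.mp hS ⟨b, hBS hbB⟩
        rw [orderOf_mk] at hn
        exact (hn ▸ ((Fact.out : p.Prime).odd_of_ne_two hp).pow : Odd (orderOf b))
      have hb : b = (b ^ 2) ^ (k + 1) := by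
        rw [← pow_mul, show 2 * (k + 1) = orderOf b + 1 by omega, pow_succ, pow_orderOf_eq_one, one_mul]
      have hcb : Commute b ⁅a, φ c⁆ := hb ▸ hc2.pow_left (k + 1)
      rw [← hswap ha hc]
      show _ = b * _ * b⁻¹
      rw [hcb.eq, mul_inv_cancel_right]
    · have h := isMulCommutative_iff_forall.mp hB _ (huB ha) _ (huB hc)
      rw [hsplit ha hc, hsplit hc ha, hκ' ha hc, hκ' hc ha, hA.comm ha hc] at h
      exact (mul_right_cancel h).symm
  -- the new subgroup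
  have hsplit' : ∀ {a c}, a ∈ A → c ∈ A → u a * u c = ⁅c, φ a⁆ * u (a * c) := fun ha hc => by
    rw [hsplit ha hc, hκ' ha hc]
  have hucomm : ∀ {a c}, a ∈ A → c ∈ A → Commute (u a) (u c) := by
    intro a c ha hc
    show u a * u c = u c * u a
    rw [hsplit' ha hc, hsplit' hc ha, hsym hc ha, hA.comm ha hc]
  have huW : ∀ {a w}, a ∈ A → w ∈ W → Commute w (u a) := fun ha hw =>
    (hWA hw (inv_mem ha)).mul_right (hWA1 hw (hφA ha))
  have huN : ∀ {a}, a ∈ A → u a ∈ N := fun ha => mul_mem (inv_mem (hAN ha)) (hA1N (hφA ha))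
  let A' : Subgroup G :=
    { carrier := {x | ∃ w ∈ W, ∃ a ∈ A, x = w * u a}
      one_mem' := ⟨1, one_mem _, 1, one_mem _, by simp [u]⟩
      mul_mem' := by
        rintro _ _ ⟨w, hw, a, ha, rfl⟩ ⟨w', hw', a', ha', rfl⟩
        refine ⟨w * w' * ⁅a', φ a⁆, mul_mem (mul_mem hw hw') (hκW ha' ha), a * a', mul_mem ha ha', ?_⟩
        rw [mul_assoc (w * w'), ← hsplit' ha ha', (huW ha hw').symm.mul_mul_mul_comm w (u a')]
      inv_mem' := by
        rintro _ ⟨w, hw, a, ha, rfl⟩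
        refine ⟨w⁻¹ * ⁅a⁻¹, φ a⁆⁻¹, mul_mem (inv_mem hw) (inv_mem (hκW (inv_mem ha) ha)), a⁻¹, inv_mem ha, ?_⟩
        have h := hsplit' ha (inv_mem ha)
        rw [mul_inv_cancel, show u 1 = 1 by simp [u], mul_one] at h
        have hcm : Commute w⁻¹ (u a)⁻¹ := (huW ha hw).inv_inv
        have hcm' : Commute (u a)⁻¹ (u a⁻¹) := (hucomm ha (inv_mem ha)).inv_left
        rw [← h]
        calc (w * u a)⁻¹ = w⁻¹ * (u a)⁻¹ := by rw [mul_inv_rev, hcm.eq]
          _ = w⁻¹ * ((u a⁻¹)⁻¹ * ((u a)⁻¹ * u a⁻¹)) := by rw [hcm'.eq, inv_mul_cancel_left]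
          _ = _ := by simp only [mul_inv_rev, mul_assoc] }
  have hA'comm : IsMulCommutative A' := isMulCommutative_iff_forall.mpr (by
    rintro _ ⟨w, hw, a, ha, rfl⟩ _ ⟨w', hw', a', ha', rfl⟩
    exact ((Commute.mul_right (hWA hw hw'.1) (huW ha' hw)).mul_left
      ((huW ha hw').symm.mul_right (hucomm ha ha'))).eq)
  have huexp : ∀ {a}, a ∈ A → u a ^ e = 1 := by
    intro a ha
    rcases he with rfl | ⟨m, hm⟩
    · exact pow_zero _
    set d := ⁅φ a, a⁻¹⁆ with hd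
    have hdW : d ∈ W := by rw [hd, hκ' ha ha]; exact hκW ha ha
    have hdx : Commute d a⁻¹ := hWA hdW (inv_mem ha)
    have hdy : Commute d (φ a) := hWA1 hdW (hφA ha)
    have hde : d ^ e = 1 := hA.2 d hdW.1
    show (a⁻¹ * φ a) ^ e = 1
    rw [mul_pow_class_two hdx hdy, hA.2 _ (inv_mem ha), ← map_pow, hA.2 a ha, map_one, one_mul,
      mul_one, ← hd, show e.choose 2 = m * e by
        rw [Nat.choose_two_right, show e - 1 = m * 2 by omega, ← mul_assoc, Nat.mul_div_cancel _ two_pos, mul_comm],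
      pow_mul', hde, one_pow]
  have hkey : ∀ {a}, a ∈ A ⊓ B → a ∈ A1 := by
    intro a ha
    refine ⟨b⁻¹ * a * b, ?_, by show φ _ = a; rw [hφ]; group⟩
    have := mul_mem ha.1 (hBA (commutator_mem_commutator (inv_mem ha.2) (inv_mem hbB)))
    rw [commutatorElement_def] at this
    simpa [mul_assoc] using this
  have hcard : Nat.card A' = Nat.card A := by
    have hWA' : W ≤ A' := fun w hw => ⟨w, hw, 1, one_mem _, by simp [u]⟩
    have huA' : ∀ {a}, a ∈ A → u a ∈ A' := fun {a} ha => ⟨1, one_mem _, a, ha, by simp⟩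
    have := hA'comm
    let Wn : Subgroup A' := W.subgroupOf A'
    let f : A →* A' ⧸ Wn :=
      MonoidHom.mk' (fun a => QuotientGroup.mk ⟨u a, huA' a.2⟩) fun a c => by
        rw [← QuotientGroup.mk_mul, QuotientGroup.eq, mem_subgroupOf]
        show (u (a * c : A).1)⁻¹ * (u a.1 * u c.1) ∈ W
        rw [hsplit' a.2 c.2, Subgroup.coe_mul, ← mul_assoc,
          ← ((huW (mul_mem a.2 c.2) (hκW c.2 a.2)).inv_right).eq, inv_mul_cancel_right]
        exact hκW c.2 a.2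
    have hsur : Function.Surjective f := by
      intro y
      obtain ⟨⟨_, w, hw, a, ha, rfl⟩, rfl⟩ := QuotientGroup.mk_surjective y
      refine ⟨⟨a, ha⟩, QuotientGroup.eq.mpr ?_⟩
      show (u a)⁻¹ * (w * u a) ∈ W
      rw [(huW ha hw).eq, inv_mul_cancel_left]
      exact hw
    have hker : f.ker = (A.map φ.symm.toMonoidHom).subgroupOf A := by
      ext ⟨a, ha⟩
      rw [MonoidHom.mem_ker, MonoidHom.mk'_apply, QuotientGroup.eq_one_iff, mem_subgroupOf, mem_subgroupOf]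
      constructor
      · intro h
        exact ⟨φ a, by simpa [u] using mul_mem ha h.1, by simp⟩
      · rintro ⟨c, hc, hca⟩
        have hφa : φ a ∈ A := by simp only [MulEquiv.coe_toMonoidHom] at hca; rw [← hca]; simpa using hc
        exact ⟨mul_mem (A.inv_mem ha) hφa, hkey ⟨mul_mem (A.inv_mem ha) hφa, huB ha⟩⟩
    have hindex : Wn.index = f.ker.index := by
      rw [Subgroup.index_eq_card, Subgroup.index_eq_card]
      exact Nat.card_congr (QuotientGroup.quotientKerEquivOfSurjective f hsur).symm.toEquiv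
    have hcardW : Nat.card Wn = Nat.card f.ker := by
      rw [hker, Nat.card_congr (subgroupOfEquivOfLe hWA').toEquiv]
      rw [← inf_subgroupOf_right, Nat.card_congr (subgroupOfEquivOfLe (inf_le_right)).toEquiv]
      have : W = (A.map φ.symm.toMonoidHom ⊓ A).map φ.toMonoidHom := by
        rw [map_inf _ _ _ φ.injective, Subgroup.map_map,
          show φ.toMonoidHom.comp φ.symm.toMonoidHom = MonoidHom.id G from MonoidHom.ext φ.apply_symm_apply,
          Subgroup.map_id]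
      rw [this, card_map_of_injective φ.injective]
    rw [← Wn.card_mul_index, hindex, hcardW, Subgroup.card_mul_index]
  refine ⟨A', ?_, ⟨hA'comm, ?_⟩, hcard, ?_, ?_, b, hbB, ?_⟩
  · rintro _ ⟨w, hw, a, ha, rfl⟩; exact mul_mem (hAS hw.1) (huN ha).1
  · rintro _ ⟨w, hw, a, ha, rfl⟩
    rw [(huW ha hw).mul_pow, hA.2 w hw.1, huexp ha, one_mul]
  · refine lt_of_le_not_ge (fun x hx => ⟨⟨x, ⟨hx.1, hkey hx⟩, 1, one_mem _, by simp [u]⟩, hx.2⟩) fun hle => ?_
    refine hbA (mem_normalizer_of_map_conj (Subgroup.eq_of_le_of_card_ge ?_ ?_))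
    · rintro _ ⟨a, ha, rfl⟩
      have : u a ∈ A := (hle ⟨⟨1, one_mem _, a, ha, by simp⟩, huB ha⟩).1
      simpa [u, hφdef] using mul_mem ha this
    · exact (card_map_of_injective φ.injective).ge
  · rintro _ ⟨w, hw, a, ha, rfl⟩; exact mul_mem (le_normalizer hw.1) (huN ha).2
  · rintro _ ⟨w, hw, a, ha, rfl⟩
    exact mul_mem (mem_sup_left hw.1) (mul_mem (mem_sup_left (A.inv_mem ha)) (mem_sup_right (hφA ha)))


/-- the replacement property of a family of maximal abelian subgroups of a normal subgroup -/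
theorem exists_normalized_of_family {S : Type*} [Group S] [Finite S] {p : ℕ} [Fact p.Prime] (hp : p ≠ 2)
    (hS : IsPGroup p S) {e : ℕ} (he : e = 0 ∨ Odd e) {D : Subgroup S} [D.Normal] {F : Set (Subgroup S)}
    (hF : maxIn e D = F) (B : Subgroup S) [B.Normal] (hclass : ⁅⁅B, B⁆, B⁆ = ⊥)
    (hex : ∃ U ∈ F, ⁅B, B⁆ ≤ U ∧ ¬ B ≤ U) :
    ∃ A ∈ F, ⁅B, B⁆ ≤ A ∧ ¬ B ≤ A ∧ B ≤ normalizer (A : Set S) := by
  subst hF
  obtain ⟨A, ⟨hA, hBA, hBnA⟩, hmax⟩ := Set.exists_max_image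
    {A | A ∈ maxIn e D ∧ ⁅B, B⁆ ≤ A ∧ ¬ B ≤ A} (fun A => Nat.card ↥(A ⊓ B)) (Set.toFinite _) hex
  refine ⟨A, hA, hBA, hBnA, ?_⟩
  by_contra hn
  obtain ⟨A', -, hA'e, hA'c, hlt, hA'N, b, -, hA'le⟩ := replacement (.inl hp) he (S := (⊤ : Subgroup S))
    (hS.to_subgroup ⊤) le_top (normalizer_eq_top (H := B)).ge le_top hA.2.1 hclass hBA hn
  have hA'D : A' ≤ D := hA'le.trans (sup_le hA.1 ((map_mono hA.1).trans
    (map_conj_of_mem_normalizer ((normalizer_eq_top (H := D)).ge (mem_top b))).le))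
  have hA'm := mem_maxIn_of_card_eq hA hA'D hA'e hA'c
  have h1 : ⁅B, B⁆ ≤ A' :=
    ((le_inf hBA (commutator_le_self B)).trans hlt.le).trans inf_le_left
  have h2 : ¬ B ≤ A' := fun h => hn (h.trans hA'N)
  have h3 : Nat.card ↥(A ⊓ B) < Nat.card ↥(A' ⊓ B) := lt_of_le_of_ne (Subgroup.card_le_of_le hlt.le)
    fun hc => hlt.ne (Subgroup.eq_of_le_of_card_ge hlt.le hc.ge)
  exact absurd (hmax A' ⟨hA'm, h1, h2⟩) (not_le.mpr h3)

end Cfsg.Agent.Thompson
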