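import Mathlib
import Cfsg.Prelude.Def_PLocal
import Cfsg.Agent.Cores.PCore
import Cfsg.Agent.Fusion.PResidual
import Cfsg.Agent.Thompson.Jay
import Cfsg.Agent.Thompson.Replacement

/-!
Glauberman's ZJ-theorem for both versions of the Thompson subgroup.
-/

set_option autoImplicit false

namespace Cfsg.Agent.Thompson

open Subgroup
open scoped commutatorElement

variable {G : Type*} [Group G] {p : ℕ}

/-- `G` acts `p`-stably on each of its normal `p`-subgroups -/
def StableOnNormal (p : ℕ) (G : Type*) [Group G] : Prop :=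
  ∀ (B : Subgroup G) [B.Normal], IsPGroup p B → IsPStableOn p B

/-- preimage of `O_p(G/C(B))` -/
def stabPre (p : ℕ) (B : Subgroup G) [B.Normal] : Subgroup G :=
  (pCore p (G ⧸ centralizer (B : Set G))).comap (QuotientGroup.mk' _)

instance stabPre_normal (p : ℕ) (B : Subgroup G) [B.Normal] : (stabPre p B).Normal :=
  Normal.comap (pCore_normal p _) _

theorem le_stabPre (hst : StableOnNormal p G) {B A : Subgroup G} [B.Normal] (hB : IsPGroup p B)
    (h : ⁅⁅B, A⁆, A⁆ = ⊥) : A ≤ stabPre p B := fun a ha =>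
  hst B hB a (eq_bot_iff.mpr (le_trans
    (commutator_mono (commutator_mono le_rfl (zpowers_le.mpr ha)) (zpowers_le.mpr ha)) h.le))

theorem centralizer_le_stabPre (B : Subgroup G) [B.Normal] : centralizer (B : Set G) ≤ stabPre p B :=
  fun x hx => by
    have : QuotientGroup.mk' (centralizer (B : Set G)) x = 1 := (QuotientGroup.eq_one_iff x).mpr hx
    simp only [stabPre, mem_comap, this]
    exact one_mem _

theorem stabPre_le [Finite G] [Fact p.Prime] (S : Sylow p G) (B : Subgroup G) [B.Normal] :
    stabPre p B ≤ centralizer (B : Set G) ⊔ S := by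
  intro x hx
  have hs := Cores.pCore_le_sylow (S.mapSurjective (QuotientGroup.mk'_surjective (centralizer (B : Set G)))) hx
  rw [Sylow.coe_mapSurjective] at hs
  have : x ∈ (((S : Subgroup G).map (QuotientGroup.mk' _)).comap
      (QuotientGroup.mk' (centralizer (B : Set G)))) := hs
  rwa [comap_map_eq, QuotientGroup.ker_mk', sup_comm] at this

/-- an element of order prime to `p` centralizing the elements of order `p` of a class two `p`-group
centralizes it (`p` odd) -/
theorem mem_centralizer_of_coprime [Finite G] [Fact p.Prime] (hp : p ≠ 2) {B : Subgroup G}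
    (hB : IsPGroup p B) (hclass : ⁅⁅B, B⁆, B⁆ = ⊥) {g : G} (hgB : g ∈ normalizer (B : Set G))
    (ho : (orderOf g).Coprime p) (hΩ : ∀ x ∈ B, x ^ p = 1 → Commute g x) :
    g ∈ centralizer (B : Set G) := by
  have key : ∀ k : ℕ, ∀ b ∈ B, b ^ p ^ k = 1 → Commute g b := by
    intro k
    induction k with
    | zero => intro b _ hb; rw [pow_zero, pow_one] at hb; rw [hb]; exact Commute.one_right g
    | succ k ih =>
      intro b hbB hb
      have hbp : Commute g (b ^ p) := ih _ (pow_mem hbB p) (by rwa [← pow_mul, ← pow_succ'])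
      set y := g * b * g⁻¹ with hy
      have hyB : y ∈ B := (Subgroup.mem_normalizer_iff.mp hgB b).mp hbB
      set c := b⁻¹ * y with hc
      have hcB : c ∈ B := mul_mem (inv_mem hbB) hyB
      set d := ⁅y, b⁻¹⁆ with hd
      have hdB : d ∈ ⁅B, B⁆ := commutator_mem_commutator hyB (inv_mem hbB)
      have hcent : ∀ z ∈ B, Commute d z := fun z hz => commutatorElement_eq_one_iff_mul_comm.mp
        (mem_bot.mp (hclass ▸ commutator_mem_commutator hdB hz))
      have hyp : y ^ p = b ^ p := by rw [hy, conj_pow, hbp.eq, mul_inv_cancel_right]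
      have hdp : d ^ p = 1 := by
        have h := pow_mul_comm_class_two (hcent _ (inv_mem hbB)) (hcent _ hyB) p
        rw [hyp, show b ^ p * b⁻¹ = b⁻¹ * b ^ p from ((Commute.refl b).pow_left p).inv_right.eq] at h
        exact right_eq_mul.mp h
      have hcp : c ^ p = 1 := by
        obtain ⟨m, hm⟩ := (Fact.out : p.Prime).odd_of_ne_two hp
        rw [hc, mul_pow_class_two (hcent _ (inv_mem hbB)) (hcent _ hyB), hyp, inv_pow, inv_mul_cancel,
          mul_one, ← hd, show p.choose 2 = p * m by
            rw [Nat.choose_two_right, show p - 1 = m * 2 by omega, ← mul_assoc, Nat.mul_div_cancel _ two_pos],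
          pow_mul, hdp, one_pow]
      have hgc : Commute g c := hΩ c hcB hcp
      have hgb : g * b = b * (c * g) := by rw [hc, hy]; group
      have hn : ∀ n : ℕ, g ^ n * b = b * (c ^ n * g ^ n) := by
        intro n
        induction n with
        | zero => simp
        | succ n ihn =>
          calc g ^ (n + 1) * b = g * (g ^ n * b) := by rw [pow_succ', mul_assoc]
            _ = (g * b) * (c ^ n * g ^ n) := by rw [ihn, mul_assoc]
            _ = b * (c * ((g * c ^ n) * g ^ n)) := by rw [hgb]; simp only [mul_assoc]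
            _ = _ := by
              rw [(hgc.pow_right n).eq, pow_succ' c, pow_succ' g]
              simp only [mul_assoc]
      have hc1 : c = 1 := by
        have h := hn (orderOf g)
        rw [pow_orderOf_eq_one, one_mul, mul_one] at h
        have h1 : orderOf c ∣ orderOf g := orderOf_dvd_of_pow_eq_one (left_eq_mul.mp h)
        have h2 : orderOf c ∣ p := orderOf_dvd_of_pow_eq_one hcp
        exact orderOf_eq_one_iff.mp (Nat.eq_one_of_dvd_coprimes ho h1 h2)
      show g * b = b * g
      rw [hgb, hc1, one_mul]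
  refine mem_centralizer_iff.mpr fun b hb => ?_
  obtain ⟨k, hk⟩ := hB ⟨b, hb⟩
  exact (key k b hb (congrArg Subtype.val hk)).symm.eq

/-- the intersection of a Sylow subgroup with a normal subgroup is a Sylow subgroup of it -/
theorem exists_sylow_inf_normal [Finite G] [Fact p.Prime] (S : Sylow p G) (L : Subgroup G) [L.Normal] :
    ∃ Q : Sylow p L, (Q : Subgroup L).map L.subtype = (S : Subgroup G) ⊓ L := by
  have hQ : IsPGroup p ((S : Subgroup G).subgroupOf L) := S.isPGroup'.comap_subtype
  have hidx : ¬ p ∣ ((S : Subgroup G).subgroupOf L).index := by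
    intro hdvd
    refine S.not_dvd_index (hdvd.trans ?_)
    set r := ((S : Subgroup G).subgroupOf L).index
    have h1 : Nat.card ↥((S : Subgroup G).subgroupOf L) * r = Nat.card L := Subgroup.card_mul_index _
    rw [← inf_subgroupOf_right, Nat.card_congr (subgroupOfEquivOfLe (inf_le_right)).toEquiv] at h1
    have h2 := Cores.card_sup_mul_card_inf (S : Subgroup G) L
    have hpos : 0 < Nat.card ↥((S : Subgroup G) ⊓ L) := Nat.card_pos
    have h3 : Nat.card S * r = Nat.card ↥((S : Subgroup G) ⊔ L) := by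
      refine Nat.eq_of_mul_eq_mul_right hpos ?_
      rw [h2, ← h1]; ring
    have h4 : Nat.card S * r ∣ Nat.card S * (S : Subgroup G).index := by
      rw [h3, Subgroup.card_mul_index]; exact card_subgroup_dvd_card _
    exact Nat.dvd_of_mul_dvd_mul_left Nat.card_pos h4
  exact ⟨hQ.toSylow hidx, by rw [IsPGroup.toSylow_coe, subgroupOf_map_subtype]⟩

theorem frattini_inf [Finite G] [Fact p.Prime] (S : Sylow p G) (L : Subgroup G) [L.Normal] :
    normalizer (((S : Subgroup G) ⊓ L : Subgroup G) : Set G) ⊔ L = ⊤ := by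
  obtain ⟨Q, hQ⟩ := exists_sylow_inf_normal S L
  rw [← hQ]; exact Sylow.normalizer_sup_eq_top Q

variable {e : ℕ}

/-- the key step -/
theorem normal_of_generated [Finite G] [Fact p.Prime] (hp : p ≠ 2) (he : e = 0 ∨ e = p)
    (hst : StableOnNormal p G) (S : Sylow p G) (B W : Subgroup G) [B.Normal] (hB : IsPGroup p B)
    (hWB : W ≤ B) (hSW : (S : Subgroup G) ≤ normalizer (W : Set G))
    (hJW : normalizer (jay e (S : Subgroup G) : Set G) ≤ normalizer (W : Set G))
    (hWJ : W ≤ centralizer (jay e (S : Subgroup G) : Set G))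
    (hgen : normalClosure (W : Set G) = B) (hclass : ⁅⁅B, B⁆, B⁆ = ⊥)
    (hBA : ∀ A ∈ maxIn e (S : Subgroup G), ⁅B, B⁆ ≤ A) : W.Normal := by
  set L := (normalizer (W : Set G)).normalCore with hL
  have hLW : L ≤ normalizer (W : Set G) := normalCore_le _
  have hCB : centralizer (B : Set G) ≤ L := by
    rw [hL, normal_le_normalCore]
    exact le_trans (centralizer_le hWB) (centralizer_le_normalizer _)
  have hBS : B ≤ (S : Subgroup G) := IsPGroup.le_sylow_of_normal hB S
  have hBL : B ≤ L := normal_le_normalCore.mpr (hBS.trans hSW)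
  set Q := (S : Subgroup G) ⊓ L with hQ
  have hfr := frattini_inf S L
  rw [← hQ] at hfr
  by_cases hall : ∀ A ∈ maxIn e (S : Subgroup G), A ≤ L
  · have hJ : jay e (S : Subgroup G) ≤ Q := le_inf jay_le (sSup_le hall)
    have hNQ : normalizer (Q : Set G) ≤ normalizer (W : Set G) := by
      refine le_trans ?_ hJW
      rw [← jay_eq_of_le hJ inf_le_left]
      exact normalizer_le_normalizer_jay e Q
    exact normalizer_eq_top_iff.mp (top_le_iff.mp (hfr ▸ sup_le hNQ hLW))
  exfalso
  push Not at hall
  obtain ⟨A, ⟨hA, hAL⟩, hmax⟩ := Set.exists_max_image {A | A ∈ maxIn e (S : Subgroup G) ∧ ¬ A ≤ L}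
    (fun A => Nat.card ↥(A ⊓ B)) (Set.toFinite _) hall
  set E := closure {x : G | x ∈ B ∧ x ^ e = 1} with hE
  have hEB : E ≤ B := (closure_le _).mpr fun x hx => hx.1
  have : E.Normal := ⟨fun x hx g => by
    induction hx using closure_induction with
    | mem x hx => exact subset_closure ⟨Normal.conj_mem ‹B.Normal› x hx.1 g, by rw [conj_pow, hx.2]; simp⟩
    | one => simpa using one_mem _
    | mul x y _ _ hx hy => simpa [mul_assoc] using mul_mem hx hy
    | inv x _ hx => simpa [mul_assoc] using inv_mem hx⟩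
  have hEA : E ≤ normalizer (A : Set G) := by
    by_cases hBn : B ≤ normalizer (A : Set G)
    · exact hEB.trans hBn
    have he' : e = 0 ∨ Odd e := he.imp id fun h => by rw [h]; exact (Fact.out : p.Prime).odd_of_ne_two hp
    obtain ⟨A', hA'S, hA'e, hA'c, hlt, hA'N, -⟩ := replacement (.inl hp) he' S.isPGroup' hBS
      (le_top.trans (normalizer_eq_top (H := B)).ge) hA.1 hA.2.1 hclass (hBA A hA) hBn
    have hA'm : A' ∈ maxIn e (S : Subgroup G) := mem_maxIn_of_card_eq hA hA'S hA'e hA'c
    have hA'L : A' ≤ L := by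
      by_contra h
      have hlt' := lt_of_le_of_ne (Subgroup.card_le_of_le hlt.le)
        fun hc => hlt.ne (Subgroup.eq_of_le_of_card_ge hlt.le hc.ge)
      exact absurd (hmax A' ⟨hA'm, h⟩) (not_le.mpr hlt')
    have hA'Q : A' ≤ Q := le_inf hA'S hA'L
    have hBC : B ≤ centralizer (jay e Q : Set G) := by
      have hWQ : W ≤ centralizer (jay e Q : Set G) :=
        hWJ.trans (centralizer_le (jay_le_jay_of_mem hA'm hA'Q inf_le_left))
      rw [← hgen]
      refine (closure_le _).mpr fun x hx => ?_
      obtain ⟨w, hw, hc⟩ := Group.mem_conjugatesOfSet_iff.mp hx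
      obtain ⟨g, rfl⟩ := isConj_iff.mp hc
      have hgtop : g ∈ ((normalizer (Q : Set G) ⊔ L : Subgroup G) : Set G) := by rw [hfr]; exact mem_top g
      rw [Subgroup.mul_normal] at hgtop
      obtain ⟨n, hn, l, hl, rfl⟩ := hgtop
      have hwl : l * w * l⁻¹ ∈ W := (Subgroup.mem_normalizer_iff.mp (hLW hl) w).mp hw
      have hnJ := normalizer_le_normalizer_jay e Q hn
      rw [SetLike.mem_coe, mem_centralizer_iff]
      intro z hz
      have hz' : n⁻¹ * z * n ∈ jay e Q := by
        have := (Subgroup.mem_normalizer_iff.mp (inv_mem hnJ) z).mp hz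
        simpa using this
      have h := mem_centralizer_iff.mp (hWQ hwl) _ hz'
      have h' := congrArg (fun y => n * y * n⁻¹) h
      simpa [mul_assoc] using h'
    refine (closure_le _).mpr fun x hx => hA'N ?_
    exact mem_of_mem_centralizer hA'm (hBS hx.1) (centralizer_le (le_jay
      (show A' ∈ maxIn e Q from (maxIn_eq_of_mem hA'm hA'Q inf_le_left).symm ▸ ⟨hA'm, hA'Q⟩)) (hBC hx.1)) hx.2
  -- `A` acts quadratically on `E`
  have hquad : ⁅⁅E, A⁆, A⁆ = ⊥ := by
    refine eq_bot_iff.mpr (le_trans (commutator_mono (K₁ := A) ?_ (le_refl A)) (commutator_eq_bot_iff_le_centralizer.mpr ?_).le)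
    · exact commutator_le.mpr fun x hx a ha => by
        rw [commutatorElement_def]
        exact mul_mem ((Subgroup.mem_normalizer_iff.mp (hEA hx) a).mp ha) (A.inv_mem ha)
    · have := hA.2.1.1
      exact le_centralizer A
  have h1 : A ≤ stabPre p E := le_stabPre hst (hB.to_le hEB) hquad
  have h2 : stabPre p E ≤ stabPre p B := by
    set π := QuotientGroup.mk' (centralizer (B : Set G))
    have : ((stabPre p E).map π).Normal := Normal.map inferInstance π (QuotientGroup.mk'_surjective _)
    rw [stabPre, stabPre, ← map_le_iff_le_comap]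
    refine Cores.le_pCore ?_
    rintro ⟨_, d, hd, rfl⟩
    obtain ⟨i, hi⟩ := Cores.pCore_isPGroup ⟨_, hd⟩
    have hdi : d ^ p ^ i ∈ centralizer (E : Set G) :=
      (QuotientGroup.eq_one_iff _).mp (congrArg Subtype.val hi)
    obtain ⟨n, hn⟩ := Cfsg.Agent.Fusion.exists_pow_coprime (p := p) (d ^ p ^ i)
    have hmem : (d ^ p ^ i) ^ p ^ n ∈ centralizer (B : Set G) := by
      rcases he with rfl | rfl
      · refine pow_mem ?_ _
        exact mem_centralizer_iff.mpr fun x hx =>
          mem_centralizer_iff.mp hdi x (subset_closure ⟨hx, pow_zero _⟩)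
      · refine mem_centralizer_of_coprime hp hB hclass ((normalizer_eq_top (H := B)).ge (mem_top _)) hn
          fun x hx hxe => ?_
        exact (mem_centralizer_iff.mp (pow_mem hdi _) x (subset_closure ⟨hx, hxe⟩)).symm
    refine ⟨i + n, Subtype.ext ?_⟩
    show (π d) ^ p ^ (i + n) = 1
    rw [← map_pow, pow_add, pow_mul]
    exact (QuotientGroup.eq_one_iff _).mpr hmem
  have h3 : stabPre p B ≤ L := normal_le_normalCore.mpr
    ((stabPre_le S B).trans (sup_le (hCB.trans hLW) hSW))
  exact hAL (h1.trans (h2.trans h3))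

/-- induction on normal `p`-subgroups -/
theorem inf_normal [Finite G] [Fact p.Prime] (hp : p ≠ 2) (he : e = 0 ∨ e = p)
    (hst : StableOnNormal p G) (S : Sylow p G) (Z : Subgroup G)
    (hZS : Z ≤ (S : Subgroup G)) (hZab : IsMulCommutative Z)
    (hSZ : (S : Subgroup G) ≤ normalizer (Z : Set G))
    (hJZ : normalizer (jay e (S : Subgroup G) : Set G) ≤ normalizer (Z : Set G))
    (hZJ : Z ≤ centralizer (jay e (S : Subgroup G) : Set G))
    (hBA : ∀ (B : Subgroup G) [B.Normal], IsPGroup p B → normalClosure ((Z ⊓ B : Subgroup G) : Set G) = B →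
      ⁅B, B⁆ ≤ Z → ⁅⁅B, B⁆, B⁆ = ⊥ → ∀ A ∈ maxIn e (S : Subgroup G), ⁅B, B⁆ ≤ A)
    (B : Subgroup G) [hBn : B.Normal] (hB : IsPGroup p B) : (Z ⊓ B).Normal := by
  induction hc : Nat.card B using Nat.strong_induction_on generalizing B hBn with
  | _ m ih =>
  subst hc
  set W := Z ⊓ B with hW
  by_cases hgen : normalClosure (W : Set G) = B
  swap
  · have hle : normalClosure (W : Set G) ≤ B := normalClosure_le_normal inf_le_right
    have hlt := lt_of_le_of_ne (Subgroup.card_le_of_le hle)
      fun hc => hgen (Subgroup.eq_of_le_of_card_ge hle hc.ge)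
    have hn := ih _ hlt (normalClosure (W : Set G)) (hB.to_le hle) rfl
    rwa [show Z ⊓ normalClosure (W : Set G) = W from
      le_antisymm (inf_le_inf_left _ hle) (le_inf inf_le_left le_normalClosure)] at hn
  have hBS : B ≤ (S : Subgroup G) := IsPGroup.le_sylow_of_normal hB S
  by_cases hB0 : B = ⊥
  · rw [hW, hB0, inf_bot_eq]; infer_instance
  have hlt : Nat.card ↥⁅B, B⁆ < Nat.card B := by
    have : Nontrivial B := B.nontrivial_iff_ne_bot.mpr hB0
    have : Group.IsNilpotent B := hB.isNilpotent
    have h := Subgroup.map_subtype_commutator B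
    rw [← h, card_map_of_injective B.subtype_injective]
    have hlt' := Group.IsSolvable.commutator_lt_top_of_nontrivial B
    rw [lt_top_iff_ne_top] at hlt'
    refine lt_of_le_of_ne (card_le_card_group _) fun hc => hlt' (eq_top_of_card_eq _ hc)
  have hM : (Z ⊓ ⁅B, B⁆).Normal := ih _ hlt ⁅B, B⁆ (hB.to_le (commutator_le_self B)) rfl
  have hBB : ⁅B, B⁆ ≤ Z ⊓ ⁅B, B⁆ := by
    set M := Z ⊓ ⁅B, B⁆
    set π := QuotientGroup.mk' M
    have : (B.map π).Normal := hBn.map π (QuotientGroup.mk'_surjective _)
    have hle : B ≤ (centralizer ((B.map π : Subgroup (G ⧸ M)) : Set (G ⧸ M))).comap π := by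
      conv_lhs => rw [← hgen]
      refine normalClosure_le_normal fun w hw => mem_centralizer_iff.mpr ?_
      rintro _ ⟨x, hx, rfl⟩
      refine (commutatorElement_eq_one_iff_mul_comm.mp ?_).symm
      rw [← map_commutatorElement]
      refine (QuotientGroup.eq_one_iff _).mpr ⟨?_, commutator_mem_commutator hw.2 hx⟩
      rw [commutatorElement_def, mul_assoc w, mul_assoc w]
      exact mul_mem hw.1 ((Subgroup.mem_normalizer_iff.mp (hSZ (hBS hx)) _).mp (Z.inv_mem hw.1))
    refine commutator_le.mpr fun x hx y hy => ?_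
    refine (QuotientGroup.eq_one_iff (N := M) _).mp ?_
    show π _ = 1
    rw [map_commutatorElement, commutatorElement_eq_one_iff_mul_comm]
    exact (mem_centralizer_iff.mp (hle hx) _ ⟨y, hy, rfl⟩).symm
  have hBZ : ⁅B, B⁆ ≤ Z := hBB.trans inf_le_left
  have hclass : ⁅⁅B, B⁆, B⁆ = ⊥ := by
    rw [commutator_eq_bot_iff_le_centralizer, le_centralizer_iff]
    conv_lhs => rw [← hgen]
    refine normalClosure_le_normal fun w hw => mem_centralizer_iff.mpr fun x hx => ?_
    exact (isMulCommutative_iff_forall.mp hZab w hw.1 x (hBZ hx)).symm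
  refine normal_of_generated hp he hst S B W hB inf_le_right ?_ ?_ (inf_le_left.trans hZJ) hgen hclass
    (hBA B hB hgen hBZ hclass)
  · exact fun g hg => mem_normalizer_of_map_conj (by
      rw [hW, map_inf _ _ _ (MulAut.conj g).injective, map_conj_of_mem_normalizer (hSZ hg),
        map_conj_of_mem_normalizer ((normalizer_eq_top (H := B)).ge (mem_top g))])
  · exact fun g hg => mem_normalizer_of_map_conj (by
      rw [hW, map_inf _ _ _ (MulAut.conj g).injective, map_conj_of_mem_normalizer (hJZ hg),
        map_conj_of_mem_normalizer ((normalizer_eq_top (H := B)).ge (mem_top g))])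

theorem le_pCore_of_stable [Finite G] [Fact p.Prime] (hc : centralizer (pCore p G : Set G) ≤ pCore p G)
    (hst : StableOnNormal p G) (S : Sylow p G) (Z : Subgroup G) (hZab : IsMulCommutative Z)
    (hSZ : (S : Subgroup G) ≤ normalizer (Z : Set G)) : Z ≤ pCore p G := by
  set B := pCore p G
  have h : ⁅⁅B, Z⁆, Z⁆ = ⊥ := by
    refine eq_bot_iff.mpr (le_trans (commutator_mono (K₁ := Z) ?_ (le_refl Z)) (commutator_eq_bot_iff_le_centralizer.mpr ?_).le)
    · exact commutator_le.mpr fun x hx z hz => by
        rw [commutatorElement_def]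
        exact mul_mem ((Subgroup.mem_normalizer_iff.mp (hSZ (Cores.pCore_le_sylow S hx)) z).mp hz) (Z.inv_mem hz)
    · have := hZab
      exact le_centralizer Z
  refine (le_stabPre hst Cores.pCore_isPGroup h).trans (Cores.le_pCore (Cores.pCore_isPGroup.comap_of_ker_isPGroup _ ?_))
  rw [QuotientGroup.ker_mk']
  exact Cores.pCore_isPGroup.to_le hc

/-- `{z ∈ Z(J(S)) | z ^ (p ^ k) = 1}` -/
def zjayLevel (p e k : ℕ) (P : Subgroup G) : Subgroup G where
  carrier := {z | z ∈ zjay e P ∧ z ^ p ^ k = 1}
  one_mem' := ⟨one_mem _, one_pow _⟩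
  mul_mem' := fun {a b} ha hb => ⟨mul_mem ha.1 hb.1, by
    rw [Commute.mul_pow (zjay_comm ha.1 hb.1), ha.2, hb.2, one_mul]⟩
  inv_mem' := fun {a} ha => ⟨inv_mem ha.1, by rw [inv_pow, ha.2, inv_one]⟩

theorem normalizer_zjay_le_normalizer_level (p e k : ℕ) (P : Subgroup G) :
    normalizer (zjay e P : Set G) ≤ normalizer (zjayLevel p e k P : Set G) := fun g hg => by
  have h := Subgroup.mem_normalizer_iff.mp hg
  refine Subgroup.mem_normalizer_iff.mpr fun x => ?_
  show x ∈ zjay e P ∧ x ^ p ^ k = 1 ↔ g * x * g⁻¹ ∈ zjay e P ∧ (g * x * g⁻¹) ^ p ^ k = 1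
  rw [← h x, conj_pow, mul_inv_eq_one, mul_eq_left]

theorem le_normalizer_level (p e k : ℕ) (P : Subgroup G) :
    P ≤ normalizer (zjayLevel p e k P : Set G) :=
  (le_normalizer_zjay e P).trans (normalizer_zjay_le_normalizer_level p e k P)

theorem isMulCommutative_zjay (e : ℕ) (P : Subgroup G) : IsMulCommutative (zjay e P) :=
  isMulCommutative_iff_forall.mpr fun _ ha _ hb => zjay_comm ha hb

theorem zjay_zero_normal [Finite G] [Fact p.Prime] (hp : p ≠ 2)
    (hc : centralizer (pCore p G : Set G) ≤ pCore p G) (hst : StableOnNormal p G) (S : Sylow p G) :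
    (zjay 0 (S : Subgroup G)).Normal := by
  have h := inf_normal hp (.inl rfl) hst S (zjay 0 (S : Subgroup G)) zjay_le (isMulCommutative_zjay _ _)
    (le_normalizer_zjay _ _) (normalizer_jay_le_normalizer_zjay _ _) inf_le_right
    (fun B _ _ _ hBZ _ A hA => hBZ.trans (zjay_zero_le hA)) (pCore p G) Cores.pCore_isPGroup
  rwa [inf_eq_left.mpr (le_pCore_of_stable hc hst S _ (isMulCommutative_zjay _ _) (le_normalizer_zjay _ _))] at h

theorem zjayLevel_normal [Finite G] [Fact p.Prime] (hp : p ≠ 2)
    (hc : centralizer (pCore p G : Set G) ≤ pCore p G) (hst : StableOnNormal p G) (S : Sylow p G) :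
    ∀ k : ℕ, (zjayLevel p p k (S : Subgroup G)).Normal
  | 0 => by
    rw [show zjayLevel p p 0 (S : Subgroup G) = ⊥ from eq_bot_iff.mpr fun x hx => by
      simpa using hx.2]
    infer_instance
  | k + 1 => by
    have ih := zjayLevel_normal hp hc hst S k
    set Z := zjayLevel p p (k + 1) (S : Subgroup G) with hZ
    have hZz : Z ≤ zjay p (S : Subgroup G) := fun x hx => hx.1
    have hZab : IsMulCommutative Z :=
      isMulCommutative_iff_forall.mpr fun _ ha _ hb => zjay_comm ha.1 hb.1
    have h := inf_normal hp (.inr rfl) hst S Z (hZz.trans zjay_le) hZab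
      (le_normalizer_level _ _ _ _)
      ((normalizer_jay_le_normalizer_zjay _ _).trans (normalizer_zjay_le_normalizer_level _ _ _ _))
      (hZz.trans inf_le_right) ?_ (pCore p G) Cores.pCore_isPGroup
    · rwa [inf_eq_left.mpr (le_pCore_of_stable hc hst S _ hZab (le_normalizer_level _ _ _ _))] at h
    intro B hBn hB hgen hBZ hclass A hA
    set M := zjayLevel p p k (S : Subgroup G)
    have hBM : B ≤ centralizer (M : Set G) := by
      rw [← hgen]
      refine normalClosure_le_normal fun w hw => mem_centralizer_iff.mpr fun m hm => ?_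
      exact zjay_comm hm.1 hw.1.1
    have hcent : ∀ d ∈ ⁅B, B⁆, ∀ z ∈ B, Commute d z := fun d hd z hz =>
      commutatorElement_eq_one_iff_mul_comm.mp (mem_bot.mp (hclass ▸ commutator_mem_commutator hd hz))
    let K : Subgroup G :=
      { carrier := {x | x ∈ B ∧ ∀ y ∈ B, ⁅x, y⁆ ^ p = 1}
        one_mem' := ⟨one_mem _, fun y _ => by simp⟩
        mul_mem' := fun {a b} ha hb => ⟨mul_mem ha.1 hb.1, fun y hy => by
          have h1 : ⁅a * b, y⁆ = ⁅a, y⁆ * ⁅b, y⁆ := by
            have e1 : ⁅a * b, y⁆ = a * ⁅b, y⁆ * a⁻¹ * ⁅a, y⁆ := by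
              simp only [commutatorElement_def]; group
            rw [e1, ← (hcent _ (commutator_mem_commutator hb.1 hy) a ha.1).eq, mul_inv_cancel_right,
              (hcent _ (commutator_mem_commutator hb.1 hy) _ (commutator_le_self B (commutator_mem_commutator ha.1 hy))).eq]
          rw [h1, (hcent _ (commutator_mem_commutator ha.1 hy) _
            (commutator_le_self B (commutator_mem_commutator hb.1 hy))).mul_pow, ha.2 y hy, hb.2 y hy, one_mul]⟩
        inv_mem' := fun {a} ha => ⟨inv_mem ha.1, fun y hy => by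
          have e1 : ⁅a⁻¹, y⁆ = a⁻¹ * ⁅a, y⁆⁻¹ * a := by simp only [commutatorElement_def]; group
          rw [e1, ← ((hcent _ (commutator_mem_commutator ha.1 hy) a ha.1).inv_inv).eq,
            inv_mul_cancel_right, inv_pow, ha.2 y hy, inv_one]⟩ }
    have : K.Normal := ⟨fun x hx g => ⟨hBn.conj_mem x hx.1 g, fun y hy => by
      have e1 : ⁅g * x * g⁻¹, y⁆ = g * ⁅x, g⁻¹ * y * g⁆ * g⁻¹ := by
        simp only [commutatorElement_def]; group
      rw [e1, conj_pow, hx.2 _ (by simpa using hBn.conj_mem y hy g⁻¹), mul_one, mul_inv_cancel]⟩⟩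
    have hBK : B ≤ K := by
      conv_lhs => rw [← hgen]
      refine normalClosure_le_normal fun w hw => ⟨hw.2, fun y hy => ?_⟩
      have hwp : w ^ p ∈ M := ⟨pow_mem hw.1.1 p, by rw [← pow_mul, ← pow_succ']; exact hw.1.2⟩
      have hw' : Commute ⁅w, y⁆ w := hcent _ (commutator_mem_commutator hw.2 hy) w hw.2
      have hy' : Commute ⁅w, y⁆ y := hcent _ (commutator_mem_commutator hw.2 hy) y hy
      have h1 := pow_mul_comm_class_two hy' hw' p
      rw [mem_centralizer_iff.mp (hBM hy) _ hwp] at h1
      exact right_eq_mul.mp h1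
    refine commutator_le.mpr fun x hx y hy => ?_
    have hd := commutator_mem_commutator hx hy
    exact mem_of_mem_centralizer hA (zjay_le (hZz (hBZ hd))) (centralizer_le (le_jay hA) (hZz (hBZ hd)).2)
      ((hBK hx).2 y hy)

theorem zjay_prime_normal [Finite G] [Fact p.Prime] (hp : p ≠ 2)
    (hc : centralizer (pCore p G : Set G) ≤ pCore p G) (hst : StableOnNormal p G) (S : Sylow p G) :
    (zjay p (S : Subgroup G)).Normal := by
  obtain ⟨k, hk⟩ := IsPGroup.iff_card.mp S.isPGroup'
  have h : zjay p (S : Subgroup G) = zjayLevel p p k (S : Subgroup G) :=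
    le_antisymm (fun x hx => ⟨hx, hk ▸ orderOf_dvd_iff_pow_eq_one.mp (orderOf_dvd_natCard _ (zjay_le hx))⟩)
      fun x hx => hx.1
  rw [h]
  exact zjayLevel_normal hp hc hst S k

theorem zjay_normal [Finite G] [Fact p.Prime] (hp : p ≠ 2) (he : e = 0 ∨ e = p)
    (hc : centralizer (pCore p G : Set G) ≤ pCore p G) (hst : StableOnNormal p G) (S : Sylow p G) :
    (zjay e (S : Subgroup G)).Normal := by
  rcases he with rfl | rfl
  · exact zjay_zero_normal hp hc hst S
  · exact zjay_prime_normal hp hc hst S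

end Cfsg.Agent.Thompson
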