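import Mathlib

/-!
The Baer–Suzuki theorem (Alperin–Lyons proof).
-/

set_option autoImplicit false

namespace Cfsg.Agent.Thompson

open Subgroup

variable {G : Type*} [Group G] [Finite G] {p : ℕ} [Fact p.Prime]

/-- In a `p`-group `P`: a set `E` of elements of a conjugation invariant set `D`, closed under
conjugation by its own members, is normalized by some member of `D ∩ P` outside `E`. -/
theorem exists_mem_normalizer_set {P : Subgroup G} (hP : IsPGroup p P) {D E : Set G}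
    (hD : ∀ x ∈ D, ∀ g : G, g * x * g⁻¹ ∈ D) (hED : E ⊆ D) (hEP : E ⊆ (P : Set G))
    (hEE : ∀ e ∈ E, ∀ f ∈ E, e * f * e⁻¹ ∈ E) (hne : ∃ x ∈ D, x ∈ P ∧ x ∉ E) :
    ∃ x ∈ D, x ∈ P ∧ x ∉ E ∧ ∀ e ∈ E, x * e * x⁻¹ ∈ E := by
  by_contra hcon
  push Not at hcon
  let N : Subgroup G := P ⊓ normalizer E
  have hN : ∀ x ∈ D, x ∈ N → x ∈ E := fun x hx hxN => by
    by_contra hxE
    obtain ⟨e, he, he'⟩ := hcon x hx hxN.1 hxE
    exact he' ((mem_set_normalizer_iff.mp hxN.2 e).mp he)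
  have hlt : N.subgroupOf P < ⊤ := by
    refine lt_of_le_of_ne le_top fun h => ?_
    rw [subgroupOf_eq_top] at h
    obtain ⟨x, hxD, hxP, hxE⟩ := hne
    exact hxE (hN x hxD (h hxP))
  have : Group.IsNilpotent P := hP.isNilpotent
  obtain ⟨m, hm1, hm2⟩ := SetLike.exists_of_lt (Group.normalizerCondition_of_isNilpotent _ hlt)
  rw [mem_subgroupOf] at hm2
  refine hm2 ⟨m.2, mem_normalizer_fintype fun e he => ?_⟩
  have heN : e ∈ N := ⟨hEP he, mem_normalizer_fintype fun d hd => hEE e he d hd⟩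
  exact hN _ (hD e (hED he) _) (((Subgroup.mem_normalizer_iff.mp hm1) ⟨e, hEP he⟩).mp heN)

theorem mem_of_sylow_sets {D : Set G} (hD : ∀ x ∈ D, ∀ g : G, g * x * g⁻¹ ∈ D)
    (hp : ∀ x ∈ D, ∀ y ∈ D, IsPGroup p (closure ({x, y} : Set G))) (P Q : Sylow p G) {x : G}
    (hxD : x ∈ D) (hxP : x ∈ (P : Subgroup G)) : x ∈ (Q : Subgroup G) := by
  classical
  by_contra hxQ
  let f : Sylow p G × Sylow p G → Set G := fun pq => D ∩ (pq.1 : Subgroup G) ∩ (pq.2 : Subgroup G)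
  obtain ⟨⟨P, Q⟩, ⟨x, hxD, hxP, hxQ⟩, hmax⟩ := Set.exists_max_image
    {pq : Sylow p G × Sylow p G | ∃ x ∈ D, x ∈ (pq.1 : Subgroup G) ∧ x ∉ (pq.2 : Subgroup G)}
    (fun pq => (f pq).ncard) (Set.toFinite _) ⟨(P, Q), x, hxD, hxP, hxQ⟩
  set E := f (P, Q) with hE
  have hED : E ⊆ D := fun e he => he.1.1
  have hEP : E ⊆ ((P : Subgroup G) : Set G) := fun e he => he.1.2
  have hEQ : E ⊆ ((Q : Subgroup G) : Set G) := fun e he => he.2
  have hEE : ∀ e ∈ E, ∀ d ∈ E, e * d * e⁻¹ ∈ E := fun e he d hd =>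
    ⟨⟨hD d (hED hd) e, mul_mem (mul_mem (hEP he) (hEP hd)) ((P : Subgroup G).inv_mem (hEP he))⟩,
      mul_mem (mul_mem (hEQ he) (hEQ hd)) ((Q : Subgroup G).inv_mem (hEQ he))⟩
  -- `D ∩ P` and `D ∩ Q` have equally many elements
  have hcard : (D ∩ (P : Subgroup G)).ncard = (D ∩ (Q : Subgroup G)).ncard := by
    obtain ⟨g, hg⟩ := MulAction.exists_smul_eq G P Q
    have : (fun z => g * z * g⁻¹) '' (D ∩ (P : Subgroup G)) = D ∩ (Q : Subgroup G) := by
      ext z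
      rw [← hg]
      constructor
      · rintro ⟨w, ⟨hwD, hwP⟩, rfl⟩
        exact ⟨hD w hwD g, by
          rw [SetLike.mem_coe, Sylow.coe_subgroup_smul, Subgroup.mem_pointwise_smul_iff_inv_smul_mem]
          have hwP' : w ∈ (P : Subgroup G) := hwP
          simpa [mul_assoc] using hwP'⟩
      · rintro ⟨hzD, hzQ⟩
        rw [SetLike.mem_coe, Sylow.coe_subgroup_smul, Subgroup.mem_pointwise_smul_iff_inv_smul_mem] at hzQ
        exact ⟨g⁻¹ * z * g, ⟨by simpa using hD z hzD g⁻¹, show g⁻¹ * z * g ∈ (P : Subgroup G) by simpa [mul_assoc] using hzQ⟩, by simp [mul_assoc]⟩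
    rw [← this, Set.ncard_image_of_injective _ (fun a b h => by simpa using h)]
  obtain ⟨y, hyD, hyQ, hyP⟩ : ∃ y ∈ D, y ∈ (Q : Subgroup G) ∧ y ∉ (P : Subgroup G) := by
    by_contra hcon
    push Not at hcon
    have hsub : D ∩ (Q : Subgroup G) ⊆ D ∩ (P : Subgroup G) := fun z hz => ⟨hz.1, hcon z hz.1 hz.2⟩
    have := Set.eq_of_subset_of_ncard_le hsub hcard.le (Set.toFinite _)
    exact hxQ (this.ge ⟨hxD, hxP⟩).2
  obtain ⟨a, haD, haP, haE, haN⟩ := exists_mem_normalizer_set P.isPGroup' hD hED hEP hEE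
    ⟨x, hxD, hxP, fun h => hxQ (hEQ h)⟩
  obtain ⟨b, hbD, hbQ, hbE, hbN⟩ := exists_mem_normalizer_set Q.isPGroup' hD hED hEQ hEE
    ⟨y, hyD, hyQ, fun h => hyP (hEP h)⟩
  have hab : closure ({a, b} : Set G) ≤ normalizer (closure E : Set G) := by
    refine (closure_le _).mpr ?_
    have key : ∀ c : G, (∀ e ∈ E, c * e * c⁻¹ ∈ E) → c ∈ normalizer (closure E : Set G) := fun c hc => by
      refine normalizer_le_normalizer_closure E ?_
      exact mem_normalizer_fintype hc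
    rintro z (rfl | rfl)
    · exact key _ haN
    · exact key _ hbN
  have hEp : IsPGroup p (closure E) := P.isPGroup'.to_le ((closure_le _).mpr hEP)
  have hR : IsPGroup p ↥(closure ({a, b} : Set G) ⊔ closure E) :=
    IsPGroup.to_sup_of_normal_right' (hp a haD b hbD) hEp hab
  obtain ⟨R, hR⟩ := hR.exists_le_sylow
  have haR : a ∈ (R : Subgroup G) := hR (mem_sup_left (subset_closure (Set.mem_insert _ _)))
  have hbR : b ∈ (R : Subgroup G) := hR (mem_sup_left (subset_closure (Set.mem_insert_of_mem _ rfl)))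
  have hER : E ⊆ ((R : Subgroup G) : Set G) := fun e he => hR (mem_sup_right (subset_closure he))
  have hPR : ∀ z ∈ D, z ∈ (P : Subgroup G) → z ∈ (R : Subgroup G) := by
    by_contra hcon
    push Not at hcon
    have hsub : E ⊂ f (P, R) := ⟨fun e he => ⟨⟨hED he, hEP he⟩, hER he⟩, fun h => haE (h ⟨⟨haD, haP⟩, haR⟩)⟩
    exact absurd (hmax (P, R) hcon) (not_le.mpr (Set.ncard_lt_ncard hsub (Set.toFinite _)))
  have hRQ : ∀ z ∈ D, z ∈ (R : Subgroup G) → z ∈ (Q : Subgroup G) := by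
    by_contra hcon
    push Not at hcon
    have hsub : E ⊂ f (R, Q) := ⟨fun e he => ⟨⟨hED he, hER he⟩, hEQ he⟩, fun h => hbE (h ⟨⟨hbD, hbR⟩, hbQ⟩)⟩
    exact absurd (hmax (R, Q) hcon) (not_le.mpr (Set.ncard_lt_ncard hsub (Set.toFinite _)))
  exact haE ⟨⟨haD, haP⟩, hRQ a haD (hPR a haD haP)⟩

/-- **Baer–Suzuki**, element form. -/
theorem baer_suzuki {x : G} (h : ∀ g : G, IsPGroup p (closure ({x, g * x * g⁻¹} : Set G))) :
    ∃ N : Subgroup G, N.Normal ∧ IsPGroup p N ∧ x ∈ N := by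
  set D : Set G := Group.conjugatesOfSet {x} with hDdef
  have hmem : ∀ y, y ∈ D ↔ ∃ g : G, g * x * g⁻¹ = y := fun y => by
    rw [hDdef, Group.mem_conjugatesOfSet_iff]
    simp [isConj_iff]
  have hD : ∀ y ∈ D, ∀ g : G, g * y * g⁻¹ ∈ D := fun y hy g => by
    obtain ⟨k, rfl⟩ := (hmem y).mp hy
    exact (hmem _).mpr ⟨g * k, by simp [mul_assoc]⟩
  have hp : ∀ y ∈ D, ∀ z ∈ D, IsPGroup p (closure ({y, z} : Set G)) := by
    intro y hy z hz
    obtain ⟨k, rfl⟩ := (hmem y).mp hy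
    obtain ⟨l, rfl⟩ := (hmem z).mp hz
    have h2 := (h (k⁻¹ * l)).map (MulAut.conj k).toMonoidHom
    rw [MonoidHom.map_closure] at h2
    refine h2.to_le (closure_mono ?_)
    simp [Set.image_insert_eq, mul_assoc]
  have hx : IsPGroup p (closure ({x} : Set G)) := (h 1).to_le (closure_mono (by simp))
  obtain ⟨P, hP⟩ := hx.exists_le_sylow
  refine ⟨normalClosure {x}, normalClosure_normal, P.isPGroup'.to_le ?_, subset_normalClosure rfl⟩
  refine (closure_le _).mpr fun y hy => ?_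
  obtain ⟨k, rfl⟩ := (hmem y).mp hy
  have hxD : x ∈ D := (hmem x).mpr ⟨1, by simp⟩
  have := mem_of_sylow_sets hD hp P (k⁻¹ • P) hxD (hP (subset_closure rfl))
  rw [Sylow.coe_subgroup_smul, Subgroup.mem_pointwise_smul_iff_inv_smul_mem] at this
  show k * x * k⁻¹ ∈ (P : Subgroup G)
  simpa [mul_assoc] using this

/-- **Baer–Suzuki**, subgroup form. -/
theorem baer_suzuki_subgroup (X : Subgroup G)
    (h : ∀ g : G, IsPGroup p ↥(X ⊔ X.map (MulAut.conj g).toMonoidHom)) :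
    ∃ N : Subgroup G, N.Normal ∧ IsPGroup p N ∧ X ≤ N := by
  classical
  have hx : ∀ x : X, ∃ N : Subgroup G, N.Normal ∧ IsPGroup p N ∧ (x : G) ∈ N := fun x =>
    baer_suzuki fun g => (h g).to_le ((closure_le _).mpr (by
      rintro z (rfl | rfl)
      · exact mem_sup_left x.2
      · exact mem_sup_right ⟨x, x.2, by simp⟩))
  refine ⟨sSup {N : Subgroup G | N.Normal ∧ IsPGroup p N}, Subgroup.sSup_normal _ fun _ hN => hN.1,
    Sylow.sSup_of_normal _ (fun _ hN => hN.2) (fun _ hN => hN.1), fun x hxX => ?_⟩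
  obtain ⟨N, hN1, hN2, hxN⟩ := hx ⟨x, hxX⟩
  exact le_sSup (a := N) (s := {N : Subgroup G | N.Normal ∧ IsPGroup p N}) ⟨hN1, hN2⟩ hxN

end Cfsg.Agent.Thompson
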