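import Mathlib
import Cfsg.Agent.Linear.Generation

/-!
A finite subgroup of `SL₂(k)`, `k` of odd characteristic `p`, containing non-trivial upper and lower
unitriangular matrices contains a conjugate (in `GL₂(k)`) of `SL₂(p)`.
-/

set_option autoImplicit false

namespace Cfsg.Agent.Thompson

open Matrix

variable {k : Type*} [Field k]

local notation "SL" => Matrix.SpecialLinearGroup (Fin 2)

/-- upper unitriangular -/
def up (t : k) : SL k := ⟨!![1, t; 0, 1], by simp [Matrix.det_fin_two]⟩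

/-- lower unitriangular -/
def low (t : k) : SL k := ⟨!![1, 0; t, 1], by simp [Matrix.det_fin_two]⟩

theorem up_coe (t : k) : (up t : Matrix (Fin 2) (Fin 2) k) = !![1, t; 0, 1] := rfl
theorem low_coe (t : k) : (low t : Matrix (Fin 2) (Fin 2) k) = !![1, 0; t, 1] := rfl

theorem sl2_ext {g h : SL k} (h00 : g 0 0 = h 0 0) (h01 : g 0 1 = h 0 1) (h10 : g 1 0 = h 1 0)
    (h11 : g 1 1 = h 1 1) : g = h := by
  apply Subtype.ext
  ext i j
  fin_cases i <;> fin_cases j <;> assumption

theorem up_add (s t : k) : up (s + t) = up s * up t := by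
  apply Subtype.ext
  simp [up_coe, add_comm]

theorem low_add (s t : k) : low (s + t) = low s * low t := by
  apply Subtype.ext
  simp [low_coe]

theorem up_zero : up (0 : k) = 1 := by
  apply Subtype.ext
  simp [up_coe, one_fin_two]

theorem low_zero : low (0 : k) = 1 := by
  apply Subtype.ext
  simp [low_coe, one_fin_two]

theorem up_pow (t : k) (n : ℕ) : up t ^ n = up ((n : k) * t) := by
  induction n with
  | zero => simp [up_zero]
  | succ n ih => rw [pow_succ, ih, ← up_add]; congr 1; push_cast; ring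

theorem low_pow (t : k) (n : ℕ) : low t ^ n = low ((n : k) * t) := by
  induction n with
  | zero => simp [low_zero]
  | succ n ih => rw [pow_succ, ih, ← low_add]; congr 1; push_cast; ring

theorem up_inv (t : k) : (up t)⁻¹ = up (-t) :=
  inv_eq_of_mul_eq_one_right (by rw [← up_add, add_neg_cancel, up_zero])

/-- entries of a product -/
theorem sl_mul_apply (g h : SL k) (i j : Fin 2) :
    (g * h) i j = g i 0 * h 0 j + g i 1 * h 1 j := by
  rw [Matrix.SpecialLinearGroup.coe_mul, Matrix.mul_apply, Fin.sum_univ_two]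

theorem sl_det_eq (g : SL k) : g 0 0 * g 1 1 - g 0 1 * g 1 0 = 1 := by
  have h := g.2
  rwa [Matrix.det_fin_two] at h

theorem sl_inv_apply_10 (g : SL k) : g⁻¹ 1 0 = - g 1 0 := by
  rw [Matrix.SpecialLinearGroup.coe_inv, Matrix.adjugate_fin_two]
  simp

section

variable (H : Subgroup (SL k))

/-- the translations in `H` -/
def upSet : AddSubgroup k where
  carrier := {t | up t ∈ H}
  add_mem' := fun {s t} hs ht => by
    simp only [Set.mem_setOf_eq] at *
    rw [up_add]; exact H.mul_mem hs ht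
  zero_mem' := by simp [up_zero, H.one_mem]
  neg_mem' := fun {t} ht => by
    simp only [Set.mem_setOf_eq] at *
    rw [← up_inv]; exact H.inv_mem ht

theorem mem_upSet {t : k} : t ∈ upSet H ↔ up t ∈ H := Iff.rfl

theorem upSet_finite [Finite H] : (upSet H : Set k).Finite := by
  have hinj : Function.Injective (fun t : upSet H => (⟨up t.1, t.2⟩ : H)) := by
    intro s t h
    have := congrFun (congrFun (congrArg (fun g : H => ((g : SL k) : Matrix (Fin 2) (Fin 2) k)) h) 0) 1
    exact Subtype.ext (by simpa [up_coe] using this)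
  exact Set.finite_coe_iff.mp (Finite.of_injective _ hinj)

variable {p : ℕ} [CharP k p]

/-- `H` has a unipotent element `g` and a translation `t` with `c(g) t` a non-zero element of the prime field. -/
def HasLinkedPair (p : ℕ) [CharP k p] : Prop :=
  ∃ g ∈ H, g 0 0 + g 1 1 = 2 ∧ ∃ t ∈ upSet H, ∃ r : ZMod p, r ≠ 0 ∧ g 1 0 * t = ZMod.castHom dvd_rfl k r

theorem hasLinkedPair_of [Fact p.Prime] {g : SL k} (hg : g ∈ H) (htr : g 0 0 + g 1 1 = 2) {t : k}
    (ht : t ∈ upSet H) {r : ℤ} (hr : (r : k) ≠ 0) (h : g 1 0 * t = r) : HasLinkedPair H p := by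
  refine ⟨g, hg, htr, t, ht, (r : ZMod p), ?_, by simp [h]⟩
  intro h0
  apply hr
  have := congrArg (ZMod.castHom dvd_rfl k) h0
  simpa using this

theorem hasLinkedPair_of_mem [Fact p.Prime] (hp : p ≠ 2) [Finite H]
    (hone : up 1 ∈ H) (hneg : (-1 : SL k) ∈ H) {μ : k} (hμ : μ ≠ 0) (hlow : low μ ∈ H) :
    HasLinkedPair H p := by
  classical
  have h2 : (2 : k) ≠ 0 := Ring.two_ne_zero (by rw [ringChar.eq k p]; exact hp)
  by_contra hno
  have noPair : ∀ {g : SL k}, g ∈ H → g 0 0 + g 1 1 = 2 → ∀ {t : k}, t ∈ upSet H → ∀ {r : ℤ},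
      (r : k) ≠ 0 → g 1 0 * t = r → False :=
    fun hg htr _ ht _ hr h => hno (hasLinkedPair_of H hg htr ht hr h)
  set T := upSet H with hT
  have : Finite T := Set.finite_coe_iff.mpr (upSet_finite H)
  have h1T : (1 : k) ∈ T := hone
  let M : Set H := {g | (g : SL k) 1 0 ≠ 0}
  let Ep : Set H := {g | (g : SL k) 1 0 ≠ 0 ∧ (g : SL k) 0 0 + (g : SL k) 1 1 = 2}
  let Em : Set H := {g | (g : SL k) 1 0 ≠ 0 ∧ (g : SL k) 0 0 + (g : SL k) 1 1 = -2}
  let B : Set H := {g | (g : SL k) 1 0 = 0}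
  have hnegapp : ∀ (g : SL k) (i j : Fin 2), ((-1 : SL k) * g) i j = - g i j := fun g i j => by
    simp [neg_one_mul]
  -- `E⁻ = -E⁺`
  have hE : Nat.card Em = Nat.card Ep := by
    refine Nat.card_congr ⟨fun g => ⟨⟨(-1 : SL k) * g.1.1, H.mul_mem hneg g.1.2⟩, ?_, ?_⟩,
      fun g => ⟨⟨(-1 : SL k) * g.1.1, H.mul_mem hneg g.1.2⟩, ?_, ?_⟩, ?_, ?_⟩
    · rw [hnegapp]; exact neg_ne_zero.mpr g.2.1
    · rw [hnegapp, hnegapp]; linear_combination -g.2.2
    · rw [hnegapp]; exact neg_ne_zero.mpr g.2.1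
    · rw [hnegapp, hnegapp]; linear_combination -g.2.2
    · intro g; ext : 3; simp
    · intro g; ext : 3; simp
  -- entries of `g * up t`
  have hmul10 : ∀ (g : SL k) (t : k), (g * up t) 1 0 = g 1 0 := fun g t => by
    simp [sl_mul_apply, up_coe]
  have hmultr : ∀ (g : SL k) (t : k),
      (g * up t) 0 0 + (g * up t) 1 1 = g 0 0 + g 1 1 + g 1 0 * t := fun g t => by
    simp [sl_mul_apply, up_coe]; ring
  -- one unipotent or minus unipotent element in each coset
  have hmemM : ∀ (e : H) (t : T), (e : SL k) 1 0 ≠ 0 →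
      (⟨(e : SL k) * up t.1, H.mul_mem e.2 t.2⟩ : H) ∈ M := fun e t h =>
    (hmul10 (e : SL k) t.1).trans_ne h
  let F : (Ep ⊕ Em) × T → M := fun x =>
    x.1.elim (fun e => ⟨_, hmemM e.1 x.2 e.2.1⟩) (fun e => ⟨_, hmemM e.1 x.2 e.2.1⟩)
  have hcancel : ∀ {e e' : SL k} {t t' : k}, e * up t = e' * up t' → e' = e * up (t - t') := by
    intro e e' t t' h
    rw [sub_eq_add_neg, up_add, ← mul_assoc, h, mul_assoc, ← up_add, add_neg_cancel, up_zero, mul_one]
  have key : ∀ {e e' : SL k}, e ∈ H → e' ∈ H → e 1 0 ≠ 0 →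
      (e 0 0 + e 1 1 = 2 ∨ e 0 0 + e 1 1 = -2) → (e' 0 0 + e' 1 1 = 2 ∨ e' 0 0 + e' 1 1 = -2) →
      ∀ {t t' : k}, t ∈ T → t' ∈ T → e * up t = e' * up t' → t = t' ∧ e = e' := by
    intro e e' he he' hc htre htre' t t' ht ht' h
    have he2 := hcancel h
    have hs := T.sub_mem ht ht'
    have htr : e' 0 0 + e' 1 1 = e 0 0 + e 1 1 + e 1 0 * (t - t') := by rw [he2, hmultr]
    have hc' : e' 1 0 = e 1 0 := by rw [he2, hmul10]
    have h4 : ((4 : ℤ) : k) ≠ 0 := by
      have : (2 : k) * 2 ≠ 0 := mul_ne_zero h2 h2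
      norm_num at this ⊢; exact this
    have h4' : ((-4 : ℤ) : k) ≠ 0 := by rw [Int.cast_neg]; exact neg_ne_zero.mpr h4
    have hzero : e 1 0 * (t - t') = 0 := by
      rcases htre with h1 | h1 <;> rcases htre' with h1' | h1'
      · linear_combination -htr + h1' - h1
      · exact (noPair he h1 hs h4' (by push_cast; linear_combination -htr + h1' - h1)).elim
      · exact (noPair he' h1' hs h4 (by push_cast; rw [hc']; linear_combination -htr + h1' - h1)).elim
      · linear_combination -htr + h1' - h1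
    have htt : t = t' := sub_eq_zero.mp ((mul_eq_zero.mp hzero).resolve_left hc)
    subst htt
    exact ⟨rfl, mul_right_cancel h⟩
  have hF : Function.Injective F := by
    rintro ⟨e | e, t⟩ ⟨e' | e', t'⟩ h <;>
      have h' := congrArg (fun m : M => ((m : H) : SL k)) h <;> simp only [F, Sum.elim_inl, Sum.elim_inr] at h'
    · obtain ⟨rfl', h2'⟩ := key e.1.2 e'.1.2 e.2.1 (.inl e.2.2) (.inl e'.2.2) t.2 t'.2 h'
      rw [show t = t' from Subtype.ext rfl', show e = e' from Subtype.ext (Subtype.ext h2')]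
    · obtain ⟨-, h2'⟩ := key e.1.2 e'.1.2 e.2.1 (.inl e.2.2) (.inr e'.2.2) t.2 t'.2 h'
      have := e.2.2; rw [h2', e'.2.2] at this
      exact absurd (show (2 : k) * 2 = 0 by linear_combination -this) (mul_ne_zero h2 h2)
    · obtain ⟨-, h2'⟩ := key e.1.2 e'.1.2 e.2.1 (.inr e.2.2) (.inl e'.2.2) t.2 t'.2 h'
      have := e.2.2; rw [h2', e'.2.2] at this
      exact absurd (show (2 : k) * 2 = 0 by linear_combination this) (mul_ne_zero h2 h2)
    · obtain ⟨rfl', h2'⟩ := key e.1.2 e'.1.2 e.2.1 (.inr e.2.2) (.inr e'.2.2) t.2 t'.2 h'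
      rw [show t = t' from Subtype.ext rfl', show e = e' from Subtype.ext (Subtype.ext h2')]
  have hcardF := Nat.card_le_card_of_injective F hF
  rw [Nat.card_prod, Nat.card_sum, hE] at hcardF
  -- unipotent elements: conjugates of translations
  let T' := {t : T // t ≠ 0}
  have : Finite T' := Subtype.finite
  let Φ : M × T' → Ep := fun x =>
    ⟨⟨x.1.1.1 * up x.2.1.1 * x.1.1.1⁻¹, H.mul_mem (H.mul_mem x.1.1.2 x.2.1.2) (H.inv_mem x.1.1.2)⟩, by
      obtain ⟨⟨⟨g, hg⟩, hc⟩, ⟨⟨t, ht⟩, ht0⟩⟩ := x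
      have ht0' : t ≠ 0 := fun h => ht0 (Subtype.ext h)
      have hd := sl_det_eq g
      simp only [M, Set.mem_setOf_eq] at hc
      refine ⟨?_, ?_⟩
      · simp only [sl_mul_apply, up_coe, Matrix.SpecialLinearGroup.coe_inv, Matrix.adjugate_fin_two]
        simp
        intro h
        exact mul_ne_zero (mul_ne_zero hc hc) ht0' (by linear_combination -h)
      · simp only [sl_mul_apply, up_coe, Matrix.SpecialLinearGroup.coe_inv, Matrix.adjugate_fin_two]
        simp
        linear_combination 2 * hd⟩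
  have hΦ : ∀ z : Ep, Nat.card {x // Φ x = z} ≤ Nat.card B := by
    intro z
    by_cases hne : Nonempty {x // Φ x = z}
    · obtain ⟨⟨⟨g0, t0⟩, h0⟩⟩ := hne
      have hval : ∀ x : {x // Φ x = z}, x.1.1.1.1 * up x.1.2.1.1 * x.1.1.1.1⁻¹ = g0.1.1 * up t0.1.1 * g0.1.1⁻¹ :=
        fun x => congrArg (fun e : Ep => ((e : H) : SL k)) (x.2.trans h0.symm)
      have hconj : ∀ x : {x // Φ x = z},
          (g0.1.1⁻¹ * x.1.1.1.1) * up x.1.2.1.1 = up t0.1.1 * (g0.1.1⁻¹ * x.1.1.1.1) := fun x => by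
        have := congrArg (fun m => g0.1.1⁻¹ * m * x.1.1.1.1) (hval x)
        simpa [mul_assoc] using this
      let ψ : {x // Φ x = z} → B := fun x =>
        ⟨g0.1⁻¹ * x.1.1.1, by
          have h00 := congrFun (congrFun (congrArg (fun m : SL k => (m : Matrix (Fin 2) (Fin 2) k)) (hconj x)) 0) 0
          simp only [sl_mul_apply, up_coe] at h00
          simp at h00
          rcases h00 with h00 | h00
          · exact absurd (by simpa using h00) t0.2
          · show (g0.1.1⁻¹ * x.1.1.1.1) 1 0 = 0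
            simp [sl_mul_apply]; exact h00⟩
      refine Nat.card_le_card_of_injective ψ fun x y hxy => ?_
      have hg : x.1.1 = y.1.1 := Subtype.ext (mul_left_cancel (congrArg Subtype.val hxy))
      have hx := hconj x
      rw [hg, ← hconj y] at hx
      have ht := congrFun (congrFun (congrArg (fun m : SL k => (m : Matrix (Fin 2) (Fin 2) k)) (mul_left_cancel hx)) 0) 1
      simp [up_coe] at ht
      exact Subtype.ext (Prod.ext hg (Subtype.ext ht))
    · have : IsEmpty {x // Φ x = z} := not_nonempty_iff.mp hne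
      simp
  have hcardΦ : Nat.card M * Nat.card T' ≤ Nat.card Ep * Nat.card B := by
    have := Fintype.ofFinite Ep
    rw [← Nat.card_prod, ← Nat.card_congr (Equiv.sigmaFiberEquiv Φ), Nat.card_sigma]
    refine (Finset.sum_le_sum fun z _ => hΦ z).trans ?_
    simp [Nat.card_eq_fintype_card (α := Ep)]
  -- the Borel subgroup
  have hTq : Nat.card T' + 1 = Nat.card T := by
    have := Fintype.ofFinite T
    rw [Nat.card_eq_fintype_card, Nat.card_eq_fintype_card, Fintype.card_subtype_compl,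
      Fintype.card_subtype_eq]
    have : 0 < Fintype.card T := Fintype.card_pos_iff.mpr ⟨0⟩
    omega
  let D : Set k := (fun g : H => (g : SL k) 0 0) '' B
  have hDfin : D.Finite := (Set.toFinite B).image _
  have hdiag : ∀ b : H, b ∈ B → (b : SL k) 0 0 * (b : SL k) 1 1 = 1 := fun b hb => by
    have := sl_det_eq (b : SL k)
    rw [show (b : SL k) 1 0 = 0 from hb] at this
    simpa using this
  have hsmul : ∀ a ∈ D, ∀ t ∈ T, a * a * t ∈ T := by
    rintro _ ⟨b, hb, rfl⟩ t ht
    show up _ ∈ H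
    have hd := hdiag b hb
    have hc : (b : SL k) 1 0 = 0 := hb
    convert H.mul_mem (H.mul_mem b.2 ht) (H.inv_mem b.2) using 1
    apply sl2_ext <;>
      simp [sl_mul_apply, up_coe, Matrix.SpecialLinearGroup.coe_inv, Matrix.adjugate_fin_two, hc, hd] <;>
      first | ring1 | linear_combination -hd
  have hB : Nat.card B ≤ Nat.card D * Nat.card T := by
    have : Finite D := hDfin.to_subtype
    choose sec hsecB hsec using fun a : D => a.2
    rw [← Nat.card_prod]
    have hmem : ∀ b : B, ((b : H) : SL k) 0 1 / (b.1 : SL k) 0 0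
        - (sec ⟨_, b.1, b.2, rfl⟩ : SL k) 0 1 / (b.1 : SL k) 0 0 ∈ T := by
      intro b
      set s := sec ⟨_, b.1, b.2, rfl⟩
      have hs : (s : SL k) 0 0 = (b.1 : SL k) 0 0 := hsec ⟨_, b.1, b.2, rfl⟩
      have hsB : (s : SL k) 1 0 = 0 := hsecB ⟨_, b.1, b.2, rfl⟩
      have hbB : (b.1 : SL k) 1 0 = 0 := b.2
      have hd := hdiag b.1 b.2
      have hd' := hdiag s (hsecB ⟨_, b.1, b.2, rfl⟩)
      change up _ ∈ H
      have hne : (b.1 : SL k) 0 0 ≠ 0 := left_ne_zero_of_mul_eq_one hd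
      have h11 : (b.1 : SL k) 1 1 = ((b.1 : SL k) 0 0)⁻¹ := eq_inv_of_mul_eq_one_right hd
      have h11' : (s : SL k) 1 1 = ((b.1 : SL k) 0 0)⁻¹ := by rw [← hs]; exact eq_inv_of_mul_eq_one_right hd'
      convert H.mul_mem (H.inv_mem s.2) b.1.2 using 1
      apply sl2_ext <;>
        simp [sl_mul_apply, up_coe, Matrix.SpecialLinearGroup.coe_inv, Matrix.adjugate_fin_two, hsB, hbB, hs, h11, h11'] <;>
        field_simp <;> ring1
    refine Nat.card_le_card_of_injective
      (fun b : B => ((⟨_, b.1, b.2, rfl⟩ : D), (⟨_, hmem b⟩ : T))) fun b b' h => ?_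
    have h00 : (b.1 : SL k) 0 0 = (b'.1 : SL k) 0 0 := congrArg (fun x => x.1.1) h
    have h01 := congrArg (fun x => x.2.1) h
    simp only at h01
    rw [show (⟨_, b.1, b.2, rfl⟩ : D) = ⟨_, b'.1, b'.2, rfl⟩ from Subtype.ext h00, h00] at h01
    have hne : (b'.1 : SL k) 0 0 ≠ 0 := left_ne_zero_of_mul_eq_one (hdiag b'.1 b'.2)
    field_simp at h01
    refine Subtype.ext (Subtype.ext (sl2_ext h00 (by linear_combination h01) (b.2.trans b'.2.symm) ?_))
    have := hdiag b.1 b.2
    exact mul_left_cancel₀ hne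
      (((congrArg (· * (b.1 : SL k) 1 1) h00.symm).trans this).trans (hdiag b'.1 b'.2).symm)
  let D2 : Set k := (fun a => a * a) '' D
  have hD2fin : D2.Finite := hDfin.image _
  have : Finite D2 := hD2fin.to_subtype
  have hDD2 : Nat.card D ≤ 2 * Nat.card D2 := by
    have : Finite D := hDfin.to_subtype
    choose r hr hr2 using fun c : D2 => c.2
    let pick : D2 × Bool → k := fun x => if x.2 then r x.1 else - r x.1
    have hsub : D ⊆ Set.range pick := by
      intro a ha
      have h := hr2 ⟨a * a, a, ha, rfl⟩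
      simp only at h
      rcases mul_self_eq_mul_self_iff.mp h with h | h
      · exact ⟨(⟨a * a, a, ha, rfl⟩, true), h⟩
      · exact ⟨(⟨a * a, a, ha, rfl⟩, false), by simp [pick, h]⟩
    calc Nat.card D ≤ Nat.card (Set.range pick) := Nat.card_mono (Set.finite_range pick) hsub
      _ ≤ Nat.card (D2 × Bool) := Nat.card_le_card_of_surjective _ Set.rangeFactorization_surjective
      _ = _ := by rw [Nat.card_prod]; simp [mul_comm]
  have hmemT' : ∀ c : D2, (c : k) ∈ T ∧ (c : k) ≠ 0 := by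
    rintro ⟨_, a, ha, rfl⟩
    refine ⟨by simpa using hsmul a ha 1 h1T, ?_⟩
    obtain ⟨b, hb, rfl⟩ := ha
    exact mul_ne_zero (left_ne_zero_of_mul_eq_one (hdiag b hb)) (left_ne_zero_of_mul_eq_one (hdiag b hb))
  let ι : D2 → T' := fun c => ⟨⟨c, (hmemT' c).1⟩, fun h => (hmemT' c).2 (congrArg Subtype.val h)⟩
  have hι : Function.Injective ι := fun c c' h => Subtype.ext (congrArg (fun x => x.1.1) h)
  have hD2 : Nat.card D2 ≤ Nat.card T' := Nat.card_le_card_of_injective ι hι
  have hMpos : 0 < Nat.card M := by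
    have : Nonempty M := ⟨⟨⟨low μ, hlow⟩, by simpa [M, low_coe] using hμ⟩⟩
    exact Nat.card_pos
  have hBpos : 0 < Nat.card B := by
    have : Nonempty B := ⟨⟨1, by simp [B]⟩⟩
    exact Nat.card_pos
  have hTpos : 0 < Nat.card T := Nat.card_pos
  have hEq1 : Nat.card B ≤ 2 * Nat.card T' * Nat.card T :=
    hB.trans (Nat.mul_le_mul_right _ (hDD2.trans (Nat.mul_le_mul_left _ hD2)))
  have hEq2 : Nat.card M * (2 * Nat.card T' * Nat.card T) ≤ (Nat.card Ep + Nat.card Ep) * Nat.card T * Nat.card B := by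
    calc Nat.card M * (2 * Nat.card T' * Nat.card T) = 2 * (Nat.card M * Nat.card T') * Nat.card T := by ring
      _ ≤ 2 * (Nat.card Ep * Nat.card B) * Nat.card T := by gcongr
      _ = _ := by ring
  have hB2 : Nat.card B = 2 * Nat.card T' * Nat.card T := by
    refine le_antisymm hEq1 (Nat.le_of_mul_le_mul_left (hEq2.trans ?_) hMpos)
    gcongr
  have hMeq : Nat.card M = (Nat.card Ep + Nat.card Ep) * Nat.card T := by
    refine le_antisymm (Nat.le_of_mul_le_mul_right (le_of_eq_of_le ?_ hEq2) hBpos) hcardF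
    rw [hB2]
  have hD2eq : Nat.card T' ≤ Nat.card D2 := by
    by_contra hlt
    have : 2 * Nat.card D2 * Nat.card T < 2 * Nat.card T' * Nat.card T := by
      apply Nat.mul_lt_mul_of_pos_right _ hTpos; omega
    exact absurd (hB.trans (Nat.mul_le_mul_right _ hDD2)) (by omega)
  have hιbij : Function.Bijective ι :=
    (Nat.bijective_iff_injective_and_card ι).mpr ⟨hι, le_antisymm hD2 hD2eq⟩
  -- `T` is closed under products and inverses
  have hTmul : ∀ s ∈ T, ∀ t ∈ T, s * t ∈ T := by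
    intro s hs t ht
    by_cases h0 : s = 0
    · simp [h0, T.zero_mem]
    obtain ⟨⟨c, a, ha, rfl⟩, hc⟩ := hιbij.2 ⟨⟨s, hs⟩, fun h => h0 (congrArg Subtype.val h)⟩
    have hs' : a * a = s := congrArg (fun x => x.1.1) hc
    rw [← hs']; exact hsmul a ha t ht
  have hTinv : ∀ s ∈ T, s ≠ 0 → s⁻¹ ∈ T := by
    intro s hs h0
    obtain ⟨⟨r, hr⟩, hr1⟩ := (Finite.injective_iff_surjective (f := fun r : T => (⟨s * r, hTmul s hs r r.2⟩ : T))).mp
      (fun r r' h => Subtype.ext (mul_left_cancel₀ h0 (congrArg Subtype.val h))) ⟨1, h1T⟩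
    rwa [inv_eq_of_mul_eq_one_right (congrArg Subtype.val hr1)]
  have hFbij : Function.Bijective F :=
    (Nat.bijective_iff_injective_and_card F).mpr ⟨hF, by rw [Nat.card_prod, Nat.card_sum, hE, hMeq]⟩
  have hcover : ∀ g ∈ H, g 1 0 ≠ 0 →
      ∃ t ∈ T, g 0 0 + g 1 1 + g 1 0 * t = 2 ∨ g 0 0 + g 1 1 + g 1 0 * t = -2 := by
    intro g hg hc
    obtain ⟨⟨e, t⟩, he⟩ := hFbij.2 ⟨⟨g, hg⟩, hc⟩
    refine ⟨-t.1, T.neg_mem t.2, ?_⟩
    have he' := congrArg (fun m : M => ((m : H) : SL k)) he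
    rcases e with e | e <;> simp only [F, Sum.elim_inl, Sum.elim_inr] at he' <;>
      rw [← hmultr g (-t.1), ← he', mul_assoc, ← up_add, add_neg_cancel, up_zero, mul_one]
    · exact .inl e.2.2
    · exact .inr e.2.2
  -- apply to `low μ * up 1 * low μ`
  have hlowtr : low μ 0 0 + low μ 1 1 = 2 := by simp [low_coe]; norm_num
  have h21 : ((-2 : ℤ) : k) ≠ 0 := by push_cast; exact neg_ne_zero.mpr h2
  set g := low μ * up 1 * low μ with hg
  have hgH : g ∈ H := H.mul_mem (H.mul_mem hlow hone) hlow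
  have hgc : g 1 0 = μ * (2 + μ) := by simp [hg, sl_mul_apply, up_coe, low_coe]; ring
  have hgt : g 0 0 + g 1 1 = 2 + 2 * μ := by simp [hg, sl_mul_apply, up_coe, low_coe]; ring
  by_cases hμ2 : 2 + μ = 0
  · exact noPair hlow hlowtr h1T h21 (by simp [low_coe]; linear_combination hμ2)
  obtain ⟨t, ht, hcase⟩ := hcover g hgH (by rw [hgc]; exact mul_ne_zero hμ hμ2)
  rw [hgt, hgc] at hcase
  rcases hcase with h | h
  · have h1t : 1 + t ≠ 0 := fun h0 => hμ (mul_self_eq_zero.mp (by linear_combination -h + μ * (2 + μ) * h0))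
    have e : 2 + 2 * t + μ * t = 0 := by
      rcases mul_eq_zero.mp (show μ * (2 + 2 * t + μ * t) = 0 by linear_combination h) with h' | h'
      · exact absurd h' hμ
      · exact h'
    refine noPair hlow hlowtr (hTmul t ht _ (hTinv _ (T.add_mem h1T ht) h1t)) h21 ?_
    simp [low_coe]
    field_simp
    linear_combination e
  · rcases mul_eq_zero.mp (show (2 + μ) * (2 + μ * t) = 0 by linear_combination h) with h' | h'
    · exact absurd h' hμ2
    · exact noPair hlow hlowtr ht h21 (by simp [low_coe]; linear_combination h')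

end

theorem closure_up_low (p : ℕ) [Fact p.Prime] {r : ZMod p} (hr : r ≠ 0) :
    Subgroup.closure {up (1 : ZMod p), low r} = ⊤ := by
  refine Cfsg.Agent.Linear.eq_top_of_transvection_mem fun i j hij c => ?_
  set S := Subgroup.closure {up (1 : ZMod p), low r}
  have hu : ∀ c : ZMod p, up c ∈ S := fun c => by
    have := S.pow_mem (Subgroup.subset_closure (Set.mem_insert _ _) : up (1 : ZMod p) ∈ S) c.val
    rwa [up_pow, ZMod.natCast_zmod_val, mul_one] at this
  have hl : ∀ c : ZMod p, low c ∈ S := fun c => by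
    have := S.pow_mem (Subgroup.subset_closure (Set.mem_insert_of_mem _ rfl) : low r ∈ S) (c / r).val
    rwa [low_pow, ZMod.natCast_zmod_val, div_mul_cancel₀ c hr] at this
  match i, j, hij with
  | 0, 0, h => exact absurd rfl h
  | 1, 1, h => exact absurd rfl h
  | 0, 1, h =>
    convert hu c
    apply sl2_ext <;> simp [up_coe, Matrix.SpecialLinearGroup.transvection_coe]
  | 1, 0, h =>
    convert hl c
    apply sl2_ext <;> simp [low_coe, Matrix.SpecialLinearGroup.transvection_coe]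

/-- Main result: `H` contains a `GL₂(k)`-conjugate of `SL₂(p)`. -/
theorem exists_conj_SL2_le {p : ℕ} [Fact p.Prime] [CharP k p] (hp : p ≠ 2) (H : Subgroup (SL k))
    [Finite H] (hone : up 1 ∈ H) {μ : k} (hμ : μ ≠ 0) (hlow : low μ ∈ H) :
    ∃ C : Matrix (Fin 2) (Fin 2) k, C.det ≠ 0 ∧ ∀ X : SL (ZMod p), ∃ g ∈ H,
      (g : Matrix (Fin 2) (Fin 2) k) * C = C * (X : Matrix (Fin 2) (Fin 2) (ZMod p)).map (ZMod.castHom dvd_rfl k) := by
  -- adjoin `-1`
  let H' : Subgroup (SL k) :=
    { carrier := {g | g ∈ H ∨ -g ∈ H}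
      one_mem' := Or.inl H.one_mem
      mul_mem' := by
        rintro a b (ha | ha) (hb | hb)
        · exact .inl (H.mul_mem ha hb)
        · exact .inr (by simpa using H.mul_mem ha hb)
        · exact .inr (by simpa using H.mul_mem ha hb)
        · exact .inl (by simpa using H.mul_mem ha hb)
      inv_mem' := by
        rintro a (ha | ha)
        · exact .inl (H.inv_mem ha)
        · refine .inr ?_
          convert H.inv_mem ha using 1
          exact eq_inv_of_mul_eq_one_left (by simp) }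
  have : Finite H' := by
    have : Finite (H ⊕ H) := inferInstance
    refine Finite.of_surjective (fun x : H ⊕ H =>
      x.elim (fun h => (⟨h.1, .inl h.2⟩ : H')) (fun h => ⟨-h.1, .inr (by simp)⟩)) ?_
    rintro ⟨g, hg | hg⟩
    · exact ⟨.inl ⟨g, hg⟩, rfl⟩
    · exact ⟨.inr ⟨-g, hg⟩, by simp⟩
  obtain ⟨g, hg, htr, t, ht, r, hr, hct⟩ :=
    hasLinkedPair_of_mem (p := p) H' hp (.inl hone) (.inr (by simp [H.one_mem])) hμ (.inl hlow)
  set φ := ZMod.castHom dvd_rfl k (n := p) with hφ
  have hpodd : Odd p := (Fact.out : p.Prime).odd_of_ne_two hp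
  have hmemH : ∀ u : SL k, u ∈ H' → u ^ p = 1 → u ∈ H := by
    rintro u (hu | hu) hup
    · exact hu
    · have h1 := H.pow_mem hu p
      rw [hpodd.neg_pow, hup] at h1
      simpa using H.mul_mem h1 hu
  have hpk : (p : k) = 0 := CharP.cast_eq_zero k p
  have hupH : up t ∈ H := hmemH _ ht (by rw [up_pow, hpk, zero_mul, up_zero])
  have hφr : φ r ≠ 0 := fun h => hr (φ.injective (by rw [h, map_zero]))
  have hc : g 1 0 ≠ 0 := fun h => hφr (by rw [← hct, h, zero_mul])
  have ht0 : t ≠ 0 := fun h => hφr (by rw [← hct, h, mul_zero])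
  set s0 := (g 0 0 - 1) / g 1 0 with hs0
  have hgconj : g * up s0 = up s0 * low (g 1 0) := by
    have hd := sl_det_eq g
    apply sl2_ext <;> simp [sl_mul_apply, up_coe, low_coe, hs0]
    · field_simp; ring
    · field_simp; linear_combination -hd + g 0 0 * htr
    · field_simp; linear_combination htr
  have hgH : g ∈ H := by
    refine hmemH g hg ?_
    have h1 : g = up s0 * low (g 1 0) * (up s0)⁻¹ := eq_mul_inv_of_mul_eq hgconj
    rw [h1, conj_pow, low_pow, hpk, zero_mul, low_zero, mul_one, mul_inv_cancel]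
  let C : Matrix (Fin 2) (Fin 2) k := (up s0 : Matrix (Fin 2) (Fin 2) k) * !![t, 0; 0, 1]
  refine ⟨C, by simp [C, up_coe, Matrix.det_fin_two, ht0], fun X => ?_⟩
  let S : Subgroup (SL (ZMod p)) :=
    { carrier := {X | ∃ g ∈ H, (g : Matrix (Fin 2) (Fin 2) k) * C = C * (X : Matrix (Fin 2) (Fin 2) (ZMod p)).map φ}
      one_mem' := ⟨1, H.one_mem, by simp⟩
      mul_mem' := by
        rintro X Y ⟨a, ha, hX⟩ ⟨b, hb, hY⟩
        refine ⟨a * b, H.mul_mem ha hb, ?_⟩
        rw [Matrix.SpecialLinearGroup.coe_mul, mul_assoc, hY, ← mul_assoc, hX,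
          Matrix.SpecialLinearGroup.coe_mul, Matrix.map_mul, mul_assoc]
      inv_mem' := by
        rintro X ⟨a, ha, hX⟩
        refine ⟨a⁻¹, H.inv_mem ha, ?_⟩
        have h1 : (X : Matrix (Fin 2) (Fin 2) (ZMod p)).map φ * (X⁻¹ : SL (ZMod p)).1.map φ = 1 := by
          rw [← Matrix.map_mul, ← Matrix.SpecialLinearGroup.coe_mul, mul_inv_cancel]; simp
        have h2 : (a⁻¹ : SL k).1 * a.1 = 1 := by
          rw [← Matrix.SpecialLinearGroup.coe_mul, inv_mul_cancel]; rfl
        calc (a⁻¹ : SL k).1 * C = (a⁻¹ : SL k).1 * (C * (X.1.map φ * (X⁻¹ : SL (ZMod p)).1.map φ)) := by rw [h1, mul_one]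
          _ = (a⁻¹ : SL k).1 * a.1 * C * (X⁻¹ : SL (ZMod p)).1.map φ := by rw [← mul_assoc C, ← hX]; simp [mul_assoc]
          _ = _ := by rw [h2, one_mul] }
  have hS : Subgroup.closure {up (1 : ZMod p), low r} ≤ S := by
    refine (Subgroup.closure_le _).mpr ?_
    rintro x (rfl | rfl)
    · refine ⟨up t, hupH, ?_⟩
      ext i j; fin_cases i <;> fin_cases j <;> simp [C, up_coe, Matrix.mul_apply, Fin.sum_univ_two] <;> ring
    · refine ⟨g, hgH, ?_⟩
      rw [show C = (up s0).1 * !![t, 0; 0, 1] from rfl, ← mul_assoc, ← Matrix.SpecialLinearGroup.coe_mul, hgconj,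
        Matrix.SpecialLinearGroup.coe_mul, mul_assoc, mul_assoc]
      congr 1
      ext i j; fin_cases i <;> fin_cases j <;> simp [low_coe, Matrix.mul_apply, Fin.sum_univ_two, ← hφ, ← hct]
  exact hS ((closure_up_low p hr).symm ▸ Subgroup.mem_top X)

end Cfsg.Agent.Thompson
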