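import Mathlib
import Cfsg.Agent.Thompson.SL2

/-!
Two quadratically acting generators: either the image is a `p`-group, or there is an invariant
subgroup of order `p²` ... realised as the natural module for a subgroup mapping onto `SL₂(p)`.
-/

set_option autoImplicit false

namespace Cfsg.Agent.Thompson

open Matrix

local notation "SL" => Matrix.SpecialLinearGroup (Fin 2)

variable {p : ℕ} [Fact p.Prime] {H : Type*} [Group H] {V : Type*} [AddCommGroup V]

theorem end_mul_apply (f g : AddMonoid.End V) (v : V) : (f * g) v = f (g v) := rfl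

theorem end_sub_apply (f g : AddMonoid.End V) (v : V) : (f - g) v = f v - g v := rfl

theorem end_add_apply (f g : AddMonoid.End V) (v : V) : (f + g) v = f v + g v := rfl

theorem end_one_apply (v : V) : (1 : AddMonoid.End V) v = v := rfl

theorem end_nsmul_one_apply : ∀ (n : ℕ) (v : V), ((n : AddMonoid.End V)) v = n • v
  | 0, v => by simp
  | n + 1, v => by
    rw [Nat.cast_succ, end_add_apply, end_nsmul_one_apply n v, succ_nsmul, end_one_apply]

theorem end_charP [Nontrivial V] (hV : ∀ v : V, p • v = 0) : CharP (AddMonoid.End V) p := by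
  have : Nontrivial (AddMonoid.End V) := by
    obtain ⟨v, hv⟩ := exists_ne (0 : V)
    exact ⟨1, 0, fun h => hv (congrArg (fun f : AddMonoid.End V => f v) h)⟩
  have h0 : (p : AddMonoid.End V) = 0 := AddMonoidHom.ext fun v =>
    (end_nsmul_one_apply p v).trans (hV v)
  exact ringChar.of_eq (CharP.ringChar_of_prime_eq_zero Fact.out h0)

/-- iterated common kernel of two endomorphisms -/
def fixSeries (A B : AddMonoid.End V) : ℕ → AddSubgroup V
  | 0 => ⊥
  | n + 1 => (fixSeries A B n).comap A ⊓ (fixSeries A B n).comap B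

/-- image of an endomorphism -/
def endImage (f : AddMonoid.End V) : AddSubgroup V := AddMonoidHom.range f

theorem mem_endImage {f : AddMonoid.End V} {v : V} : v ∈ endImage f ↔ ∃ w, f w = v := Iff.rfl

theorem endo_induction {a b : H} (hab : Subgroup.closure {a, b} = ⊤)
    (ρ : H →* AddMonoid.End V) {P : AddMonoid.End V → Prop} (one : P 1)
    (mul : ∀ f g, P f → P g → P (f * g)) (ha : P (ρ a)) (ha' : P (ρ a⁻¹)) (hb : P (ρ b))
    (hb' : P (ρ b⁻¹)) (h : H) : P (ρ h) := by
  have hh : h ∈ Subgroup.closure {a, b} := hab ▸ Subgroup.mem_top h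
  induction hh using Subgroup.closure_induction'' with
  | one => simpa using one
  | mem x hx => rcases hx with rfl | rfl <;> assumption
  | inv_mem x hx => rcases hx with rfl | rfl <;> assumption
  | mul x y _ _ hx hy => rw [map_mul]; exact mul _ _ hx hy

theorem inv_of_sq_zero {a : H} (ρ : H →* AddMonoid.End V) (h : (ρ a - 1) * (ρ a - 1) = 0) :
    ρ a⁻¹ = 1 - (ρ a - 1) := by
  have h1 : ρ a * (1 - (ρ a - 1)) = 1 := by
    calc ρ a * (1 - (ρ a - 1)) = 1 - (ρ a - 1) * (ρ a - 1) := by noncomm_ring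
      _ = 1 := by rw [h, sub_zero]
  calc ρ a⁻¹ = ρ a⁻¹ * (ρ a * (1 - (ρ a - 1))) := by rw [h1, mul_one]
    _ = _ := by rw [← mul_assoc, ← map_mul, inv_mul_cancel, map_one, one_mul]

/-- Two elements acting quadratically: if the group they generate does not act as a `p`-group, the
pair `(A, B) = (a-1, b-1)` has a non-nilpotent `AB + BA`. -/
theorem exists_pow_apply_ne_zero [Finite V] (hV : ∀ v : V, p • v = 0) (ρ : H →* AddMonoid.End V)
    {a b : H} (hab : Subgroup.closure {a, b} = ⊤) (hA : (ρ a - 1) * (ρ a - 1) = 0)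
    (hB : (ρ b - 1) * (ρ b - 1) = 0) (hnp : ¬ ∀ h : H, ∃ n : ℕ, ρ h ^ p ^ n = 1) :
    ∃ u : V, ∀ n : ℕ, (((ρ a - 1) * (ρ b - 1) + (ρ b - 1) * (ρ a - 1)) ^ n) u ≠ 0 := by
  by_contra hcon
  push Not at hcon
  refine hnp fun h => ?_
  set A := ρ a - 1 with hAdef
  set B := ρ b - 1 with hBdef
  set z := A * B + B * A with hz
  have hAA : ∀ v, A (A v) = 0 := fun v => by rw [← end_mul_apply, hA]; rfl
  have hBB : ∀ v, B (B v) = 0 := fun v => by rw [← end_mul_apply, hB]; rfl
  have hzv : ∀ v, z v = A (B v) + B (A v) := fun v => by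
    rw [hz, end_add_apply, end_mul_apply, end_mul_apply]
  have hzA : ∀ v, z (A v) = A (z v) := fun v => by rw [hzv, hzv, hAA, map_zero, add_zero, map_add, hAA, zero_add]
  have hzB : ∀ v, z (B v) = B (z v) := fun v => by rw [hzv, hzv, hBB, map_zero, zero_add, map_add, hBB, add_zero]
  -- the series of iterated common fixed points
  let W : ℕ → AddSubgroup V := fixSeries A B
  have hWs : ∀ n v, v ∈ W (n + 1) ↔ A v ∈ W n ∧ B v ∈ W n := fun n v => Iff.rfl
  have hWmono : ∀ n, W n ≤ W (n + 1) := by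
    intro n
    induction n with
    | zero => exact bot_le
    | succ n ih => exact fun v hv => (hWs _ _).mpr ⟨ih ((hWs _ _).mp hv).1, ih ((hWs _ _).mp hv).2⟩
  have hAW : ∀ n v, v ∈ W n → A v ∈ W n := fun n v hv => by
    cases n with
    | zero => rw [(AddSubgroup.mem_bot.mp hv : v = 0), map_zero]; exact zero_mem _
    | succ n => exact hWmono n ((hWs _ _).mp hv).1
  have hBW : ∀ n v, v ∈ W n → B v ∈ W n := fun n v hv => by
    cases n with
    | zero => rw [(AddSubgroup.mem_bot.mp hv : v = 0), map_zero]; exact zero_mem _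
    | succ n => exact hWmono n ((hWs _ _).mp hv).2
  have hzW : ∀ n v, v ∈ W n → z v ∈ W n := fun n v hv => by
    rw [hzv]; exact add_mem (hAW _ _ (hBW _ _ hv)) (hBW _ _ (hAW _ _ hv))
  have hgrow : ∀ n, W n ≠ ⊤ → W n < W (n + 1) := by
    intro n hn
    obtain ⟨v, hv⟩ : ∃ v, v ∉ W n := by
      by_contra hall
      push Not at hall
      exact hn (top_le_iff.mp fun x _ => hall x)
    classical
    obtain ⟨m, hm⟩ := hcon v
    have hex : ∃ m, (z ^ m) v ∈ W n := ⟨m, by rw [hm]; exact zero_mem _⟩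
    have hpos : Nat.find hex ≠ 0 := fun h0 => hv (by
      have := Nat.find_spec hex; rwa [h0, pow_zero, end_one_apply] at this)
    obtain ⟨j, hj⟩ := Nat.exists_eq_succ_of_ne_zero hpos
    set u := (z ^ j) v with hu
    have hu1 : u ∉ W n := fun hh => Nat.find_min hex (by omega) hh
    have hu2 : z u ∈ W n := by
      have := Nat.find_spec hex
      rwa [hj, pow_succ', end_mul_apply] at this
    obtain ⟨w, hw1, hw2, hw3⟩ : ∃ w, w ∉ W n ∧ A w ∈ W n ∧ z w ∈ W n := by
      by_cases hA1 : A u ∈ W n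
      · exact ⟨u, hu1, hA1, hu2⟩
      · exact ⟨A u, hA1, by rw [hAA]; exact zero_mem _, by rw [hzA]; exact hAW _ _ hu2⟩
    refine lt_of_le_of_ne (hWmono n) fun heq => ?_
    by_cases hB1 : B w ∈ W n
    · exact hw1 (heq ▸ (hWs _ _).mpr ⟨hw2, hB1⟩)
    · refine hB1 (heq ▸ (hWs _ _).mpr ⟨?_, by rw [hBB]; exact zero_mem _⟩)
      have := sub_mem hw3 (hBW _ _ hw2)
      rwa [hzv, add_sub_cancel_right] at this
  obtain ⟨N, hN⟩ : ∃ N, W N = ⊤ := by
    by_contra hne
    push Not at hne
    exact (Finite.exists_ne_map_eq_of_infinite W).elim fun i ⟨j, hij, he⟩ =>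
      hij ((strictMono_nat_of_lt_succ fun n => hgrow n (hne n)).injective he)
  -- every element stabilises the series
  let S : AddMonoid.End V → Prop := fun f => ∀ n v, v ∈ W (n + 1) → (f - 1) v ∈ W n
  have hS : S (ρ h) := by
    refine endo_induction hab ρ (P := S) ?_ ?_ ?_ ?_ ?_ ?_ h
    · intro n v _; simp
    · intro f g hf hg n v hv
      have e : (f * g - 1) v = (f - 1) v + (g - 1) v + (f - 1) ((g - 1) v) := by
        rw [show f * g - 1 = (f - 1) + (g - 1) + (f - 1) * (g - 1) by noncomm_ring,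
          end_add_apply, end_add_apply, end_mul_apply]
      rw [e]
      exact add_mem (add_mem (hf n v hv) (hg n v hv)) (hf n _ (hWmono n (hg n v hv)))
    · exact fun n v hv => ((hWs _ _).mp hv).1
    · intro n v hv
      rw [inv_of_sq_zero ρ hA, show (1 - A) - 1 = -A by abel]
      exact neg_mem ((hWs _ _).mp hv).1
    · exact fun n v hv => ((hWs _ _).mp hv).2
    · intro n v hv
      rw [inv_of_sq_zero ρ hB, show (1 - B) - 1 = -B by abel]
      exact neg_mem ((hWs _ _).mp hv).2
  have hnil : ∀ i n v, v ∈ W (n + i) → ((ρ h - 1) ^ i) v ∈ W n := by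
    intro i
    induction i with
    | zero => intro n v hv; simpa using hv
    | succ i ih => intro n v hv; rw [pow_succ]; exact ih n _ (hS _ v hv)
  have hN0 : (ρ h - 1) ^ N = 0 := by
    refine AddMonoidHom.ext fun v => ?_
    have := hnil N 0 v (by rw [zero_add, hN]; exact trivial)
    exact AddSubgroup.mem_bot.mp this
  refine ⟨N, ?_⟩
  rcases subsingleton_or_nontrivial V with hsub | hnt
  · exact AddMonoidHom.ext fun v => Subsingleton.elim _ _
  have : CharP (AddMonoid.End V) p := end_charP hV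
  have hle : N ≤ p ^ N := (Nat.lt_pow_self (Fact.out : p.Prime).one_lt).le
  have := sub_pow_char_pow_of_commute (p := p) (n := N) (Commute.one_right (ρ h))
  rw [one_pow, ← Nat.sub_add_cancel hle, pow_add, hN0, mul_zero, Nat.sub_add_cancel hle] at this
  exact sub_eq_zero.mp this.symm

theorem exists_natural_module_of_pow_apply_ne_zero [Finite V] (hp : p ≠ 2) (hV : ∀ v : V, p • v = 0)
    (ρ : H →* AddMonoid.End V) {a b : H} (hab : Subgroup.closure {a, b} = ⊤)
    (hA : (ρ a - 1) * (ρ a - 1) = 0) (hB : (ρ b - 1) * (ρ b - 1) = 0) {u : V}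
    (hu : ∀ n : ℕ, (((ρ a - 1) * (ρ b - 1) + (ρ b - 1) * (ρ a - 1)) ^ n) u ≠ 0) :
    ∃ f : (Fin 2 → ZMod p) →+ V, Function.Injective f ∧ ∀ X : SL (ZMod p), ∃ h : H,
      ∀ v, ρ h (f v) = f ((X : Matrix (Fin 2) (Fin 2) (ZMod p)) *ᵥ v) := by
  classical
  set A := ρ a - 1 with hAdef
  set B := ρ b - 1 with hBdef
  set z := A * B + B * A with hz
  have hAA : ∀ v, A (A v) = 0 := fun v => by rw [← end_mul_apply, hA]; rfl
  have hBB : ∀ v, B (B v) = 0 := fun v => by rw [← end_mul_apply, hB]; rfl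
  have hzv : ∀ v, z v = A (B v) + B (A v) := fun v => by
    rw [hz, end_add_apply, end_mul_apply, end_mul_apply]
  have hzA : ∀ v, z (A v) = A (z v) := fun v => by rw [hzv, hzv, hAA, map_zero, add_zero, map_add, hAA, zero_add]
  have hzB : ∀ v, z (B v) = B (z v) := fun v => by rw [hzv, hzv, hBB, map_zero, zero_add, map_add, hBB, add_zero]
  -- the stable image of `z`
  have hzpA : ∀ n v, (z ^ n) (A v) = A ((z ^ n) v) := fun n => by
    induction n with
    | zero => intro v; rfl
    | succ n ih => intro v; rw [pow_succ', AddMonoid.End.coe_mul]; simp only [Function.comp_apply]; rw [ih, hzA]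
  have hzpB : ∀ n v, (z ^ n) (B v) = B ((z ^ n) v) := fun n => by
    induction n with
    | zero => intro v; rfl
    | succ n ih => intro v; rw [pow_succ', AddMonoid.End.coe_mul]; simp only [Function.comp_apply]; rw [ih, hzB]
  have hanti : ∀ n, endImage (z ^ (n + 1)) ≤ endImage (z ^ n) := by
    rintro n _ ⟨v, rfl⟩; exact ⟨z v, ((congrArg (fun f : AddMonoid.End V => f v) (pow_succ z n)).trans (end_mul_apply _ _ v)).symm⟩
  obtain ⟨N, hNst⟩ : ∃ N, endImage (z ^ (N + 1)) = endImage (z ^ N) := by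
    by_contra hne
    push Not at hne
    exact (Finite.exists_ne_map_eq_of_infinite fun n : ℕ => (endImage (z ^ n))).elim fun i ⟨j, hij, he⟩ =>
      hij ((strictAnti_nat_of_succ_lt (f := fun n : ℕ => endImage (z ^ n)) fun n =>
        lt_of_le_of_ne (hanti n) (hne n)).injective he)
  set V1 := endImage (z ^ N) with hV1
  have hV1inj : ∀ v ∈ V1, z v = 0 → v = 0 := by
    have hmem : ∀ v ∈ V1, z v ∈ V1 := by
      rintro _ ⟨w, rfl⟩
      exact ⟨z w, (end_mul_apply _ _ w).symm.trans
        ((congrArg (fun f : AddMonoid.End V => f w) (Commute.pow_self z N).eq).trans (end_mul_apply _ _ w))⟩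
    let zr : V1 → V1 := fun v => ⟨z v, hmem v v.2⟩
    have hsur : Function.Surjective zr := by
      rintro ⟨v, hv⟩
      obtain ⟨w, rfl⟩ : v ∈ endImage (z ^ (N + 1)) := hNst.ge hv
      exact ⟨⟨(z ^ N) w, w, rfl⟩, Subtype.ext
        ((congrArg (fun f : AddMonoid.End V => f w) (pow_succ' z N)).trans (end_mul_apply _ _ w)).symm⟩
    intro v hv h0
    exact congrArg Subtype.val (Finite.injective_iff_surjective.mpr hsur
      (a₁ := ⟨v, hv⟩) (a₂ := 0) (Subtype.ext (h0.trans (map_zero z).symm)))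
  -- a minimal invariant subgroup of the stable image
  let Inv : AddSubgroup V → Prop := fun U => U ≠ ⊥ ∧ U ≤ V1 ∧ ∀ v ∈ U, A v ∈ U ∧ B v ∈ U
  obtain ⟨U, hU⟩ : ∃ U, Minimal Inv U := by
    refine Set.Finite.exists_minimal (Set.toFinite {U | Inv U}) ⟨V1, ?_, le_rfl, ?_⟩
    · intro hbot
      have := hbot.le ⟨u, rfl⟩
      exact hu N (AddSubgroup.mem_bot.mp this)
    · rintro _ ⟨w, rfl⟩
      exact ⟨⟨A w, hzpA N w⟩, ⟨B w, hzpB N w⟩⟩
  obtain ⟨⟨hU0, hUV1, hUAB⟩, hUmin⟩ := hU
  have hUmin' : ∀ U' ≤ U, U' ≠ ⊥ → (∀ v ∈ U', A v ∈ U' ∧ B v ∈ U') → U' = U :=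
    fun U' hle h0 hinv => le_antisymm hle (hUmin ⟨h0, hle.trans hUV1, hinv⟩ hle)
  let AU : AddMonoid.End U := AddMonoidHom.codRestrict (A.comp U.subtype) U fun v => (hUAB v v.2).1
  let BU : AddMonoid.End U := AddMonoidHom.codRestrict (B.comp U.subtype) U fun v => (hUAB v v.2).2
  have hAU : ∀ v : U, ((AU v : U) : V) = A v := fun _ => rfl
  have hBU : ∀ v : U, ((BU v : U) : V) = B v := fun _ => rfl
  let zU : AddMonoid.End U := AU * BU + BU * AU
  have hzU : ∀ v : U, ((zU v : U) : V) = z v := fun _ => rfl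
  have hcA : Commute zU AU := AddMonoidHom.ext fun v => Subtype.ext (hzA v)
  have hcB : Commute zU BU := AddMonoidHom.ext fun v => Subtype.ext (hzB v)
  let K := Subring.closure ({zU} : Set (AddMonoid.End U))
  have hK : ∀ x ∈ K, Commute x AU ∧ Commute x BU := fun x hx => by
    induction hx using Subring.closure_induction with
    | mem x hx => rw [Set.mem_singleton_iff.mp hx]; exact ⟨hcA, hcB⟩
    | zero => exact ⟨Commute.zero_left _, Commute.zero_left _⟩
    | one => exact ⟨Commute.one_left _, Commute.one_left _⟩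
    | add x y _ _ h1 h2 => exact ⟨h1.1.add_left h2.1, h1.2.add_left h2.2⟩
    | neg x _ h1 => exact ⟨h1.1.neg_left, h1.2.neg_left⟩
    | mul x y _ _ h1 h2 => exact ⟨h1.1.mul_left h2.1, h1.2.mul_left h2.2⟩
  have hinj : ∀ x : K, x ≠ 0 → ∀ v : U, x.1 v = 0 → v = 0 := by
    intro x hx v hv
    by_contra hv0
    let U' : AddSubgroup V := (AddMonoidHom.ker (x.1 : U →+ U)).map U.subtype
    have hU' : U' = U := by
      refine hUmin' U' ?_ ?_ ?_
      · rintro _ ⟨w, _, rfl⟩; exact w.2
      · intro hb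
        exact hv0 (Subtype.ext (AddSubgroup.mem_bot.mp (hb ▸ (⟨v, hv, rfl⟩ : (v : V) ∈ U'))))
      · rintro _ ⟨w, hw, rfl⟩
        have hw' : x.1 w = 0 := hw
        refine ⟨⟨AU w, ?_, rfl⟩, ⟨BU w, ?_, rfl⟩⟩
        · show x.1 (AU w) = 0
          rw [← end_mul_apply, (hK _ x.2).1.eq, end_mul_apply, hw', map_zero]
        · show x.1 (BU w) = 0
          rw [← end_mul_apply, (hK _ x.2).2.eq, end_mul_apply, hw', map_zero]
    refine hx (Subtype.ext (AddMonoidHom.ext fun w => ?_))
    obtain ⟨w', hw', hww⟩ := (hU'.ge w.2 : (w : V) ∈ U')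
    rw [show w = w' from Subtype.ext hww.symm]
    exact hw'
  obtain ⟨v0, hv0⟩ : ∃ v : U, v ≠ 0 := by
    have := U.nontrivial_iff_ne_bot.mpr hU0
    exact exists_ne 0
  letI : CommRing K := Subring.closureCommRingOfComm (by intro x hx y hy; rw [hx, hy])
  have : Nontrivial K := ⟨0, 1, fun h => hv0 (congrArg (fun x : K => x.1 v0) h).symm⟩
  have : NoZeroDivisors K := ⟨fun {x y} hxy => by
    by_cases hx : x = 0
    · exact .inl hx
    · refine .inr (Subtype.ext (AddMonoidHom.ext fun v => hinj x hx _ ?_))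
      exact congrArg (fun w : K => w.1 v) hxy⟩
  have : IsDomain K := NoZeroDivisors.to_isDomain K
  have : Finite (AddMonoid.End U) := Finite.of_injective (fun f : AddMonoid.End U => (f : U → U)) DFunLike.coe_injective
  letI : Field K := (Finite.isField_of_domain K).toField
  have : Nontrivial U := ⟨v0, 0, hv0⟩
  have hU' : CharP (AddMonoid.End U) p := end_charP fun v => Subtype.ext (by simpa using hV v)
  have : CharP K p := RingHom.charP K.subtype Subtype.val_injective p
  let μ : K := ⟨zU, Subring.subset_closure rfl⟩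
  have hμ : μ ≠ 0 := fun h => hv0 (Subtype.ext (hV1inj _ (hUV1 v0.2)
    (congrArg Subtype.val (congrArg (fun x : K => x.1 v0) h))))
  -- a fixed vector of `a` and its partner
  obtain ⟨u0, hu0, hAu0⟩ : ∃ u0 : U, u0 ≠ 0 ∧ AU u0 = 0 := by
    by_cases h : AU v0 = 0
    · exact ⟨v0, hv0, h⟩
    · exact ⟨AU v0, h, Subtype.ext (hAA v0)⟩
  let e0 : U := μ.1 u0
  let e1 : U := BU u0
  have hzu : A (B u0) = z u0 := by
    rw [hzv, show A u0 = 0 from congrArg Subtype.val hAu0, map_zero, add_zero]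
  have hAe0 : AU e0 = 0 := Subtype.ext (by
    show A (z u0) = 0
    rw [← hzA, show A u0 = 0 from congrArg Subtype.val hAu0, map_zero])
  have hAe1 : AU e1 = e0 := Subtype.ext hzu
  have hBe0 : BU e0 = μ.1 e1 := Subtype.ext (hzB u0).symm
  have hBe1 : BU e1 = 0 := Subtype.ext (hBB u0)
  let φ : (Fin 2 → K) →+ U :=
    { toFun := fun v => (v 0).1 e0 + (v 1).1 e1
      map_zero' := by simp
      map_add' := fun v w => by
        simp only [Pi.add_apply, Subring.coe_add, end_add_apply]; abel }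
  have hAφ : ∀ v, AU (φ v) = φ ![v 1, 0] := fun v => by
    show AU ((v 0).1 e0 + (v 1).1 e1) = (v 1).1 e0 + (0 : K).1 e1
    rw [map_add, ← end_mul_apply AU, ← (hK _ (v 0).2).1.eq, end_mul_apply, hAe0, map_zero,
      ← end_mul_apply AU, ← (hK _ (v 1).2).1.eq, end_mul_apply, hAe1]
    simp
  have hBφ : ∀ v, BU (φ v) = φ ![0, μ * v 0] := fun v => by
    show BU ((v 0).1 e0 + (v 1).1 e1) = (0 : K).1 e0 + (μ * v 0).1 e1
    rw [map_add, ← end_mul_apply BU, ← (hK _ (v 0).2).2.eq, end_mul_apply, hBe0,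
      ← end_mul_apply BU, ← (hK _ (v 1).2).2.eq, end_mul_apply, hBe1, mul_comm μ]
    simp
  have hφinj : Function.Injective φ := by
    rw [injective_iff_map_eq_zero]
    intro v hv
    have he1 : e1 ≠ 0 := fun h => by
      apply hu0
      have hz0 : μ.1 u0 = 0 := by show e0 = 0; rw [← hAe1, h, map_zero]
      exact hinj μ hμ u0 hz0
    have he0 : e0 ≠ 0 := fun h => hu0 (hinj μ hμ u0 h)
    have h1 : v 1 = 0 := by
      by_contra h1
      have := hAφ v
      rw [hv, map_zero] at this
      refine he0 (hinj _ h1 _ ?_)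
      change (0 : U) = (v 1).1 e0 + (0 : K).1 e1 at this
      simpa using this.symm
    have h0 : v 0 = 0 := by
      by_contra h0
      refine he0 (hinj _ h0 _ ?_)
      change (v 0).1 e0 + (v 1).1 e1 = 0 at hv
      simpa [h1] using hv
    funext i; fin_cases i <;> assumption
  -- the subgroup of `SL₂(K)` induced by `H`
  let ιV : (Fin 2 → K) →+ V := U.subtype.comp φ
  have hιinj : Function.Injective ιV := Subtype.val_injective.comp hφinj
  let HS : Subgroup (SL K) :=
    { carrier := {M | ∃ h : H, ∀ v, ρ h (ιV v) = ιV (M.1 *ᵥ v)}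
      one_mem' := ⟨1, fun v => by simp⟩
      mul_mem' := by
        rintro M M' ⟨h, hh⟩ ⟨h', hh'⟩
        exact ⟨h * h', fun v => by
          rw [map_mul, end_mul_apply, hh', hh, Matrix.mulVec_mulVec, Matrix.SpecialLinearGroup.coe_mul]⟩
      inv_mem' := by
        rintro M ⟨h, hh⟩
        refine ⟨h⁻¹, fun v => ?_⟩
        have h1 : ρ h (ιV ((M⁻¹ : SL K).1 *ᵥ v)) = ιV v := by
          rw [hh, Matrix.mulVec_mulVec, ← Matrix.SpecialLinearGroup.coe_mul, mul_inv_cancel,
            Matrix.SpecialLinearGroup.coe_one, Matrix.one_mulVec]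
        rw [← h1, ← end_mul_apply, ← map_mul, inv_mul_cancel, map_one]
        simp }
  have hupmem : up (1 : K) ∈ HS := ⟨a, fun v => by
    have h1 : ρ a (ιV v) = ιV v + A (ιV v) := by rw [hAdef, end_sub_apply, end_one_apply, add_sub_cancel]
    rw [h1, show A (ιV v) = ιV ![v 1, 0] from congrArg Subtype.val (hAφ v), ← map_add]
    congr 1; funext i; fin_cases i <;> simp [up_coe, Matrix.mulVec, dotProduct, Fin.sum_univ_two]⟩
  have hlowmem : low μ ∈ HS := ⟨b, fun v => by
    have h1 : ρ b (ιV v) = ιV v + B (ιV v) := by rw [hBdef, end_sub_apply, end_one_apply, add_sub_cancel]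
    rw [h1, show B (ιV v) = ιV ![0, μ * v 0] from congrArg Subtype.val (hBφ v), ← map_add]
    congr 1; funext i; fin_cases i <;> simp [low_coe, Matrix.mulVec, dotProduct, Fin.sum_univ_two] <;> ring⟩
  have : Finite (SL K) := Finite.of_injective (fun M : SL K => fun i j => M.1 i j) fun M M' h =>
    Subtype.ext (Matrix.ext fun i j => congrFun (congrFun h i) j)
  obtain ⟨C, hC, hX⟩ := exists_conj_SL2_le (p := p) hp HS hupmem hμ hlowmem
  set c := ZMod.castHom dvd_rfl K (n := p)
  refine ⟨{ toFun := fun v => ιV (C *ᵥ (c ∘ v))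
            map_zero' := by simp [Function.comp_def, show (fun _ : Fin 2 => (0 : K)) = 0 from rfl]
            map_add' := fun v w => by
              rw [← map_add, ← Matrix.mulVec_add]; congr 2; funext i; exact map_add c _ _ },
    fun v w h => ?_, fun X => ?_⟩
  · have h1 : C *ᵥ (c ∘ v) = C *ᵥ (c ∘ w) := hιinj h
    have h2 := (Matrix.mulVec_injective_iff_isUnit.mpr ((Matrix.isUnit_iff_isUnit_det C).mpr hC.isUnit)) h1
    exact funext fun i => c.injective (congrFun h2 i)
  · obtain ⟨M, ⟨h, hh⟩, hMC⟩ := hX X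
    refine ⟨h, fun v => ?_⟩
    show ρ h (ιV _) = ιV _
    rw [hh, Matrix.mulVec_mulVec, hMC, ← Matrix.mulVec_mulVec]
    congr 2; funext i; fin_cases i <;> simp [Matrix.mulVec, dotProduct]

/-- Two quadratically acting elements generating a group that does not act as a `p`-group yield a
natural `SL₂(p)`-module. -/
theorem exists_natural_module [Finite V] (hp : p ≠ 2) (hV : ∀ v : V, p • v = 0)
    (ρ : H →* AddMonoid.End V) {a b : H} (hab : Subgroup.closure {a, b} = ⊤)
    (hA : (ρ a - 1) * (ρ a - 1) = 0) (hB : (ρ b - 1) * (ρ b - 1) = 0)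
    (hnp : ¬ ∀ h : H, ∃ n : ℕ, ρ h ^ p ^ n = 1) :
    ∃ f : (Fin 2 → ZMod p) →+ V, Function.Injective f ∧ ∀ X : SL (ZMod p), ∃ h : H,
      ∀ v, ρ h (f v) = f ((X : Matrix (Fin 2) (Fin 2) (ZMod p)) *ᵥ v) :=
  (exists_pow_apply_ne_zero hV ρ hab hA hB hnp).elim fun _ hu =>
    exists_natural_module_of_pow_apply_ne_zero hp hV ρ hab hA hB hu

end Cfsg.Agent.Thompson
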