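import Mathlib
import Cfsg.Agent.Thompson.QuadraticPair

/-!
Quadratic action by conjugation; natural `SL₂(p)`-sections.
-/

set_option autoImplicit false

namespace Cfsg.Agent.Thompson

open Subgroup Matrix
open scoped commutatorElement IsMulCommutative

universe u v w

local notation "SL" => Matrix.SpecialLinearGroup (Fin 2)

/-- some subgroup of `G` maps onto `X`: `X` is involved in `G` -/
def HasSection (X : Type v) [Group X] (G : Type u) [Group G] : Prop :=
  ∃ (M : Subgroup G) (φ : M →* X), Function.Surjective φ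

variable {G : Type u} [Group G] {X : Type v} [Group X]

theorem hasSection_iff : HasSection X G ↔
    ∃ (K R : Subgroup G) (_ : (R.subgroupOf K).Normal), Nonempty ((K ⧸ R.subgroupOf K) ≃* X) := by
  constructor
  · rintro ⟨M, φ, hφ⟩
    have h : (φ.ker.map M.subtype).subgroupOf M = φ.ker :=
      comap_map_eq_self_of_injective M.subtype_injective φ.ker
    have hn : ((φ.ker.map M.subtype).subgroupOf M).Normal := by rw [h]; exact φ.normal_ker
    refine ⟨M, φ.ker.map M.subtype, hn, ⟨?_⟩⟩
    exact (QuotientGroup.quotientMulEquivOfEq h).trans (QuotientGroup.quotientKerEquivOfSurjective φ hφ)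
  · rintro ⟨K, R, hR, ⟨e⟩⟩
    exact ⟨K, e.toMonoidHom.comp (QuotientGroup.mk' _), e.surjective.comp (QuotientGroup.mk'_surjective _)⟩

theorem HasSection.of_surjective {G' : Type w} [Group G'] {f : G →* G'} (hf : Function.Surjective f)
    (h : HasSection X G') : HasSection X G := by
  obtain ⟨M, φ, hφ⟩ := h
  refine ⟨M.comap f, φ.comp (f.subgroupComap M), hφ.comp ?_⟩
  rintro ⟨m, hm⟩
  obtain ⟨g, rfl⟩ := hf m
  exact ⟨⟨g, hm⟩, rfl⟩

theorem HasSection.of_injective {G' : Type w} [Group G'] {f : G' →* G} (hf : Function.Injective f)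
    (h : HasSection X G') : HasSection X G := by
  obtain ⟨M, φ, hφ⟩ := h
  exact ⟨M.map f, φ.comp (M.equivMapOfInjective f hf).symm.toMonoidHom,
    hφ.comp (M.equivMapOfInjective f hf).symm.surjective⟩

/-! ### the action by conjugation -/

variable {V H : Subgroup G}

/-- conjugation of `H` on the normalized abelian subgroup `V` -/
def conjEnd [IsMulCommutative V] (hHV : H ≤ normalizer (V : Set G)) :
    H →* AddMonoid.End (Additive V) where
  toFun h := MonoidHom.toAdditive (MonoidHom.mk' (fun v : V => (⟨(h : G) * v * (h : G)⁻¹,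
      (Subgroup.mem_normalizer_iff.mp (hHV h.2) v).mp v.2⟩ : V))
    (fun x y => Subtype.ext (by simp [mul_assoc])))
  map_one' := AddMonoidHom.ext fun v => congrArg Additive.ofMul (Subtype.ext (by
    show ((1 : H) : G) * (Additive.toMul v : V) * ((1 : H) : G)⁻¹ = _
    simp only [OneMemClass.coe_one, one_mul, inv_one, mul_one]; rfl))
  map_mul' x y := AddMonoidHom.ext fun v => congrArg Additive.ofMul (Subtype.ext (by
    show (x : G) * y * (Additive.toMul v : V) * ((x : G) * y)⁻¹
      = (x : G) * ((y : G) * (Additive.toMul v : V) * (y : G)⁻¹) * (x : G)⁻¹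
    simp [mul_assoc]))

theorem conjEnd_apply [IsMulCommutative V] (hHV : H ≤ normalizer (V : Set G)) (h : H)
    (v : Additive V) :
    ((Additive.toMul (conjEnd hHV h v) : V) : G) = (h : G) * (Additive.toMul v : V) * (h : G)⁻¹ :=
  rfl

theorem conjEnd_eq_one_iff [IsMulCommutative V] (hHV : H ≤ normalizer (V : Set G)) (h : H) :
    conjEnd hHV h = 1 ↔ (h : G) ∈ centralizer (V : Set G) := by
  constructor
  · intro h1
    refine mem_centralizer_iff.mpr fun v hv => ?_
    have := conjEnd_apply hHV h (Additive.ofMul ⟨v, hv⟩)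
    rw [h1] at this
    change v = (h : G) * v * (h : G)⁻¹ at this
    exact (mul_inv_eq_iff_eq_mul.mp this.symm).symm
  · intro h1
    refine AddMonoidHom.ext fun v => congrArg Additive.ofMul (Subtype.ext ?_)
    show (h : G) * (Additive.toMul v : V) * (h : G)⁻¹ = (Additive.toMul v : V)
    rw [← mem_centralizer_iff.mp h1 _ (Additive.toMul v : V).2, mul_inv_cancel_right]

theorem conjEnd_quadratic [IsMulCommutative V] (hHV : H ≤ normalizer (V : Set G)) (a : H)
    (hq : ⁅⁅V, zpowers (a : G)⁆, zpowers (a : G)⁆ = ⊥) :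
    (conjEnd hHV a - 1) * (conjEnd hHV a - 1) = 0 := by
  refine AddMonoidHom.ext fun v => ?_
  show (conjEnd hHV a - 1) ((conjEnd hHV a - 1) v) = (0 : Additive V)
  set w := (conjEnd hHV a - 1) v with hw
  rw [end_sub_apply, end_one_apply, sub_eq_zero]
  refine congrArg Additive.ofMul (Subtype.ext ?_)
  show (a : G) * (Additive.toMul w : V) * (a : G)⁻¹ = (Additive.toMul w : V)
  have hval : ((Additive.toMul w : V) : G) = ⁅(Additive.toMul v : V).1, (a : G)⁆⁻¹ := by
    rw [commutatorElement_inv, hw, end_sub_apply, end_one_apply]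
    show (a : G) * (Additive.toMul v : V) * (a : G)⁻¹ / (Additive.toMul v : V) = _
    rw [div_eq_mul_inv, commutatorElement_def]
  have hc : Commute ⁅(Additive.toMul v : V).1, (a : G)⁆ (a : G) :=
    commutatorElement_eq_one_iff_mul_comm.mp (mem_bot.mp (hq ▸
      commutator_mem_commutator (commutator_mem_commutator (Additive.toMul v : V).2 (mem_zpowers _)) (mem_zpowers _)))
  rw [hval, ← hc.inv_left.eq, mul_inv_cancel_right]

/-- **Natural section**: two elements acting quadratically on an elementary abelian `V` and generating a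
group that is not a `p`-group modulo `C(V)` give a subgroup with an `SL₂(p)` quotient acting naturally on
a subgroup of order `p²` of `V`. -/
theorem exists_natural_section [Finite G] {p : ℕ} [Fact p.Prime] (hp : p ≠ 2) {V : Subgroup G}
    (hVc : IsMulCommutative V) (hVp : ∀ v ∈ V, v ^ p = 1) {a b : G}
    (ha : a ∈ normalizer (V : Set G)) (hb : b ∈ normalizer (V : Set G))
    (hqa : ⁅⁅V, zpowers a⁆, zpowers a⁆ = ⊥) (hqb : ⁅⁅V, zpowers b⁆, zpowers b⁆ = ⊥)
    (hnp : ¬ ∀ h ∈ closure ({a, b} : Set G), ∃ n : ℕ, h ^ p ^ n ∈ centralizer (V : Set G)) :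
    ∃ (M : Subgroup G) (φ : M →* SL (ZMod p)) (f : Multiplicative (Fin 2 → ZMod p) →* G),
      M ≤ closure ({a, b} : Set G) ∧ Function.Surjective φ ∧ Function.Injective f ∧ f.range ≤ V ∧
      ∀ (m : M) (v : Fin 2 → ZMod p), (m : G) * f (Multiplicative.ofAdd v) * (m : G)⁻¹ =
        f (Multiplicative.ofAdd ((φ m : Matrix (Fin 2) (Fin 2) (ZMod p)) *ᵥ v)) := by
  have := hVc
  set H := closure ({a, b} : Set G) with hH
  have hHV : H ≤ normalizer (V : Set G) := (closure_le _).mpr (by rintro x (rfl | rfl) <;> assumption)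
  let a' : H := ⟨a, subset_closure (Set.mem_insert _ _)⟩
  let b' : H := ⟨b, subset_closure (Set.mem_insert_of_mem _ rfl)⟩
  have htop : Subgroup.closure ({a', b'} : Set H) = ⊤ := by
    refine (Subgroup.map_injective H.subtype_injective) ?_
    rw [MonoidHom.map_closure, ← MonoidHom.range_eq_map, range_subtype]
    show _ = Subgroup.closure ({a, b} : Set G)
    congr 1
    simp [Set.image_pair, a', b']
  have hV' : ∀ v : Additive V, p • v = 0 := fun v => by
    refine congrArg Additive.ofMul (Subtype.ext ?_)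
    exact hVp _ (Additive.toMul v : V).2
  obtain ⟨f0, hf0, hX⟩ := exists_natural_module (H := H) hp hV' (conjEnd hHV) htop
    (conjEnd_quadratic hHV a' hqa) (conjEnd_quadratic hHV b' hqb) (by
      intro hall
      refine hnp fun h hh => ?_
      obtain ⟨n, hn⟩ := hall ⟨h, hh⟩
      exact ⟨n, (conjEnd_eq_one_iff hHV (⟨h, hh⟩ ^ p ^ n)).mp (by rw [map_pow]; exact hn)⟩)
  let f : Multiplicative (Fin 2 → ZMod p) →* G :=
    V.subtype.comp (AddMonoidHom.toMultiplicativeLeft f0)
  have hfinj : Function.Injective f := fun x y h =>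
    Multiplicative.toAdd.injective (hf0 (Additive.toMul.injective (Subtype.ext h)))
  have hconj : ∀ (h : H) (v w : Fin 2 → ZMod p), conjEnd hHV h (f0 v) = f0 w →
      (h : G) * f (Multiplicative.ofAdd v) * (h : G)⁻¹ = f (Multiplicative.ofAdd w) := fun h v w he =>
    congrArg (fun z : Additive V => ((Additive.toMul z : V) : G)) he
  let Ms : Subgroup H :=
    { carrier := {h | ∃ X : SL (ZMod p), ∀ v, conjEnd hHV h (f0 v) = f0 (X.1 *ᵥ v)}
      one_mem' := ⟨1, fun v => by rw [map_one, end_one_apply]; simp⟩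
      mul_mem' := by
        rintro x y ⟨X, hx⟩ ⟨Y, hy⟩
        exact ⟨X * Y, fun v => by
          rw [map_mul, end_mul_apply, hy, hx, Matrix.mulVec_mulVec, Matrix.SpecialLinearGroup.coe_mul]⟩
      inv_mem' := by
        rintro x ⟨X, hx⟩
        refine ⟨X⁻¹, fun v => ?_⟩
        have h1 : conjEnd hHV x (f0 ((X⁻¹).1 *ᵥ v)) = f0 v := by
          rw [hx, Matrix.mulVec_mulVec, ← Matrix.SpecialLinearGroup.coe_mul, mul_inv_cancel,
            Matrix.SpecialLinearGroup.coe_one, Matrix.one_mulVec]
        conv_lhs => rw [← h1]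
        rw [← end_mul_apply, ← map_mul, inv_mul_cancel, map_one, end_one_apply] }
  choose Xof hXof using fun m : Ms => m.2
  have huniq : ∀ (m : Ms) (X : SL (ZMod p)), (∀ v, conjEnd hHV m.1 (f0 v) = f0 (X.1 *ᵥ v)) → Xof m = X :=
    fun m X hm => Subtype.ext (Matrix.ext_iff_mulVec.mpr fun v => hf0 ((hXof m v).symm.trans (hm v)))
  let φ : Ms →* SL (ZMod p) := MonoidHom.mk' Xof fun m n => huniq _ _ fun v => by
    rw [Subgroup.coe_mul, map_mul, end_mul_apply, hXof, hXof, Matrix.mulVec_mulVec, Matrix.SpecialLinearGroup.coe_mul]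
  refine ⟨Ms.map H.subtype, φ.comp (Ms.equivMapOfInjective H.subtype H.subtype_injective).symm.toMonoidHom, f,
    map_subtype_le _, ?_, hfinj, ?_, ?_⟩
  · refine Function.Surjective.comp (g := φ) (fun X => ?_)
      (Ms.equivMapOfInjective H.subtype H.subtype_injective).symm.surjective
    obtain ⟨h, hh⟩ := hX X
    exact ⟨⟨h, X, hh⟩, huniq ⟨h, X, hh⟩ X hh⟩
  · rintro _ ⟨v, rfl⟩; exact (Additive.toMul (f0 (Multiplicative.toAdd v)) : V).2
  · intro m v
    set n := (Ms.equivMapOfInjective H.subtype H.subtype_injective).symm m with hn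
    have hm : ((n.1 : H) : G) = (m : G) := by
      rw [hn]
      conv_rhs => rw [← (Ms.equivMapOfInjective H.subtype H.subtype_injective).apply_symm_apply m]
      rfl
    rw [← hm]
    exact hconj n.1 v _ (hXof n v)

/-! ### `SL₂(p)` has non-abelian Sylow 2-subgroups -/

theorem exists_sl2_quaternion {p : ℕ} [Fact p.Prime] (hp : p ≠ 2) :
    ∃ u w : SL (ZMod p), IsPGroup 2 (Subgroup.closure ({u, w} : Set (SL (ZMod p)))) ∧ u * w ≠ w * u := by
  obtain ⟨x, y, hxy⟩ : ∃ x y : ZMod p, x ^ 2 + y ^ 2 = -1 := ZMod.sq_add_sq p (-1)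
  let u : SL (ZMod p) := ⟨!![0, 1; -1, 0], by simp [Matrix.det_fin_two]⟩
  let w : SL (ZMod p) := ⟨!![x, y; y, -x], by simp [Matrix.det_fin_two]; linear_combination -hxy⟩
  have h2 : (2 : ZMod p) ≠ 0 := Ring.two_ne_zero (by rw [ZMod.ringChar_zmod_n]; exact hp)
  have huu : u * u = -1 := by
    apply Subtype.ext; rw [Matrix.SpecialLinearGroup.coe_mul, Matrix.SpecialLinearGroup.coe_neg]
    ext i j; fin_cases i <;> fin_cases j <;> simp [u]
  have hww : w * w = -1 := by
    apply Subtype.ext; rw [Matrix.SpecialLinearGroup.coe_mul, Matrix.SpecialLinearGroup.coe_neg]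
    ext i j; fin_cases i <;> fin_cases j <;> simp [w] <;> first | ring1 | linear_combination hxy
  have huw : w * u = -(u * w) := by
    apply Subtype.ext; rw [Matrix.SpecialLinearGroup.coe_neg, Matrix.SpecialLinearGroup.coe_mul, Matrix.SpecialLinearGroup.coe_mul]
    ext i j; fin_cases i <;> fin_cases j <;> simp [u, w]
  refine ⟨u, w, ?_, ?_⟩
  · have hS : ∀ z ∈ Subgroup.closure ({u, w} : Set (SL (ZMod p))),
        z ∈ ({1, -1, u, -u, w, -w, u * w, -(u * w)} : Set (SL (ZMod p))) := by
      intro z hz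
      induction hz using closure_induction'' with
      | one => simp
      | mem z hz => rcases hz with rfl | rfl <;> simp
      | inv_mem z hz =>
        rcases hz with rfl | rfl
        · rw [inv_eq_of_mul_eq_one_right (a := u) (b := -u) (by rw [mul_neg, huu, neg_neg])]; simp
        · rw [inv_eq_of_mul_eq_one_right (a := w) (b := -w) (by rw [mul_neg, hww, neg_neg])]; simp
      | mul s t _ _ hs ht =>
        have e1 : u * (u * w) = -w := by rw [← mul_assoc, huu, neg_one_mul]
        have e2 : w * (u * w) = u := by rw [← mul_assoc, huw, neg_mul, mul_assoc, hww, mul_neg_one, neg_neg]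
        have e3 : u * w * u = w := by rw [mul_assoc, huw, mul_neg, e1, neg_neg]
        have e4 : u * w * w = -u := by rw [mul_assoc, hww, mul_neg_one]
        have e5 : u * w * (u * w) = -1 := by rw [mul_assoc, e2, huu]
        simp only [Set.mem_insert_iff, Set.mem_singleton_iff] at hs ht ⊢
        rcases hs with rfl | rfl | rfl | rfl | rfl | rfl | rfl | rfl <;>
          rcases ht with rfl | rfl | rfl | rfl | rfl | rfl | rfl | rfl <;>
          simp [huu, hww, huw, e1, e2, e3, e4, e5]
    rintro ⟨z, hz⟩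
    refine ⟨2, Subtype.ext ?_⟩
    show z ^ 2 ^ 2 = 1
    have h4 : ∀ s : SL (ZMod p), s * s = -1 → s ^ 4 = 1 := fun s hs => by
      rw [show (4 : ℕ) = 2 + 2 from rfl, pow_add, pow_two, hs, neg_one_mul, neg_neg]
    have := hS z hz
    simp only [Set.mem_insert_iff, Set.mem_singleton_iff] at this
    have e5 : u * w * (u * w) = -1 := by
      rw [mul_assoc, ← mul_assoc w, huw, neg_mul, mul_assoc, hww, mul_neg_one, neg_neg, huu]
    rcases this with rfl | rfl | rfl | rfl | rfl | rfl | rfl | rfl
    · simp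
    · exact Even.neg_one_pow (by decide)
    · exact h4 _ huu
    · exact h4 _ (by rw [neg_mul_neg, huu])
    · exact h4 _ hww
    · exact h4 _ (by rw [neg_mul_neg, hww])
    · exact h4 _ e5
    · exact h4 _ (by rw [neg_mul_neg, e5])
  · intro h
    rw [huw] at h
    have h' := congrArg (fun m : SL (ZMod p) => (m 0 0, m 0 1)) h
    simp only [Matrix.SpecialLinearGroup.coe_neg, Matrix.SpecialLinearGroup.coe_mul] at h'
    simp [u, w] at h'
    have hy : y = 0 := by
      have := h'.1; have : y * 2 = 0 := by linear_combination this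
      exact (mul_eq_zero.mp this).resolve_right h2
    have hx : x = 0 := by
      have := h'.2; have : x * 2 = 0 := by linear_combination -this
      exact (mul_eq_zero.mp this).resolve_right h2
    rw [hx, hy] at hxy
    exact one_ne_zero (by linear_combination hxy : (1 : ZMod p) = 0)

theorem isMulCommutative_of_sylow_two_abelian [Finite G] (T : Sylow 2 G) (hT : IsMulCommutative T)
    (U : Subgroup G) (hU : IsPGroup 2 U) {x y : G} (hx : x ∈ U) (hy : y ∈ U) : x * y = y * x := by
  obtain ⟨T', hT'⟩ := hU.exists_le_sylow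
  let e := T'.equiv T
  have h := congrArg e.symm (hT.is_comm.comm (e ⟨x, hT' hx⟩) (e ⟨y, hT' hy⟩))
  simp only [map_mul, MulEquiv.symm_apply_apply] at h
  exact congrArg Subtype.val h

/-- a group with abelian Sylow 2-subgroups has no section `SL₂(p)` -/
theorem not_hasSection_SL2_of_abelian [Finite G] {p : ℕ} [Fact p.Prime] (hp : p ≠ 2) (T : Sylow 2 G)
    (hT : IsMulCommutative T) : ¬ HasSection (SL (ZMod p)) G := by
  rintro ⟨M, φ, hφ⟩
  obtain ⟨u, w, hQ, hne⟩ := exists_sl2_quaternion hp
  obtain ⟨S, hS⟩ : ∃ S : Sylow 2 M, (Subgroup.closure ({u, w} : Set (SL (ZMod p)))) ≤ (S : Subgroup M).map φ := by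
    have : Finite (SL (ZMod p)) := Finite.of_surjective _ hφ
    obtain ⟨S', hS'⟩ := hQ.exists_le_sylow
    obtain ⟨S, rfl⟩ := Sylow.mapSurjective_surjective hφ 2 (S' : Sylow 2 (SL (ZMod p)))
    exact ⟨S, hS'⟩
  obtain ⟨m, hm, hmu⟩ := hS (subset_closure (Set.mem_insert _ _))
  obtain ⟨n, hn, hnw⟩ := hS (subset_closure (Set.mem_insert_of_mem _ rfl))
  refine hne ?_
  rw [← hmu, ← hnw, ← map_mul, ← map_mul]
  congr 1
  exact Subtype.ext (isMulCommutative_of_sylow_two_abelian T hT ((S : Subgroup M).map M.subtype)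
    (S.isPGroup'.map _) ⟨m, hm, rfl⟩ ⟨n, hn, rfl⟩)

end Cfsg.Agent.Thompson
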