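import Mathlib
import Cfsg.Prelude.Def_PLocal
import Cfsg.Agent.Thompson.Section

/-!
A natural `SL₂(p)`-section yields a section `Qd(p)`.
-/

set_option autoImplicit false

namespace Cfsg.Agent.Thompson

open Subgroup Matrix

local notation "SL" => Matrix.SpecialLinearGroup (Fin 2)
local notation "SL3" => Matrix.SpecialLinearGroup (Fin 3)

variable {p : ℕ}

/-- the affine matrix of `(A, v)` -/
def affMat (A : SL (ZMod p)) (v : Fin 2 → ZMod p) : SL3 (ZMod p) :=
  ⟨!![A 0 0, A 0 1, v 0; A 1 0, A 1 1, v 1; 0, 0, 1], by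
    have h := A.2
    rw [Matrix.det_fin_two] at h
    rw [Matrix.det_fin_three]
    simp
    linear_combination h⟩

theorem affMat_mem_qd (A : SL (ZMod p)) (v : Fin 2 → ZMod p) : affMat A v ∈ qd p :=
  subset_closure ⟨rfl, rfl, rfl⟩

theorem affMat_mul (A B : SL (ZMod p)) (v w : Fin 2 → ZMod p) :
    affMat A v * affMat B w = affMat (A * B) (v + (A : Matrix (Fin 2) (Fin 2) (ZMod p)) *ᵥ w) := by
  apply Subtype.ext
  rw [Matrix.SpecialLinearGroup.coe_mul]
  ext i j
  fin_cases i <;> fin_cases j <;>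
    simp [affMat, Matrix.mul_apply, Fin.sum_univ_three, Fin.sum_univ_two, Matrix.mulVec, dotProduct] <;> ring

theorem exists_affMat_eq {M : SL3 (ZMod p)} (h0 : M 2 0 = 0) (h1 : M 2 1 = 0) (h2 : M 2 2 = 1) :
    ∃ A v, affMat A v = M := by
  have hd := M.2
  rw [Matrix.det_fin_three, h0, h1, h2] at hd
  refine ⟨⟨!![M 0 0, M 0 1; M 1 0, M 1 1], ?_⟩, ![M 0 2, M 1 2], Subtype.ext ?_⟩
  · rw [Matrix.det_fin_two]; simp; linear_combination hd
  · ext i j
    fin_cases i <;> fin_cases j <;> simp [affMat, h0, h1, h2]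

variable {G : Type*} [Group G]

/-- A subgroup mapping onto `SL₂(p)` and acting naturally on an image of `(ℤ/p)²` gives a section `Qd(p)`. -/
theorem hasSection_qd [Finite G] [Fact p.Prime] (hp : p ≠ 2) (M : Subgroup G) (φ : M →* SL (ZMod p))
    (hφ : Function.Surjective φ) (f : Multiplicative (Fin 2 → ZMod p) →* G) (hf : Function.Injective f)
    (hconj : ∀ (m : M) (v : Fin 2 → ZMod p), (m : G) * f (Multiplicative.ofAdd v) * (m : G)⁻¹ =
      f (Multiplicative.ofAdd ((φ m : Matrix (Fin 2) (Fin 2) (ZMod p)) *ᵥ v))) :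
    HasSection (qd p) G := by
  have hneg : ((-1 : SL (ZMod p)) : Matrix (Fin 2) (Fin 2) (ZMod p)) = -1 := by
    rw [Matrix.SpecialLinearGroup.coe_neg, Matrix.SpecialLinearGroup.coe_one]
  -- a complement, from the centraliser of an involution lift
  set C2 := (zpowers (-1 : SL (ZMod p))).comap φ with hC2
  have : C2.Normal := by
    refine ⟨fun m hm g => ?_⟩
    obtain ⟨k, hk⟩ := hm
    refine ⟨k, ?_⟩
    simp only at hk ⊢
    rw [map_mul, map_mul, map_inv, ← hk]
    have hc : Commute (φ g) (-1 : SL (ZMod p)) := (Commute.one_right _).neg_right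
    rw [(hc.zpow_right k).eq, mul_inv_cancel_right]
  let T : Sylow 2 C2 := default
  set N := normalizer (((T : Subgroup C2).map C2.subtype : Subgroup M) : Set M) with hN
  have hfr : N ⊔ C2 = ⊤ := Sylow.normalizer_sup_eq_top T
  obtain ⟨t, htT, ht⟩ : ∃ t : M, t ∈ (T : Subgroup C2).map C2.subtype ∧ φ t = -1 := by
    let ψ : C2 →* zpowers (-1 : SL (ZMod p)) := φ.subgroupComap _
    have hψ : Function.Surjective ψ := fun ⟨z, hz⟩ => by
      obtain ⟨m, rfl⟩ := hφ z
      exact ⟨⟨m, hz⟩, rfl⟩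
    have h2 : IsPGroup 2 (zpowers (-1 : SL (ZMod p))) := by
      rintro ⟨_, k, rfl⟩
      refine ⟨1, Subtype.ext ?_⟩
      show ((-1 : SL (ZMod p)) ^ k) ^ (2 ^ 1) = 1
      rw [← zpow_natCast, ← _root_.zpow_mul, mul_comm, _root_.zpow_mul]
      norm_num [neg_one_mul]
    have := (T.mapSurjective hψ).isPGroup'
    have htop : (T.mapSurjective hψ : Subgroup (zpowers (-1 : SL (ZMod p)))) = ⊤ :=
      ((T.mapSurjective hψ).is_maximal' (h2.to_subgroup ⊤) le_top).symm
    rw [Sylow.coe_mapSurjective] at htop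
    obtain ⟨t, ht, hte⟩ := htop.ge (mem_top ⟨-1, mem_zpowers _⟩)
    exact ⟨t, ⟨t, ht, rfl⟩, congrArg Subtype.val hte⟩
  have hNsurj : ∀ X, ∃ n : M, n ∈ N ∧ φ n = X := by
    intro X
    obtain ⟨m, rfl⟩ := hφ X
    have hm : m ∈ ((N ⊔ C2 : Subgroup M) : Set M) := by rw [hfr]; exact mem_top m
    rw [Subgroup.mul_normal] at hm
    obtain ⟨n, hn, c, hc, rfl⟩ := hm
    obtain ⟨k, hk⟩ := hc
    refine ⟨n * t ^ k, mul_mem hn (N.zpow_mem (le_normalizer htT) k), ?_⟩
    simp only at hk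
    rw [map_mul, map_mul, map_zpow, ht, hk]
  -- `N` meets the natural module trivially
  have hWN : ∀ (n : M), n ∈ N → ∀ v, (n : G) = f (Multiplicative.ofAdd v) → v = 0 := by
    intro n hn v hv
    have h1 : t * n * t⁻¹ * n⁻¹ ∈ (T : Subgroup C2).map C2.subtype := by
      rw [mul_assoc t, mul_assoc t]
      exact mul_mem htT ((Subgroup.mem_normalizer_iff.mp hn _).mp (Subgroup.inv_mem _ htT))
    have h2 : ((t * n * t⁻¹ * n⁻¹ : M) : G) = f (Multiplicative.ofAdd (-v - v)) := by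
      simp only [Subgroup.coe_mul, Subgroup.coe_inv]
      rw [hv, hconj, ht, hneg, ← map_inv, ← map_mul]
      congr 1
      rw [Matrix.neg_mulVec, Matrix.one_mulVec, sub_eq_add_neg, ofAdd_add]
      rfl
    obtain ⟨k, hk⟩ := (T.isPGroup'.map C2.subtype) ⟨_, h1⟩
    have hk' : (((t * n * t⁻¹ * n⁻¹ : M) ^ 2 ^ k : M) : G) = ((1 : M) : G) :=
      congrArg Subtype.val (congrArg Subtype.val hk)
    simp only [SubmonoidClass.coe_pow, OneMemClass.coe_one] at hk'
    rw [h2, ← map_pow, map_eq_one_iff f hf, ← ofAdd_nsmul] at hk'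
    have h3 : (2 : ℕ) ^ k • (-v - v) = 0 := hk'
    have h22 : ((2 : ℕ) : ZMod p) ≠ 0 := by
      rw [Ne, ZMod.natCast_eq_zero_iff]
      exact fun h => hp ((Nat.prime_dvd_prime_iff_eq Fact.out Nat.prime_two).mp h)
    funext i
    have h4 := congrFun h3 i
    simp only [Pi.smul_apply, Pi.sub_apply, Pi.neg_apply, nsmul_eq_mul, Pi.zero_apply, Nat.cast_pow] at h4
    have h5 : ((2 : ℕ) : ZMod p) * v i = 0 := by
      have := (mul_eq_zero.mp h4).resolve_left (pow_ne_zero _ h22)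
      linear_combination (norm := (push_cast; ring1)) -this
    exact (mul_eq_zero.mp h5).resolve_left h22
  -- the semidirect product
  let X : Subgroup G :=
    { carrier := {g | ∃ (v : Fin 2 → ZMod p) (n : M), n ∈ N ∧ g = f (Multiplicative.ofAdd v) * n}
      one_mem' := ⟨0, 1, one_mem _, by simp⟩
      mul_mem' := by
        rintro _ _ ⟨v, n, hn, rfl⟩ ⟨w, m, hm, rfl⟩
        refine ⟨v + (φ n : Matrix (Fin 2) (Fin 2) (ZMod p)) *ᵥ w, n * m, mul_mem hn hm, ?_⟩
        rw [ofAdd_add, map_mul, ← hconj, Subgroup.coe_mul]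
        group
      inv_mem' := by
        rintro _ ⟨v, n, hn, rfl⟩
        refine ⟨(φ n⁻¹ : Matrix (Fin 2) (Fin 2) (ZMod p)) *ᵥ (-v), n⁻¹, inv_mem hn, ?_⟩
        rw [← hconj, ofAdd_neg, map_inv, Subgroup.coe_inv]
        group }
  choose vOf nOf hnN hdec using fun g : X => g.2
  have huniq : ∀ (g : X) v (n : M), n ∈ N → (g : G) = f (Multiplicative.ofAdd v) * n → vOf g = v ∧ nOf g = n := by
    intro g v n hn hg
    have h : f (Multiplicative.ofAdd (-v + vOf g)) = ((n * (nOf g)⁻¹ : M) : G) := by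
      rw [ofAdd_add, ofAdd_neg, map_mul, map_inv, Subgroup.coe_mul, Subgroup.coe_inv,
        eq_mul_inv_iff_mul_eq, mul_assoc, ← hdec g, inv_mul_eq_iff_eq_mul, hg]
    have h0 := hWN _ (mul_mem hn (inv_mem (hnN g))) _ h.symm
    refine ⟨(neg_add_eq_zero.mp h0).symm, ?_⟩
    rw [h0, ofAdd_zero, map_one] at h
    exact (mul_inv_eq_one.mp (Subtype.ext h.symm)).symm
  let Ψ : X →* qd p := MonoidHom.mk' (fun g => ⟨affMat (φ (nOf g)) (vOf g), affMat_mem_qd _ _⟩) fun a b => by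
    obtain ⟨h1, h2⟩ := huniq (a * b) (vOf a + (φ (nOf a) : Matrix (Fin 2) (Fin 2) (ZMod p)) *ᵥ vOf b) (nOf a * nOf b)
      (mul_mem (hnN a) (hnN b)) (by
        rw [Subgroup.coe_mul, hdec a, hdec b, ofAdd_add, map_mul, ← hconj, Subgroup.coe_mul]
        group)
    refine Subtype.ext ?_
    show affMat _ _ = affMat _ _ * affMat _ _
    rw [affMat_mul, h1, h2, map_mul]
  refine ⟨X, Ψ, fun y => ?_⟩
  have key : qd p ≤ Ψ.range.map (qd p).subtype := by
    refine (closure_le _).mpr fun M' hM' => ?_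
    obtain ⟨A, v, rfl⟩ := exists_affMat_eq hM'.1 hM'.2.1 hM'.2.2
    obtain ⟨n, hn, rfl⟩ := hNsurj A
    refine ⟨_, ⟨⟨f (Multiplicative.ofAdd v) * n, v, n, hn, rfl⟩, rfl⟩, ?_⟩
    obtain ⟨h1, h2⟩ := huniq ⟨f (Multiplicative.ofAdd v) * n, v, n, hn, rfl⟩ v n hn rfl
    show affMat _ _ = _
    rw [h1, h2]
  obtain ⟨z, hz, hzy⟩ := key y.2
  obtain rfl : z = y := Subtype.ext hzy
  exact hz

end Cfsg.Agent.Thompson
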