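import Mathlib
import Cfsg.Prelude.Def_PLocal
import Cfsg.Agent.Cores.PCore
import Cfsg.Agent.Fusion.PResidual
import Cfsg.Agent.Thompson.BaerSuzuki
import Cfsg.Agent.Thompson.Section
import Cfsg.Agent.Thompson.ZJ
import Cfsg.Agent.Thompson.Qd

/-!
`p`-stability of groups without sections `Qd(p)` / `SL₂(p)`.
-/

set_option autoImplicit false

namespace Cfsg.Agent.Thompson

open Subgroup
open scoped commutatorElement

universe u

variable {G : Type u} [Group G] {p : ℕ}

theorem commutator_quadratic_apply {V : Subgroup G} {a : G} (hq : ⁅⁅V, zpowers a⁆, zpowers a⁆ = ⊥)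
    {v : G} (hv : v ∈ V) : Commute ⁅a, v⁆ a := by
  have hc : Commute ⁅v, a⁆ a := commutatorElement_eq_one_iff_mul_comm.mp (mem_bot.mp (hq ▸
    commutator_mem_commutator (commutator_mem_commutator hv (mem_zpowers _)) (mem_zpowers _)))
  rw [← commutatorElement_inv]
  exact hc.inv_left

theorem pow_conj_of_quadratic {V : Subgroup G} {a : G} (hq : ⁅⁅V, zpowers a⁆, zpowers a⁆ = ⊥)
    {v : G} (hv : v ∈ V) : ∀ n : ℕ, a ^ n * v = ⁅a, v⁆ ^ n * (v * a ^ n)
  | 0 => by simp
  | n + 1 => by
    have hc : Commute ⁅a, v⁆ a := commutator_quadratic_apply hq hv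
    calc a ^ (n + 1) * v = a * (a ^ n * v) := by rw [pow_succ', mul_assoc]
      _ = a * (⁅a, v⁆ ^ n * (v * a ^ n)) := by rw [pow_conj_of_quadratic hq hv n]
      _ = ⁅a, v⁆ ^ n * ((⁅a, v⁆ * (v * a)) * a ^ n) := by
          rw [show ⁅a, v⁆ * (v * a) = a * v by rw [commutatorElement_def]; group,
            ← mul_assoc, ← (hc.pow_left n).eq]
          simp only [mul_assoc]
      _ = _ := by rw [pow_succ, pow_succ' a]; simp only [mul_assoc]

/-- a quadratically acting element has `p`-power order modulo the centralizer -/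
theorem pow_mem_centralizer_of_quadratic {V : Subgroup G} (hV : IsPGroup p V) [Finite G] [Fact p.Prime]
    {a : G} (ha : a ∈ normalizer (V : Set G)) (hq : ⁅⁅V, zpowers a⁆, zpowers a⁆ = ⊥) :
    ∃ k : ℕ, a ^ p ^ k ∈ centralizer (V : Set G) := by
  obtain ⟨k, hk⟩ := IsPGroup.iff_card.mp hV
  refine ⟨k, mem_centralizer_iff.mpr fun v hv => ?_⟩
  have hcV : ⁅a, v⁆ ∈ V := by
    rw [commutatorElement_def]
    exact mul_mem ((Subgroup.mem_normalizer_iff.mp ha v).mp hv) (V.inv_mem hv)
  rw [pow_conj_of_quadratic hq hv (p ^ k),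
    orderOf_dvd_iff_pow_eq_one.mp (show orderOf ⁅a, v⁆ ∣ p ^ k from hk ▸ Subgroup.orderOf_dvd_natCard V hcV), one_mul]

theorem hasSection_qd_of_not_mem_elementary [Finite G] [Fact p.Prime] (hp : p ≠ 2) (V : Subgroup G)
    [V.Normal] (hVc : IsMulCommutative V) (hVp : ∀ v ∈ V, v ^ p = 1) {a : G}
    (hq : ⁅⁅V, zpowers a⁆, zpowers a⁆ = ⊥) (hna : a ∉ stabPre p V) :
    HasSection (qd p) G ∧ HasSection (Matrix.SpecialLinearGroup (Fin 2) (ZMod p)) G := by
  have hN : ∀ g : G, g ∈ normalizer (V : Set G) := fun g => (normalizer_eq_top (H := V)).ge (mem_top g)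
  set π := QuotientGroup.mk' (centralizer (V : Set G))
  by_cases hall : ∀ g : G, IsPGroup p (closure ({π a, π g * π a * (π g)⁻¹} : Set (G ⧸ centralizer (V : Set G))))
  · refine absurd ?_ hna
    obtain ⟨N, hN1, hN2, haN⟩ := baer_suzuki (x := π a) (p := p) (fun y => by
      obtain ⟨g, rfl⟩ := QuotientGroup.mk'_surjective _ y; exact hall g)
    exact Cores.le_pCore (hN := hN1) hN2 haN
  push Not at hall
  obtain ⟨g, hg⟩ := hall
  have hqb : ⁅⁅V, zpowers (g * a * g⁻¹)⁆, zpowers (g * a * g⁻¹)⁆ = ⊥ := by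
    have h := congrArg (Subgroup.map (MulAut.conj g).toMonoidHom) hq
    rw [map_commutator, map_commutator, MonoidHom.map_zpowers, map_conj_of_mem_normalizer (hN g),
      Subgroup.map_bot] at h
    exact h
  obtain ⟨M, φ, f, -, hφ, hf, -, hconj⟩ := exists_natural_section hp hVc hVp (hN a) (hN _) hq hqb (by
    intro h
    apply hg
    rintro ⟨y, hy⟩
    have hy' : y ∈ (closure ({a, g * a * g⁻¹} : Set G)).map π := by
      rw [MonoidHom.map_closure, Set.image_pair, map_mul, map_mul, map_inv]
      exact hy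
    obtain ⟨z, hz, rfl⟩ := hy'
    obtain ⟨n, hn⟩ := h z hz
    exact ⟨n, Subtype.ext ((map_pow π z _).symm.trans ((QuotientGroup.eq_one_iff _).mpr hn))⟩)
  exact ⟨hasSection_qd hp M φ hφ f hf hconj, M, φ, hφ⟩

/-- `Ω₁(Z(B))` -/
def omegaCenterOf (p : ℕ) (B : Subgroup G) : Subgroup G where
  carrier := {x | x ∈ B ∧ x ∈ centralizer (B : Set G) ∧ x ^ p = 1}
  one_mem' := ⟨one_mem _, one_mem _, one_pow _⟩
  mul_mem' := fun {x y} hx hy => ⟨mul_mem hx.1 hy.1, mul_mem hx.2.1 hy.2.1, by
    rw [Commute.mul_pow (mem_centralizer_iff.mp hy.2.1 x hx.1), hx.2.2, hy.2.2, one_mul]⟩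
  inv_mem' := fun {x} hx => ⟨inv_mem hx.1, inv_mem hx.2.1, by rw [inv_pow, hx.2.2, inv_one]⟩

instance omegaCenterOf_normal (p : ℕ) (B : Subgroup G) [B.Normal] : (omegaCenterOf p B).Normal :=
  ⟨fun x hx g => ⟨Normal.conj_mem ‹B.Normal› x hx.1 g,
    Normal.conj_mem (inferInstance : (centralizer (B : Set G)).Normal) x hx.2.1 g,
    by rw [conj_pow, hx.2.2, mul_one, mul_inv_cancel]⟩⟩

/-- Without a section `Qd(p)` (or without a section `SL₂(p)`) every normal `p`-subgroup is acted on
`p`-stably. -/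
theorem hasSection_of_not_stable [Fact p.Prime] (hp : p ≠ 2) :
    ∀ (n : ℕ) (G : Type u) [Group G] [Finite G], Nat.card G ≤ n → ¬ StableOnNormal p G →
      HasSection (qd p) G ∧ HasSection (Matrix.SpecialLinearGroup (Fin 2) (ZMod p)) G := by
  intro n
  induction n with
  | zero => intro G _ _ hc; exact absurd hc (Nat.not_le.mpr Nat.card_pos)
  | succ n ih =>
    intro G _ _ hcard hns
    by_contra hno
    refine hns fun B hBn hB a hq => ?_
    show a ∈ stabPre p B
    by_cases hB0 : B = ⊥
    · refine centralizer_le_stabPre B ?_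
      subst hB0
      exact mem_centralizer_iff.mpr fun v hv => by rw [mem_bot.mp hv, one_mul, mul_one]
    set V := omegaCenterOf p B
    have hVc : IsMulCommutative V := isMulCommutative_iff_forall.mpr fun x hx y hy =>
      (mem_centralizer_iff.mp hy.2.1 x hx.1)
    have hVB : V ≤ B := fun x hx => hx.1
    have hqV : ⁅⁅V, zpowers a⁆, zpowers a⁆ = ⊥ :=
      eq_bot_iff.mpr (le_trans (commutator_mono (commutator_mono hVB le_rfl) le_rfl) hq.le)
    have h1 : a ∈ stabPre p V := by
      by_contra h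
      exact hno (hasSection_qd_of_not_mem_elementary hp V hVc (fun v hv => hv.2.2) hqV h)
    set π := QuotientGroup.mk' V with hπ
    have : (B.map π).Normal := hBn.map π (QuotientGroup.mk'_surjective _)
    have hcardlt : Nat.card (G ⧸ V) ≤ n := by
      have hV0 : V ≠ ⊥ := by
        have : Nontrivial B := B.nontrivial_iff_ne_bot.mpr hB0
        have hc : Nontrivial (Subgroup.center B) := hB.center_nontrivial
        obtain ⟨m, hm0, hm⟩ := (hB.to_subgroup (Subgroup.center B)).nontrivial_iff_card.mp hc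
        obtain ⟨y, hy⟩ := exists_prime_orderOf_dvd_card' p (G := Subgroup.center B) (hm ▸ dvd_pow_self p hm0.ne')
        intro hV
        have hyV : ((y : B) : G) ∈ V := ⟨(y : B).2, mem_centralizer_iff.mpr fun z hz =>
            congrArg Subtype.val (mem_center_iff.mp y.2 ⟨z, hz⟩), by
          rw [← SubgroupClass.coe_pow, ← SubgroupClass.coe_pow, ← hy, pow_orderOf_eq_one]; rfl⟩
        rw [hV, mem_bot] at hyV
        rw [show y = 1 from Subtype.ext (Subtype.ext hyV), orderOf_one] at hy
        exact (Fact.out : p.Prime).one_lt.ne hy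
      have hindex := V.card_mul_index
      rw [index_eq_card] at hindex
      have hV1 : 2 ≤ Nat.card V := (V.one_lt_card_iff_ne_bot).mpr hV0
      have hq0 : 0 < Nat.card (G ⧸ V) := Nat.card_pos
      nlinarith
    have h2 : π a ∈ stabPre p (B.map π) := by
      by_contra h
      have hns' : ¬ StableOnNormal p (G ⧸ V) := fun hst => h (hst _ (hB.map π) (π a) (by
        have := congrArg (Subgroup.map π) hq
        rw [map_commutator, map_commutator, MonoidHom.map_zpowers, Subgroup.map_bot] at this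
        exact this))
      obtain ⟨s1, s2⟩ := ih (G ⧸ V) hcardlt hns'
      exact hno ⟨s1.of_surjective (QuotientGroup.mk'_surjective V), s2.of_surjective (QuotientGroup.mk'_surjective V)⟩
    set D := stabPre p V ⊓ (stabPre p (B.map π)).comap π with hD
    suffices hD' : D ≤ stabPre p B from hD' ⟨h1, h2⟩
    set σ := QuotientGroup.mk' (centralizer (B : Set G))
    have : (D.map σ).Normal := Normal.map inferInstance σ (QuotientGroup.mk'_surjective _)
    rw [stabPre, ← map_le_iff_le_comap]
    refine Cores.le_pCore ?_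
    rintro ⟨_, d, hd, rfl⟩
    obtain ⟨i, hi⟩ := Cores.pCore_isPGroup (p := p) ⟨_, hd.1⟩
    have hdi : d ^ p ^ i ∈ centralizer (V : Set G) :=
      (QuotientGroup.eq_one_iff _).mp (congrArg Subtype.val hi)
    obtain ⟨j, hj⟩ := Cores.pCore_isPGroup (p := p) ⟨_, hd.2⟩
    have hdj : π d ^ p ^ j ∈ centralizer ((B.map π : Subgroup (G ⧸ V)) : Set (G ⧸ V)) :=
      (QuotientGroup.eq_one_iff _).mp (congrArg Subtype.val hj)
    obtain ⟨k, hk⟩ := Cfsg.Agent.Fusion.exists_pow_coprime (p := p) (d ^ p ^ (i + j))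
    set g := (d ^ p ^ (i + j)) ^ p ^ k with hg
    have hgV : g ∈ centralizer (V : Set G) := by
      rw [hg, pow_add, pow_mul]; exact pow_mem (pow_mem hdi _) _
    have hgB : π g ∈ centralizer ((B.map π : Subgroup (G ⧸ V)) : Set (G ⧸ V)) := by
      rw [hg, map_pow, map_pow, pow_add, mul_comm, pow_mul]; exact pow_mem (pow_mem hdj _) _
    have hgc : g ∈ centralizer (B : Set G) := by
      refine mem_centralizer_iff.mpr fun b hb => ?_
      set c := b⁻¹ * (g * b * g⁻¹) with hc
      have hcV : c ∈ V := by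
        refine (QuotientGroup.eq_one_iff (N := V) _).mp ?_
        show π c = 1
        rw [hc, map_mul, map_inv, map_mul, map_mul, map_inv,
          ← mem_centralizer_iff.mp hgB _ ⟨b, hb, rfl⟩, mul_inv_cancel_right, inv_mul_cancel]
      have hgc : Commute g c := (mem_centralizer_iff.mp hgV c hcV).symm
      have hgb : g * b = b * (c * g) := by rw [hc]; group
      have hn : ∀ m : ℕ, g ^ m * b = b * (c ^ m * g ^ m) := by
        intro m
        induction m with
        | zero => simp
        | succ m ihm =>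
          calc g ^ (m + 1) * b = g * (g ^ m * b) := by rw [pow_succ', mul_assoc]
            _ = (g * b) * (c ^ m * g ^ m) := by rw [ihm, mul_assoc]
            _ = b * (c * ((g * c ^ m) * g ^ m)) := by rw [hgb]; simp only [mul_assoc]
            _ = _ := by
              rw [(hgc.pow_right m).eq, pow_succ' c, pow_succ' g]
              simp only [mul_assoc]
      have h := hn (orderOf g)
      rw [pow_orderOf_eq_one, one_mul, mul_one] at h
      have hc1 : c = 1 := orderOf_eq_one_iff.mp (Nat.eq_one_of_dvd_coprimes hk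
        (orderOf_dvd_of_pow_eq_one (left_eq_mul.mp h)) (orderOf_dvd_of_pow_eq_one hcV.2.2))
      rw [hgb, hc1, one_mul]
    refine ⟨i + j + k, Subtype.ext ?_⟩
    show σ d ^ p ^ (i + j + k) = 1
    rw [← map_pow, pow_add, pow_mul]
    exact (QuotientGroup.eq_one_iff _).mpr hgc

theorem stableOnNormal_of_qd_free [Finite G] [Fact p.Prime] (hp : p ≠ 2)
    (h : ¬ HasSection (qd p) G) : StableOnNormal p G := by
  by_contra hns
  exact h (hasSection_of_not_stable hp (Nat.card G) G le_rfl hns).1

theorem stableOnNormal_of_sl2_free [Finite G] [Fact p.Prime] (hp : p ≠ 2)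
    (h : ¬ HasSection (Matrix.SpecialLinearGroup (Fin 2) (ZMod p)) G) : StableOnNormal p G := by
  by_contra hns
  exact h (hasSection_of_not_stable hp (Nat.card G) G le_rfl hns).2

theorem stableOnNormal_of_abelian_sylow_two [Finite G] [Fact p.Prime] (hp : p ≠ 2) (T : Sylow 2 G)
    (hT : IsMulCommutative T) : StableOnNormal p G :=
  stableOnNormal_of_sl2_free hp (not_hasSection_SL2_of_abelian hp T hT)

end Cfsg.Agent.Thompson
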