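import Mathlib
import Cfsg.Agent.Cores.PCore
import Cfsg.Agent.Fusion.PComplement
import Cfsg.Agent.Fusion.Frobenius
import Cfsg.Agent.Coprime.Action
import Cfsg.Agent.Thompson.PStable

/-!
The Glauberman–Thompson normal `p`-complement theorem, for both versions of `Z(J(P))`.
-/

set_option autoImplicit false

namespace Cfsg.Agent.Thompson

open Subgroup
open scoped commutatorElement

universe u

theorem hasNormalPComplement_normalizer_of_map {G : Type*} [Group G] [Finite G] {H : Type*} [Group H] [Finite H]
    {p : ℕ} [Fact p.Prime] (f : H →* G) (hf : Function.Injective f) (X : Subgroup H)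
    (h : HasNormalPComplement p (normalizer ((X.map f : Subgroup G) : Set G))) :
    HasNormalPComplement p (normalizer (X : Set H)) := by
  let g : normalizer (X : Set H) →* normalizer ((X.map f : Subgroup G) : Set G) :=
    MonoidHom.codRestrict (f.comp (normalizer (X : Set H)).subtype) _ fun n => by
      refine mem_normalizer_of_map_conj ?_
      conv_rhs => rw [← map_conj_of_mem_normalizer n.2]
      rw [Subgroup.map_map, Subgroup.map_map]
      congr 1
      ext x
      simp
  exact Fusion.hasNormalPComplement_of_injective h g fun a b hab =>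
    Subtype.ext (hf (congrArg Subtype.val hab))

variable {p e : ℕ}

theorem zjay_map_of_injective_comp {G H : Type*} [Group G] [Group H] (f : G →* H) (P : Subgroup G)
    (hf : Function.Injective (f.comp P.subtype)) : zjay e (P.map f) = (zjay e P).map f := by
  have h1 : P.map f = (⊤ : Subgroup P).map (f.comp P.subtype) := by
    rw [← Subgroup.map_map, ← MonoidHom.range_eq_map P.subtype, range_subtype]
  have h2 : zjay e P = (zjay e (⊤ : Subgroup P)).map P.subtype := by
    rw [← zjay_map P.subtype P.subtype_injective, ← MonoidHom.range_eq_map P.subtype, range_subtype]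
  rw [h1, zjay_map _ hf, h2, Subgroup.map_map]

theorem exists_sylow_map_eq {G : Type*} [Group G] [Finite G] [Fact p.Prime] {M : Subgroup G}
    (P : Sylow p G) (hP : (P : Subgroup G) ≤ M) (T : Sylow p M) :
    ∃ Q : Sylow p G, (T : Subgroup M).map M.subtype = (Q : Subgroup G) := by
  obtain ⟨Q, hQ⟩ := (T.isPGroup'.map M.subtype).exists_le_sylow
  refine ⟨Q, Subgroup.eq_of_le_of_card_ge hQ ?_⟩
  rw [card_map_of_injective M.subtype_injective, ← Nat.card_congr (Sylow.equiv (P.subtype hP) T).toEquiv,
    Nat.card_congr (Sylow.equiv Q P).toEquiv]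
  exact (Nat.card_congr (subgroupOfEquivOfLe hP).toEquiv).ge

theorem hasNormalPComplement_of_subgroup {G : Type*} [Group G] [Finite G] [Fact p.Prime] {M : Subgroup G}
    (P : Sylow p G) (hP : (P : Subgroup G) ≤ M)
    (hZ : ∀ S : Sylow p G, HasNormalPComplement p (normalizer (zjay e (S : Subgroup G) : Set G)))
    (T : Sylow p M) : HasNormalPComplement p (normalizer (zjay e (T : Subgroup M) : Set M)) := by
  obtain ⟨Q, hQ⟩ := exists_sylow_map_eq P hP T
  refine hasNormalPComplement_normalizer_of_map M.subtype M.subtype_injective _ ?_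
  rw [← zjay_map M.subtype M.subtype_injective, hQ]
  exact hZ Q

/-- The structural step: in the reduced configuration the group acts `p`-stably. -/
theorem stableOnNormal_of_config {G : Type*} [Group G] [Finite G] [Fact p.Prime] (hp : p ≠ 2)
    (H : Subgroup G) [H.Normal] (hH : IsPGroup p H)
    (hR : IsMulCommutative (pResidual p (G ⧸ H))) : StableOnNormal p G := by
  refine stableOnNormal_of_abelian_sylow_two hp default (isMulCommutative_iff_forall.mpr fun x hx y hy => ?_)
  set π := QuotientGroup.mk' H
  have hT : IsPGroup 2 ((default : Sylow 2 G) : Subgroup G) := Sylow.isPGroup' _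
  have hmem : ∀ z ∈ ((default : Sylow 2 G) : Subgroup G), π z ∈ pResidual p (G ⧸ H) := fun z hz => by
    obtain ⟨n, hn⟩ := IsPGroup.iff_orderOf.mp hT ⟨z, hz⟩
    rw [orderOf_mk] at hn
    refine Fusion.mem_pResidual (((Nat.Coprime.pow_left n ?_)).coprime_dvd_left (hn ▸ orderOf_map_dvd π z))
    exact (Nat.coprime_primes Nat.prime_two Fact.out).mpr hp.symm
  have hc : π ⁅x, y⁆ = 1 := by
    rw [map_commutatorElement, commutatorElement_eq_one_iff_mul_comm]
    exact isMulCommutative_iff_forall.mp hR _ (hmem x hx) _ (hmem y hy)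
  have hxyH : ⁅x, y⁆ ∈ H := (QuotientGroup.eq_one_iff _).mp hc
  have hxyT : ⁅x, y⁆ ∈ ((default : Sylow 2 G) : Subgroup G) := by
    rw [commutatorElement_def]
    exact mul_mem (mul_mem (mul_mem hx hy) (Subgroup.inv_mem _ hx)) (Subgroup.inv_mem _ hy)
  refine commutatorElement_eq_one_iff_mul_comm.mp ?_
  have hd : Disjoint ((default : Sylow 2 G) : Subgroup G) H := hT.disjoint_of_ne 2 p (Ne.symm hp) _ _ hH
  exact mem_bot.mp (hd.le_bot ⟨hxyT, hxyH⟩)

theorem hasNormalPComplement_of_zjay_aux [Fact p.Prime] (hp : p ≠ 2) (he : e = 0 ∨ e = p) :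
    ∀ (n : ℕ) (G : Type u) [Group G] [Finite G], Nat.card G ≤ n →
      (∀ S : Sylow p G, HasNormalPComplement p (normalizer (zjay e (S : Subgroup G) : Set G))) →
      HasNormalPComplement p G := by
  intro n
  induction n with
  | zero => intro G _ _ hc; exact absurd hc (Nat.not_le.mpr Nat.card_pos)
  | succ n ih =>
    intro G _ _ hcard hZ
    by_contra hG
    have hlt : ∀ M : Subgroup G, M ≠ ⊤ → Nat.card M ≤ n := fun M hM => by
      have : Nat.card M < Nat.card G := lt_of_le_of_ne (card_le_card_group M) fun h => hM (eq_top_of_card_eq M h)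
      omega
    have hquot : ∀ (K : Subgroup G) [K.Normal], K ≠ ⊥ → Nat.card (G ⧸ K) ≤ n := by
      intro K _ hK
      have h1 := K.card_mul_index
      rw [index_eq_card] at h1
      have h2 : 2 ≤ Nat.card K := K.one_lt_card_iff_ne_bot.mpr hK
      have h3 : 0 < Nat.card (G ⧸ K) := Nat.card_pos
      nlinarith
    have hsub : ∀ M : Subgroup G, M ≠ ⊤ → ∀ P : Sylow p G, (P : Subgroup G) ≤ M → HasNormalPComplement p M :=
      fun M hM P hP => ih M (hlt M hM) (hasNormalPComplement_of_subgroup P hP hZ)
    -- a non-trivial normal `p`-subgroup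
    obtain ⟨H, hHn, hH, hH1⟩ : ∃ H : Subgroup G, H.Normal ∧ IsPGroup p H ∧ H ≠ ⊥ := by
      have hloc : ¬ ∀ Q : Subgroup G, IsPGroup p Q → Q ≠ ⊥ → HasNormalPComplement p (normalizer (Q : Set G)) :=
        fun h => hG (Fusion.frobenius_local.mpr h)
      push Not at hloc
      obtain ⟨H, ⟨hH, hH1, hHN⟩, hmax⟩ := Set.exists_max_image
        {Q : Subgroup G | IsPGroup p Q ∧ Q ≠ ⊥ ∧ ¬ HasNormalPComplement p (normalizer (Q : Set G))}
        (fun Q => (Nat.card (normalizer (Q : Set G))).factorization p) (Set.toFinite _) hloc
      set M := normalizer (H : Set G) with hM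
      by_cases hMtop : M = ⊤
      · exact ⟨H, normalizer_eq_top_iff.mp hMtop, hH, hH1⟩
      refine absurd (ih M (hlt M hMtop) fun T => ?_) hHN
      refine hasNormalPComplement_normalizer_of_map M.subtype M.subtype_injective _ ?_
      rw [← zjay_map M.subtype M.subtype_injective]
      set T' := (T : Subgroup M).map M.subtype with hT'
      have hT'p : IsPGroup p T' := T.isPGroup'.map M.subtype
      obtain ⟨P', hP'⟩ := hT'p.exists_le_sylow
      rcases eq_or_lt_of_le hP' with heq | hlt'
      · rw [heq]; exact hZ P'
      have hT'1 : T' ≠ ⊥ := by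
        intro h
        apply hH1
        have hHM : H ≤ M := le_normalizer
        have : (H.subgroupOf M).Normal := normal_subgroupOf_of_le_normalizer le_rfl
        have hle := IsPGroup.le_sylow_of_normal (N := H.subgroupOf M) hH.comap_subtype T
        rw [← le_bot_iff, ← h, hT', ← map_subgroupOf_eq_of_le hHM]
        exact map_mono hle
      by_contra hX
      have hXp : IsPGroup p (zjay e T') := hT'p.to_le zjay_le
      have hle := hmax (zjay e T') ⟨hXp, zjay_ne_bot hT'p hT'1 he, hX⟩
      -- `N_{P'}(T')` is larger than `T'`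
      have hlt2 : T'.subgroupOf (P' : Subgroup G) < ⊤ :=
        lt_of_le_of_ne le_top fun h => hlt'.not_ge (subgroupOf_eq_top.mp h)
      have : Group.IsNilpotent (P' : Subgroup G) := P'.isPGroup'.isNilpotent
      obtain ⟨m, hm1, hm2⟩ := SetLike.exists_of_lt (Group.normalizerCondition_of_isNilpotent _ hlt2)
      rw [mem_subgroupOf] at hm2
      have hmN : (m : G) ∈ normalizer (T' : Set G) := by
        refine mem_normalizer_fintype fun x hx => ?_
        exact ((Subgroup.mem_normalizer_iff.mp hm1) ⟨x, hP' hx⟩).mp hx
      set U := (P' : Subgroup G) ⊓ normalizer (T' : Set G)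
      have hTU : T' < U := lt_of_le_of_ne (le_inf hP' le_normalizer) fun h => hm2 (h ▸ ⟨m.2, hmN⟩)
      have hUN : U ≤ normalizer (zjay e T' : Set G) := inf_le_right.trans
        ((normalizer_le_normalizer_jay e T').trans (normalizer_jay_le_normalizer_zjay e T'))
      obtain ⟨j, hj⟩ := IsPGroup.iff_card.mp (P'.isPGroup'.to_le (inf_le_left : U ≤ (P' : Subgroup G)))
      have hj' : j ≤ (Nat.card (normalizer (zjay e T' : Set G))).factorization p :=
        ((Fact.out : p.Prime).pow_dvd_iff_le_factorization Nat.card_pos.ne').mp (hj ▸ card_dvd_of_le hUN)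
      have hcU : Nat.card T' < Nat.card U := lt_of_le_of_ne (card_le_of_le hTU.le)
        fun hc => hTU.ne (Subgroup.eq_of_le_of_card_ge hTU.le hc.ge)
      rw [hT', card_map_of_injective M.subtype_injective, T.card_eq_multiplicity, hj] at hcU
      exact absurd ((Nat.pow_lt_pow_iff_right (Fact.out : p.Prime).one_lt).mp hcU) (not_lt.mpr (hj'.trans hle))
    -- no normal `p'`-subgroup
    have hK : pPrimeCore p G = ⊥ := by
      by_contra hK
      apply hG
      refine Fusion.hasNormalPComplement_of_quotient_normal _ Cores.not_dvd_card_pPrimeCore (ih _ (hquot _ hK) fun S' => ?_)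
      set K := pPrimeCore p G
      set π := QuotientGroup.mk' K
      obtain ⟨S, rfl⟩ := Sylow.mapSurjective_surjective (QuotientGroup.mk'_surjective K) p S'
      have hdisj : Disjoint (S : Subgroup G) K := by
        obtain ⟨k, hk⟩ := IsPGroup.iff_card.mp S.isPGroup'
        exact disjoint_of_coprime_natCard (hk ▸ (Cores.coprime_card_pPrimeCore (p := p) (G := G)).symm.pow_left k)
      have hinj : Function.Injective (π.comp (S : Subgroup G).subtype) := by
        rw [injective_iff_map_eq_one]
        intro x hx
        exact Subtype.ext (mem_bot.mp (hdisj.le_bot ⟨x.2, (QuotientGroup.eq_one_iff _).mp hx⟩))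
      rw [Sylow.coe_mapSurjective, zjay_map_of_injective_comp π _ hinj]
      set Z := zjay e (S : Subgroup G)
      let g : normalizer (Z : Set G) →* normalizer ((Z.map π : Subgroup (G ⧸ K)) : Set (G ⧸ K)) :=
        MonoidHom.codRestrict (π.comp (normalizer (Z : Set G)).subtype) _ fun m => by
          refine mem_normalizer_of_map_conj ?_
          conv_rhs => rw [← map_conj_of_mem_normalizer m.2]
          rw [Subgroup.map_map, Subgroup.map_map]
          congr 1
      refine Fusion.hasNormalPComplement_of_surjective (hZ S) g fun ⟨y, hy⟩ => ?_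
      obtain ⟨a, rfl⟩ := QuotientGroup.mk'_surjective K y
      have hle : Z.map (MulAut.conj a).toMonoidHom ≤ K ⊔ Z := by
        rintro _ ⟨z, hz, rfl⟩
        have := (Subgroup.mem_normalizer_iff.mp hy (π z)).mp ⟨z, hz, rfl⟩
        have h2 : a * z * a⁻¹ ∈ (Z.map π).comap π := by
          simpa only [mem_comap, map_mul, map_inv] using this
        rw [comap_map_eq, QuotientGroup.ker_mk', sup_comm] at h2
        simpa using h2
      have hcop : (Nat.card Z).Coprime (Nat.card K) := by
        obtain ⟨k, hk⟩ := IsPGroup.iff_card.mp (S.isPGroup'.to_le (zjay_le : Z ≤ _))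
        exact hk ▸ (Cores.coprime_card_pPrimeCore (p := p) (G := G)).symm.pow_left k
      have hZab : IsMulCommutative Z := isMulCommutative_zjay e (S : Subgroup G)
      have hsolv : Group.IsSolvable Z := Coprime.isSolvable_of_isMulCommutative (H := Z)
      obtain ⟨k, hk, hkeq⟩ := Coprime.exists_conj_of_le_sup (N := K) (H₁ := Z)
        ((normalizer_eq_top (H := K)).symm ▸ le_top) hle (card_map_of_injective (MulAut.conj a).injective) hcop (.inl hsolv)
      have hka : k⁻¹ * a ∈ normalizer (Z : Set G) := by
        refine mem_normalizer_of_map_conj ?_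
        have h := congrArg (Subgroup.map (MulAut.conj k⁻¹).toMonoidHom) hkeq
        rw [Subgroup.map_map, Subgroup.map_map] at h
        have e1 : (MulAut.conj k⁻¹).toMonoidHom.comp (MulAut.conj k).toMonoidHom = MonoidHom.id G := by
          ext x; show k⁻¹ * (k * x * k⁻¹) * k⁻¹⁻¹ = x; group
        have e2 : (MulAut.conj k⁻¹).toMonoidHom.comp (MulAut.conj a).toMonoidHom = (MulAut.conj (k⁻¹ * a)).toMonoidHom := by
          ext x; simp [mul_assoc]
        rwa [e1, e2, Subgroup.map_id] at h
      refine ⟨⟨k⁻¹ * a, hka⟩, Subtype.ext ?_⟩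
      show π (k⁻¹ * a) = π a
      rw [map_mul, map_inv, show π k = 1 from (QuotientGroup.eq_one_iff k).mpr hk, inv_one, one_mul]
    -- the quotient by `O_p(G)`
    set O := pCore p G
    have hO1 : O ≠ ⊥ := fun h => hH1 (le_bot_iff.mp (h ▸ (Cores.le_pCore hH : H ≤ O)))
    set π := QuotientGroup.mk' O
    have hOq : pCore p (G ⧸ O) = ⊥ := Cores.pCore_quotient_pCore
    have hQ : HasNormalPComplement p (G ⧸ O) := by
      refine ih _ (hquot O hO1) fun S' => ?_
      obtain ⟨S, rfl⟩ := Sylow.mapSurjective_surjective (QuotientGroup.mk'_surjective O) p S'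
      rw [Sylow.coe_mapSurjective]
      by_cases hS0 : (S : Subgroup G).map π = ⊥
      · exfalso
        rw [Subgroup.map_eq_bot_iff, QuotientGroup.ker_mk'] at hS0
        have hSO : (S : Subgroup G) = O := le_antisymm hS0 (Cores.pCore_le_sylow S)
        apply hG
        have htop : normalizer (zjay e (S : Subgroup G) : Set G) = ⊤ := top_le_iff.mp (by
          refine le_trans ?_ ((normalizer_le_normalizer_jay e _).trans (normalizer_jay_le_normalizer_zjay e _))
          rw [hSO, normalizer_eq_top])
        have := hZ S
        rw [htop] at this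
        exact (Fusion.hasNormalPComplement_congr (Subgroup.topEquiv (G := G))).mp this
      set Z := zjay e ((S : Subgroup G).map π)
      set M := (normalizer (Z : Set (G ⧸ O))).comap π
      have hMtop : M ≠ ⊤ := by
        intro h
        have hn : normalizer (Z : Set (G ⧸ O)) = ⊤ := by
          rw [← map_comap_eq_self_of_surjective (QuotientGroup.mk'_surjective O) (normalizer (Z : Set (G ⧸ O)))]
          show M.map π = ⊤
          rw [h, Subgroup.map_top_of_surjective _ (QuotientGroup.mk'_surjective O)]
        have : Z.Normal := normalizer_eq_top_iff.mp hn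
        have hZp : IsPGroup p Z := (S.isPGroup'.map π).to_le zjay_le
        exact zjay_ne_bot (S.isPGroup'.map π) hS0 he (le_bot_iff.mp (hOq ▸ Cores.le_pCore hZp))
      have hSM : (S : Subgroup G) ≤ M := fun s hs => le_normalizer_zjay e _ ⟨s, hs, rfl⟩
      exact Fusion.hasNormalPComplement_of_surjective (hsub M hMtop S hSM) (π.subgroupComap _)
        fun ⟨y, hy⟩ => by
          obtain ⟨a, rfl⟩ := QuotientGroup.mk'_surjective O y
          exact ⟨⟨a, hy⟩, rfl⟩
    set R := pResidual p (G ⧸ O) with hRdef
    have hRc : ¬ p ∣ Nat.card R := Fusion.hasNormalPComplement_iff_pResidual.mp hQ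
    have hcentral : centralizer (O : Set G) ≤ O := by
      set C := centralizer (O : Set G)
      set CK := C ⊓ R.comap π
      have hCKO : CK ≤ O := by
        have hZc : ∀ x : CK, (x : G) ∈ O → x ∈ Subgroup.center CK := fun x hx => by
          refine mem_center_iff.mpr fun y => Subtype.ext ?_
          exact (mem_centralizer_iff.mp y.2.1 x hx).symm
        let Q : Subgroup CK := O.subgroupOf CK
        have hidx : ¬ p ∣ Q.index := by
          intro h
          apply hRc
          refine h.trans ?_
          show O.relIndex CK ∣ Nat.card R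
          have e1 := Subgroup.relIndex_ker (K := CK) π
          rw [QuotientGroup.ker_mk'] at e1
          rw [e1]
          exact card_dvd_of_le (map_le_iff_le_comap.mpr inf_le_right)
        let QS : Sylow p CK := (Cores.pCore_isPGroup.comap_subtype : IsPGroup p Q).toSylow hidx
        have hCKc : HasNormalPComplement p CK := by
          refine Fusion.hasNormalPComplement_of_normalizer_le_centralizer QS fun y _ => ?_
          exact mem_centralizer_iff.mpr fun x hx => (mem_center_iff.mp (hZc x hx) y).symm
        have h0 : (pResidual p CK).map CK.subtype = ⊥ := by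
          have : CK.Normal := inferInstance
          rw [eq_bot_iff, ← hK]
          refine Cores.le_pPrimeCore ?_
          rw [card_map_of_injective CK.subtype_injective]
          exact ((Fact.out : p.Prime).coprime_iff_not_dvd.mpr
            (Fusion.hasNormalPComplement_iff_pResidual.mp hCKc)).symm
        rw [Subgroup.map_eq_bot_iff_of_injective _ CK.subtype_injective] at h0
        refine Cores.le_pCore (hN := (inferInstance : CK.Normal)) ?_
        have := Fusion.isPGroup_quotient_pResidual (p := p) (G := CK)
        exact this.of_injective (QuotientGroup.mk' (pResidual p CK)) (by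
          rw [← MonoidHom.ker_eq_bot_iff, QuotientGroup.ker_mk', h0])
      have hCn : (C.map π).Normal := (inferInstance : C.Normal).map π (QuotientGroup.mk'_surjective O)
      have hCp : IsPGroup p (C.map π) := by
        refine (Fusion.isPGroup_quotient_pResidual (p := p) (G := G ⧸ O)).of_injective
          ((QuotientGroup.mk' R).comp (C.map π).subtype) ?_
        rw [injective_iff_map_eq_one]
        rintro ⟨_, c, hc, rfl⟩ h
        have hcR : π c ∈ R := (QuotientGroup.eq_one_iff _).mp h
        exact Subtype.ext ((QuotientGroup.eq_one_iff c).mpr (hCKO ⟨hc, hcR⟩))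
      have := (Cores.le_pCore (hN := hCn) hCp).trans hOq.le
      rw [le_bot_iff, Subgroup.map_eq_bot_iff, QuotientGroup.ker_mk'] at this
      exact this
    -- overgroups of a Sylow subgroup
    have hover : ∀ (S : Sylow p G) (L : Subgroup G), (S : Subgroup G) ≤ L → L ≠ ⊤ → L = (S : Subgroup G) := by
      intro S L hSL hL
      have hLc := hsub L hL S hSL
      have hOL : O ≤ L := (Cores.pCore_le_sylow S).trans hSL
      have h0 : pResidual p L = ⊥ := by
        refine (eq_bot_iff_forall _).mpr fun x hx => ?_
        have hxc : (x : G) ∈ centralizer (O : Set G) := mem_centralizer_iff.mpr fun o ho => by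
          have hcomm := Fusion.commute_of_hasNormalPComplement hLc (Q := O.subgroupOf L)
            Cores.pCore_isPGroup.comap_subtype ((Fusion.mem_pResidual_iff_of_hasNormalPComplement hLc).mp hx)
            (x := ⟨o, hOL ho⟩) ho
          exact (congrArg Subtype.val hcomm).symm
        obtain ⟨k, hk⟩ := Cores.pCore_isPGroup (p := p) (⟨(x : G), hcentral hxc⟩ : O)
        have hox : orderOf x ∣ p ^ k := orderOf_dvd_of_pow_eq_one (Subtype.ext (congrArg Subtype.val hk :))
        exact orderOf_eq_one_iff.mp (Nat.eq_one_of_dvd_coprimes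
          (((Fusion.mem_pResidual_iff_of_hasNormalPComplement hLc).mp hx).pow_right k) dvd_rfl hox)
      refine le_antisymm ?_ hSL
      have hLp : IsPGroup p L := (Fusion.isPGroup_quotient_pResidual (p := p) (G := L)).of_injective
        (QuotientGroup.mk' (pResidual p L)) (by rw [← MonoidHom.ker_eq_bot_iff, QuotientGroup.ker_mk', h0])
      exact (S.is_maximal' hLp hSL).le
    obtain ⟨S⟩ := (inferInstance : Nonempty (Sylow p G))
    set Pb := (S : Subgroup G).map π with hPb
    have hRP : R ⊔ Pb = ⊤ := by
      rw [sup_comm, hPb, ← Sylow.coe_mapSurjective (hf := QuotientGroup.mk'_surjective O)]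
      exact Fusion.sylow_sup_pResidual _
    have hinvariant : ∀ X : Subgroup (G ⧸ O), X ≤ R → X ≠ ⊥ → Pb ≤ normalizer (X : Set (G ⧸ O)) → X = R := by
      intro X hXR hX hXn
      have htop : (X ⊔ Pb).comap π = ⊤ := by
        by_contra hne
        have h1 := hover S _ (fun s hs => mem_comap.mpr (mem_sup_right (show π s ∈ Pb from ⟨s, hs, rfl⟩))) hne
        apply hX
        rw [eq_bot_iff]
        intro x hx
        obtain ⟨a, rfl⟩ := QuotientGroup.mk'_surjective O x
        have ha : a ∈ (S : Subgroup G) := h1 ▸ mem_comap.mpr (mem_sup_left hx)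
        have hpa : π a ∈ (S : Subgroup G).map π := ⟨a, ha, rfl⟩
        obtain ⟨k, hk⟩ := IsPGroup.iff_orderOf.mp (S.isPGroup'.map π) ⟨π a, hpa⟩
        rw [Subgroup.orderOf_mk] at hk
        have hd : orderOf (π a) ∣ Nat.card R := Subgroup.orderOf_dvd_natCard R (hXR hx)
        refine orderOf_eq_one_iff.mp (Nat.eq_one_of_dvd_coprimes ?_ hk.dvd hd)
        exact ((Fact.out : p.Prime).coprime_iff_not_dvd.mpr hRc).pow_left k
      refine le_antisymm hXR fun r hr => ?_
      obtain ⟨a, rfl⟩ := QuotientGroup.mk'_surjective O r
      have hmem : π a ∈ ((X ⊔ Pb : Subgroup (G ⧸ O)) : Set (G ⧸ O)) := mem_comap.mp (htop ▸ mem_top a)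
      rw [coe_mul_of_right_le_normalizer_left X Pb hXn] at hmem
      obtain ⟨x, hx, s, hs, hxs⟩ := hmem
      have hsR : s ∈ R := by
        rw [show s = x⁻¹ * π a by rw [← hxs]; simp]
        exact mul_mem (inv_mem (hXR hx)) hr
      obtain ⟨k, hk⟩ := IsPGroup.iff_orderOf.mp (S.isPGroup'.map π) ⟨s, hs⟩
      rw [orderOf_mk] at hk
      have hs1 : s = 1 := orderOf_eq_one_iff.mp (Nat.eq_one_of_dvd_coprimes
        (((Fact.out : p.Prime).coprime_iff_not_dvd.mpr hRc).pow_left k) hk.dvd (Subgroup.orderOf_dvd_natCard R hsR))
      rw [← hxs, hs1]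
      simpa using hx
    have hR : IsMulCommutative R := by
      by_cases hR0 : R = ⊥
      · exact isMulCommutative_iff_forall.mpr fun a ha b hb => by
          rw [hR0, mem_bot] at ha hb; rw [ha, hb]
      obtain ⟨q, hq, hqd⟩ := Nat.exists_prime_and_dvd (n := Nat.card R)
        (by have := R.one_lt_card_iff_ne_bot.mpr hR0; omega)
      have : Fact q.Prime := ⟨hq⟩
      have hcop : (Nat.card Pb).Coprime (Nat.card R) := by
        obtain ⟨k, hk⟩ := IsPGroup.iff_card.mp (S.isPGroup'.map π)
        exact hk ▸ ((Fact.out : p.Prime).coprime_iff_not_dvd.mpr hRc).pow_left k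
      have : Group.IsNilpotent Pb := (S.isPGroup'.map π).isNilpotent
      have hPn : Pb ≤ normalizer (R : Set (G ⧸ O)) := (normalizer_eq_top (H := R)).symm ▸ le_top
      obtain ⟨Q, hQn⟩ := Coprime.exists_invariant_sylow hPn hcop (.inl inferInstance) q
      set Q' := (Q : Subgroup R).map R.subtype
      have hQ'1 : Q' ≠ ⊥ := by
        rw [Ne, Subgroup.map_eq_bot_iff_of_injective _ R.subtype_injective]
        exact Q.ne_bot_of_dvd_card hqd
      have hQR : Q' = R := hinvariant Q' (map_subtype_le _) hQ'1 hQn
      have hRq : IsPGroup q R := hQR ▸ Q.isPGroup'.map R.subtype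
      have : Nontrivial R := R.nontrivial_iff_ne_bot.mpr hR0
      have hcn : Nontrivial (Subgroup.center R) := hRq.center_nontrivial
      have hCenter : (Subgroup.center R).map R.subtype = R := by
        refine hinvariant _ (map_subtype_le _) ?_ ?_
        · rw [Ne, Subgroup.map_eq_bot_iff_of_injective _ R.subtype_injective]
          exact (Subgroup.nontrivial_iff_ne_bot _).mp hcn
        · exact (normalizer_eq_top (H := (Subgroup.center R).map R.subtype)).symm ▸ le_top
      refine isMulCommutative_iff_forall.mpr fun a ha b hb => ?_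
      obtain ⟨c, hc, rfl⟩ := hCenter.ge ha
      exact (congrArg Subtype.val (mem_center_iff.mp hc ⟨b, hb⟩)).symm
    have hst : StableOnNormal p G := stableOnNormal_of_config hp O Cores.pCore_isPGroup hR
    have hZn := zjay_normal hp he hcentral hst S
    have := hZ S
    rw [normalizer_eq_top (H := zjay e (S : Subgroup G))] at this
    exact hG ((Fusion.hasNormalPComplement_congr (Subgroup.topEquiv (G := G))).mp this)

/-- **Glauberman–Thompson.** -/
theorem hasNormalPComplement_iff_zjay {G : Type u} [Group G] [Finite G] [Fact p.Prime] (hp : p ≠ 2)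
    (he : e = 0 ∨ e = p) (P : Sylow p G) :
    HasNormalPComplement p G ↔ HasNormalPComplement p (normalizer (zjay e (P : Subgroup G) : Set G)) := by
  refine ⟨fun h => Fusion.hasNormalPComplement_subgroup h _, fun h => ?_⟩
  refine hasNormalPComplement_of_zjay_aux hp he (Nat.card G) G le_rfl fun S => ?_
  obtain ⟨g, hg⟩ := MulAction.exists_smul_eq G S P
  refine hasNormalPComplement_normalizer_of_map (MulAut.conj g).toMonoidHom (MulAut.conj g).injective _ ?_
  rw [← zjay_map _ (MulAut.conj g).injective]
  have : (S : Subgroup G).map (MulAut.conj g).toMonoidHom = (P : Subgroup G) := by rw [← hg]; rfl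
  rwa [this]

end Cfsg.Agent.Thompson
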