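import Mathlib
import Cfsg.Prelude.Def_Local
import Cfsg.Prelude.Def_PLocal
import Cfsg.Agent.Cores.Constrained
import Cfsg.Agent.Thompson.PStable
import Cfsg.Agent.Thompson.NormalPComplement

/-!
Bridges from the Thompson library to the Prelude's forms of `p`-stability and `Z(J)`.
-/

set_option autoImplicit false

namespace Cfsg.Agent.Thompson

open Subgroup
open scoped commutatorElement

universe u

variable {G : Type u} [Group G] {p e : ℕ}

theorem zjay_characteristic [Finite G] [Fact p.Prime] (S : Sylow p G)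
    (hn : (zjay e (S : Subgroup G)).Normal) : (zjay e (S : Subgroup G)).Characteristic := by
  refine characteristic_iff_map_eq.mpr fun φ => ?_
  obtain ⟨g, hg⟩ := MulAction.exists_smul_eq G S (S.mapSurjective (f := φ.toMonoidHom) (show Function.Surjective φ.toMonoidHom from φ.surjective))
  rw [← zjay_map φ.toMonoidHom φ.injective]
  have h : (S : Subgroup G).map φ.toMonoidHom = (S : Subgroup G).map (MulAut.conj g).toMonoidHom := by
    rw [← Sylow.coe_mapSurjective (hf := (φ.surjective : Function.Surjective φ.toMonoidHom)), ← hg]; rfl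
  rw [h, zjay_map _ (MulAut.conj g).injective]
  exact map_conj_of_mem_normalizer ((normalizer_eq_top (H := zjay e (S : Subgroup G))).ge (mem_top g))

theorem zjayLevel_map {H : Type*} [Group H] (f : G →* H) (hf : Function.Injective f) (k : ℕ)
    (P : Subgroup G) : zjayLevel p e k (P.map f) = (zjayLevel p e k P).map f := by
  ext x
  constructor
  · rintro ⟨hx1, hx2⟩
    rw [zjay_map f hf] at hx1
    obtain ⟨y, hy, rfl⟩ := hx1
    exact ⟨y, ⟨hy, hf (by rwa [map_pow, map_one])⟩, rfl⟩
  · rintro ⟨y, ⟨hy1, hy2⟩, rfl⟩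
    exact ⟨(zjay_map f hf).ge ⟨y, hy1, rfl⟩, by rw [← map_pow, hy2, map_one]⟩

theorem zjayLevel_characteristic [Finite G] [Fact p.Prime] (S : Sylow p G) (k : ℕ)
    (hn : (zjayLevel p e k (S : Subgroup G)).Normal) :
    (zjayLevel p e k (S : Subgroup G)).Characteristic := by
  refine characteristic_iff_map_eq.mpr fun φ => ?_
  obtain ⟨g, hg⟩ := MulAction.exists_smul_eq G S (S.mapSurjective (f := φ.toMonoidHom) (show Function.Surjective φ.toMonoidHom from φ.surjective))
  rw [← zjayLevel_map φ.toMonoidHom φ.injective]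
  have h : (S : Subgroup G).map φ.toMonoidHom = (S : Subgroup G).map (MulAut.conj g).toMonoidHom := by
    rw [← Sylow.coe_mapSurjective (hf := (φ.surjective : Function.Surjective φ.toMonoidHom)), ← hg]; rfl
  rw [h, zjayLevel_map _ (MulAut.conj g).injective]
  exact map_conj_of_mem_normalizer
    ((normalizer_eq_top (H := zjayLevel p e k (S : Subgroup G))).ge (mem_top g))

theorem omegaOne_zjay (P : Subgroup G) : omegaOne p (zjay e P) = zjayLevel p e 1 P := by
  refine le_antisymm ((closure_le _).mpr fun x hx => ⟨hx.1, by rw [pow_one]; exact hx.2⟩) ?_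
  rintro x ⟨hx1, hx2⟩
  exact subset_closure ⟨hx1, by rwa [pow_one] at hx2⟩

theorem omegaOne_centerThompsonOf (P : Subgroup G) :
    omegaOne p (centerThompsonOf p P) = zjayLevel p p 1 P := by
  rw [centerThompsonOf_eq, omegaOne_zjay]

theorem omegaCenterThompson_map (P : Subgroup G) :
    (omegaCenterThompson p P).map P.subtype = zjayLevel p p 1 P := by
  have h : omegaCenterThompson p P = zjayLevel p p 1 (⊤ : Subgroup P) := by
    rw [omegaCenterThompson, thompsonSubgroup_eq]
    exact omegaOne_zjay _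
  rw [h, ← zjayLevel_map P.subtype P.subtype_injective, ← MonoidHom.range_eq_map, range_subtype]

/-- `p`-stability in the normalizer form, from absence of a section -/
theorem isNormalizerPStable_of_stable {G : Type u} [Group G] [Finite G]
    (h : ∀ N : Subgroup G, StableOnNormal p N) (P : Subgroup G) (hP : IsPGroup p P) {g : G}
    (hg : g ∈ normalizer (P : Set G)) (hq : ⁅⁅P, zpowers g⁆, zpowers g⁆ = ⊥) :
    (QuotientGroup.mk (s := (centralizer (P : Set G)).subgroupOf (normalizer (P : Set G)))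
        (⟨g, hg⟩ : ↥(normalizer (P : Set G)))) ∈
      pCore p (↥(normalizer (P : Set G)) ⧸ (centralizer (P : Set G)).subgroupOf (normalizer (P : Set G))) := by
  set N := normalizer (P : Set G)
  have : (P.subgroupOf N).Normal := normal_subgroupOf_of_le_normalizer le_rfl
  have hPN : P ≤ N := le_normalizer
  have hc : centralizer ((P.subgroupOf N : Subgroup N) : Set N) = (centralizer (P : Set G)).subgroupOf N := by
    ext x
    simp only [mem_subgroupOf, mem_centralizer_iff]
    exact ⟨fun hx y hy => congrArg Subtype.val (hx ⟨y, hPN hy⟩ hy),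
      fun hx y hy => Subtype.ext (hx _ hy)⟩
  have hq' : ⁅⁅P.subgroupOf N, zpowers (⟨g, hg⟩ : N)⁆, zpowers (⟨g, hg⟩ : N)⁆ = ⊥ := by
    apply Subgroup.map_injective N.subtype_injective
    rw [map_commutator, map_commutator, MonoidHom.map_zpowers, map_subgroupOf_eq_of_le hPN, Subgroup.map_bot]
    exact hq
  have hmem := h N (P.subgroupOf N) (hP.comap_subtype) ⟨g, hg⟩ hq'
  have := Cores.pCore_map_mulEquiv (p := p) (QuotientGroup.quotientMulEquivOfEq hc)
  rw [← this]
  exact ⟨_, hmem, rfl⟩

theorem isNormalizerPStable_of_qd_free {G : Type u} [Group G] [Finite G] [Fact p.Prime] (hp : p ≠ 2)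
    (h : ¬ HasSection (qd p) G) (P : Subgroup G) (hP : IsPGroup p P) {g : G}
    (hg : g ∈ normalizer (P : Set G)) (hq : ⁅⁅P, zpowers g⁆, zpowers g⁆ = ⊥) :
    (QuotientGroup.mk (s := (centralizer (P : Set G)).subgroupOf (normalizer (P : Set G)))
        (⟨g, hg⟩ : ↥(normalizer (P : Set G)))) ∈
      pCore p (↥(normalizer (P : Set G)) ⧸ (centralizer (P : Set G)).subgroupOf (normalizer (P : Set G))) :=
  isNormalizerPStable_of_stable
    (fun N => stableOnNormal_of_qd_free hp fun h' => h (h'.of_injective N.subtype_injective)) P hP hg hq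

/-- `IsPStable` gives `p`-stable action on the normal `p`-subgroups of `G/O_{p'}(G)` -/
theorem stableOnNormal_quotient_of_isPStable [Finite G] [Fact p.Prime] (hs : IsPStable p G) :
    StableOnNormal p (G ⧸ pPrimeCore p G) := by
  set K := pPrimeCore p G
  intro B hBn hB a hq
  show QuotientGroup.mk' (centralizer (B : Set (G ⧸ K))) a ∈ pCore p _
  set π := QuotientGroup.mk' K with hπ
  set σ := QuotientGroup.mk' (centralizer (B : Set (G ⧸ K))) with hσ
  set B0 := B.comap π with hB0
  obtain ⟨P0⟩ := (inferInstance : Nonempty (Sylow p B0))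
  set P := (P0 : Subgroup B0).map B0.subtype with hP
  have hPp : IsPGroup p P := P0.isPGroup'.map _
  have hPmap : P.map π = B := by
    refine le_antisymm (Subgroup.map_le_iff_le_comap.mpr (map_subtype_le _)) fun b hb => ?_
    obtain ⟨x, rfl⟩ := QuotientGroup.mk'_surjective K b
    let ψ : B0 →* B := π.subgroupComap B
    have hψ : Function.Surjective ψ := fun ⟨z, hz⟩ => by
      obtain ⟨y, rfl⟩ := QuotientGroup.mk'_surjective K z
      exact ⟨⟨y, hz⟩, rfl⟩
    have htop : (P0.mapSurjective hψ : Subgroup B) = ⊤ :=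
      ((P0.mapSurjective hψ).is_maximal' (hB.to_subgroup (⊤ : Subgroup B) |>.of_equiv (MulEquiv.refl _)) le_top).symm
    rw [Sylow.coe_mapSurjective] at htop
    obtain ⟨y, hy, hyx⟩ := htop.ge (mem_top ⟨π x, hb⟩)
    exact ⟨y, ⟨y, hy, rfl⟩, congrArg Subtype.val hyx⟩
  have hB0eq : K ⊔ P = B0 := by
    rw [hB0, ← hPmap, comap_map_eq, QuotientGroup.ker_mk', sup_comm]
  have hfr : normalizer (P : Set G) ⊔ B0 = ⊤ := Sylow.normalizer_sup_eq_top P0
  obtain ⟨g, hg, hga⟩ : ∃ g ∈ normalizer (P : Set G), π g = a := by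
    obtain ⟨x, rfl⟩ := QuotientGroup.mk'_surjective K a
    have hx : x ∈ ((normalizer (P : Set G) ⊔ K : Subgroup G) : Set G) := by
      have htop : normalizer (P : Set G) ⊔ K = ⊤ := top_le_iff.mp (hfr ▸ sup_le le_sup_left
        (hB0eq ▸ sup_le le_sup_right (le_normalizer.trans le_sup_left)))
      rw [htop]; exact mem_top x
    rw [Subgroup.mul_normal] at hx
    obtain ⟨n, hn, k, hk, rfl⟩ := hx
    exact ⟨n, hn, by rw [map_mul, show π k = 1 from (QuotientGroup.eq_one_iff k).mpr hk, mul_one]⟩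
  obtain ⟨k, hk⟩ := pow_mem_centralizer_of_quadratic hB
    ((normalizer_eq_top (H := B)).ge (mem_top a)) hq
  -- the `p`-part of `g`
  obtain ⟨i, m, hm, hom⟩ := Nat.exists_eq_pow_mul_and_not_dvd (orderOf_pos g).ne' p (Fact.out : p.Prime).ne_one
  have hcop : (p ^ k).Coprime m := ((Fact.out : p.Prime).coprime_iff_not_dvd.mpr hm).pow_left k
  obtain ⟨s, hs1, hs2⟩ := Nat.chineseRemainder hcop 1 0
  set x := g ^ s with hx
  have hxA : IsPGroup p (zpowers x) := by
    have hd : m ∣ s := (Nat.modEq_zero_iff_dvd).mp hs2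
    have hxp : x ^ p ^ i = 1 := by
      obtain ⟨c, rfl⟩ := hd
      rw [hx, ← pow_mul, show m * c * p ^ i = orderOf g * c by rw [hom]; ring, pow_mul, pow_orderOf_eq_one, one_pow]
    rintro ⟨_, z, rfl⟩
    exact ⟨i, Subtype.ext (by
      show (x ^ z) ^ p ^ i = 1
      rw [← zpow_natCast, ← zpow_mul, mul_comm, zpow_mul, zpow_natCast, hxp, one_zpow])⟩
  have hσx : σ (π x) = σ a := by
    have hdvd : orderOf (σ a) ∣ p ^ k := orderOf_dvd_of_pow_eq_one
      ((map_pow σ a _).symm.trans ((QuotientGroup.eq_one_iff _).mpr hk))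
    rw [hx, map_pow, hga, map_pow, ← pow_mod_orderOf, (Nat.ModEq.of_dvd hdvd hs1 : s ≡ 1 [MOD orderOf (σ a)]),
      pow_mod_orderOf, pow_one]
  have hnx : ∀ z ∈ zpowers x, z ∈ normalizer (P : Set G) := fun z hz =>
    (zpowers_le.mpr (pow_mem hg s)) hz
  have hquad : ⁅⁅P, zpowers x⁆, zpowers x⁆ = ⊥ := by
    have hle : zpowers x ≤ normalizer (P : Set G) := hnx
    have h1 : ⁅⁅P, zpowers x⁆, zpowers x⁆ ≤ P := by
      have hsub : ⁅P, zpowers x⁆ ≤ P := commutator_le.mpr fun y hy z hz => by
        rw [commutatorElement_def, mul_assoc y, mul_assoc y]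
        exact mul_mem hy ((Subgroup.mem_normalizer_iff.mp (hle hz) _).mp (P.inv_mem hy))
      refine commutator_le.mpr fun y hy z hz => ?_
      rw [commutatorElement_def, mul_assoc y, mul_assoc y]
      exact mul_mem (hsub hy) ((Subgroup.mem_normalizer_iff.mp (hle hz) _).mp (P.inv_mem (hsub hy)))
    refine eq_bot_iff.mpr fun y hy => ?_
    have hyK : π y ∈ (⊥ : Subgroup (G ⧸ K)) := by
      rw [← hq]
      have := mem_map_of_mem π hy
      rw [map_commutator, map_commutator, hPmap, MonoidHom.map_zpowers, hx, map_pow, hga] at this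
      refine commutator_mono (commutator_mono le_rfl ?_) ?_ this <;> exact zpowers_le.mpr (pow_mem (mem_zpowers a) s)
    have hyK' : y ∈ K := (QuotientGroup.eq_one_iff y).mp (mem_bot.mp hyK)
    obtain ⟨n, hn⟩ := IsPGroup.iff_card.mp hPp
    refine mem_bot.mpr (orderOf_eq_one_iff.mp (Nat.eq_one_of_dvd_coprimes
      ((Cores.coprime_card_pPrimeCore (p := p) (G := G)).pow_right n)
      (Subgroup.orderOf_dvd_natCard _ hyK') (hn ▸ Subgroup.orderOf_dvd_natCard _ (h1 hy))))
  have hPpp : P ≤ pPrimePCore p G := fun y hy => by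
    show π y ∈ pCore p (G ⧸ K)
    exact Cores.le_pCore hB (hPmap ▸ mem_map_of_mem π hy)
  have hKP : (pPrimeCore p G ⊔ P).Normal := by
    show (K ⊔ P).Normal
    rw [hB0eq]; infer_instance
  have hres := hs.2.2 (zpowers x) P hxA hPp
    (fun z hz y hy => (Subgroup.mem_normalizer_iff.mp (hnx z hz) y).mp hy) hPpp hKP hquad
  set N := normalizer (P : Set G)
  let f : N →* (G ⧸ K) ⧸ centralizer (B : Set (G ⧸ K)) := σ.comp (π.comp N.subtype)
  have hker : (centralizer (P : Set G)).subgroupOf N ≤ f.ker := fun z hz => by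
    refine MonoidHom.mem_ker.mpr ((QuotientGroup.eq_one_iff _).mpr (mem_centralizer_iff.mpr ?_))
    rw [← hPmap]
    rintro _ ⟨y, hy, rfl⟩
    show π y * π z = π z * π y
    rw [← map_mul, ← map_mul]
    exact congrArg π (mem_centralizer_iff.mp hz y hy)
  have hfsur : Function.Surjective f := by
    intro w
    obtain ⟨b, rfl⟩ := QuotientGroup.mk'_surjective _ w
    obtain ⟨y, rfl⟩ := QuotientGroup.mk'_surjective K b
    have hy : y ∈ ((N ⊔ K : Subgroup G) : Set G) := by
      have htop : N ⊔ K = ⊤ := top_le_iff.mp (hfr ▸ sup_le le_sup_left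
        (hB0eq ▸ sup_le le_sup_right (le_normalizer.trans le_sup_left)))
      rw [htop]; exact mem_top y
    rw [Subgroup.mul_normal] at hy
    obtain ⟨n, hn, c, hc, rfl⟩ := hy
    exact ⟨⟨n, hn⟩, by
      show σ (π n) = σ (π (n * c))
      rw [map_mul π, show π c = 1 from (QuotientGroup.eq_one_iff c).mpr hc, mul_one]⟩
  have hlift : Function.Surjective (QuotientGroup.lift _ f hker) :=
    QuotientGroup.lift_surjective_of_surjective _ _ hfsur hker
  have hxmem : (QuotientGroup.mk (⟨x, hnx x (mem_zpowers x)⟩ : N) : N ⧸ (centralizer (P : Set G)).subgroupOf N)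
      ∈ pCore p _ := hres ⟨⟨x, hnx x (mem_zpowers x)⟩, mem_zpowers x, rfl⟩
  have := Cores.pCore_map_le hlift ⟨_, hxmem, rfl⟩
  rw [QuotientGroup.lift_mk] at this
  rw [← hσx]
  exact this

theorem centralizer_pCore_quotient_le [Finite G] [Fact p.Prime] (hc : IsPConstrained p G) :
    centralizer (pCore p (G ⧸ pPrimeCore p G) : Set (G ⧸ pPrimeCore p G)) ≤
      pCore p (G ⧸ pPrimeCore p G) :=
  Cores.isPConstrained_iff.mp hc

/-- `G = O_{p'}(G) N(Z(J(S)))` when `Z(J)` is normal modulo `O_{p'}` -/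
theorem sup_normalizer_zjay_of_quotient [Finite G] [Fact p.Prime] (S : Sylow p G)
    (hn : ∀ S' : Sylow p (G ⧸ pPrimeCore p G), (zjay e (S' : Subgroup (G ⧸ pPrimeCore p G))).Normal) :
    pPrimeCore p G ⊔ normalizer (zjay e (S : Subgroup G) : Set G) = ⊤ := by
  set N := pPrimeCore p G with hN
  set q := QuotientGroup.mk' N with hq
  set Z := zjay e (S : Subgroup G) with hZ
  have hinj : Function.Injective (q.comp (S : Subgroup G).subtype) := by
    rw [injective_iff_map_eq_one]
    intro x hx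
    have h1 : (x : G) ∈ (S : Subgroup G) ⊓ N := ⟨x.2, (QuotientGroup.eq_one_iff _).mp hx⟩
    rw [Cores.disjoint_of_isPGroup_of_coprime S.isPGroup' Cores.coprime_card_pPrimeCore, mem_bot] at h1
    exact Subtype.ext h1
  let S' : Sylow p (G ⧸ N) := S.mapSurjective (QuotientGroup.mk'_surjective N)
  have hn := hn S'
  have himg : zjay e (S' : Subgroup (G ⧸ N)) = Z.map q :=
    zjay_map_of_injective_comp q (S : Subgroup G) hinj
  rw [himg] at hn
  haveI : (Z ⊔ N).Normal := by
    have h1 := hn.comap q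
    rwa [Subgroup.comap_map_eq, hq, QuotientGroup.ker_mk'] at h1
  have hcard : Nat.card ↥(Z ⊔ N) = Nat.card Z * Nat.card N := by
    have h1 := Cores.card_sup_mul_card_inf Z N
    have h2 : Z ⊓ N = ⊥ := le_bot_iff.mp (le_trans (inf_le_inf_right N zjay_le)
      (Cores.disjoint_of_isPGroup_of_coprime S.isPGroup' Cores.coprime_card_pPrimeCore).le)
    rwa [h2, card_eq_one.mpr rfl, mul_one] at h1
  have hZp : IsPGroup p (Z.subgroupOf (Z ⊔ N)) :=
    (S.isPGroup'.to_le zjay_le).comap_subtype
  have hidx : ¬ p ∣ (Z.subgroupOf (Z ⊔ N)).index := by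
    have h1 : Nat.card Z * (Z.subgroupOf (Z ⊔ N)).index = Nat.card Z * Nat.card N := by
      rw [← hcard, ← Subgroup.card_mul_index (Z.subgroupOf (Z ⊔ N)),
        Nat.card_congr (subgroupOfEquivOfLe (le_sup_left : Z ≤ Z ⊔ N)).toEquiv]
    rw [Nat.eq_of_mul_eq_mul_left Nat.card_pos h1, ← (Fact.out : p.Prime).coprime_iff_not_dvd]
    exact Cores.coprime_card_pPrimeCore.symm
  have hfr := Sylow.normalizer_sup_eq_top (hZp.toSylow hidx)
  rw [IsPGroup.toSylow_coe, subgroupOf_map_subtype, inf_eq_left.mpr le_sup_left] at hfr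
  rw [eq_top_iff, ← hfr]
  exact sup_le le_sup_right (sup_le ((le_normalizer (H := Z)).trans le_sup_right) le_sup_left)


end Cfsg.Agent.Thompson
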