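import Mathlib
import Cfsg.Agent.Cores.PCore
import Cfsg.Agent.Cores.PSolvable
import Cfsg.Agent.Linear.Simple
import Cfsg.Agent.Thompson.PStable

/-!
Faithful quadratic action and `SL₂(p)` sections.
-/

set_option autoImplicit false

namespace Cfsg.Agent.Thompson

open Subgroup
open scoped commutatorElement

universe u

variable {G : Type u} [Group G] {p : ℕ}

local notation "SL" => Matrix.SpecialLinearGroup (Fin 2)

/-- two quadratic generators of a faithful non-`p`-group give a section `SL₂(p)` -/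
theorem exists_sl2_section_of_pair [Finite G] [Fact p.Prime] (hp : p ≠ 2) {V H : Subgroup G}
    (hVc : IsMulCommutative V) (hVp : ∀ v ∈ V, v ^ p = 1) (hHV : H ≤ normalizer (V : Set G))
    (hf : H ⊓ centralizer (V : Set G) = ⊥) {a b : G} (haH : a ∈ H) (hbH : b ∈ H)
    (hqa : ⁅⁅V, zpowers a⁆, zpowers a⁆ = ⊥) (hqb : ⁅⁅V, zpowers b⁆, zpowers b⁆ = ⊥)
    (hnp : ¬ IsPGroup p (closure ({a, b} : Set G))) :
    ∃ (M : Subgroup G) (φ : M →* SL (ZMod p)), M ≤ H ∧ Function.Surjective φ := by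
  have hle : closure ({a, b} : Set G) ≤ H := (closure_le _).mpr (by rintro x (rfl | rfl) <;> assumption)
  obtain ⟨M, φ, f, hM, hφ, -⟩ := exists_natural_section hp hVc hVp (hHV haH) (hHV hbH) hqa hqb (by
    intro h
    apply hnp
    rintro ⟨x, hx⟩
    obtain ⟨n, hn⟩ := h x hx
    exact ⟨n, Subtype.ext (mem_bot.mp (hf ▸ ⟨pow_mem (hle hx) _, hn⟩))⟩)
  exact ⟨M, φ, hM.trans hle, hφ⟩

/-- a quadratic element outside `O_p` of a faithful group gives a section `SL₂(p)` -/
theorem exists_sl2_section_of_not_mem_pCore [Finite G] [Fact p.Prime] (hp : p ≠ 2) {V H : Subgroup G}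
    (hVc : IsMulCommutative V) (hVp : ∀ v ∈ V, v ^ p = 1) (hHV : H ≤ normalizer (V : Set G))
    (hf : H ⊓ centralizer (V : Set G) = ⊥) {a : G} (haH : a ∈ H)
    (hq : ⁅⁅V, zpowers a⁆, zpowers a⁆ = ⊥) (hna : a ∉ (pCore p H).map H.subtype) :
    ∃ (M : Subgroup G) (φ : M →* SL (ZMod p)), M ≤ H ∧ Function.Surjective φ := by
  by_cases hall : ∀ g : H, IsPGroup p (closure ({(⟨a, haH⟩ : H), g * ⟨a, haH⟩ * g⁻¹} : Set H))
  · obtain ⟨N, hN1, hN2, haN⟩ := baer_suzuki (x := (⟨a, haH⟩ : H)) (p := p) hall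
    exact absurd ⟨_, Cores.le_pCore (hN := hN1) hN2 haN, rfl⟩ hna
  push Not at hall
  obtain ⟨g, hg⟩ := hall
  have hqb : ⁅⁅V, zpowers ((g : G) * a * (g : G)⁻¹)⁆, zpowers ((g : G) * a * (g : G)⁻¹)⁆ = ⊥ := by
    have h := congrArg (Subgroup.map (MulAut.conj (g : G)).toMonoidHom) hq
    rw [map_commutator, map_commutator, MonoidHom.map_zpowers, map_conj_of_mem_normalizer (hHV g.2),
      Subgroup.map_bot] at h
    exact h
  refine exists_sl2_section_of_pair hp hVc hVp hHV hf haH (mul_mem (mul_mem g.2 haH) (inv_mem g.2)) hq hqb ?_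
  intro hp'
  apply hg
  refine (hp'.to_le ?_).of_injective ((closure ({(⟨a, haH⟩ : H), g * ⟨a, haH⟩ * g⁻¹} : Set H)).equivMapOfInjective
    H.subtype H.subtype_injective).toMonoidHom (MulEquiv.injective _)
  rw [MonoidHom.map_closure, Set.image_pair]
  exact le_rfl

theorem hasSection_of_sl2_hom {X : Type*} [Group X] {M H : Subgroup G} (φ : M →* X) (hMH : M ≤ H)
    (hφ : Function.Surjective φ) : HasSection X H :=
  ⟨M.subgroupOf H, φ.comp (subgroupOfEquivOfLe hMH).toMonoidHom,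
    hφ.comp (subgroupOfEquivOfLe hMH).surjective⟩

theorem exists_quotient_of_hom {X : Type*} [Group X] {M H : Subgroup G} (φ : M →* X) (hMH : M ≤ H)
    (hφ : Function.Surjective φ) : ∃ (K L : Subgroup G) (_ : (L.subgroupOf K).Normal),
      K ≤ H ∧ Nonempty ((K ⧸ L.subgroupOf K) ≃* X) := by
  have h : (φ.ker.map M.subtype).subgroupOf M = φ.ker :=
    comap_map_eq_self_of_injective M.subtype_injective φ.ker
  have hn : ((φ.ker.map M.subtype).subgroupOf M).Normal := by rw [h]; exact φ.normal_ker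
  exact ⟨M, φ.ker.map M.subtype, hn, hMH,
    ⟨(QuotientGroup.quotientMulEquivOfEq h).trans (QuotientGroup.quotientKerEquivOfSurjective φ hφ)⟩⟩

theorem not_isPSolvable_sl2 [Fact p.Prime] (hp : 5 ≤ p) : ¬ IsPSolvable p (SL (ZMod p)) := by
  intro h
  have hs : IsSimpleGroup (Matrix.ProjectiveSpecialLinearGroup (Fin 2) (ZMod p)) :=
    Linear.isSimpleGroup_PSL_fin le_rfl (fun _ => by rw [Nat.card_zmod]; omega)
  have hq : IsPSolvable p (Matrix.ProjectiveSpecialLinearGroup (Fin 2) (ZMod p)) :=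
    Cores.isPSolvable_quotient h _
  have hpp : p.Prime := Fact.out
  let u : SL (ZMod p) := ⟨!![1, 1; 0, 1], by simp [Matrix.det_fin_two]⟩
  let w : SL (ZMod p) := ⟨!![1, 0; 1, 1], by simp [Matrix.det_fin_two]⟩
  have hpow : ∀ n : ℕ, ((u ^ n : SL (ZMod p)) : Matrix (Fin 2) (Fin 2) (ZMod p)) = !![1, (n : ZMod p); 0, 1] := by
    intro n
    induction n with
    | zero => ext i j; fin_cases i <;> fin_cases j <;> simp
    | succ n ih =>
      rw [pow_succ, Matrix.SpecialLinearGroup.coe_mul, ih]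
      ext i j; fin_cases i <;> fin_cases j <;> simp [u, add_comm]
  have hup : u ^ p = 1 := Subtype.ext (by
    rw [hpow]; ext i j; fin_cases i <;> fin_cases j <;> simp)
  set π := QuotientGroup.mk' (center (SL (ZMod p)))
  have hu1 : π u ≠ 1 := by
    intro h1
    have hc := mem_center_iff.mp ((QuotientGroup.eq_one_iff u).mp h1) w
    have := congrArg (fun m : SL (ZMod p) => m 0 0) hc
    simp only [Matrix.SpecialLinearGroup.coe_mul] at this
    simp [u, w, Matrix.mul_apply] at this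
  have : Nontrivial (Matrix.ProjectiveSpecialLinearGroup (Fin 2) (ZMod p)) := ⟨π u, 1, hu1⟩
  rcases Cores.pCore_ne_bot_or_pPrimeCore_ne_bot hq with h1 | h1
  · have ht := (hs.eq_bot_or_eq_top_of_normal (pCore p _) inferInstance).resolve_left h1
    have hpg : IsPGroup p (⊤ : Subgroup (Matrix.ProjectiveSpecialLinearGroup (Fin 2) (ZMod p))) :=
      ht ▸ Cores.pCore_isPGroup
    have hP := hpg.of_equiv Subgroup.topEquiv
    have hc : (center (Matrix.ProjectiveSpecialLinearGroup (Fin 2) (ZMod p))) = ⊤ :=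
      (hs.eq_bot_or_eq_top_of_normal _ inferInstance).resolve_left
        ((center (Matrix.ProjectiveSpecialLinearGroup (Fin 2) (ZMod p))).nontrivial_iff_ne_bot.mp hP.center_nontrivial)
    obtain ⟨x, y, hxy⟩ := Linear.exists_not_commute_PSL (ι := Fin 2) (F := ZMod p) (Or.inr ⟨2, by
      intro h2; have := (ZMod.natCast_eq_zero_iff 2 p).mp (by exact_mod_cast h2)
      have := Nat.le_of_dvd (by norm_num) this; omega, by
      intro h2
      have h3 : ((3 : ℕ) : ZMod p) = 0 := by push_cast; linear_combination h2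
      have := Nat.le_of_dvd (by norm_num) ((ZMod.natCast_eq_zero_iff 3 p).mp h3); omega⟩)
    exact hxy ((mem_center_iff.mp (hc ▸ mem_top y) x))
  · have ht := (hs.eq_bot_or_eq_top_of_normal (pPrimeCore p _) inferInstance).resolve_left h1
    have hcop := Cores.coprime_card_pPrimeCore (p := p) (G := Matrix.ProjectiveSpecialLinearGroup (Fin 2) (ZMod p))
    rw [ht, Subgroup.card_top] at hcop
    have ho : orderOf (π u) = p := by
      refine orderOf_eq_prime ?_ hu1
      rw [← map_pow, hup, map_one]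
    have hd : p ∣ Nat.card (Matrix.ProjectiveSpecialLinearGroup (Fin 2) (ZMod p)) := by
      conv_lhs => rw [← ho]
      exact _root_.orderOf_dvd_natCard (π u)
    exact hpp.one_lt.ne' (Nat.eq_one_of_dvd_coprimes hcop.symm dvd_rfl hd)

/-- a `p`-soluble group has a section `SL₂(p)`, `p` odd, only for `p = 3` -/
theorem eq_three_of_isPSolvable [Fact p.Prime] (hp : p ≠ 2) {M : Subgroup G} [Finite M]
    (hM : IsPSolvable p M) (φ : M →* SL (ZMod p)) (hφ : Function.Surjective φ) : p = 3 := by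
  have h2 := (Fact.out : p.Prime).two_le
  by_contra h3
  have h4 : p ≠ 4 := fun h => absurd (h ▸ (Fact.out : p.Prime)) (by norm_num)
  exact not_isPSolvable_sl2 (by omega) (Cores.isPSolvable_of_surjective hM φ hφ)

end Cfsg.Agent.Thompson

namespace Cfsg.Agent.Thompson

open Subgroup
open scoped commutatorElement

universe u

variable {G : Type u} [Group G] {p : ℕ}

/-- a quadratic element of a faithful group on elementary abelian `V` has order dividing `p` -/
theorem pow_prime_eq_one_of_quadratic [Fact p.Prime] {V H : Subgroup G} (hVp : ∀ v ∈ V, v ^ p = 1)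
    (hHV : H ≤ normalizer (V : Set G)) (hf : H ⊓ centralizer (V : Set G) = ⊥) {a : G} (haH : a ∈ H)
    (hq : ⁅⁅V, zpowers a⁆, zpowers a⁆ = ⊥) : a ^ p = 1 := by
  refine mem_bot.mp (hf ▸ ⟨pow_mem haH p, mem_centralizer_iff.mpr fun v hv => ?_⟩)
  have hcV : ⁅a, v⁆ ∈ V := by
    rw [commutatorElement_def]
    exact mul_mem ((Subgroup.mem_normalizer_iff.mp (hHV haH) v).mp hv) (V.inv_mem hv)
  rw [pow_conj_of_quadratic hq hv p, hVp _ hcV, one_mul]

/-- the `p`-soluble case -/
theorem eq_three_and_section_of_not_mem_pCore [Finite G] [Fact p.Prime] (hp : p ≠ 2)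
    {V H : Subgroup G} (hVc : IsMulCommutative V) (hVp : ∀ v ∈ V, v ^ p = 1)
    (hHV : H ≤ normalizer (V : Set G)) (hf : H ⊓ centralizer (V : Set G) = ⊥) {a : G} (haH : a ∈ H)
    (hq : ⁅⁅V, zpowers a⁆, zpowers a⁆ = ⊥) (hna : a ∉ (pCore p H).map H.subtype)
    (hsol : IsPSolvable p H) :
    p = 3 ∧ ∃ (K L : Subgroup G) (_ : (L.subgroupOf K).Normal),
      K ≤ H ∧ Nonempty ((K ⧸ L.subgroupOf K) ≃* Matrix.SpecialLinearGroup (Fin 2) (ZMod 3)) := by
  obtain ⟨M, φ, hMH, hφ⟩ := exists_sl2_section_of_not_mem_pCore hp hVc hVp hHV hf haH hq hna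
  have h3 : p = 3 := eq_three_of_isPSolvable hp
    ((Cores.isPSolvable_congr (p := p) (subgroupOfEquivOfLe hMH)).mp (Cores.isPSolvable_subgroup hsol _)) φ hφ
  subst h3
  exact ⟨rfl, exists_quotient_of_hom φ hMH hφ⟩

theorem quadratic_of_le {V A B : Subgroup G} (h : B ≤ A) (hq : ⁅⁅V, A⁆, A⁆ = ⊥) : ⁅⁅V, B⁆, B⁆ = ⊥ :=
  le_bot_iff.mp ((commutator_mono (commutator_mono le_rfl h) h).trans hq.le)

end Cfsg.Agent.Thompson
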