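import Mathlib
import Cfsg.Prelude.Def_PLocal
import Cfsg.Agent.Thompson.Quadratic
import Cfsg.Agent.Thompson.Forms

/-!
`p`-stability in the action sense without sections `SL₂(p)`.
-/

set_option autoImplicit false

namespace Cfsg.Agent.Thompson

open Subgroup
open scoped commutatorElement

universe u

variable {G : Type u} [Group G] {p : ℕ}

theorem isActionPStable_of_sl2_free [Finite G] [Fact p.Prime] (hp : p ≠ 2)
    (h : ¬ HasSection (Matrix.SpecialLinearGroup (Fin 2) (ZMod p)) G) : IsActionPStable p G := by
  refine ⟨fun V hVn hV => ?_, ?_, fun S V hVn hle => ?_⟩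
  · exact stableOnNormal_of_sl2_free hp h V fun v => ⟨1, Subtype.ext (by rw [pow_one]; exact hV.2 v v.2)⟩
  · set N := (frattini ↥(pCore p G)).map (pCore p G).subtype
    intro a ha
    set π := QuotientGroup.mk' N
    have hst : StableOnNormal p (G ⧸ N) := stableOnNormal_of_sl2_free hp
      fun h' => h (h'.of_surjective (QuotientGroup.mk'_surjective N))
    set B := (pCore p G).map π with hB
    have : B.Normal := Normal.map inferInstance π (QuotientGroup.mk'_surjective N)
    have hBp : IsPGroup p B := Cores.pCore_isPGroup.map π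
    have hq : ⁅⁅B, zpowers (π a)⁆, zpowers (π a)⁆ = ⊥ := by
      rw [hB, ← MonoidHom.map_zpowers, ← map_commutator, ← map_commutator, Subgroup.map_eq_bot_iff,
        QuotientGroup.ker_mk']
      exact ha
    have hmem : π a ∈ stabPre p B := hst B hBp (π a) hq
    refine ⟨(stabPre p B).comap π, inferInstance, ?_, ?_, hmem⟩
    · exact comap_mono (centralizer_le_stabPre B)
    · show ∃ k : ℕ, ((centralizer (B : Set (G ⧸ N))).comap π).relIndex ((stabPre p B).comap π) = p ^ k
      rw [relIndex_comap, map_comap_eq_self_of_surjective (QuotientGroup.mk'_surjective N)]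
      have hk := relIndex_ker (QuotientGroup.mk' (centralizer (B : Set (G ⧸ N)))) (K := stabPre p B)
      rw [QuotientGroup.ker_mk'] at hk
      rw [hk, stabPre, map_comap_eq_self_of_surjective (QuotientGroup.mk'_surjective _)]
      exact IsPGroup.iff_card.mp Cores.pCore_isPGroup
  · refine @stableOnNormal_of_sl2_free _ _ p _ _ hp (fun h' => h (h'.of_injective
      (normalizer (thompsonSubgroupOf p (S : Subgroup G) : Set G)).subtype_injective)) V hVn ?_
    have hVp : IsPGroup p (V.map (normalizer (thompsonSubgroupOf p (S : Subgroup G) : Set G)).subtype) :=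
      (S.isPGroup'.to_le (hle.trans (map_subtype_le _)))
    exact hVp.of_injective (V.equivMapOfInjective _
      (normalizer (thompsonSubgroupOf p (S : Subgroup G) : Set G)).subtype_injective).toMonoidHom (MulEquiv.injective _)

theorem not_hasSection_sl2_of_isPSolvable [Finite G] [Fact p.Prime] (hp : 5 ≤ p) (hs : IsPSolvable p G) :
    ¬ HasSection (Matrix.SpecialLinearGroup (Fin 2) (ZMod p)) G := by
  rintro ⟨M, φ, hφ⟩
  exact not_isPSolvable_sl2 hp (Cores.isPSolvable_of_surjective (Cores.isPSolvable_subgroup hs M) φ hφ)

end Cfsg.Agent.Thompson
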