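import Mathlib
import Cfsg.Agent.Thompson.BaerSuzuki
import Cfsg.Agent.Cores.PCore
import Cfsg.Agent.Thompson.Jay
import Cfsg.Agent.H63.PGVReplace

/-!
An offender on a module in characteristic two either lies in the 2-core or yields a dihedral group of
order six on a natural four-subgroup, when every 2-subgroup acts quadratically.
-/

set_option autoImplicit false

namespace Cfsg.Agent.Thompson.Off

open Subgroup

universe u v

variable {H : Type u} [Group H] {V : Type v} [AddCommGroup V] {ρ : H →* AddMonoid.End V}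

theorem act_mul (x y : H) (w : V) : ρ (x * y) w = ρ x (ρ y w) := by rw [map_mul]; rfl

theorem act_one (w : V) : ρ 1 w = w := by rw [map_one]; rfl

theorem act_inv_act (x : H) (w : V) : ρ x⁻¹ (ρ x w) = w := by rw [← act_mul, inv_mul_cancel, act_one]

theorem act_act_inv (x : H) (w : V) : ρ x (ρ x⁻¹ w) = w := by rw [← act_mul, mul_inv_cancel, act_one]

theorem end_ext (hρ : Function.Injective ρ) {x y : H} (h : ∀ w, ρ x w = ρ y w) : x = y :=
  hρ (AddMonoidHom.ext h)

/-- points fixed by `X` -/
def fixV (ρ : H →* AddMonoid.End V) (X : Subgroup H) : AddSubgroup V where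
  carrier := {w | ∀ x ∈ X, ρ x w = w}
  zero_mem' := fun _ _ => map_zero _
  add_mem' := fun {a b} ha hb x hx => by rw [map_add, ha x hx, hb x hx]
  neg_mem' := fun {a} ha x hx => by rw [map_neg, ha x hx]

/-- operators fixing a point -/
def stabV (ρ : H →* AddMonoid.End V) (w : V) : Subgroup H where
  carrier := {x | ρ x w = w}
  one_mem' := act_one w
  mul_mem' := fun {a b} ha hb => by
    show ρ (a * b) w = w
    rw [act_mul, show ρ b w = w from hb, show ρ a w = w from ha]
  inv_mem' := fun {a} ha => by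
    show ρ a⁻¹ w = w
    conv_lhs => rw [← show ρ a w = w from ha]
    exact act_inv_act a w

/-- a pair generating a dihedral group of order six on a four-subgroup -/
def SixPair (ρ : H →* AddMonoid.End V) : Prop :=
  ∃ (x y : H) (a b : V), a ≠ 0 ∧ ρ x a = a ∧ ρ x b = a + b ∧ ρ y b = b ∧ ρ y a = a + b

/-- every 2-subgroup acts quadratically -/
def Quad (ρ : H →* AddMonoid.End V) : Prop :=
  ∀ P : Subgroup H, IsPGroup 2 P → ∀ x ∈ P, ∀ y ∈ P, ∀ w, ρ x (ρ y w - w) = ρ y w - w

theorem Quad.commute (hq : Quad ρ) (hρ : Function.Injective ρ) {P : Subgroup H} (hP : IsPGroup 2 P)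
    {x y : H} (hx : x ∈ P) (hy : y ∈ P) : x * y = y * x := by
  refine end_ext hρ fun w => ?_
  rw [act_mul, act_mul]
  have h1 := hq P hP x hx y hy w
  have h2 := hq P hP y hy x hx w
  rw [map_sub, sub_eq_iff_eq_add] at h1 h2
  rw [h1, h2]; abel

/-- the conjugate -/
abbrev cjg (g : H) (X : Subgroup H) : Subgroup H := X.map (MulAut.conj g).toMonoidHom

theorem mem_cjg {g x : H} {X : Subgroup H} (hx : x ∈ X) : g * x * g⁻¹ ∈ cjg g X := ⟨x, hx, rfl⟩

theorem mem_of_mem_cjg {g y : H} {X : Subgroup H} (hy : y ∈ cjg g X) : g⁻¹ * y * g ∈ X := by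
  obtain ⟨x, hx, rfl⟩ := hy
  simpa [mul_assoc] using hx

theorem mem_fix_cjg {g : H} {X : Subgroup H} {w : V} :
    w ∈ fixV ρ (cjg g X) ↔ ρ g⁻¹ w ∈ fixV ρ X := by
  constructor
  · intro h x hx
    have h1 := h _ (mem_cjg (g := g) hx)
    rw [act_mul, act_mul] at h1
    conv_rhs => rw [← h1, act_inv_act]
  · rintro h _ ⟨x, hx, rfl⟩
    show ρ (g * x * g⁻¹) w = w
    rw [act_mul, act_mul, h x hx, act_act_inv]

theorem card_fix_cjg (g : H) (X : Subgroup H) :
    Nat.card (fixV ρ (cjg g X)) = Nat.card (fixV ρ X) :=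
  Nat.card_congr
    { toFun := fun w => ⟨ρ g⁻¹ w.1, mem_fix_cjg.mp w.2⟩
      invFun := fun w => ⟨ρ g w.1, mem_fix_cjg.mpr (by rw [act_inv_act]; exact w.2)⟩
      left_inv := fun w => Subtype.ext (act_act_inv g w.1)
      right_inv := fun w => Subtype.ext (act_inv_act g w.1) }

/-- the offender inequality modulo the 2-core -/
def IsOff (ρ : H →* AddMonoid.End V) (A : Subgroup H) : Prop :=
  Nat.card V * Nat.card ↥(A ⊓ pCore 2 H) ≤ Nat.card A * Nat.card (fixV ρ A)

theorem IsOff.conj [Finite H] {A : Subgroup H} (h : IsOff ρ A) (g : H) : IsOff ρ (cjg g A) := by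
  have hn : (pCore 2 H).Normal := pCore_normal 2 H
  have he : cjg g A ⊓ pCore 2 H = cjg g (A ⊓ pCore 2 H) := by
    rw [show cjg g (A ⊓ pCore 2 H) = (A ⊓ pCore 2 H).map (MulAut.conj g).toMonoidHom from rfl,
      Subgroup.map_inf _ _ _ (MulAut.conj g).injective]
    congr 1
    ext x
    constructor
    · exact fun hx => ⟨g⁻¹ * x * g, by simpa using hn.conj_mem x hx g⁻¹, by simp [mul_assoc]⟩
    · rintro ⟨y, hy, rfl⟩; exact hn.conj_mem y hy g
  unfold IsOff
  rw [he, card_fix_cjg, card_map_of_injective (MulAut.conj g).injective,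
    card_map_of_injective (MulAut.conj g).injective]
  exact h

/-- commutators of the action -/
def mov (ρ : H →* AddMonoid.End V) (L : Subgroup H) : AddSubgroup V :=
  AddSubgroup.closure {m | ∃ g ∈ L, ∃ w, ρ g w - w = m}

theorem act_mem_mov {L : Subgroup H} {l : H} (hl : l ∈ L) {m : V} (hm : m ∈ mov ρ L) :
    ρ l m ∈ mov ρ L := by
  refine AddSubgroup.closure_induction (p := fun m _ => ρ l m ∈ mov ρ L) ?_ ?_ ?_ ?_ hm
  · rintro _ ⟨g, hg, w, rfl⟩
    rw [map_sub, ← act_mul, show ρ (l * g) w - ρ l w = (ρ (l * g) w - w) - (ρ l w - w) by abel]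
    exact sub_mem (AddSubgroup.subset_closure ⟨_, mul_mem hl hg, w, rfl⟩)
      (AddSubgroup.subset_closure ⟨_, hl, w, rfl⟩)
  · rw [map_zero]; exact zero_mem _
  · intro a b _ _ ha hb; rw [map_add]; exact add_mem ha hb
  · intro a _ ha; rw [map_neg]; exact neg_mem ha

/-- the action on an invariant subgroup -/
def actOn (ρ : H →* AddMonoid.End V) (L : Subgroup H) : L →* AddMonoid.End (mov ρ L) where
  toFun l :=
    { toFun := fun m => ⟨ρ l m.1, act_mem_mov l.2 m.2⟩
      map_zero' := Subtype.ext (map_zero _)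
      map_add' := fun a b => Subtype.ext (map_add _ a.1 b.1) }
  map_one' := AddMonoidHom.ext fun m => Subtype.ext (act_one m.1)
  map_mul' a b := AddMonoidHom.ext fun m => Subtype.ext (act_mul (a : H) b m.1)

theorem actOn_apply (L : Subgroup H) (l : L) (m : mov ρ L) : (actOn ρ L l m : V) = ρ l m.1 := rfl

theorem ker_actOn_sq (hρ : Function.Injective ρ) (hV : ∀ w : V, w + w = 0) (L : Subgroup H) {l : L}
    (hl : ∀ m, actOn ρ L l m = m) : l * l = 1 := by
  refine Subtype.ext (end_ext hρ fun w => ?_)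
  have h := congrArg Subtype.val (hl ⟨ρ l w - w, AddSubgroup.subset_closure ⟨l, l.2, w, rfl⟩⟩)
  rw [actOn_apply] at h
  simp only [map_sub, sub_eq_iff_eq_add] at h
  show ρ ((l : H) * l) w = ρ 1 w
  rw [act_mul, act_one, h]
  calc ρ (l : H) w - w + ρ (l : H) w = (ρ (l : H) w + ρ (l : H) w) - (w + w) + w := by abel
    _ = w := by rw [hV, hV, sub_self, zero_add]

set_option maxHeartbeats 1000000 in
/-- **offenders lie in the 2-core** -/
theorem le_pCore_of_isOff : ∀ (n : ℕ) (H : Type u) [Group H] [Finite H] (V : Type v) [AddCommGroup V] [Finite V]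
    (ρ : H →* AddMonoid.End V), Function.Injective ρ → (∀ w : V, w + w = 0) → Quad ρ → ¬ SixPair ρ →
    ∀ A : Subgroup H, IsPGroup 2 A → IsOff ρ A → Nat.card V + Nat.card H + Nat.card A ≤ n →
      A ≤ pCore 2 H := by
  intro n
  induction n with
  | zero =>
    intro H _ _ V _ _ ρ _ _ _ _ A _ _ hn
    exact absurd hn (by have := Nat.card_pos (α := H); omega)
  | succ n ih =>
    intro H _ _ V _ _ ρ hρ hV hq hsix A hA hoff hn
    by_contra hAR
    set R := pCore 2 H
    have hRp : IsPGroup 2 R := Cores.pCore_isPGroup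
    -- the lemma on a pair of conjugates
    have pair : ∀ A : Subgroup H, IsPGroup 2 A → IsOff ρ A → Nat.card V + Nat.card H + Nat.card A ≤ n + 1 →
        ∀ g : H, ¬ IsPGroup 2 ↥(A ⊔ cjg g A) →
          A ⊔ cjg g A = ⊤ ∧ mov ρ (A ⊔ cjg g A) = ⊤ ∧ A ⊓ R = ⊥ := by
      intro A hA hoff hn g hg
      set B := cjg g A
      have hB : IsPGroup 2 B := hA.map _
      set L := A ⊔ B with hLdef
      set RL := (pCore 2 L).map L.subtype with hRLdef
      have hRLp : IsPGroup 2 RL := Cores.pCore_isPGroup.map _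
      have hLN : L ≤ normalizer (RL : Set H) := by
        refine fun l hl => mem_normalizer_iff.mpr fun x => ⟨?_, ?_⟩
        · rintro ⟨y, hy, rfl⟩
          exact ⟨⟨l, hl⟩ * y * ⟨l, hl⟩⁻¹, (pCore_normal 2 L).conj_mem y hy _, rfl⟩
        · rintro ⟨y, hy, he⟩
          exact ⟨⟨l, hl⟩⁻¹ * y * ⟨l, hl⟩, by simpa using (pCore_normal 2 L).conj_mem y hy ⟨l, hl⟩⁻¹,
            by simp only [map_mul, map_inv, he]; simp [mul_assoc]⟩
      have hPA : IsPGroup 2 ↥(A ⊔ RL) := hA.to_sup_of_normal_right' hRLp (le_sup_left.trans hLN)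
      have hPB : IsPGroup 2 ↥(B ⊔ RL) := hB.to_sup_of_normal_right' hRLp (le_sup_right.trans hLN)
      have hARL : ¬ A ≤ RL := fun h => hg (hPB.to_le (sup_le (h.trans le_sup_right) le_sup_left))
      set K := A ⊓ RL
      have hKlt : Nat.card K < Nat.card A := by
        refine lt_of_le_of_ne (card_le_of_le inf_le_left) fun h => hARL ?_
        exact (eq_of_le_of_card_ge (inf_le_left : K ≤ A) h.ge) ▸ inf_le_right
      have hK0 : A ⊓ R ⊓ L ≤ K := fun x hx => by
        refine ⟨hx.1.1, ⟨⟨x, hx.2⟩, Cores.subgroupOf_pCore_le L (show (x : H) ∈ R from hx.1.2), rfl⟩⟩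
      have hAL : A ≤ L := le_sup_left
      have hK0' : A ⊓ R ≤ K := fun x hx => hK0 ⟨hx, hAL hx.1⟩
      -- `K` acts trivially on the commutators
      have hKM : ∀ k ∈ K, ∀ m ∈ mov ρ L, ρ k m = m := by
        intro k hk
        have hfix : ∀ w, ∀ l ∈ L, ρ l (ρ k w - w) = ρ k w - w := fun w l hl =>
          (sup_le (fun x hx => hq _ hPA x (mem_sup_left hx) k (mem_sup_right hk.2) w)
            (fun x hx => hq _ hPB x (mem_sup_left hx) k (mem_sup_right hk.2) w) :
              L ≤ stabV ρ (ρ k w - w)) hl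
        have hcomm : ∀ l ∈ L, k * l = l * k := fun l hl => by
          have hle : L ≤ centralizer ({k} : Set H) := sup_le
            (fun x hx => mem_centralizer_singleton_iff.mpr
              (hq.commute hρ hPA (mem_sup_left hx) (mem_sup_right hk.2)))
            (fun x hx => mem_centralizer_singleton_iff.mpr
              (hq.commute hρ hPB (mem_sup_left hx) (mem_sup_right hk.2)))
          exact (mem_centralizer_singleton_iff.mp (hle hl)).symm
        intro m hm
        refine AddSubgroup.closure_induction (p := fun m _ => ρ k m = m) ?_ ?_ ?_ ?_ hm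
        · rintro _ ⟨l, hl, w, rfl⟩
          have h := hfix w l hl
          rw [map_sub, ← act_mul, ← hcomm l hl, act_mul, sub_eq_iff_eq_add] at h
          rw [map_sub, h]; abel
        · exact map_zero _
        · intro a b _ _ ha hb; rw [map_add, ha, hb]
        · intro a _ ha; rw [map_neg, ha]
      -- the offender inequality on the commutators
      have hcard : Nat.card (mov ρ L) * Nat.card K ≤
          Nat.card A * Nat.card ↥(fixV ρ A ⊓ mov ρ L) := by
        have h1 := H63.card_sup_inf_add (fixV ρ A) (mov ρ L)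
        have h2 : Nat.card ↥(fixV ρ A ⊔ mov ρ L) ≤ Nat.card (fixV ρ K) :=
          Nat.card_le_card_of_injective (AddSubgroup.inclusion (show fixV ρ A ⊔ mov ρ L ≤ fixV ρ K from sup_le
            (fun w hw x hx => hw x hx.1) (fun w hw x hx => hKM x hx w hw))) (AddSubgroup.inclusion_injective _)
        have hle : Nat.card V * Nat.card ↥(A ⊓ R) ≤ Nat.card A * Nat.card (fixV ρ A) := hoff
        have hI0 : 0 < Nat.card ↥(fixV ρ A ⊓ mov ρ L) := Nat.card_pos
        have hC0 : 0 < Nat.card (fixV ρ A) := Nat.card_pos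
        rcases eq_or_lt_of_le (card_le_of_le hK0') with hc | hc
        · have h3 : Nat.card ↥(fixV ρ A ⊔ mov ρ L) ≤ Nat.card V := Nat.card_le_card_of_injective _ Subtype.val_injective
          rw [hc] at hle
          refine Nat.le_of_mul_le_mul_left ?_ hC0
          calc Nat.card (fixV ρ A) * (Nat.card (mov ρ L) * Nat.card K)
              = Nat.card ↥(fixV ρ A ⊔ mov ρ L) * Nat.card ↥(fixV ρ A ⊓ mov ρ L) * Nat.card K := by
                rw [← mul_assoc, h1]
            _ ≤ Nat.card V * Nat.card ↥(fixV ρ A ⊓ mov ρ L) * Nat.card K := by gcongr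
            _ = Nat.card V * Nat.card K * Nat.card ↥(fixV ρ A ⊓ mov ρ L) := by ring
            _ ≤ Nat.card A * Nat.card (fixV ρ A) * Nat.card ↥(fixV ρ A ⊓ mov ρ L) := by gcongr
            _ = _ := by ring
        · have hK : ¬ IsOff ρ K := fun h => by
            have hKR : K ≤ R := ih H V ρ hρ hV hq hsix K (hA.to_le inf_le_left) h (by omega)
            exact hc.not_ge (card_le_of_le (le_inf inf_le_left hKR))
          have he : K ⊓ R = A ⊓ R := le_antisymm (inf_le_inf_right _ inf_le_left)
            (le_inf hK0' inf_le_right)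
          rw [IsOff, not_le, show K ⊓ pCore 2 H = A ⊓ R from he] at hK
          refine Nat.le_of_mul_le_mul_left ?_ hC0
          calc Nat.card (fixV ρ A) * (Nat.card (mov ρ L) * Nat.card K)
              = Nat.card ↥(fixV ρ A ⊔ mov ρ L) * Nat.card ↥(fixV ρ A ⊓ mov ρ L) * Nat.card K := by
                rw [← mul_assoc, h1]
            _ ≤ Nat.card (fixV ρ K) * Nat.card ↥(fixV ρ A ⊓ mov ρ L) * Nat.card K := by gcongr
            _ = Nat.card K * Nat.card (fixV ρ K) * Nat.card ↥(fixV ρ A ⊓ mov ρ L) := by ring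
            _ ≤ Nat.card V * Nat.card ↥(A ⊓ R) * Nat.card ↥(fixV ρ A ⊓ mov ρ L) :=
                Nat.mul_le_mul_right _ hK.le
            _ ≤ Nat.card A * Nat.card (fixV ρ A) * Nat.card ↥(fixV ρ A ⊓ mov ρ L) := by gcongr
            _ = _ := by ring
      -- the action of `L` on the commutators
      set N := (actOn ρ L).ker
      have hNp : IsPGroup 2 N := fun x => ⟨1, Subtype.ext (by
        rw [pow_one, sq]
        exact ker_actOn_sq hρ hV L fun m => by rw [show actOn ρ L x = 1 from x.2]; rfl)⟩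
      set π := QuotientGroup.mk' N
      let ρ' : L ⧸ N →* AddMonoid.End (mov ρ L) := QuotientGroup.lift N (actOn ρ L) le_rfl
      have hρ' : Function.Injective ρ' := fun x y hxy => by
        obtain ⟨a, rfl⟩ := QuotientGroup.mk'_surjective N x
        obtain ⟨b, rfl⟩ := QuotientGroup.mk'_surjective N y
        refine QuotientGroup.eq.mpr ?_
        show actOn ρ L (a⁻¹ * b) = 1
        rw [map_mul, show actOn ρ L b = actOn ρ L a from hxy.symm, ← map_mul, inv_mul_cancel, map_one]
      have hap : ∀ (l : L) (m : mov ρ L), (ρ' (π l) m : V) = ρ l m.1 := fun _ _ => rfl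
      have hlift : ∀ P : Subgroup (L ⧸ N), IsPGroup 2 P → IsPGroup 2 ↥((P.comap π).map L.subtype) :=
        fun P hP => (hP.comap_of_ker_isPGroup π (by rw [QuotientGroup.ker_mk']; exact hNp)).map _
      have hq' : Quad ρ' := fun P hP x hx y hy w => by
        obtain ⟨a, rfl⟩ := QuotientGroup.mk'_surjective N x
        obtain ⟨b, rfl⟩ := QuotientGroup.mk'_surjective N y
        refine Subtype.ext ?_
        push_cast [hap]
        exact hq _ (hlift P hP) a ⟨a, hx, rfl⟩ b ⟨b, hy, rfl⟩ w.1
      have hsix' : ¬ SixPair ρ' := by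
        rintro ⟨x, y, a, b, ha, h1, h2, h3, h4⟩
        obtain ⟨x, rfl⟩ := QuotientGroup.mk'_surjective N x
        obtain ⟨y, rfl⟩ := QuotientGroup.mk'_surjective N y
        exact hsix ⟨x, y, a.1, b.1, fun h => ha (Subtype.ext h), congrArg Subtype.val h1,
          congrArg Subtype.val h2, congrArg Subtype.val h3, congrArg Subtype.val h4⟩
      set A' := (A.subgroupOf L).map π
      have hA' : IsPGroup 2 A' := (hA.comap_subtype).map _
      have hcore : pCore 2 (L ⧸ N) = (pCore 2 L).map π := by
        refine le_antisymm ?_ (Cores.pCore_map_le (QuotientGroup.mk'_surjective N))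
        rw [← map_comap_eq_self_of_surjective (QuotientGroup.mk'_surjective N) (pCore 2 (L ⧸ N))]
        refine map_mono (Cores.le_pCore (hN := (pCore_normal 2 _).comap _) ?_)
        exact Cores.pCore_isPGroup.comap_of_ker_isPGroup π (by rw [QuotientGroup.ker_mk']; exact hNp)
      have hNc : N ≤ pCore 2 L := Cores.le_pCore hNp
      have hcardA : ∀ X : Subgroup L, Nat.card X = Nat.card (X.map π) * Nat.card ↥(X ⊓ N) := fun X => by
        have h := Subgroup.card_mul_index ((π.comp X.subtype).ker)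
        rw [index_ker, MonoidHom.range_comp, range_subtype] at h
        rw [← h, mul_comm]
        congr 1
        refine Nat.card_congr
          { toFun := fun x => ⟨x.1.1, x.1.2, (QuotientGroup.eq_one_iff _).mp x.2⟩
            invFun := fun x => ⟨⟨x.1, x.2.1⟩, (QuotientGroup.eq_one_iff _).mpr x.2.2⟩
            left_inv := fun _ => rfl, right_inv := fun _ => rfl }
      have hoff' : IsOff ρ' A' := by
        have e1 : Nat.card ↥(A' ⊓ pCore 2 (L ⧸ N)) * Nat.card ↥(A.subgroupOf L ⊓ N) = Nat.card K := by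
          have hi : A' ⊓ pCore 2 (L ⧸ N) = (A.subgroupOf L ⊓ pCore 2 L).map π := by
            rw [hcore]
            refine le_antisymm ?_ (map_inf_le _ _ _)
            rintro _ ⟨⟨a, ha, rfl⟩, ⟨r, hr, he⟩⟩
            refine ⟨a, ⟨ha, ?_⟩, rfl⟩
            have := mul_mem hr (hNc (QuotientGroup.eq.mp he))
            simpa using this
          have h := hcardA (A.subgroupOf L ⊓ pCore 2 L)
          rw [← hi, inf_assoc, inf_of_le_right hNc] at h
          rw [← h]
          rw [← card_map_of_injective L.subtype_injective, map_inf _ _ _ L.subtype_injective,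
            subgroupOf_map_subtype, inf_eq_left.mpr hAL]
        have e2 : Nat.card A' * Nat.card ↥(A.subgroupOf L ⊓ N) = Nat.card A := by
          rw [← hcardA, Nat.card_congr (subgroupOfEquivOfLe hAL).toEquiv]
        have e3 : Nat.card (fixV ρ' A') = Nat.card ↥(fixV ρ A ⊓ mov ρ L) := Nat.card_congr
          { toFun := fun m => ⟨m.1.1, fun x hx =>
              (hap ⟨x, hAL hx⟩ m.1).symm.trans (congrArg Subtype.val (m.2 _ ⟨_, hx, rfl⟩)), m.1.2⟩
            invFun := fun m => ⟨⟨m.1, m.2.2⟩, by
              rintro _ ⟨x, hx, rfl⟩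
              exact Subtype.ext (m.2.1 _ hx)⟩
            left_inv := fun _ => rfl, right_inv := fun _ => rfl }
        refine Nat.le_of_mul_le_mul_right ?_ (Nat.card_pos (α := ↥(A.subgroupOf L ⊓ N)))
        calc Nat.card (mov ρ L) * Nat.card ↥(A' ⊓ pCore 2 (L ⧸ N)) * Nat.card ↥(A.subgroupOf L ⊓ N)
            = Nat.card (mov ρ L) * Nat.card K := by rw [mul_assoc, e1]
          _ ≤ Nat.card A * Nat.card ↥(fixV ρ A ⊓ mov ρ L) := hcard
          _ = _ := by rw [← e3, ← e2]; ring
      by_cases hsmall : L = ⊤ ∧ mov ρ L = ⊤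
      · obtain ⟨hLt, hMt⟩ := hsmall
        refine ⟨hLt, hMt, le_bot_iff.mp fun k hk => mem_bot.mpr (end_ext hρ fun w => ?_)⟩
        rw [act_one]
        exact hKM k (hK0' hk) w (hMt ▸ AddSubgroup.mem_top w)
      exfalso
      have hle1 : Nat.card (L ⧸ N) ≤ Nat.card L := Nat.card_le_card_of_surjective _ (QuotientGroup.mk'_surjective N)
      have hle2 : Nat.card L ≤ Nat.card H := card_le_card_group L
      have hle3 : Nat.card A' ≤ Nat.card A := by
        rw [← Nat.card_congr (subgroupOfEquivOfLe hAL).toEquiv, hcardA (A.subgroupOf L)]; exact Nat.le_mul_of_pos_right _ Nat.card_pos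
      have hle4 : Nat.card (mov ρ L) ≤ Nat.card V := Nat.card_le_card_of_injective _ Subtype.val_injective
      have hlt : Nat.card (L ⧸ N) + Nat.card (mov ρ L) < Nat.card H + Nat.card V := by
        rcases not_and_or.mp hsmall with h | h
        · have : Nat.card L < Nat.card H := lt_of_le_of_ne hle2 fun he => h (eq_top_of_card_eq L he)
          omega
        · have : Nat.card (mov ρ L) < Nat.card V :=
            lt_of_le_of_ne hle4 fun he => h (AddSubgroup.eq_top_of_card_eq _ he)
          omega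
      have hres := ih (L ⧸ N) (mov ρ L) ρ' hρ' (fun w => Subtype.ext (hV w.1)) hq' hsix' A' hA' hoff' (by omega)
      refine hARL fun x hx => ?_
      obtain ⟨r, hr, he⟩ := (hcore ▸ hres) ⟨⟨x, hAL hx⟩, hx, rfl⟩
      refine ⟨⟨x, hAL hx⟩, ?_, rfl⟩
      have := mul_mem hr (hNc (QuotientGroup.eq.mp he))
      simpa using this
    -- a pair
    obtain ⟨g, hg⟩ : ∃ g : H, ¬ IsPGroup 2 ↥(A ⊔ cjg g A) := by
      by_contra hcon
      push Not at hcon
      obtain ⟨N, hN, hNp, hAN⟩ := baer_suzuki_subgroup A hcon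
      exact hAR (hAN.trans (Cores.le_pCore hNp))
    obtain ⟨hLt, hMt, hAb⟩ := pair A hA hoff hn g hg
    set B := cjg g A with hBdef
    have hB : IsPGroup 2 B := hA.map _
    have hBoff : IsOff ρ B := hoff.conj g
    have hcB : Nat.card B = Nat.card A := card_map_of_injective (MulAut.conj g).injective
    have hBb : B ⊓ R = ⊥ := (eq_bot_iff_forall _).mpr fun x hx => by
      have h1 : g⁻¹ * x * g ∈ A ⊓ R :=
        ⟨mem_of_mem_cjg hx.1, by simpa using (pCore_normal 2 H).conj_mem x hx.2 g⁻¹⟩
      rw [hAb, mem_bot] at h1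
      exact mem_bot.mpr (conj_eq_one_iff.mp (show g⁻¹ * x * g⁻¹⁻¹ = 1 by rwa [inv_inv]))
    set C := fixV ρ A
    set C' := fixV ρ B
    -- the two fixed spaces span everything
    have hsum : C ⊔ C' = ⊤ := by
      let S : Subgroup H :=
        { carrier := {x | ∀ w, ρ x w - w ∈ C ⊔ C'}
          one_mem' := fun w => by rw [act_one, sub_self]; exact zero_mem _
          mul_mem' := fun {x y} hx hy w => by
            rw [act_mul, show ρ x (ρ y w) - w = (ρ x (ρ y w) - ρ y w) + (ρ y w - w) by abel]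
            exact add_mem (hx _) (hy w)
          inv_mem' := fun {x} hx w => by
            have h := hx (ρ x⁻¹ w)
            rw [act_act_inv] at h
            simpa using neg_mem h }
      have hLS : A ⊔ B ≤ S := sup_le
        (fun x hx w => AddSubgroup.mem_sup_left fun y hy => hq A hA y hy x hx w)
        (fun x hx w => AddSubgroup.mem_sup_right fun y hy => hq B hB y hy x hx w)
      refine top_le_iff.mp (hMt ▸ (AddSubgroup.closure_le _).mpr ?_)
      rintro _ ⟨l, hl, w, rfl⟩
      exact hLS hl w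
    -- a nontrivial element moves the other fixed space out of itself
    have inj : ∀ A B : Subgroup H, IsPGroup 2 A → A ⊓ R = ⊥ → A ⊔ B = ⊤ → IsPGroup 2 B → IsOff ρ B →
        Nat.card V + Nat.card H + Nat.card B ≤ n + 1 →
        ∀ w ∈ fixV ρ B, w ∉ fixV ρ A → ∀ b ∈ A, ρ b w - w ∈ fixV ρ B → b = 1 := by
      intro A B hA hAb hAB hB hBoff hnB w hw hwA b hb hbw
      by_contra hb1
      have hbw' : ρ b w ∈ fixV ρ B := by simpa using add_mem hbw hw
      have hw2 : w ∈ fixV ρ (cjg b B) := by
        refine mem_fix_cjg.mpr fun x hx => ?_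
        have hb2 : b * b = 1 := end_ext hρ (fun u => by
          have h := hq A hA b hb b hb u
          rw [map_sub, sub_eq_iff_eq_add] at h
          rw [act_mul, act_one, h, show ρ b u - u + ρ b u = (ρ b u + ρ b u) - (u + u) + u by abel,
            hV, hV, sub_self, zero_add]
          )
        rw [inv_eq_of_mul_eq_one_left hb2]
        exact hbw' x hx
      by_cases hP : IsPGroup 2 ↥(B ⊔ cjg b B)
      · have hbN : zpowers b ≤ normalizer ((B ⊔ cjg b B : Subgroup H) : Set H) := by
          refine zpowers_le.mpr (mem_normalizer_of_map_conj ?_)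
          have hb2 : b * b = 1 := end_ext hρ (fun u => by
            have h := hq A hA b hb b hb u
            rw [map_sub, sub_eq_iff_eq_add] at h
            rw [act_mul, act_one, h, show ρ b u - u + ρ b u = (ρ b u + ρ b u) - (u + u) + u by abel,
              hV, hV, sub_self, zero_add])
          rw [Subgroup.map_sup, Subgroup.map_map, sup_comm]
          congr 1
          rw [show (MulAut.conj b).toMonoidHom.comp (MulAut.conj b).toMonoidHom = MonoidHom.id H from
            MonoidHom.ext fun x => show b * (b * x * b⁻¹) * b⁻¹ = x by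
              rw [show b⁻¹ = b from inv_eq_of_mul_eq_one_left hb2]
              rw [show b * (b * x * b) * b = (b * b) * x * (b * b) by simp only [mul_assoc], hb2,
                one_mul, mul_one], Subgroup.map_id]
        have hPb : IsPGroup 2 ↥(zpowers b ⊔ (B ⊔ cjg b B)) :=
          (hA.to_le (zpowers_le.mpr hb)).to_sup_of_normal_right' hP hbN
        have hc : ∀ x : H, x * b = b * x := fun x => by
          have hle : A ⊔ B ≤ centralizer ({b} : Set H) := sup_le
            (fun y hy => mem_centralizer_singleton_iff.mpr (hq.commute hρ hA hy hb))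
            (fun y hy => mem_centralizer_singleton_iff.mpr (hq.commute hρ hPb
              (mem_sup_right (mem_sup_left hy)) (mem_sup_left (mem_zpowers b))))
          exact mem_centralizer_singleton_iff.mp (hle (hAB ▸ mem_top x))
        have hn' : (zpowers b).Normal := ⟨fun x hx y => by
          obtain ⟨k, rfl⟩ := mem_zpowers_iff.mp hx
          rw [show y * b ^ k = b ^ k * y from (Commute.zpow_right (hc y) k).eq, mul_inv_cancel_right]
          exact hx⟩
        have := hAb.le (⟨hb, Cores.le_pCore (hN := hn') (hA.to_le (zpowers_le.mpr hb))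
          (mem_zpowers b)⟩ : b ∈ A ⊓ R)
        exact hb1 (mem_bot.mp this)
      · obtain ⟨ht, -, -⟩ := pair B hB hBoff hnB b hP
        refine hwA fun x _ => ?_
        exact ((sup_le (fun y hy => hw y hy) (fun y hy => hw2 y hy) : B ⊔ cjg b B ≤ stabV ρ w)
          (ht ▸ mem_top x) :)
    -- counting
    set W := C ⊓ C'
    have hW : ∀ w ∈ W, ∀ x : H, ρ x w = w := fun w hw x =>
      (sup_le (fun y hy => hw.1 y hy) (fun y hy => hw.2 y hy) : A ⊔ B ≤ stabV ρ w) (hLt ▸ mem_top x)
    have hcount : Nat.card C * Nat.card C' = Nat.card V * Nat.card W := by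
      rw [H63.card_sup_inf_add C C', hsum, AddSubgroup.card_top]
    have hoffA : Nat.card V ≤ Nat.card A * Nat.card C := by
      have h : Nat.card V * Nat.card ↥(A ⊓ R) ≤ Nat.card A * Nat.card C := hoff
      rwa [hAb, card_bot, mul_one] at h
    -- evaluation into the quotient by `W`
    have eval : ∀ A B : Subgroup H, ∀ hA : IsPGroup 2 A, A ⊓ R = ⊥ → A ⊔ B = ⊤ → IsPGroup 2 B → IsOff ρ B →
        Nat.card V + Nat.card H + Nat.card B ≤ n + 1 →
        ∀ v, v ∈ fixV ρ B → v ∉ fixV ρ A →
        Nat.card (fixV ρ A) ≤ Nat.card A * Nat.card ↥(fixV ρ A ⊓ fixV ρ B) →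
        ∀ u ∈ fixV ρ A, ∃ a ∈ A, (ρ a v - v) - u ∈ fixV ρ B := by
      intro A B hA hAb hAB hB hBoff hnB v hv hvA hle u hu
      set C := fixV ρ A
      set W := (fixV ρ B).addSubgroupOf C
      let f : A → C ⧸ W := fun a => QuotientAddGroup.mk ⟨ρ a v - v, fun y hy => hq A hA y hy a a.2 v⟩
      have hf : Function.Injective f := by
        intro a a' he
        have he' : -(ρ a v - v) + (ρ a' v - v) ∈ fixV ρ B :=
          (QuotientAddGroup.eq.mp he :
            -(⟨ρ a v - v, fun y hy => hq A hA y hy a a.2 v⟩ : C) + ⟨ρ a' v - v, fun y hy => hq A hA y hy a' a'.2 v⟩ ∈ W)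
        have h1 : ρ ((a : H)⁻¹ * a') v - v = -(ρ (a : H) v - v) + (ρ (a' : H) v - v) := by
          have h := hq A hA _ (inv_mem a.2) a' a'.2 v
          have h' := hq A hA _ (inv_mem a.2) a a.2 v
          rw [map_sub, sub_eq_iff_eq_add] at h h'
          rw [act_inv_act] at h'
          have h'' : ρ (a : H)⁻¹ v = v - (ρ (a : H) v - v) := by rw [eq_sub_iff_add_eq', ← h']
          rw [act_mul, h, h'']; abel
        have := inj A B hA hAb hAB hB hBoff hnB v hv hvA _ (mul_mem (inv_mem a.2) a'.2) (h1 ▸ he')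
        exact Subtype.ext (inv_mul_eq_one.mp this)
      have hcC : Nat.card (C ⧸ W) ≤ Nat.card A := by
        have h := AddSubgroup.card_mul_index W
        rw [AddSubgroup.index_eq_card] at h
        have hw : Nat.card W = Nat.card ↥(C ⊓ fixV ρ B) := Nat.card_congr
          { toFun := fun x => ⟨x.1.1, x.1.2, x.2⟩, invFun := fun x => ⟨⟨x.1, x.2.1⟩, x.2.2⟩
            left_inv := fun _ => rfl, right_inv := fun _ => rfl }
        refine Nat.le_of_mul_le_mul_left ?_ (Nat.card_pos (α := W))
        rw [h, hw, mul_comm (Nat.card ↥(C ⊓ fixV ρ B))]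
        exact hle
      obtain ⟨a, ha⟩ := (hf.bijective_of_nat_card_le hcC).surjective (QuotientAddGroup.mk ⟨u, hu⟩)
      refine ⟨a, a.2, ?_⟩
      have := neg_mem (show -(ρ a v - v) + u ∈ fixV ρ B from (QuotientAddGroup.eq.mp ha :
        -(⟨ρ a v - v, fun y hy => hq A hA y hy a a.2 v⟩ : C) + ⟨u, hu⟩ ∈ W))
      simpa [sub_eq_add_neg, add_comm] using this
    -- the six-pair
    have hC'A : ¬ C' ≤ C := fun h => by
      have htop : C = ⊤ := top_le_iff.mp (hsum ▸ sup_le le_rfl h)
      refine hAR fun x hx => ?_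
      rw [show x = 1 from end_ext hρ (fun w => by
        rw [act_one]; exact (htop.ge (AddSubgroup.mem_top w)) x hx)]
      exact one_mem _
    obtain ⟨v, hv, hvA⟩ := SetLike.not_le_iff_exists.mp hC'A
    obtain ⟨a, haA, ha1⟩ := A.ne_bot_iff_exists_ne_one.mp (fun h => hAR (h ▸ bot_le)) |> fun ⟨a, ha⟩ =>
      (⟨a.1, a.2, fun h => ha (Subtype.ext h)⟩ : ∃ a ∈ A, a ≠ 1)
    set u := ρ a v - v with hu
    have huC : u ∈ C := fun y hy => hq A hA y hy a haA v
    have huB : u ∉ C' := fun h => ha1 (inj A B hA hAb hLt hB hBoff (hcB ▸ hn) v hv hvA a haA h)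
    obtain ⟨y, hy, hye⟩ := eval B A hB hBb (sup_comm A B ▸ hLt) hA hoff hn u huC huB (by
      have h1 : Nat.card C * Nat.card C' ≤ Nat.card A * Nat.card C * Nat.card W :=
        hcount ▸ Nat.mul_le_mul_right _ hoffA
      rw [inf_comm, hcB]
      refine Nat.le_of_mul_le_mul_left ?_ (Nat.card_pos (α := C))
      calc Nat.card C * Nat.card C' ≤ Nat.card A * Nat.card C * Nat.card W := h1
        _ = _ := by ring) v hv
    set b := ρ y u - u with hb
    have hbC' : b ∈ C' := fun z hz => hq B hB z hz y hy u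
    have hbv : b - v ∈ W := AddSubgroup.mem_inf.mpr ⟨hye, AddSubgroup.sub_mem C' hbC' hv⟩
    refine hsix ⟨a, y, u, b, fun h => huB (h ▸ zero_mem _), huC a haA, ?_, hbC' y hy, ?_⟩
    · have h : ρ a (b - v) = b - v := hW _ hbv a
      rw [map_sub, sub_eq_iff_eq_add] at h
      rw [h, hu]; abel
    · rw [hb, show u + (ρ y u - u) = ρ y u by abel]

end Cfsg.Agent.Thompson.Off
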