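import Mathlib
import Cfsg.Prelude.Def_Local
import Cfsg.Prelude.Def_LocalEven
import Cfsg.Agent.H85.FourSection
import Cfsg.Agent.H41.OddStable
import Cfsg.Agent.Thompson.OffenderPairs
import Cfsg.Agent.Thompson.Jay
import Cfsg.Agent.H48.SylowIn

/-!
Factorization for four-free groups with Sylow 2-subgroups of class two.
-/

set_option autoImplicit false

namespace Cfsg.Agent.Thompson.FourFree

open Subgroup
open scoped commutatorElement
open Off (SixPair fixV)

universe u

variable {G : Type u} [Group G] [Finite G]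

/-- the conjugation action on a normal subgroup -/
abbrev conjRep (V : Subgroup G) [V.Normal] : G →* AddMonoid.End (Additive V) :=
  (H41.autEnd V).comp (MulAut.conjNormal (H := V))

omit [Finite G] in
theorem conjRep_apply (V : Subgroup G) [V.Normal] (g : G) (w : Additive V) :
    ((Additive.toMul (conjRep V g w) : V) : G) = g * (Additive.toMul w : V) * g⁻¹ := rfl

/-- a dihedral pair on a four-subgroup gives the section -/
theorem involves_of_pair (V : Subgroup G) [V.Normal] (hV : ∀ v ∈ V, v * v = 1)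
    (hVc : ∀ v ∈ V, ∀ w ∈ V, v * w = w * v) {x y a b : G} (ha : a ∈ V) (hb : b ∈ V) (ha1 : a ≠ 1)
    (h1 : x * a * x⁻¹ = a) (h2 : x * b * x⁻¹ = a * b) (h3 : y * b * y⁻¹ = b) (h4 : y * a * y⁻¹ = a * b) :
    Cfsg.Involves (Equiv.Perm (Fin 4)) G := by
  classical
  have hb1 : b ≠ 1 := fun h => ha1 (by simpa [h] using h2.symm)
  have hab : a ≠ b := fun h => ha1 (by
    subst h
    have h5 : a * a = a := h2.symm.trans h1
    simpa using h5)
  have hc : a * b = b * a := hVc a ha b hb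
  have hinvV : ∀ v ∈ V, v⁻¹ = v := fun v hv => inv_eq_of_mul_eq_one_left (hV v hv)
  set U : Subgroup G :=
    { carrier := {1, a, b, a * b}
      one_mem' := Or.inl rfl
      mul_mem' := by
        have e1 := hV a ha
        have e2 := hV b hb
        have e3 : a * (a * b) = b := by rw [← mul_assoc, e1, one_mul]
        have e4 : b * (a * b) = a := by rw [hc, ← mul_assoc, e2, one_mul]
        have e5 : a * b * a = b := by rw [hc, mul_assoc, e1, mul_one]
        have e6 : a * b * b = a := by rw [mul_assoc, e2, mul_one]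
        have e7 : a * b * (a * b) = 1 := hV _ (mul_mem ha hb)
        rintro p q (rfl | rfl | rfl | rfl) (rfl | rfl | rfl | rfl) <;>
          simp only [Set.mem_insert_iff, Set.mem_singleton_iff, e1, e2, e3, e4, e5, e6, e7, one_mul,
            mul_one, ← hc, true_or, or_true]
      inv_mem' := by
        intro p hp
        have hpV : p ∈ V := by
          rcases hp with rfl | rfl | rfl | rfl
          exacts [one_mem _, ha, hb, mul_mem ha hb]
        rwa [hinvV p hpV] } with hUdef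
  have hmem : ∀ p : G, p ∈ U ↔ p = 1 ∨ p = a ∨ p = b ∨ p = a * b := fun p => Iff.rfl
  have hUV : ∀ p ∈ U, p ∈ V := by
    intro p hp
    rcases (hmem p).mp hp with rfl | rfl | rfl | rfl
    exacts [one_mem _, ha, hb, mul_mem ha hb]
  have hxab : x * (a * b) * x⁻¹ = b := by
    rw [show x * (a * b) * x⁻¹ = (x * a * x⁻¹) * (x * b * x⁻¹) by group, h1, h2, ← mul_assoc, hV a ha,
      one_mul]
  have hyab : y * (a * b) * y⁻¹ = a := by
    rw [show y * (a * b) * y⁻¹ = (y * a * y⁻¹) * (y * b * y⁻¹) by group, h3, h4, mul_assoc, hV b hb,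
      mul_one]
  have hnorm : ∀ g : G, g * a * g⁻¹ ∈ U → g * b * g⁻¹ ∈ U → g ∈ normalizer (U : Set G) := by
    intro g hga hgb
    refine H48.mem_normalizer_of_cj_eq (H48.cj_eq_self_of_le (H48.cj_le.mpr fun p hp => ?_))
    rcases (hmem p).mp hp with rfl | rfl | rfl | rfl
    · simp
    · exact hga
    · exact hgb
    · rw [show g * (a * b) * g⁻¹ = (g * a * g⁻¹) * (g * b * g⁻¹) by group]
      exact mul_mem hga hgb
  have haU : a ∈ U := (hmem a).mpr (.inr (.inl rfl))
  have hbU : b ∈ U := (hmem b).mpr (.inr (.inr (.inl rfl)))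
  have hxN : x ∈ normalizer (U : Set G) := hnorm x (by rw [h1]; exact haU) (by rw [h2]; exact mul_mem haU hbU)
  have hyN : y ∈ normalizer (U : Set G) := hnorm y (by rw [h4]; exact mul_mem haU hbU) (by rw [h3]; exact hbU)
  have hUcard : Nat.card U = 4 := by
    rw [← SetLike.coe_sort_coe, Nat.card_coe_set_eq,
      show (U : Set G) = {1, a, b, a * b} from rfl]
    rw [Set.ncard_insert_of_notMem, Set.ncard_insert_of_notMem, Set.ncard_pair]
    · intro h; exact ha1 (by simpa using h.symm)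
    · simp only [Set.mem_insert_iff, Set.mem_singleton_iff]
      rintro (h | h)
      · exact hab h
      · exact hb1 (by simpa using h.symm)
    · simp only [Set.mem_insert_iff, Set.mem_singleton_iff]
      rintro (h | h | h)
      · exact ha1 h.symm
      · exact hb1 h.symm
      · exact hab (eq_inv_of_mul_eq_one_left h.symm |>.trans (hinvV b hb))
  set N : Subgroup G := normalizer (U : Set G)
  set φ : N →* MulAut U := U.normalizerMonoidHom
  have hφ : ∀ (g : N) (p : U), ((φ g p : U) : G) = g * p * (g : G)⁻¹ := fun g p => rfl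
  have hext : ∀ s t : MulAut U, s ⟨a, haU⟩ = t ⟨a, haU⟩ → s ⟨b, hbU⟩ = t ⟨b, hbU⟩ → s = t := by
    intro s t hsa hsb
    refine MulEquiv.ext fun ⟨p, hp⟩ => ?_
    rcases (hmem p).mp hp with rfl | rfl | rfl | rfl
    · exact (map_one s).trans (map_one t).symm
    · exact hsa
    · exact hsb
    · rw [show (⟨a * b, hp⟩ : U) = ⟨a, haU⟩ * ⟨b, hbU⟩ from rfl, map_mul, map_mul, hsa, hsb]
  set X : MulAut U := φ ⟨x, hxN⟩
  set Y : MulAut U := φ ⟨y, hyN⟩
  have hXa : X ⟨a, haU⟩ = ⟨a, haU⟩ := Subtype.ext h1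
  have hXb : X ⟨b, hbU⟩ = ⟨a, haU⟩ * ⟨b, hbU⟩ := Subtype.ext h2
  have hYb : Y ⟨b, hbU⟩ = ⟨b, hbU⟩ := Subtype.ext h3
  have hYa : Y ⟨a, haU⟩ = ⟨a, haU⟩ * ⟨b, hbU⟩ := Subtype.ext h4
  have hX2 : X * X = 1 := by
    refine hext _ _ ?_ ?_
    · show X (X _) = _; rw [hXa, hXa]; rfl
    · show X (X _) = _
      rw [hXb, map_mul, hXa, hXb]
      refine Subtype.ext ?_
      show a * (a * b) = b
      rw [← mul_assoc, hV a ha, one_mul]
  have hY2 : Y * Y = 1 := by
    refine hext _ _ ?_ ?_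
    · show Y (Y _) = _
      rw [hYa, map_mul, hYa, hYb]
      refine Subtype.ext ?_
      show a * b * b = a
      rw [mul_assoc, hV b hb, mul_one]
    · show Y (Y _) = _; rw [hYb, hYb]; rfl
  set Z : MulAut U := X * Y
  have hZa : Z ⟨a, haU⟩ = ⟨b, hbU⟩ := by
    show X (Y _) = _
    rw [hYa, map_mul, hXa, hXb]
    exact Subtype.ext (by show a * (a * b) = b; rw [← mul_assoc, hV a ha, one_mul])
  have hZb : Z ⟨b, hbU⟩ = ⟨a, haU⟩ * ⟨b, hbU⟩ := by
    show X (Y _) = _
    rw [hYb, hXb]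
  have hZ3 : Z ^ 3 = 1 := by
    refine hext _ _ ?_ ?_
    · show Z (Z (Z _)) = _
      rw [hZa, hZb, map_mul, hZa, hZb]
      refine Subtype.ext ?_
      show b * (a * b) = a
      rw [hc, ← mul_assoc, hV b hb, one_mul]
    · show Z (Z (Z _)) = _
      rw [hZb, map_mul, hZa, hZb, map_mul, map_mul, hZa, hZb]
      refine Subtype.ext ?_
      show a * b * (b * (a * b)) = b
      rw [show a * b * (b * (a * b)) = a * (b * b) * (a * b) by simp only [mul_assoc], hV b hb, mul_one,
        ← mul_assoc, hV a ha, one_mul]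
  have hXZ : X * Z * X⁻¹ = Z⁻¹ := by
    rw [inv_eq_of_mul_eq_one_left hX2, show Z⁻¹ = Y⁻¹ * X⁻¹ from mul_inv_rev X Y,
      inv_eq_of_mul_eq_one_left hY2, inv_eq_of_mul_eq_one_left hX2]
    show X * (X * Y) * X = Y * X
    rw [← mul_assoc X X Y, hX2, one_mul]
  -- Frattini
  let C : Subgroup (MulAut U) := zpowers Z
  let M : Subgroup N := C.comap φ
  let N0 : Subgroup N := (normalizer (C : Set (MulAut U))).comap φ
  have hMN : M ≤ N0 := comap_mono le_normalizer
  have hxN0 : (⟨x, hxN⟩ : N) ∈ N0 := by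
    show X ∈ normalizer (C : Set (MulAut U))
    refine mem_normalizer_of_map_conj ?_
    rw [MonoidHom.map_zpowers]
    show zpowers (X * Z * X⁻¹) = _
    rw [hXZ, zpowers_inv]
  have hn : (M.subgroupOf N0).Normal := by
    refine normal_subgroupOf_of_le_normalizer ?_
    exact (le_normalizer_comap φ)
  haveI : Fact (Nat.Prime 3) := ⟨by norm_num⟩
  obtain ⟨P⟩ : Nonempty (Sylow 3 (M.subgroupOf N0)) := inferInstance
  have htop := Sylow.normalizer_sup_eq_top P
  set Q : Subgroup N0 := (P : Subgroup (M.subgroupOf N0)).map (M.subgroupOf N0).subtype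
  have hQp : IsPGroup 3 Q := P.isPGroup'.map _
  have hQM : ∀ q ∈ Q, φ (q : N) ∈ C := by rintro _ ⟨q, _, rfl⟩; exact q.2
  -- an element of `Q` outside the kernel
  have hZ1 : Z ≠ 1 := fun h => hab (congrArg Subtype.val (show (⟨a, haU⟩ : U) = ⟨b, hbU⟩ by rw [← hZa, h]; rfl))
  have hzN : (⟨x, hxN⟩ * ⟨y, hyN⟩ : N) ∈ M := by
    show φ _ ∈ C
    rw [map_mul]; exact mem_zpowers Z
  obtain ⟨w, hwQ, hw⟩ : ∃ w ∈ Q, φ (w : N) ≠ 1 := by
    by_contra hcon
    push Not at hcon
    let f : (M.subgroupOf N0) →* MulAut U := φ.comp (N0.subtype.comp (M.subgroupOf N0).subtype)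
    have hker : (P : Subgroup (M.subgroupOf N0)) ≤ f.ker := fun q hq => hcon _ ⟨q, hq, rfl⟩
    have h3 : 3 ∣ f.ker.index := by
      rw [index_ker]
      have hZm : Z ∈ f.range := ⟨⟨⟨_, hMN hzN⟩, hzN⟩, map_mul φ _ _⟩
      have ho : orderOf Z = 3 := orderOf_eq_prime hZ3 hZ1
      exact ho ▸ orderOf_dvd_natCard f.range hZm
    exact P.not_dvd_index (h3.trans (index_dvd_of_le hker))
  obtain ⟨n, hnQ, m, hmM, hnm⟩ : ∃ n ∈ normalizer (Q : Set N0), ∃ m ∈ M.subgroupOf N0,
      n * m = ⟨_, hxN0⟩ := by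
    have := htop.ge (mem_top (⟨⟨x, hxN⟩, hxN0⟩ : N0))
    rw [mem_sup_of_normal_right] at this
    exact this
  let H : Subgroup G := ((normalizer (Q : Set N0)).map N0.subtype).map N.subtype
  have hHN : H ≤ N := map_subtype_le _
  have hUH : ∀ p ∈ U, p ∈ H → p = 1 := by
    rintro p hp ⟨_, ⟨r, hr, rfl⟩, rfl⟩
    -- the commutator with `w` lies in `Q` and in `U`
    have h1 : r * w * r⁻¹ * w⁻¹ ∈ Q := mul_mem ((mem_normalizer_iff.mp hr w).mp hwQ) (inv_mem hwQ)
    have hwn : (w : N).1 ∈ N := (w : N).2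
    have h2 : (((r * w * r⁻¹ * w⁻¹ : N0) : N) : G) ∈ U := by
      show (r : N).1 * (w : N).1 * (r : N).1⁻¹ * (w : N).1⁻¹ ∈ U
      rw [show (r : N).1 * (w : N).1 * (r : N).1⁻¹ * (w : N).1⁻¹ =
        (r : N).1 * ((w : N).1 * (r : N).1⁻¹ * (w : N).1⁻¹) by group]
      exact mul_mem hp ((mem_normalizer_iff.mp hwn _).mp (inv_mem hp))
    have h3 : r * w * r⁻¹ * w⁻¹ = 1 := by
      obtain ⟨k, hk⟩ := hQp ⟨_, h1⟩
      have hk' : (r * w * r⁻¹ * w⁻¹) ^ 3 ^ k = 1 := congrArg Subtype.val hk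
      have h2' : (((r * w * r⁻¹ * w⁻¹ : N0) : N) : G) ^ 2 = 1 := by rw [sq]; exact hV _ (hUV _ h2)
      have h3' : (((r * w * r⁻¹ * w⁻¹ : N0) : N) : G) ^ 3 ^ k = 1 := congrArg (fun e : N0 => ((e : N) : G)) hk'
      have := Nat.eq_one_of_dvd_coprimes ((Nat.Coprime.pow_right k (by norm_num : Nat.Coprime 2 3)))
        (orderOf_dvd_of_pow_eq_one h2') (orderOf_dvd_of_pow_eq_one h3')
      exact Subtype.ext (Subtype.ext (orderOf_eq_one_iff.mp this))
    have h4 : φ (w : N) ⟨(r : N).1, hp⟩ = ⟨(r : N).1, hp⟩ := Subtype.ext (by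
      rw [hφ]
      have h5 : r * w = w * r := by
        rw [← mul_inv_eq_one, mul_inv_rev, ← mul_assoc]; exact h3
      have h6 : (w : N).1 * (r : N).1 = (r : N).1 * (w : N).1 :=
        congrArg (fun e : N0 => ((e : N) : G)) h5.symm
      exact mul_inv_eq_iff_eq_mul.mpr h6)
    obtain ⟨k, hk⟩ := mem_zpowers_iff.mp (hQM w hwQ)
    -- fixed points of a nontrivial power of `Z`
    have hfix : Z ⟨(r : N).1, hp⟩ = ⟨(r : N).1, hp⟩ := by
      have hst : φ (w : N) ∈ MulAction.stabilizer (MulAut U) (⟨(r : N).1, hp⟩ : U) := h4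
      have hgen : Z ∈ zpowers (φ (w : N)) := by
        have ho : orderOf Z = 3 := orderOf_eq_prime hZ3 hZ1
        have hk3 := zpow_mod_orderOf Z k
        rw [hk, ho] at hk3
        rcases (by omega : k % 3 = 0 ∨ k % 3 = 1 ∨ k % 3 = 2) with h | h | h <;>
          simp only [Nat.cast_ofNat, h] at hk3
        · exact absurd (hk3.symm.trans (zpow_zero Z)) hw
        · exact mem_zpowers_iff.mpr ⟨1, by rw [zpow_one, ← hk3, zpow_one]⟩
        · refine mem_zpowers_iff.mpr ⟨2, ?_⟩
          rw [← hk3, ← zpow_mul, show (2 : ℤ) * 2 = ((3 : ℕ) : ℤ) + 1 by norm_num, zpow_add, zpow_natCast, hZ3,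
            one_mul, zpow_one]
      exact (zpowers_le.mpr hst) hgen
    rcases (hmem _).mp hp with h | h | h | h
    · exact h
    · exfalso
      rw [show (⟨(r : N).1, hp⟩ : U) = ⟨a, haU⟩ from Subtype.ext h, hZa] at hfix
      exact hab (congrArg Subtype.val hfix).symm
    · exfalso
      rw [show (⟨(r : N).1, hp⟩ : U) = ⟨b, hbU⟩ from Subtype.ext h, hZb] at hfix
      exact ha1 (by simpa using congrArg Subtype.val hfix)
    · exfalso
      have : (⟨(r : N).1, hp⟩ : U) = ⟨a, haU⟩ * ⟨b, hbU⟩ := Subtype.ext h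
      rw [this, map_mul, hZa, hZb] at hfix
      have h' : b * (a * b) = a * b := congrArg Subtype.val hfix
      exact hb1 (by simpa using h')
  have hm' : φ (m : N) ∈ C := hmM
  refine H85.involves_perm_four' U H hUcard hHN hUH (w : N).1 (n : N).1
    ⟨_, ⟨w, le_normalizer hwQ, rfl⟩, rfl⟩ ⟨_, ⟨n, hnQ, rfl⟩, rfl⟩ ?_ ?_ ?_ ?_
  · intro p hp
    obtain ⟨k, hk⟩ := mem_zpowers_iff.mp (hQM w hwQ)
    have h : φ ((w : N) ^ 3) = 1 := by
      rw [map_pow, ← hk, ← zpow_natCast, ← zpow_mul, mul_comm, zpow_mul, zpow_natCast, hZ3, one_zpow]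
    exact congrArg Subtype.val (DFunLike.congr_fun h ⟨p, hp⟩)
  · by_contra hcon
    push Not at hcon
    exact hw (MulEquiv.ext fun p => Subtype.ext (hcon p.1 p.2))
  all_goals
    obtain ⟨k, hk⟩ := mem_zpowers_iff.mp hm'
    have hφn : φ (n : N) = X * (Z ^ k)⁻¹ := by
      rw [hk, eq_mul_inv_iff_mul_eq, ← map_mul]
      exact congrArg (fun e : N0 => φ (e : N)) hnm
  · intro p hp
    have hpow : X * Z ^ (-k) * X⁻¹ = Z ^ k := by
      have := map_zpow (MulAut.conj X) Z (-k)
      simp only [MulAut.conj_apply] at this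
      rw [this, hXZ, inv_zpow', neg_neg]
    have h : φ ((n : N) ^ 2) = 1 := by
      rw [map_pow, hφn, sq, ← zpow_neg]
      rw [inv_eq_of_mul_eq_one_left hX2] at hpow
      rw [show X * Z ^ (-k) * (X * Z ^ (-k)) = (X * Z ^ (-k) * X) * Z ^ (-k) by simp only [mul_assoc],
        hpow, ← zpow_add, add_neg_cancel, zpow_zero]
    exact congrArg Subtype.val (DFunLike.congr_fun h ⟨p, hp⟩)
  · by_contra hcon
    push Not at hcon
    have h1' : φ (n : N) = 1 := MulEquiv.ext fun p => Subtype.ext (hcon p.1 p.2)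
    rw [hφn, mul_inv_eq_one] at h1'
    -- `X` would commute with `Z`
    have hXZ' : X * Z * X⁻¹ = Z := by
      rw [h1', ← zpow_add_one, ← zpow_neg, ← zpow_add]
      conv_rhs => rw [← zpow_one Z]
      congr 1; omega
    rw [hXZ] at hXZ'
    have : Z ^ 2 = 1 := by rw [sq]; conv_lhs => arg 1; rw [← hXZ']
                           exact inv_mul_cancel Z
    exact hZ1 (by simpa [pow_succ, this] using hZ3)

/-- in a four-free group with a self-centralizing 2-core and Sylow 2-subgroups of class two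
the Thompson subgroup lies in the 2-core -/
theorem thompson_le_pCore (hfree : ¬ Cfsg.Involves (Equiv.Perm (Fin 4)) G)
    (hc : centralizer (pCore 2 G : Set G) ≤ pCore 2 G) (S : Sylow 2 G)
    (hcl : Subgroup.lowerCentralSeries (S : Subgroup G) 2 = ⊥) :
    jay 2 (S : Subgroup G) ≤ pCore 2 G := by
  classical
  haveI : Fact (Nat.Prime 2) := ⟨Nat.prime_two⟩
  set Q := pCore 2 G with hQdef
  haveI : Q.Normal := pCore_normal 2 G
  have hQp : IsPGroup 2 Q := Cores.pCore_isPGroup
  have hQS : Q ≤ (S : Subgroup G) := Cores.pCore_le_sylow S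
  -- class two for every 2-subgroup
  have hclass : ∀ P : Subgroup G, IsPGroup 2 P → ∀ r ∈ P, ∀ s ∈ P, ∀ t ∈ P,
      Commute (r * s * r⁻¹ * s⁻¹) t := by
    intro P hP r hr s hs t ht
    obtain ⟨T, hT⟩ := hP.exists_le_sylow
    obtain ⟨g, hg⟩ := MulAction.exists_smul_eq G S T
    have hmem : ∀ z ∈ P, g⁻¹ * z * g ∈ (S : Subgroup G) := fun z hz => by
      obtain ⟨w, hw, he⟩ := (hg ▸ hT hz : z ∈ ((g • S : Sylow 2 G) : Subgroup G))
      rw [← he]
      show g⁻¹ * (g * w * g⁻¹) * g ∈ (S : Subgroup G)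
      rw [show g⁻¹ * (g * w * g⁻¹) * g = w by group]
      exact hw
    have h : ⁅⁅g⁻¹ * r * g, g⁻¹ * s * g⁆, g⁻¹ * t * g⁆ = 1 := mem_bot.mp (hcl.le (by
      rw [Subgroup.lowerCentralSeries_succ, Subgroup.lowerCentralSeries_succ, Subgroup.lowerCentralSeries_zero]
      exact commutator_mem_commutator (commutator_mem_commutator (hmem r hr) (hmem s hs)) (hmem t ht)))
    have h' : ⁅r * s * r⁻¹ * s⁻¹, t⁆ = 1 := by
      rw [show ⁅r * s * r⁻¹ * s⁻¹, t⁆ = g * ⁅⁅g⁻¹ * r * g, g⁻¹ * s * g⁆, g⁻¹ * t * g⁆ * g⁻¹ by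
        simp only [commutatorElement_def]; group, h, mul_one, mul_inv_cancel]
    exact commutatorElement_eq_one_iff_mul_comm.mp h'
  have hQz : ∀ z : G, IsPGroup 2 (zpowers z) → IsPGroup 2 ↥(zpowers z ⊔ Q) := fun z hz =>
    hz.to_sup_of_normal_right' hQp (normalizer_eq_top (H := Q) ▸ le_top)
  -- elements moving `Q` into its centre
  let D : Subgroup G :=
    { carrier := {z | ∀ q ∈ Q, z * q * z⁻¹ * q⁻¹ ∈ centralizer (Q : Set G)}
      one_mem' := fun q _ => by simp
      mul_mem' := fun {z w} hz hw q hq => by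
        have h1 := hw q hq
        have h2 := hz q hq
        rw [show z * w * q * (z * w)⁻¹ * q⁻¹ = (z * (w * q * w⁻¹ * q⁻¹) * z⁻¹) * (z * q * z⁻¹ * q⁻¹) by group]
        exact mul_mem (Normal.conj_mem inferInstance _ h1 z) h2
      inv_mem' := fun {z} hz q hq => by
        have h1 := hz (z⁻¹ * q * z) ((pCore_normal 2 G).conj_mem q hq z⁻¹ |> fun h => by simpa using h)
        rw [show z * (z⁻¹ * q * z) * z⁻¹ * (z⁻¹ * q * z)⁻¹ = (z⁻¹ * q * z⁻¹⁻¹ * q⁻¹)⁻¹ by group] at h1
        exact inv_mem_iff.mp h1 }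
  set G1 : Subgroup G := closure {z | IsPGroup 2 (zpowers z)}
  have hG1D : G1 ≤ D := (closure_le _).mpr fun z hz q hq => mem_centralizer_iff.mpr fun r hr =>
    ((hclass _ (hQz z hz) z (mem_sup_left (mem_zpowers z)) q (mem_sup_right hq) r (mem_sup_right hr)).eq).symm
  have hSG1 : (S : Subgroup G) ≤ G1 := fun s hs =>
    subset_closure (S.isPGroup'.to_le (zpowers_le.mpr hs))
  -- the module
  set V : Subgroup G :=
    { carrier := {v | v ∈ Q ∧ v ∈ centralizer (Q : Set G) ∧ v * v = 1}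
      one_mem' := ⟨one_mem _, one_mem _, one_mul 1⟩
      mul_mem' := fun {v w} hv hw => ⟨mul_mem hv.1 hw.1, mul_mem hv.2.1 hw.2.1, by
        have hc : w * v = v * w := mem_centralizer_iff.mp hv.2.1 w hw.1
        rw [show v * w * (v * w) = v * (w * v) * w by simp only [mul_assoc], hc,
          show v * (v * w) * w = (v * v) * (w * w) by simp only [mul_assoc], hv.2.2, hw.2.2, mul_one]⟩
      inv_mem' := fun {v} hv => ⟨inv_mem hv.1, inv_mem hv.2.1, by rw [← mul_inv_rev, hv.2.2, inv_one]⟩ }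
  have hVn : V.Normal := ⟨fun v hv g => ⟨(pCore_normal 2 G).conj_mem v hv.1 g,
    Normal.conj_mem inferInstance v hv.2.1 g, by
      rw [show g * v * g⁻¹ * (g * v * g⁻¹) = g * (v * v) * g⁻¹ by group, hv.2.2, mul_one, mul_inv_cancel]⟩⟩
  have hVc : ∀ v ∈ V, ∀ w ∈ V, v * w = w * v := fun v hv w hw =>
    (mem_centralizer_iff.mp hv.2.1 w hw.1).symm
  have hVQ : V ≤ Q := fun v hv => hv.1
  letI : CommGroup V :=
    { (inferInstance : Group V) with mul_comm := fun v w => Subtype.ext (hVc v v.2 w w.2) }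
  set ρ0 : G1 →* AddMonoid.End (Additive V) := (conjRep V).comp G1.subtype
  -- the kernel is a 2-group
  have hker : IsPGroup 2 ρ0.ker := by
    refine (IsPGroup.iff_card).mpr ?_
    refine ⟨_, Nat.eq_prime_pow_of_unique_prime_dvd Nat.card_pos.ne' fun {q} hq hdvd => ?_⟩
    by_contra hq2
    haveI := Fact.mk hq
    obtain ⟨⟨⟨z, hzG⟩, hzk⟩, hzo⟩ := exists_prime_orderOf_dvd_card' q hdvd
    have hoz : orderOf z = q := by
      rw [← hzo, ← Subgroup.orderOf_coe, ← Subgroup.orderOf_coe]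
    have hfixV : ∀ v ∈ V, z * v * z⁻¹ = v := fun v hv => by
      have h : ρ0 ⟨z, hzG⟩ = 1 := hzk
      exact congrArg (fun e : AddMonoid.End (Additive V) =>
        ((Additive.toMul (e (Additive.ofMul ⟨v, hv⟩)) : V) : G)) h
    have hcop : ∀ c : G, c ^ q = 1 → (∃ k, c ^ 2 ^ k = 1) → c = 1 := fun c h1 ⟨k, h2⟩ =>
      orderOf_eq_one_iff.mp (Nat.eq_one_of_dvd_coprimes
        ((Nat.coprime_primes hq Nat.prime_two).mpr hq2 |>.pow_right k)
        (orderOf_dvd_of_pow_eq_one h1) (orderOf_dvd_of_pow_eq_one h2))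
    have hpw : ∀ c w : G, z * w * z⁻¹ = c * w → z * c * z⁻¹ = c → ∀ j : ℕ, z ^ j * w * (z ^ j)⁻¹ = c ^ j * w := by
      intro c w hw hzc j
      induction j with
      | zero => simp
      | succ j ihj =>
        have hzcj : z * c ^ j * z⁻¹ = c ^ j := by
          rw [← conj_pow, hzc]
        rw [pow_succ', show z * z ^ j * w * (z * z ^ j)⁻¹ = z * (z ^ j * w * (z ^ j)⁻¹) * z⁻¹ by group, ihj,
          show z * (c ^ j * w) * z⁻¹ = (z * c ^ j * z⁻¹) * (z * w * z⁻¹) by group, hzcj, hw, ← mul_assoc,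
          ← pow_succ]
    have hzq : z ^ q = 1 := hoz ▸ pow_orderOf_eq_one z
    -- `z` centralizes the centre of `Q`
    have hZ : ∀ k : ℕ, ∀ w ∈ Q, w ∈ centralizer (Q : Set G) → w ^ 2 ^ k = 1 → z * w * z⁻¹ = w := by
      intro k
      induction k with
      | zero => intro w _ _ hw; simp only [pow_zero, pow_one] at hw; simp [hw]
      | succ k ihk =>
        intro w hwQ hwC hw
        have hw2 : z * w ^ 2 * z⁻¹ = w ^ 2 := ihk _ (pow_mem hwQ 2) (pow_mem hwC 2)
          (by rw [← pow_mul, ← pow_succ']; exact hw)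
        set c := z * w * z⁻¹ * w⁻¹
        have hcQ : c ∈ Q := mul_mem ((pCore_normal 2 G).conj_mem w hwQ z) (inv_mem hwQ)
        have hcC : c ∈ centralizer (Q : Set G) :=
          mul_mem (Normal.conj_mem inferInstance w hwC z) (inv_mem hwC)
        have hcc : Commute c w := (mem_centralizer_iff.mp hcC w hwQ).symm
        have hzw : z * w * z⁻¹ = c * w := (inv_mul_cancel_right _ _).symm
        have hc2 : c * c = 1 := by
          rw [← sq]
          refine mul_right_cancel (b := w ^ 2) ?_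
          rw [one_mul, ← hcc.mul_pow, ← hzw, conj_pow, hw2]
        have hcq : c ^ q = 1 := by
          have := hpw c w hzw (hfixV c ⟨hcQ, hcC, hc2⟩) q
          rw [hzq, one_mul, inv_one, mul_one] at this
          exact mul_right_cancel (this.symm.trans (one_mul w).symm)
        rw [hzw, hcop c hcq ⟨1, by rw [pow_one, sq]; exact hc2⟩, one_mul]
    have hzC : z ∈ centralizer (Q : Set G) := mem_centralizer_iff.mpr fun q0 hq0 => by
      set c := z * q0 * z⁻¹ * q0⁻¹
      have hcC : c ∈ centralizer (Q : Set G) := hG1D hzG q0 hq0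
      have hcQ : c ∈ Q := mul_mem ((pCore_normal 2 G).conj_mem q0 hq0 z) (inv_mem hq0)
      obtain ⟨k, hk⟩ := hQp ⟨c, hcQ⟩
      have hk' : c ^ 2 ^ k = 1 := congrArg Subtype.val hk
      have hzw : z * q0 * z⁻¹ = c * q0 := (inv_mul_cancel_right _ _).symm
      have hcq : c ^ q = 1 := by
        have := hpw c q0 hzw (hZ k c hcQ hcC hk') q
        rw [hzq, one_mul, inv_one, mul_one] at this
        exact mul_right_cancel (this.symm.trans (one_mul q0).symm)
      rw [hcop c hcq ⟨k, hk'⟩, one_mul] at hzw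
      exact (mul_inv_eq_iff_eq_mul.mp hzw).symm
    obtain ⟨k, hk⟩ := hQp ⟨z, hc hzC⟩
    have : z = 1 := hcop z hzq ⟨k, congrArg Subtype.val hk⟩
    exact hq.ne_one (hoz ▸ orderOf_eq_one_iff.mpr this)
  set N := ρ0.ker
  set π := QuotientGroup.mk' N
  let ρ : G1 ⧸ N →* AddMonoid.End (Additive V) := QuotientGroup.lift N ρ0 le_rfl
  have hρ : Function.Injective ρ := fun e e' he => by
    obtain ⟨e, rfl⟩ := QuotientGroup.mk'_surjective N e
    obtain ⟨e', rfl⟩ := QuotientGroup.mk'_surjective N e'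
    refine QuotientGroup.eq.mpr ?_
    show ρ0 (e⁻¹ * e') = 1
    rw [map_mul, show ρ0 e' = ρ0 e from he.symm, ← map_mul, inv_mul_cancel, map_one]
  have hap : ∀ (e : G1) (w : Additive V),
      ((Additive.toMul (ρ (π e) w) : V) : G) = (e : G) * (Additive.toMul w : V) * (e : G)⁻¹ := fun _ _ => rfl
  have hVV : ∀ w : Additive V, w + w = 0 := fun w =>
    congrArg Additive.ofMul (Subtype.ext (Additive.toMul w : V).2.2.2 :
      (Additive.toMul w : V) * Additive.toMul w = 1)
  have hquad : Off.Quad ρ := by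
    intro P hP e he e' he' w
    obtain ⟨e, rfl⟩ := QuotientGroup.mk'_surjective N e
    obtain ⟨e', rfl⟩ := QuotientGroup.mk'_surjective N e'
    have hP' : IsPGroup 2 ↥((P.comap π).map G1.subtype) :=
      (hP.comap_of_ker_isPGroup π (by rw [QuotientGroup.ker_mk']; exact hker)).map _
    have hPV : IsPGroup 2 ↥((P.comap π).map G1.subtype ⊔ Q) :=
      hP'.to_sup_of_normal_right' hQp (normalizer_eq_top (H := Q) ▸ le_top)
    have h := hclass _ hPV e' (mem_sup_left ⟨e', he', rfl⟩) (Additive.toMul w : V).1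
      (mem_sup_right (hVQ (Additive.toMul w : V).2)) e (mem_sup_left ⟨e, he, rfl⟩)
    refine Additive.toMul.injective (Subtype.ext ?_)
    rw [hap, toMul_sub, Subgroup.coe_div, hap, div_eq_mul_inv]
    rw [mul_inv_eq_iff_eq_mul]
    exact h.eq.symm
  have hsix : ¬ SixPair ρ := by
    rintro ⟨e, e', a, b, ha, h1, h2, h3, h4⟩
    obtain ⟨e, rfl⟩ := QuotientGroup.mk'_surjective N e
    obtain ⟨e', rfl⟩ := QuotientGroup.mk'_surjective N e'
    refine hfree (involves_of_pair V (fun v hv => hv.2.2) hVc (x := (e : G)) (y := (e' : G))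
      (Additive.toMul a : V).2 (Additive.toMul b : V).2
      (fun h => ha (congrArg Additive.ofMul (Subtype.ext h : (Additive.toMul a : V) = 1)))
      ?_ ?_ ?_ ?_)
    · rw [← hap, h1]
    · rw [← hap, h2]; rfl
    · rw [← hap, h3]
    · rw [← hap, h4]; rfl
  -- every maximal elementary abelian subgroup lies in the core
  refine sSup_le fun A hA => ?_
  have hAp : IsPGroup 2 A := S.isPGroup'.to_le hA.1
  set A1 := A.subgroupOf G1
  set A' := A1.map π
  have hA'p : IsPGroup 2 A' := hAp.comap_subtype.map _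
  have hAexp : IsAbExp 2 A := hA.2.1
  have hVexp : IsAbExp 2 ((A ⊓ Q) ⊔ V) := by
    refine ⟨isMulCommutative_iff_forall.mpr ?_, fun v hv => ?_⟩
    all_goals
      have hle : (A ⊓ Q) ⊔ V ≤ centralizer (((A ⊓ Q) ⊔ V : Subgroup G) : Set G) := by
        rw [le_centralizer_iff]
        refine sup_le (fun c hc => ?_) (fun c hc => ?_) <;>
        · refine mem_centralizer_iff.mpr fun d hd => ?_
          have hle' : (A ⊓ Q) ⊔ V ≤ centralizer ({c} : Set G) := sup_le
            (fun e he => mem_centralizer_singleton_iff.mpr (by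
              first
                | exact hAexp.comm he.1 hc.1
                | exact mem_centralizer_iff.mp hc.2.1 e he.2))
            (fun e he => mem_centralizer_singleton_iff.mpr (by
              first
                | exact (mem_centralizer_iff.mp he.2.1 c hc.2).symm
                | exact hVc e he c hc))
          exact mem_centralizer_singleton_iff.mp (hle' hd)
    · exact fun c hc d hd => (mem_centralizer_iff.mp (hle hd) c hc)
    · refine closure_induction (p := fun v _ => v ^ 2 = 1) ?_ (one_pow 2) ?_ ?_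
        (((sup_eq_closure (A ⊓ Q) V) ▸ hv) : v ∈ closure (((A ⊓ Q : Subgroup G) : Set G) ∪ V))
      · rintro v (hv | hv)
        · exact hAexp.2 v hv.1
        · rw [sq]; exact hv.2.2
      · intro c d hc hd h1 h2
        have hcd : Commute c d := mem_centralizer_iff.mp (hle ((sup_eq_closure (A ⊓ Q) V).symm ▸ hd)) c
          ((sup_eq_closure (A ⊓ Q) V).symm ▸ hc)
        rw [hcd.mul_pow, h1, h2, mul_one]
      · intro c _ h1; rw [inv_pow, h1, inv_one]
  have hcardle : Nat.card ↥((A ⊓ Q) ⊔ V) ≤ Nat.card A :=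
    hA.2.2 _ (sup_le (inf_le_left.trans hA.1) (hVQ.trans hQS)) hVexp
  have hN : N ≤ pCore 2 G1 := Cores.le_pCore hker
  have hG1n : G1.Normal := by
    refine ⟨fun z hz g => ?_⟩
    have hle : G1 ≤ G1.comap (MulAut.conj g).toMonoidHom := (closure_le _).mpr fun w hw => by
      refine subset_closure ?_
      show IsPGroup 2 (zpowers (g * w * g⁻¹))
      have := (hw : IsPGroup 2 (zpowers w)).map (MulAut.conj g).toMonoidHom
      rwa [MonoidHom.map_zpowers] at this
    exact hle hz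
  have hQG1 : Q ≤ G1 := hQS.trans hSG1
  have hcoreG1 : (pCore 2 G1).map G1.subtype = Q := by
    rw [Cores.map_pCore_of_normal, inf_eq_left.mpr hQG1]
  have hcore : pCore 2 (G1 ⧸ N) = (pCore 2 G1).map π := by
    refine le_antisymm ?_ (Cores.pCore_map_le (QuotientGroup.mk'_surjective N))
    rw [← map_comap_eq_self_of_surjective (QuotientGroup.mk'_surjective N) (pCore 2 (G1 ⧸ N))]
    refine map_mono (Cores.le_pCore (hN := (pCore_normal 2 _).comap _) ?_)
    exact Cores.pCore_isPGroup.comap_of_ker_isPGroup π (by rw [QuotientGroup.ker_mk']; exact hker)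
  -- `Q` acts trivially
  have hQN : pCore 2 G1 ≤ N := by
    intro e he
    have heQ : (e : G) ∈ Q := hcoreG1.le ⟨e, he, rfl⟩
    refine AddMonoidHom.ext fun w => Additive.toMul.injective (Subtype.ext ?_)
    show (e : G) * (Additive.toMul w : V).1 * (e : G)⁻¹ = (Additive.toMul w : V).1
    rw [mul_inv_eq_iff_eq_mul]
    exact mem_centralizer_iff.mp (Additive.toMul w : V).2.2.1 e heQ
  have hbot : pCore 2 (G1 ⧸ N) = ⊥ := by
    rw [hcore, eq_bot_iff]
    rintro _ ⟨e, he, rfl⟩
    exact mem_bot.mpr ((QuotientGroup.eq_one_iff e).mpr (hQN he))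
  have hoff : Off.IsOff ρ A' := by
    unfold Off.IsOff
    rw [hbot, inf_bot_eq, card_bot, mul_one]
    have hAfix : Nat.card ↥(A ⊓ V) ≤ Nat.card (fixV ρ A') := by
      refine Nat.card_le_card_of_injective (fun v => ⟨Additive.ofMul ⟨v.1, v.2.2⟩, ?_⟩) fun v v' he =>
        Subtype.ext (congrArg (fun w : Additive V => ((Additive.toMul w : V) : G)) (congrArg Subtype.val he))
      rintro _ ⟨e, he, rfl⟩
      refine Additive.toMul.injective (Subtype.ext ?_)
      show (e : G) * v.1 * (e : G)⁻¹ = v.1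
      rw [mul_inv_eq_iff_eq_mul]
      exact hAexp.comm he v.2.1
    have hV' : Nat.card (Additive V) = Nat.card V := Nat.card_congr Additive.toMul
    have h1 := Cores.card_sup_mul_card_inf (A ⊓ Q) V
    have hinf : (A ⊓ Q) ⊓ V = A ⊓ V := by rw [inf_assoc, inf_eq_right.mpr hVQ]
    rw [hinf] at h1
    have hAA1 : Nat.card A = Nat.card A1 :=
      (Nat.card_congr (subgroupOfEquivOfLe (hA.1.trans hSG1)).toEquiv).symm
    have h2 : Nat.card A ≤ Nat.card A' * Nat.card ↥(A ⊓ Q) := by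
      have h := Subgroup.card_mul_index ((π.comp A1.subtype).ker)
      rw [index_ker, MonoidHom.range_comp, range_subtype] at h
      rw [hAA1, ← h, mul_comm]
      refine Nat.mul_le_mul_left _ (Nat.card_le_card_of_injective
        (fun e => ⟨((e.1 : G1) : G), e.1.2, ?_⟩) fun e e' he => Subtype.ext (Subtype.ext (Subtype.ext
          (congrArg (fun z : ↥(A ⊓ Q) => (z : G)) he))))
      have hk : (e.1 : G1) ∈ N := (QuotientGroup.eq_one_iff _).mp e.2
      exact hcoreG1.le ⟨_, hN hk, rfl⟩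
    rw [hV']
    have h0 : 0 < Nat.card ↥(A ⊓ Q) := Nat.card_pos
    refine Nat.le_of_mul_le_mul_left ?_ h0
    calc Nat.card ↥(A ⊓ Q) * Nat.card V = Nat.card ↥(A ⊓ Q ⊔ V) * Nat.card ↥(A ⊓ V) := h1.symm
      _ ≤ Nat.card A * Nat.card ↥(A ⊓ V) := Nat.mul_le_mul_right _ hcardle
      _ ≤ (Nat.card A' * Nat.card ↥(A ⊓ Q)) * Nat.card (fixV ρ A') := Nat.mul_le_mul h2 hAfix
      _ = _ := by ring
  have hres := Off.le_pCore_of_isOff _ (G1 ⧸ N) (Additive V) ρ hρ hVV hquad hsix A' hA'p hoff le_rfl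
  intro e he
  have h1 : π ⟨e, hSG1 (hA.1 he)⟩ = 1 := mem_bot.mp (hbot ▸ hres ⟨_, he, rfl⟩)
  exact hcoreG1.le ⟨_, hN ((QuotientGroup.eq_one_iff _).mp h1), rfl⟩

end Cfsg.Agent.Thompson.FourFree
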