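import Mathlib
import Cfsg.Agent.Thompson.OffenderPairs
import Cfsg.Agent.Thompson.ZJ
import Cfsg.Agent.H48.SylowIn

/-!
Groups with a unique maximal subgroup over a Sylow 2-subgroup: basic facts for the offender theorem.
-/

set_option autoImplicit false

namespace Cfsg.Agent.Thompson.Par

open Subgroup
open scoped Pointwise
open H48 (IsSylowIn cj)
open Off (fixV act_mul act_one act_inv_act act_act_inv end_ext)

universe u v

/-- an element of order three inverted by another element -/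
def Inv3 (H : Type*) [Group H] : Prop := ∃ b t : H, orderOf b = 3 ∧ t * b * t⁻¹ = b⁻¹

section Basic

variable {H : Type u} [Group H]

theorem Inv3.of_subgroup {Y : Subgroup H} (h : Inv3 Y) : Inv3 H := by
  obtain ⟨b, t, hb, ht⟩ := h
  exact ⟨b, t, by rw [Subgroup.orderOf_coe]; exact hb, congrArg Subtype.val ht⟩

theorem Inv3.of_quotient [Finite H] (N : Subgroup H) [N.Normal] (h : Inv3 (H ⧸ N)) : Inv3 H := by
  haveI : Fact (Nat.Prime 3) := ⟨by norm_num⟩
  haveI : Fact (Nat.Prime 2) := ⟨Nat.prime_two⟩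
  obtain ⟨b, t0, hb, ht0⟩ := h
  obtain ⟨t0, rfl⟩ := QuotientGroup.mk'_surjective N t0
  set π := QuotientGroup.mk' N
  have hb1 : b ≠ 1 := fun h => by rw [h, orderOf_one] at hb; norm_num at hb
  set C := zpowers b
  set K : Subgroup H := (normalizer (C : Set (H ⧸ N))).comap π
  set L : Subgroup K := (C.comap π).subgroupOf K
  have hL : L.Normal := normal_subgroupOf_of_le_normalizer (le_normalizer_comap π)
  obtain ⟨P⟩ : Nonempty (Sylow 3 L) := inferInstance
  have htop := Sylow.normalizer_sup_eq_top P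
  set Q : Subgroup K := (P : Subgroup L).map L.subtype
  have hQp : IsPGroup 3 Q := P.isPGroup'.map _
  have ht0K : t0 ∈ K := by
    show π t0 ∈ normalizer (C : Set (H ⧸ N))
    refine mem_normalizer_of_map_conj ?_
    rw [MonoidHom.map_zpowers]
    show zpowers (π t0 * b * (π t0)⁻¹) = _
    rw [ht0, zpowers_inv]
  obtain ⟨t, htQ, m, hm, htm⟩ : ∃ t ∈ normalizer (Q : Set K), ∃ m ∈ L, t * m = ⟨t0, ht0K⟩ := by
    have := htop.ge (mem_top (⟨t0, ht0K⟩ : K))
    rwa [mem_sup_of_normal_right] at this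
  have hmC : π (m : H) ∈ C := hm
  have htb : π (t : H) * b * (π (t : H))⁻¹ = b⁻¹ := by
    obtain ⟨i, hi⟩ := mem_zpowers_iff.mp hmC
    have he : π (t : H) = π t0 * (b ^ i)⁻¹ := by
      rw [hi, eq_mul_inv_iff_mul_eq, ← map_mul]
      exact congrArg (fun e : K => π (e : H)) htm
    rw [he, show π t0 * (b ^ i)⁻¹ * b * (π t0 * (b ^ i)⁻¹)⁻¹ = π t0 * ((b ^ i)⁻¹ * b * b ^ i) * (π t0)⁻¹ by group,
      show (b ^ i)⁻¹ * b * b ^ i = b by group, ht0]
  -- the two-part
  obtain ⟨k, r, hr, hkr⟩ := Nat.exists_eq_pow_mul_and_not_dvd (orderOf_pos (t : H)).ne' 2 (by norm_num)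
  set s := t ^ r
  have hsQ : s ∈ normalizer (Q : Set K) := pow_mem htQ r
  have hodd : Odd r := Nat.odd_iff.mpr (Nat.two_dvd_ne_zero.mp hr)
  have hsb : π (s : H) * b * (π (s : H))⁻¹ = b⁻¹ := by
    obtain ⟨j, hj⟩ := hodd
    have h2 : Commute (π (t : H) ^ 2) b := by
      have h : π (t : H) ^ 2 * b * (π (t : H) ^ 2)⁻¹ = b := by
        rw [show π (t : H) ^ 2 * b * (π (t : H) ^ 2)⁻¹ = π (t : H) * (π (t : H) * b * (π (t : H))⁻¹) * (π (t : H))⁻¹ by
          simp only [sq, mul_inv_rev, mul_assoc],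
          htb]
        calc π (t : H) * b⁻¹ * (π (t : H))⁻¹ = (π (t : H) * b * (π (t : H))⁻¹)⁻¹ := by group
          _ = b := by rw [htb, inv_inv]
      exact mul_inv_eq_iff_eq_mul.mp h
    have he : π (s : H) = π (t : H) * (π (t : H) ^ 2) ^ j := by
      rw [← pow_mul, ← pow_succ', ← hj, ← map_pow]; rfl
    rw [he, mul_inv_rev, show π (t : H) * (π (t : H) ^ 2) ^ j * b * (((π (t : H) ^ 2) ^ j)⁻¹ * (π (t : H))⁻¹) =
      π (t : H) * ((π (t : H) ^ 2) ^ j * b * ((π (t : H) ^ 2) ^ j)⁻¹) * (π (t : H))⁻¹ by group,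
      mul_inv_eq_iff_eq_mul.mpr (h2.pow_left j).eq, htb]
  -- an element of `Q` outside `N`
  obtain ⟨w, hwQ, hw⟩ : ∃ w ∈ Q, π (w : H) ≠ 1 := by
    by_contra hcon
    push Not at hcon
    let f : L →* H ⧸ N := π.comp (K.subtype.comp L.subtype)
    have hker : (P : Subgroup L) ≤ f.ker := fun q hq => hcon _ ⟨q, hq, rfl⟩
    have h3 : 3 ∣ f.ker.index := by
      obtain ⟨b0, hb0⟩ := QuotientGroup.mk'_surjective N b
      have hb0L : b0 ∈ C.comap π := by show π b0 ∈ C; rw [hb0]; exact mem_zpowers b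
      rw [index_ker]
      have hbm : b ∈ f.range := ⟨⟨⟨b0, comap_mono le_normalizer hb0L⟩, hb0L⟩, hb0⟩
      exact hb ▸ orderOf_dvd_natCard f.range hbm
    exact P.not_dvd_index (h3.trans (index_dvd_of_le hker))
  have hmov : s * w * s⁻¹ ≠ w := by
    intro h
    have hwC : π (w : H) ∈ C := by
      obtain ⟨q, _, rfl⟩ := hwQ; exact q.2
    obtain ⟨i, hi⟩ := mem_zpowers_iff.mp hwC
    have h1 : π (s : H) * b ^ i * (π (s : H))⁻¹ = b ^ i := by
      rw [hi]
      rw [← map_inv, ← map_mul, ← map_mul]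
      exact congrArg (fun e : K => π (e : H)) h
    have h2 : π (s : H) * b ^ i * (π (s : H))⁻¹ = (b ^ i)⁻¹ := by
      rw [← conj_zpow, hsb, inv_zpow]
    have h4 : (b ^ i) * (b ^ i) = 1 := by
      conv_lhs => arg 1; rw [← h1, h2]
      exact inv_mul_cancel _
    refine hw ?_
    rw [← hi]
    have h6 : (b ^ i) ^ 3 = 1 := by
      rw [← zpow_natCast, ← zpow_mul, mul_comm, zpow_mul, zpow_natCast, ← hb, pow_orderOf_eq_one, one_zpow]
    calc b ^ i = (b ^ i) ^ 3 * ((b ^ i) * (b ^ i))⁻¹ := by group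
      _ = 1 := by rw [h6, h4, inv_one, mul_one]
  by_contra hcon
  -- no power of `s` moves `Q`
  have key : ∀ d i, k ≤ d + i → ∀ x ∈ Q, s ^ 2 ^ i * x * (s ^ 2 ^ i)⁻¹ = x := by
    intro d
    induction d with
    | zero =>
      intro i hi x _
      have : s ^ 2 ^ i = 1 := by
        rw [← pow_mul]
        refine orderOf_dvd_iff_pow_eq_one.mp ?_
        rw [← Subgroup.orderOf_coe, hkr, mul_comm]
        exact Nat.mul_dvd_mul_left r (pow_dvd_pow 2 (by omega))
      simp [this]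
    | succ d ihd =>
      intro i hi x hx
      by_contra hne
      set e := s ^ 2 ^ i with he
      have he2 : ∀ y ∈ Q, e * (e * y * e⁻¹) * e⁻¹ = y := fun y hy => by
        rw [show e * (e * y * e⁻¹) * e⁻¹ = (e * e) * y * (e * e)⁻¹ by group,
          show e * e = s ^ 2 ^ (i + 1) by rw [he, ← pow_add, pow_succ, mul_two]]
        exact ihd (i + 1) (by omega) y hy
      have heQ : e ∈ normalizer (Q : Set K) := pow_mem hsQ _
      set z := x⁻¹ * (e * x * e⁻¹) with hz
      have hzQ : z ∈ Q := mul_mem (inv_mem hx) ((mem_normalizer_iff.mp heQ x).mp hx)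
      have hz1 : z ≠ 1 := fun h => hne (inv_mul_eq_one.mp h).symm
      have hzi : e * z * e⁻¹ = z⁻¹ := by
        rw [hz, show e * (x⁻¹ * (e * x * e⁻¹)) * e⁻¹ = (e * x * e⁻¹)⁻¹ * (e * (e * x * e⁻¹) * e⁻¹) by group,
          he2 x hx]
        group
      obtain ⟨j, hj⟩ := IsPGroup.iff_orderOf.mp hQp ⟨z, hzQ⟩
      rw [Subgroup.orderOf_mk] at hj
      rcases j with _ | j
      · exact hz1 (orderOf_eq_one_iff.mp (by simpa using hj))
      refine hcon ⟨((z ^ 3 ^ j : K) : H), (e : H), ?_, ?_⟩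
      · rw [Subgroup.orderOf_coe, orderOf_pow' _ (by positivity), hj,
          Nat.gcd_eq_right (pow_dvd_pow 3 j.le_succ), pow_succ, Nat.mul_div_cancel_left _ (by positivity)]
      · have : e * z ^ 3 ^ j * e⁻¹ = (z ^ 3 ^ j)⁻¹ := by rw [← conj_pow, hzi, inv_pow]
        exact congrArg Subtype.val this
  exact hmov (by simpa using key k 0 (by omega) w hwQ)

/-- elements of order at most two -/
def El (A : Subgroup H) : Prop := ∀ a ∈ A, a * a = 1

theorem El.isPGroup {A : Subgroup H} (h : El A) : IsPGroup 2 A := fun a =>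
  ⟨1, Subtype.ext (by rw [pow_one, sq]; exact h a a.2)⟩

theorem El.inv_eq {A : Subgroup H} (h : El A) {a : H} (ha : a ∈ A) : a⁻¹ = a :=
  inv_eq_of_mul_eq_one_left (h a ha)

theorem El.comm {A : Subgroup H} (h : El A) {a b : H} (ha : a ∈ A) (hb : b ∈ A) : a * b = b * a := by
  rw [← h.inv_eq (mul_mem ha hb), mul_inv_rev, h.inv_eq ha, h.inv_eq hb]

theorem El.mono {A B : Subgroup H} (h : El A) (hle : B ≤ A) : El B := fun a ha => h a (hle ha)

theorem El.map {K : Type*} [Group K] {A : Subgroup H} (h : El A) (f : H →* K) : El (A.map f) := by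
  rintro _ ⟨a, ha, rfl⟩
  rw [← map_mul, h a ha, map_one]

theorem el_bot : El (⊥ : Subgroup H) := fun a ha => by rw [mem_bot.mp ha, mul_one]

theorem el_sup {A B : Subgroup H} (hA : El A) (hB : El B) (hc : ∀ a ∈ A, ∀ b ∈ B, a * b = b * a) :
    El (A ⊔ B) := by
  have hle : B ≤ normalizer (A : Set H) := fun b hb => mem_normalizer_iff.mpr fun x => by
    constructor
    · intro hx; rw [← hc x hx b hb, mul_inv_cancel_right]; exact hx
    · intro hx
      have := hc _ hx b⁻¹ (inv_mem hb)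
      rw [show x = b⁻¹ * (b * x * b⁻¹) * b by group, ← this, inv_mul_cancel_right]
      exact hx
  intro x hx
  obtain ⟨a, ha, b, hb, rfl⟩ : x ∈ ((A : Set H) * (B : Set H)) := by
    rw [← Subgroup.coe_mul_of_right_le_normalizer_left A B hle]; exact hx
  show a * b * (a * b) = 1
  rw [show a * b * (a * b) = a * (b * a) * b by simp only [mul_assoc], ← hc a ha b hb,
    show a * (a * b) * b = (a * a) * (b * b) by simp only [mul_assoc], hA a ha, hB b hb, mul_one]

/-- `M` is the only maximal subgroup over the Sylow subgroup `S` -/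
def Own (S M : Subgroup H) : Prop :=
  IsSylowIn 2 S ⊤ ∧ M ≠ ⊤ ∧ S ≤ M ∧ ∀ X : Subgroup H, X ≠ ⊤ → S ≤ X → X ≤ M

/-- `M` is the only maximal subgroup over `B` -/
def Home (B M : Subgroup H) : Prop :=
  M ≠ ⊤ ∧ B ≤ M ∧ ∀ X : Subgroup H, X ≠ ⊤ → B ≤ X → X ≤ M

theorem Own.unique {S M M' : Subgroup H} (h : Own S M) (h' : Own S M') : M = M' :=
  le_antisymm (h'.2.2.2 M h.2.1 h.2.2.1) (h.2.2.2 M' h'.2.1 h'.2.2.1)

theorem Home.unique {S M M' : Subgroup H} (h : Home S M) (h' : Home S M') : M = M' :=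
  le_antisymm (h'.2.2 M h.1 h.2.1) (h.2.2 M' h'.1 h'.2.1)

theorem cj_top (g : H) : cj g (⊤ : Subgroup H) = ⊤ :=
  map_top_of_surjective _ (MulAut.conj g).surjective

theorem Own.conj [Finite H] {S M : Subgroup H} (h : Own S M) (g : H) : Own (cj g S) (cj g M) := by
  refine ⟨cj_top g ▸ h.1.cj g, fun he => h.2.1 ?_, H48.cj_mono h.2.2.1, fun X hX hSX => ?_⟩
  · rw [← H48.cj_inv_cj g M, he, cj_top]
  · have := h.2.2.2 (cj g⁻¹ X) (fun he => hX (by rw [← H48.cj_cj_inv g X, he, cj_top]))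
      (H48.cj_inv_cj g S ▸ H48.cj_mono hSX)
    exact H48.cj_cj_inv g X ▸ H48.cj_mono this

theorem Home.conj {S M : Subgroup H} (h : Home S M) (g : H) : Home (cj g S) (cj g M) := by
  refine ⟨fun he => h.1 ?_, H48.cj_mono h.2.1, fun X hX hSX => ?_⟩
  · rw [← H48.cj_inv_cj g M, he, cj_top]
  · have := h.2.2 (cj g⁻¹ X) (fun he => hX (by rw [← H48.cj_cj_inv g X, he, cj_top]))
      (H48.cj_inv_cj g S ▸ H48.cj_mono hSX)
    exact H48.cj_cj_inv g X ▸ H48.cj_mono this

variable [Finite H]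

theorem exists_own {T M : Subgroup H} (h : Own T M) {S : Subgroup H} (hS : IsSylowIn 2 S ⊤) :
    ∃ M', Own S M' := by
  haveI : Fact (Nat.Prime 2) := ⟨Nat.prime_two⟩
  obtain ⟨x, -, rfl⟩ := h.1.exists_conj hS
  exact ⟨_, h.conj x⟩

/-- a normal subgroup inside the maximal subgroup has odd order -/
theorem eq_bot_of_normal_le {T M : Subgroup H} (h : Own T M) (hcore : pCore 2 H = ⊥) {N : Subgroup H}
    [N.Normal] (hNM : N ≤ M) {Q : Subgroup H} (hQ : IsPGroup 2 Q) (hQN : Q ≤ N) : Q = ⊥ := by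
  haveI : Fact (Nat.Prime 2) := ⟨Nat.prime_two⟩
  obtain ⟨S, hS, hQS⟩ := H48.exists_isSylowIn_ge hQ (le_top : Q ≤ ⊤)
  obtain ⟨x, -, rfl⟩ := h.1.exists_conj hS
  have hown := h.conj x
  have hNM' : N ≤ cj x M := fun y hy => H48.mem_cj.mpr
    (hNM (by simpa using Normal.conj_mem ‹_› y hy x⁻¹))
  set S := cj x T
  set M := cj x M
  let S' : Sylow 2 H := hS.isPGroup.toSylow (by
    have := hS.ndvd
    rwa [relIndex_top_right] at this)
  have hfr : normalizer ((S ⊓ N : Subgroup H) : Set H) ⊔ N = ⊤ := frattini_inf S' N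
  have hle : S ≤ normalizer ((S ⊓ N : Subgroup H) : Set H) := fun s hs => by
    refine mem_normalizer_iff.mpr fun y => ?_
    rw [Subgroup.mem_inf, Subgroup.mem_inf]
    constructor
    · exact fun hy => ⟨mul_mem (mul_mem hs hy.1) (inv_mem hs), Normal.conj_mem ‹_› y hy.2 s⟩
    · intro hy
      constructor
      · simpa [mul_assoc] using mul_mem (mul_mem (inv_mem hs) hy.1) hs
      · simpa [mul_assoc] using Normal.conj_mem ‹_› _ hy.2 s⁻¹
  by_cases htop : normalizer ((S ⊓ N : Subgroup H) : Set H) = ⊤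
  · haveI : (S ⊓ N).Normal := normalizer_eq_top_iff.mp htop
    have : S ⊓ N ≤ ⊥ := hcore ▸ Cores.le_pCore (hS.isPGroup.to_le inf_le_left)
    exact le_bot_iff.mp ((le_inf hQS hQN).trans this)
  · exact absurd (top_le_iff.mp (hfr ▸ sup_le (hown.2.2.2 _ htop hle) hNM')) hown.2.1

end Basic

section Mod

variable {H : Type u} [Group H] {V : Type v} [AddCommGroup V] {ρ : H →* AddMonoid.End V}

/-- a 2-group fixes a nonzero point of a nonzero invariant subgroup -/
theorem exists_fixed [Finite H] [Finite V] (hV : ∀ w : V, w + w = 0) {P : Subgroup H} (hP : IsPGroup 2 P)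
    {U : AddSubgroup V} (hU : ∀ x ∈ P, ∀ w ∈ U, ρ x w ∈ U) (hne : U ≠ ⊥) :
    ∃ w ∈ U, w ≠ 0 ∧ ∀ x ∈ P, ρ x w = w := by
  haveI : Fact (Nat.Prime 2) := ⟨Nat.prime_two⟩
  letI : MulAction P U :=
    { smul := fun x w => ⟨ρ x w.1, hU x x.2 w.1 w.2⟩
      one_smul := fun w => Subtype.ext (act_one w.1)
      mul_smul := fun x y w => Subtype.ext (act_mul (x : H) y w.1) }
  obtain ⟨v, hv⟩ := (AddSubgroup.ne_bot_iff_exists_ne_zero.mp hne)
  have h2 : 2 ∣ Nat.card U := by
    have h : addOrderOf v = 2 := addOrderOf_eq_prime (Subtype.ext (by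
      rw [two_nsmul]; exact hV v.1)) hv
    exact h ▸ addOrderOf_dvd_natCard v
  obtain ⟨w, hw, hne'⟩ := hP.exists_fixed_point_of_prime_dvd_card_of_fixed_point U h2
    (a := 0) (fun x => Subtype.ext (map_zero _))
  exact ⟨w.1, w.2, fun h => hne' (Subtype.ext h.symm), fun x hx => congrArg Subtype.val (hw ⟨x, hx⟩)⟩

/-- a largest elementary abelian offender -/
def MaxOff (ρ : H →* AddMonoid.End V) (A : Subgroup H) : Prop :=
  El A ∧ A ≠ ⊥ ∧ Nat.card V ≤ Nat.card A * Nat.card (fixV ρ A) ∧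
    ∀ B : Subgroup H, El B → Nat.card B * Nat.card (fixV ρ B) ≤ Nat.card A * Nat.card (fixV ρ A)

theorem card_fix_cj (g : H) (A : Subgroup H) :
    Nat.card (fixV ρ (cj g A)) = Nat.card (fixV ρ A) := Off.card_fix_cjg g A

theorem MaxOff.conj {A : Subgroup H} (h : MaxOff ρ A) (g : H) : MaxOff ρ (cj g A) := by
  refine ⟨h.1.map _, H48.cj_ne_bot h.2.1, ?_, fun B hB => ?_⟩
  · rw [card_fix_cj, H48.card_cj]; exact h.2.2.1
  · rw [card_fix_cj, H48.card_cj]; exact h.2.2.2 B hB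

theorem exists_maxOff [Finite H] {A : Subgroup H} (hA : El A) (hne : A ≠ ⊥)
    (hoff : Nat.card V ≤ Nat.card A * Nat.card (fixV ρ A)) :
    ∃ B, MaxOff ρ B := by
  obtain ⟨B, ⟨hB, hBne⟩, hmax⟩ := Set.exists_max_image {B : Subgroup H | El B ∧ B ≠ ⊥}
    (fun B => Nat.card B * Nat.card (fixV ρ B)) (Set.toFinite _) ⟨A, hA, hne⟩
  refine ⟨B, hB, hBne, hoff.trans (hmax A ⟨hA, hne⟩), fun C hC => ?_⟩
  by_cases hC0 : C = ⊥
  · have htop : fixV ρ C = ⊤ := eq_top_iff.mpr fun w _ x hx => by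
      rw [hC0, mem_bot] at hx
      rw [hx, act_one]
    rw [htop, hC0, card_bot, one_mul, AddSubgroup.card_top]
    exact hoff.trans (hmax A ⟨hA, hne⟩)
  · exact hmax C ⟨hC, hC0⟩

/-- the statement proved by induction -/
def NoOff (n : ℕ) : Prop :=
  ∀ (H : Type u) [Group H] [Finite H] (V : Type v) [AddCommGroup V] [Finite V] (ρ : H →* AddMonoid.End V),
    Function.Injective ρ → (∀ w : V, w + w = 0) → (∃ T M : Subgroup H, Own T M) → pCore 2 H = ⊥ →
    ¬ Inv3 H → ∀ A : Subgroup H, El A → A ≠ ⊥ → Nat.card V ≤ Nat.card A * Nat.card (fixV ρ A) →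
    Nat.card H + Nat.card V ≤ n → False

/-- passing to the faithful quotient -/
theorem false_of_quotient {n : ℕ} (ih : NoOff.{u, v} n) {Y : Type u} [Group Y] [Finite Y] {W : Type v}
    [AddCommGroup W] [Finite W] (σ : Y →* AddMonoid.End W) (hW : ∀ w : W, w + w = 0) {S M : Subgroup Y}
    (hown : Own S M) (hN : σ.ker ≤ M)
    (hcore : ∀ P : Subgroup Y, P.Normal → σ.ker ≤ P → P ≤ σ.ker ⊔ S → P ≤ σ.ker)
    (hinv : ¬ Inv3 Y) {A : Subgroup Y} (hA : El A) (hne : ¬ A ≤ σ.ker)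
    (hoff : Nat.card W * Nat.card ↥(A ⊓ σ.ker) ≤ Nat.card A * Nat.card (fixV σ A))
    (hn : Nat.card Y + Nat.card W ≤ n) : False := by
  haveI : Fact (Nat.Prime 2) := ⟨Nat.prime_two⟩
  set N := σ.ker
  set π := QuotientGroup.mk' N
  let σ' : Y ⧸ N →* AddMonoid.End W := QuotientGroup.lift N σ le_rfl
  have hσ' : Function.Injective σ' := fun x y hxy => by
    obtain ⟨a, rfl⟩ := QuotientGroup.mk'_surjective N x
    obtain ⟨b, rfl⟩ := QuotientGroup.mk'_surjective N y
    refine QuotientGroup.eq.mpr ?_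
    show σ (a⁻¹ * b) = 1
    rw [map_mul, show σ b = σ a from hxy.symm, ← map_mul, inv_mul_cancel, map_one]
  have hsurj := QuotientGroup.mk'_surjective N
  let S' : Sylow 2 Y := hown.1.isPGroup.toSylow (by
    have := hown.1.ndvd
    rwa [relIndex_top_right] at this)
  have hown' : Own (S.map π) (M.map π) := by
    refine ⟨H48.isSylowIn_sylow (S'.mapSurjective hsurj), fun he => hown.2.1 ?_, map_mono hown.2.2.1, fun X hX hSX => ?_⟩
    · have := congrArg (comap π) he
      rwa [comap_map_eq, QuotientGroup.ker_mk', comap_top, sup_eq_left.mpr hN] at this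
    · rw [← map_comap_eq_self_of_surjective hsurj X]
      refine map_mono (hown.2.2.2 _ (fun he => hX ?_) (map_le_iff_le_comap.mp hSX))
      rw [← map_comap_eq_self_of_surjective hsurj X, he, map_top_of_surjective _ hsurj]
  have hc : pCore 2 (Y ⧸ N) = ⊥ := by
    set P := (pCore 2 (Y ⧸ N)).comap π
    have hP : P.Normal := (pCore_normal 2 _).comap π
    have hNP : N ≤ P := fun x hx => by
      show π x ∈ pCore 2 (Y ⧸ N)
      rw [show π x = 1 from (QuotientGroup.eq_one_iff x).mpr hx]; exact one_mem _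
    have hPS : P ≤ N ⊔ S := by
      have h1 : pCore 2 (Y ⧸ N) ≤ S.map π := Cores.pCore_le_sylow (S'.mapSurjective hsurj)
      have h2 := comap_mono (f := π) h1
      rwa [comap_map_eq, QuotientGroup.ker_mk', sup_comm] at h2
    rw [eq_bot_iff, ← map_comap_eq_self_of_surjective hsurj (pCore 2 (Y ⧸ N))]
    rintro _ ⟨x, hx, rfl⟩
    exact mem_bot.mpr ((QuotientGroup.eq_one_iff x).mpr (hcore P hP hNP hPS hx))
  have hcardA : Nat.card A = Nat.card (A.map π) * Nat.card ↥(A ⊓ N) := by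
    have h := Subgroup.card_mul_index ((π.comp A.subtype).ker)
    rw [index_ker, MonoidHom.range_comp, range_subtype] at h
    rw [← h, mul_comm]
    congr 1
    refine Nat.card_congr
      { toFun := fun x => ⟨x.1.1, x.1.2, (QuotientGroup.eq_one_iff _).mp x.2⟩
        invFun := fun x => ⟨⟨x.1, x.2.1⟩, (QuotientGroup.eq_one_iff _).mpr x.2.2⟩
        left_inv := fun _ => rfl, right_inv := fun _ => rfl }
  have hfix : Nat.card (fixV σ A) ≤ Nat.card (fixV σ' (A.map π)) := by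
    refine Nat.card_le_card_of_injective (AddSubgroup.inclusion ?_) (AddSubgroup.inclusion_injective _)
    rintro w hw _ ⟨a, ha, rfl⟩
    exact hw a ha
  have hle : Nat.card (Y ⧸ N) ≤ Nat.card Y := Nat.card_le_card_of_surjective _ hsurj
  refine ih (Y ⧸ N) W σ' hσ' hW ⟨_, _, hown'⟩ hc (fun h => hinv (h.of_quotient N)) (A.map π) (hA.map π)
    (fun h => hne ?_) ?_ (by omega)
  · intro a ha
    exact (QuotientGroup.eq_one_iff a).mp (mem_bot.mp (h ▸ ⟨a, ha, rfl⟩ : π a ∈ (⊥ : Subgroup (Y ⧸ N))))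
  · refine Nat.le_of_mul_le_mul_right ?_ (Nat.card_pos (α := ↥(A ⊓ N)))
    calc Nat.card W * Nat.card ↥(A ⊓ N) ≤ Nat.card A * Nat.card (fixV σ A) := hoff
      _ ≤ Nat.card A * Nat.card (fixV σ' (A.map π)) := Nat.mul_le_mul_left _ hfix
      _ = _ := by rw [hcardA]; ring

end Mod

end Cfsg.Agent.Thompson.Par
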