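import Mathlib
import Cfsg.Agent.Thompson.ParabolicBase

/-!
A largest offender lies in only one maximal subgroup.
-/

set_option autoImplicit false

namespace Cfsg.Agent.Thompson.Par

open Subgroup
open H48 (IsSylowIn cj)
open Off (fixV act_mul act_one act_inv_act act_act_inv end_ext)

universe u v

variable {H : Type u} [Group H] [Finite H] {V : Type v} [AddCommGroup V] [Finite V]
  {ρ : H →* AddMonoid.End V}

/-- a Sylow subgroup inside a subgroup is a Sylow subgroup of it -/
theorem isSylowIn_of_top {S Y : Subgroup H} (hS : IsSylowIn 2 S ⊤) (h : S ≤ Y) : IsSylowIn 2 S Y :=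
  ⟨h, hS.isPGroup, fun hd => hS.ndvd (by
    rw [relIndex_top_right]; exact hd.trans (relIndex_dvd_index_of_le h))⟩

/-- the setwise stabiliser of a fixed space -/
def setStab (ρ : H →* AddMonoid.End V) (Z : AddSubgroup V) : Subgroup H where
  carrier := {x | (∀ z ∈ Z, ρ x z ∈ Z) ∧ ∀ z ∈ Z, ρ x⁻¹ z ∈ Z}
  one_mem' := ⟨fun z hz => by rw [act_one]; exact hz, fun z hz => by rw [inv_one, act_one]; exact hz⟩
  mul_mem' := fun {x y} hx hy => ⟨fun z hz => by rw [act_mul]; exact hx.1 _ (hy.1 z hz),
    fun z hz => by rw [mul_inv_rev, act_mul]; exact hy.2 _ (hx.2 z hz)⟩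
  inv_mem' := fun {x} hx => ⟨hx.2, fun z hz => by rw [inv_inv]; exact hx.1 z hz⟩

omit [Finite H] [Finite V] in
theorem normalizer_le_setStab (S : Subgroup H) : normalizer (S : Set H) ≤ setStab ρ (fixV ρ S) := by
  have key : ∀ x ∈ normalizer (S : Set H), ∀ z ∈ fixV ρ S, ρ x z ∈ fixV ρ S := by
    intro x hx z hz s hs
    have h1 : x⁻¹ * s * x ∈ S := (mem_normalizer_iff'.mp hx (x⁻¹ * s)).mpr (by simpa using hs)
    have h2 := hz _ h1
    rw [act_mul, act_mul] at h2
    conv_rhs => rw [← h2, act_act_inv]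
  exact fun x hx => ⟨key x hx, key x⁻¹ (inv_mem hx)⟩

set_option maxHeartbeats 1000000 in
/-- the two uniqueness statements, by downward induction on the order of a 2-subgroup -/
theorem key_aux {n : ℕ} (ih : NoOff.{u, v} n) (hn : Nat.card H + Nat.card V ≤ n + 1)
    (hρ : Function.Injective ρ) (hV : ∀ w : V, w + w = 0)
    (hirr : ∀ U : AddSubgroup V, (∀ (x : H), ∀ w ∈ U, ρ x w ∈ U) → U = ⊥ ∨ U = ⊤)
    {T M : Subgroup H} (hown : Own T M) (hcore : pCore 2 H = ⊥) (hinv : ¬ Inv3 H) :
    ∀ d k : ℕ, Nat.card T + 1 ≤ k + d →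
      (∀ S1 S2 M1 M2 : Subgroup H, Own S1 M1 → Own S2 M2 → ∀ A, MaxOff ρ A → A ≤ S1 ⊓ S2 →
        k ≤ Nat.card ↥(S1 ⊓ S2) → M1 = M2) ∧
      (∀ S M Y : Subgroup H, Own S M → Y ≠ ⊤ → IsSylowIn 2 (S ⊓ Y) Y → ∀ A, MaxOff ρ A → A ≤ S ⊓ Y →
        k ≤ Nat.card ↥(S ⊓ Y) → Y ≤ M) := by
  haveI : Fact (Nat.Prime 2) := ⟨Nat.prime_two⟩
  have hcardS : ∀ {S M : Subgroup H}, Own S M → Nat.card S = Nat.card T := fun h => h.1.card_eq hown.1
  have hproper : ∀ D : Subgroup H, IsPGroup 2 D → D ≠ ⊥ → normalizer (D : Set H) ≠ ⊤ := by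
    intro D hD hne htop
    haveI := normalizer_eq_top_iff.mp htop
    exact hne (le_bot_iff.mp (hcore ▸ Cores.le_pCore hD))
  intro d
  induction d with
  | zero =>
    intro k hk
    refine ⟨fun S1 S2 M1 M2 h1 _ A _ _ hle => ?_, fun S M Y h1 _ _ A _ _ hle => ?_⟩
    · have := card_le_of_le (inf_le_left : S1 ⊓ S2 ≤ S1)
      have := hcardS h1
      omega
    · have := card_le_of_le (inf_le_left : S ⊓ Y ≤ S)
      have := hcardS h1
      omega
  | succ d ihd =>
    intro k hk
    obtain ⟨hU, hY⟩ := ihd (k + 1) (by omega)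
    constructor
    · -- two Sylow subgroups sharing an offender
      intro S1 S2 M1 M2 h1 h2 A hA hAD hle
      set D := S1 ⊓ S2
      rcases eq_or_lt_of_le hle with hk' | hlt
      swap
      · exact hU S1 S2 M1 M2 h1 h2 A hA hAD hlt
      by_cases hD1 : D = S1
      · have hle' : S1 ≤ S2 := hD1 ▸ inf_le_right
        obtain rfl := H48.eq_of_le_of_card_le hle' (by rw [hcardS h1, hcardS h2])
        exact h1.unique h2
      have hD2 : D ≠ S2 := fun h => hD1 (H48.eq_of_le_of_card_le inf_le_left (by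
        rw [hcardS h1, ← hcardS h2, h]))
      have hDp : IsPGroup 2 D := h1.1.isPGroup.to_le inf_le_left
      have hDne : D ≠ ⊥ := fun h => hA.2.1 (le_bot_iff.mp (h ▸ hAD))
      set N := normalizer (D : Set H)
      have hN : N ≠ ⊤ := hproper D hDp hDne
      have hlt1 : Nat.card D < Nat.card ↥(S1 ⊓ N) := H48.card_lt_card_inf_normalizer h1.1.isPGroup inf_le_left hD1
      have hlt2 : Nat.card D < Nat.card ↥(S2 ⊓ N) := H48.card_lt_card_inf_normalizer h2.1.isPGroup inf_le_right hD2
      obtain ⟨S0, hS0, hD1S0⟩ := H48.exists_isSylowIn_ge (h1.1.isPGroup.to_le inf_le_left)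
        (inf_le_right : S1 ⊓ N ≤ N)
      obtain ⟨S3, hS3, hS03⟩ := H48.exists_isSylowIn_ge hS0.isPGroup (le_top : S0 ≤ ⊤)
      obtain ⟨M3, h3⟩ := exists_own hown hS3
      have hDN : D ≤ S1 ⊓ N := le_inf inf_le_left le_normalizer
      have h13 : M1 = M3 := by
        refine hU S1 S3 M1 M3 h1 h3 A hA (le_inf (hAD.trans inf_le_left)
          ((hAD.trans hDN).trans (hD1S0.trans hS03))) ?_
        have := card_le_of_le (le_inf inf_le_left (hD1S0.trans hS03) : S1 ⊓ N ≤ S1 ⊓ S3)
        omega
      have h30 : S3 ⊓ N = S0 := (hS0.eq_of_le (hS3.isPGroup.to_le inf_le_left) inf_le_right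
        (le_inf hS03 hS0.le)).symm
      have hNM : N ≤ M3 := by
        refine hY S3 M3 N h3 hN (h30 ▸ hS0) A hA (h30 ▸ (hAD.trans hDN).trans hD1S0) ?_
        rw [h30]
        have := card_le_of_le hD1S0
        omega
      obtain ⟨S4, hS4, hD2S4⟩ := H48.exists_isSylowIn_ge (h2.1.isPGroup.to_le inf_le_left)
        ((inf_le_right.trans hNM).trans h13.ge : S2 ⊓ N ≤ M1)
      have h4 : Own S4 M1 := by
        have hc : Nat.card S1 ≤ Nat.card S4 := (isSylowIn_of_top h1.1 h1.2.2.1).card_eq hS4 |>.le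
        refine ⟨h1.1.of_card le_top hS4.isPGroup hc, h1.2.1, hS4.le, fun X hX hSX => ?_⟩
        obtain ⟨x, hx, hxe⟩ := (isSylowIn_of_top h1.1 h1.2.2.1).exists_conj hS4
        have hc' := h1.conj x
        rw [hxe, H48.cj_eq_of_mem_normalizer (le_normalizer hx)] at hc'
        exact hc'.2.2.2 X hX hSX
      refine hU S4 S2 M1 M2 h4 h2 A hA (le_inf ?_ (hAD.trans inf_le_right)) ?_
      · exact (hAD.trans (le_inf inf_le_right le_normalizer : D ≤ S2 ⊓ N)).trans hD2S4
      · have := card_le_of_le (le_inf hD2S4 inf_le_left : S2 ⊓ N ≤ S4 ⊓ S2)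
        omega
    · -- a proper subgroup containing an offender
      suffices h : ∀ (c : ℕ) (S M Y : Subgroup H), Nat.card Y ≤ c → Own S M → Y ≠ ⊤ →
          IsSylowIn 2 (S ⊓ Y) Y → ∀ A, MaxOff ρ A → A ≤ S ⊓ Y → k ≤ Nat.card ↥(S ⊓ Y) → Y ≤ M from
        fun S M Y => h _ S M Y le_rfl
      intro c
      induction c with
      | zero =>
        intro S M Y hc
        exact absurd hc (Nat.not_le.mpr Nat.card_pos)
      | succ c ihc =>
        intro S M Y hc hS hYtop hS0 A hA hAS hle
        rcases eq_or_lt_of_le hle with hk' | hlt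
        swap
        · exact hY S M Y hS hYtop hS0 A hA hAS (by omega)
        set S0 := S ⊓ Y with hS0def
        by_cases hfull : S0 = S
        · exact hS.2.2.2 Y hYtop (hfull ▸ inf_le_right)
        by_contra hYM
        have hsub : ∀ X : Subgroup H, S0 ≤ X → X ≤ Y → X ≠ Y → X ≤ M := by
          intro X hSX hXY hne
          have he : S ⊓ X = S0 := le_antisymm (inf_le_inf_left S hXY) (le_inf inf_le_left hSX)
          have hlt : Nat.card X < Nat.card Y := lt_of_le_of_ne (card_le_of_le hXY)
            fun h => hne (eq_of_le_of_card_ge hXY h.ge)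
          have hX : IsSylowIn 2 S0 X := ⟨hSX, hS0.isPGroup, fun hd => hS0.ndvd (hd.trans (by
            rw [← relIndex_mul_relIndex S0 X Y hSX hXY]; exact dvd_mul_right _ _))⟩
          refine ihc S M X (by omega) hS (fun h => hYtop (top_le_iff.mp (h ▸ hXY))) (he ▸ hX) A hA
            (he ▸ hAS) (he ▸ hle)
        -- a larger proper subgroup
        have grow : ∀ Y' : Subgroup H, Y' ≠ ⊤ → Y ≤ Y' → S ⊓ normalizer (S0 : Set H) ≤ Y' → False := by
          intro Y' hY' hYY' hN'
          obtain ⟨S1, hS1, hSS1⟩ := H48.exists_isSylowIn_ge (hS.1.isPGroup.to_le inf_le_left)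
            (inf_le_right : S ⊓ Y' ≤ Y')
          obtain ⟨S3, hS3, hS13⟩ := H48.exists_isSylowIn_ge hS1.isPGroup (le_top : S1 ≤ ⊤)
          obtain ⟨M3, h3⟩ := exists_own hown hS3
          have hlt : Nat.card S0 < Nat.card ↥(S ⊓ normalizer (S0 : Set H)) :=
            H48.card_lt_card_inf_normalizer hS.1.isPGroup inf_le_left hfull
          have hle1 : S ⊓ normalizer (S0 : Set H) ≤ S1 := (le_inf inf_le_left hN').trans hSS1
          have hA1 : A ≤ S1 := (hAS.trans (inf_le_inf_left S hYY')).trans hSS1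
          have e : M = M3 := by
            refine hU S S3 M M3 hS h3 A hA (le_inf (hAS.trans inf_le_left) (hA1.trans hS13)) ?_
            have := card_le_of_le (le_inf inf_le_left (hle1.trans hS13) :
              S ⊓ normalizer (S0 : Set H) ≤ S ⊓ S3)
            omega
          have h31 : S3 ⊓ Y' = S1 := (hS1.eq_of_le (hS3.isPGroup.to_le inf_le_left) inf_le_right
            (le_inf hS13 hS1.le)).symm
          refine hYM (hYY'.trans (e ▸ hY S3 M3 Y' h3 hY' (h31 ▸ hS1) A hA (h31 ▸ hA1) ?_))
          rw [h31]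
          have := card_le_of_le hle1
          omega
        set RY : Subgroup H := (pCore 2 Y).map Y.subtype
        have hYRY : ∀ y ∈ Y, ∀ x ∈ RY, y * x * y⁻¹ ∈ RY := by
          rintro y hy _ ⟨x, hx, rfl⟩
          exact ⟨⟨y, hy⟩ * x * ⟨y, hy⟩⁻¹, (pCore_normal 2 Y).conj_mem x hx _, rfl⟩
        have hRY : RY ≤ S0 := by
          rintro _ ⟨x, hx, rfl⟩
          exact Cores.pCore_le_sylow hS0.toSylow hx
        by_cases hall : ∀ B, MaxOff ρ B → B ≤ S0 → B ≤ RY
        · set K0 : Subgroup H := sSup {B | MaxOff ρ B ∧ B ≤ S0} with hK0def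
          have hK0S : K0 ≤ S0 := sSup_le fun B hB => hB.2
          have hmono : ∀ y : H, (∀ B, MaxOff ρ B → B ≤ S0 → cj y B ≤ S0) → y ∈ normalizer (K0 : Set H) := by
            intro y hy
            refine H48.mem_normalizer_of_cj_eq (H48.cj_eq_self_of_le ?_)
            rw [cj, map_le_iff_le_comap]
            exact sSup_le fun B hB => map_le_iff_le_comap.mp
              (le_sSup (a := cj y B) (s := {B | MaxOff ρ B ∧ B ≤ S0}) ⟨hB.1.conj y, hy B hB.1 hB.2⟩)
          refine grow (normalizer (K0 : Set H)) (hproper K0 (hS0.isPGroup.to_le hK0S) fun h => hA.2.1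
            (le_bot_iff.mp (h ▸ le_sSup (a := A) (s := {B | MaxOff ρ B ∧ B ≤ S0}) ⟨hA, hAS⟩))) ?_ ?_
          · exact fun y hy => hmono y fun B hB hBS => H48.cj_le.mpr fun x hx =>
              hRY (hYRY y hy x (hall B hB hBS hx))
          · exact fun y hy => hmono y fun B hB hBS => H48.cj_le.mpr fun x hx =>
              (mem_normalizer_iff.mp hy.2 x).mp (hBS hx)
        push Not at hall
        obtain ⟨B, hB, hBS, hBR⟩ := hall
        have hBY : B ≤ Y := hBS.trans inf_le_right
        set Z1 := fixV ρ S0 with hZ1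
        have hS0ne : S0 ≠ ⊥ := fun h => hA.2.1 (le_bot_iff.mp (h ▸ hAS))
        have hVne : (⊤ : AddSubgroup V) ≠ ⊥ := fun h => hA.2.1 ((eq_bot_iff_forall _).mpr fun a _ =>
          end_ext hρ fun w => by
            have h1 : ρ a w ∈ (⊤ : AddSubgroup V) := AddSubgroup.mem_top _
            have h2 : w ∈ (⊤ : AddSubgroup V) := AddSubgroup.mem_top _
            rw [h, AddSubgroup.mem_bot] at h1 h2
            rw [h1, h2, map_zero])
        have hZne : Z1 ≠ ⊥ := by
          obtain ⟨w, -, hw0, hw⟩ := exists_fixed hV hS0.isPGroup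
            (fun x _ w _ => AddSubgroup.mem_top (ρ x w)) hVne
          exact fun h => hw0 (AddSubgroup.mem_bot.mp (h ▸ (hw : w ∈ Z1)))
        set V1 : AddSubgroup V := AddSubgroup.closure {m | ∃ y ∈ Y, ∃ z ∈ Z1, ρ y z = m} with hV1
        have hV1inv : ∀ y ∈ Y, ∀ m ∈ V1, ρ y m ∈ V1 := by
          intro y hy m hm
          refine AddSubgroup.closure_induction (p := fun m _ => ρ y m ∈ V1) ?_ ?_ ?_ ?_ hm
          · rintro _ ⟨y', hy', z, hz, rfl⟩
            rw [← act_mul]
            exact AddSubgroup.subset_closure ⟨_, mul_mem hy hy', z, hz, rfl⟩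
          · rw [map_zero]; exact zero_mem _
          · intro a b _ _ ha hb; rw [map_add]; exact add_mem ha hb
          · intro a _ ha; rw [map_neg]; exact neg_mem ha
        have hZV1 : Z1 ≤ V1 := fun z hz => AddSubgroup.subset_closure ⟨1, one_mem _, z, hz, act_one z⟩
        let α : Y →* AddMonoid.End V1 :=
          { toFun := fun y =>
              { toFun := fun m => ⟨ρ y m.1, hV1inv y y.2 m.1 m.2⟩
                map_zero' := Subtype.ext (map_zero _)
                map_add' := fun a b => Subtype.ext (map_add _ a.1 b.1) }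
            map_one' := AddMonoidHom.ext fun m => Subtype.ext (act_one m.1)
            map_mul' := fun a b => AddMonoidHom.ext fun m => Subtype.ext (act_mul (a : H) b m.1) }
        have hαapp : ∀ (y : Y) (m : V1), (α y m : V) = ρ y m.1 := fun _ _ => rfl
        set S0' := S0.subgroupOf Y
        have hS0Z : ∀ s ∈ S0', ∀ z (hz : z ∈ Z1), ρ (s : H) z = z := fun s hs z hz => hz _ hs
        have hkerZ : ∀ y ∈ α.ker, ∀ z (hz : z ∈ Z1), ρ (y : H) z = z := fun y hy z hz =>
          congrArg (fun f : AddMonoid.End V1 => (f ⟨z, hZV1 hz⟩ : V)) (hy : α y = 1)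
        by_cases hCS : α.ker ⊔ S0' = ⊤
        · -- `Y` fixes the fixed space
          have hfix : ∀ y ∈ Y, ∀ z ∈ Z1, ρ y z = z := by
            intro y hy z hz
            obtain ⟨k0, hk0, s, hs, he⟩ := mem_sup_of_normal_left.mp (hCS.ge (mem_top (⟨y, hy⟩ : Y)))
            rw [show y = (k0 : H) * s from (congrArg Subtype.val he).symm, act_mul, hS0Z s hs z hz,
              hkerZ k0 hk0 z hz]
          refine grow (setStab ρ Z1) ?_ ?_ ?_
          · intro h
            rcases hirr Z1 (fun x w hw => (h.ge (mem_top x)).1 w hw) with h0 | h0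
            · exact hZne h0
            · exact hS0ne ((eq_bot_iff_forall _).mpr fun s hs => end_ext hρ fun w => by
                rw [act_one]; exact (h0.ge (AddSubgroup.mem_top w) : w ∈ Z1) s hs)
          · exact fun y hy => ⟨fun z hz => by rw [hfix y hy z hz]; exact hz,
              fun z hz => by rw [hfix _ (inv_mem hy) z hz]; exact hz⟩
          · exact inf_le_right.trans (normalizer_le_setStab S0)
        -- the image is again of the same kind
        set MY := M.subgroupOf Y
        have hsub' : ∀ X : Subgroup Y, X ≠ ⊤ → S0' ≤ X → X ≤ MY := by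
          intro X hX hSX x hx
          refine hsub (X.map Y.subtype) ?_ (map_subtype_le X) (fun h => hX ?_) ⟨x, hx, rfl⟩
          · intro s hs
            exact ⟨⟨s, hs.2⟩, hSX hs, rfl⟩
          · rw [← comap_map_eq_self_of_injective Y.subtype_injective X, h]
            exact subgroupOf_self Y
        have hownY : Own S0' MY := by
          refine ⟨⟨le_top, hS0.isPGroup.comap_subtype, ?_⟩, fun h => hYM (subgroupOf_eq_top.mp h), ?_, hsub'⟩
          · rw [relIndex_top_right]; exact hS0.ndvd
          · intro s hs; exact hS.2.2.1 (hs : (s : H) ∈ S0).1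
        have hNM : α.ker ≤ MY := le_sup_left.trans (hsub' _ hCS le_sup_right)
        let SY : Sylow 2 Y := hS0.toSylow
        have hfr : normalizer ((S0' ⊓ α.ker : Subgroup Y) : Set Y) ⊔ α.ker = ⊤ := frattini_inf SY α.ker
        have hPn : normalizer ((S0' ⊓ α.ker : Subgroup Y) : Set Y) = ⊤ := by
          by_contra h
          have hle' : S0' ≤ normalizer ((S0' ⊓ α.ker : Subgroup Y) : Set Y) := fun s hs => by
            refine mem_normalizer_iff.mpr fun y => ?_
            rw [Subgroup.mem_inf, Subgroup.mem_inf]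
            constructor
            · exact fun hy => ⟨mul_mem (mul_mem hs hy.1) (inv_mem hs), α.normal_ker.conj_mem y hy.2 s⟩
            · intro hy
              constructor
              · simpa [mul_assoc] using mul_mem (mul_mem (inv_mem hs) hy.1) hs
              · simpa [mul_assoc] using α.normal_ker.conj_mem _ hy.2 s⁻¹
          exact hownY.2.1 (top_le_iff.mp (hfr ▸ sup_le (hsub' _ h hle') hNM))
        haveI := normalizer_eq_top_iff.mp hPn
        have hPR : S0' ⊓ α.ker ≤ pCore 2 Y := Cores.le_pCore (hS0.isPGroup.comap_subtype.to_le inf_le_left)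
        set B' := B.subgroupOf Y
        have hBel : El B' := fun b hb => Subtype.ext (hB.1 _ hb)
        have hcardY : Nat.card Y < Nat.card H :=
          lt_of_le_of_ne (card_le_card_group Y) fun h => hYtop (eq_top_of_card_eq Y h)
        have hcard1 : Nat.card V1 ≤ Nat.card V := Nat.card_le_card_of_injective _ Subtype.val_injective
        refine false_of_quotient ih α (fun w => Subtype.ext (hV w.1)) hownY hNM ?_
          (fun h => hinv h.of_subgroup) hBel (fun h => hBR fun b hb => ?_) ?_ (by omega)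
        · intro P hP _ hPle p hp
          have hPfix : ∀ q ∈ P, ∀ z ∈ Z1, ρ (q : H) z = z := by
            intro q hq z hz
            obtain ⟨k0, hk0, s, hs, he⟩ := mem_sup_of_normal_left.mp (hPle hq)
            rw [← he, Subgroup.coe_mul, act_mul, hS0Z s hs z hz, hkerZ k0 hk0 z hz]
          refine AddMonoidHom.ext fun m => Subtype.ext ?_
          show ρ (p : H) m.1 = m.1
          refine AddSubgroup.closure_induction (p := fun m _ => ρ (p : H) m = m) ?_ (map_zero _) ?_ ?_ m.2
          · rintro _ ⟨y, hy, z, hz, rfl⟩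
            have h := hPfix _ (hP.conj_mem p hp ⟨y, hy⟩⁻¹) z hz
            have h' : ρ y⁻¹ (ρ (p : H) (ρ y z)) = z := by
              rw [← act_mul, ← act_mul]
              simpa [mul_assoc] using h
            conv_rhs => rw [← h', act_act_inv]
          · intro a b _ _ ha hb; rw [map_add, ha, hb]
          · intro a _ ha; rw [map_neg, ha]
        · exact ⟨⟨b, hBY hb⟩, hPR ⟨hBS hb, h (hb : (⟨b, hBY hb⟩ : Y) ∈ B')⟩, rfl⟩
        · set K : Subgroup H := (B' ⊓ α.ker).map Y.subtype
          have hKB : K ≤ B := by rintro _ ⟨x, hx, rfl⟩; exact hx.1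
          have hKc : Nat.card K = Nat.card ↥(B' ⊓ α.ker) := card_map_of_injective Y.subtype_injective
          have hBc : Nat.card B' = Nat.card B := Nat.card_congr (subgroupOfEquivOfLe hBY).toEquiv
          have h1 := H63.card_sup_inf_add (fixV ρ B) V1
          have h2 : fixV ρ B ⊔ V1 ≤ fixV ρ K := sup_le (fun w hw x hx => hw x (hKB hx)) fun w hw => by
            rintro _ ⟨x, hx, rfl⟩
            exact congrArg (fun f : AddMonoid.End V1 => (f ⟨w, hw⟩ : V)) (hx.2 : α x = 1)
          have h3 : Nat.card ↥(fixV ρ B ⊔ V1) ≤ Nat.card (fixV ρ K) :=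
            Nat.card_le_card_of_injective (AddSubgroup.inclusion h2) (AddSubgroup.inclusion_injective _)
          have h4 : Nat.card ↥(fixV ρ B ⊓ V1) ≤ Nat.card (fixV α B') := by
            refine Nat.card_le_card_of_injective
              (fun w => ⟨⟨w.1, w.2.2⟩, fun x hx => Subtype.ext (w.2.1 _ hx)⟩) fun a b h =>
                Subtype.ext (congrArg (fun e : fixV α B' => (e.1 : V)) h)
          have h5 := hB.2.2.2 K (hB.1.mono hKB)
          refine Nat.le_of_mul_le_mul_left ?_ (Nat.card_pos (α := fixV ρ B))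
          calc Nat.card (fixV ρ B) * (Nat.card V1 * Nat.card ↥(B' ⊓ α.ker))
              = Nat.card ↥(fixV ρ B ⊔ V1) * Nat.card ↥(fixV ρ B ⊓ V1) * Nat.card K := by
                rw [← mul_assoc, h1, hKc]
            _ ≤ Nat.card (fixV ρ K) * Nat.card ↥(fixV ρ B ⊓ V1) * Nat.card K := by gcongr
            _ = Nat.card K * Nat.card (fixV ρ K) * Nat.card ↥(fixV ρ B ⊓ V1) := by ring
            _ ≤ Nat.card B * Nat.card (fixV ρ B) * Nat.card ↥(fixV ρ B ⊓ V1) := Nat.mul_le_mul_right _ h5
            _ ≤ Nat.card B * Nat.card (fixV ρ B) * Nat.card (fixV α B') := by gcongr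
            _ = _ := by rw [hBc]; ring

end Cfsg.Agent.Thompson.Par
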