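import Mathlib
import Cfsg.Agent.Thompson.ParabolicKey

/-!
In a group with one maximal subgroup over a Sylow 2-subgroup: a marked 2-subgroup outside the 2-core
lies in only one maximal subgroup, when this is known for the smaller groups of the same kind.
-/

set_option autoImplicit false
set_option linter.unusedSectionVars false
set_option linter.style.haveILetI false

namespace Cfsg.Agent.Thompson.GenOff

open Subgroup
open H48 (IsSylowIn cj)
open Par (Own Home exists_own isSylowIn_of_top)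

universe u

variable {H : Type u} [Group H] [Finite H]

/-- a marked subgroup outside the 2-core -/
def Good (PP : Subgroup H → Prop) (A : Subgroup H) : Prop := PP A ∧ ¬ A ≤ pCore 2 H

/-- what is known in the smaller groups -/
def SmallOK (PP : Subgroup H → Prop) : Prop :=
  ∀ S M Y : Subgroup H, Own S M → Y ≠ ⊤ → IsSylowIn 2 (S ⊓ Y) Y →
    (∀ X : Subgroup H, S ⊓ Y ≤ X → X ≤ Y → X ≠ Y → X ≤ M) → ¬ Y ≤ M →
    ∀ B, PP B → B ≤ S ⊓ Y → B ≤ (pCore 2 Y).map Y.subtype

set_option maxHeartbeats 1000000 in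
/-- the two uniqueness statements -/
theorem key_aux (PP : Subgroup H → Prop) (hconj : ∀ A, PP A → ∀ g : H, PP (cj g A))
    (hsmall : SmallOK PP) {T M : Subgroup H} (hown : Own T M) :
    ∀ d k : ℕ, Nat.card T + 1 ≤ k + d →
      (∀ S1 S2 M1 M2 : Subgroup H, Own S1 M1 → Own S2 M2 → ∀ A, Good PP A → A ≤ S1 ⊓ S2 →
        k ≤ Nat.card ↥(S1 ⊓ S2) → M1 = M2) ∧
      (∀ S M Y : Subgroup H, Own S M → Y ≠ ⊤ → IsSylowIn 2 (S ⊓ Y) Y → ∀ A, Good PP A → A ≤ S ⊓ Y →
        k ≤ Nat.card ↥(S ⊓ Y) → Y ≤ M) := by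
  haveI : Fact (Nat.Prime 2) := ⟨Nat.prime_two⟩
  have hcardS : ∀ {S M : Subgroup H}, Own S M → Nat.card S = Nat.card T := fun h => h.1.card_eq hown.1
  have hproper : ∀ D : Subgroup H, IsPGroup 2 D → ∀ A, Good PP A → A ≤ D →
      normalizer (D : Set H) ≠ ⊤ := by
    intro D hD A hA hAD htop
    haveI := normalizer_eq_top_iff.mp htop
    exact hA.2 (hAD.trans (Cores.le_pCore hD))
  intro d
  induction d with
  | zero =>
    intro k hk
    refine ⟨fun S1 S2 M1 M2 h1 _ A _ _ hle => ?_, fun S M Y h1 _ _ A _ _ hle => ?_⟩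
    · have := card_le_of_le (inf_le_left : S1 ⊓ S2 ≤ S1)
      have := hcardS h1
      omega
    · have := card_le_of_le (inf_le_left : S ⊓ Y ≤ S)
      have := hcardS h1
      omega
  | succ d ihd =>
    intro k hk
    obtain ⟨hU, hY⟩ := ihd (k + 1) (by omega)
    constructor
    · -- two Sylow subgroups sharing an offender
      intro S1 S2 M1 M2 h1 h2 A hA hAD hle
      set D := S1 ⊓ S2
      rcases eq_or_lt_of_le hle with hk' | hlt
      swap
      · exact hU S1 S2 M1 M2 h1 h2 A hA hAD hlt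
      by_cases hD1 : D = S1
      · have hle' : S1 ≤ S2 := hD1 ▸ inf_le_right
        obtain rfl := H48.eq_of_le_of_card_le hle' (by rw [hcardS h1, hcardS h2])
        exact h1.unique h2
      have hD2 : D ≠ S2 := fun h => hD1 (H48.eq_of_le_of_card_le inf_le_left (by
        rw [hcardS h1, ← hcardS h2, h]))
      have hDp : IsPGroup 2 D := h1.1.isPGroup.to_le inf_le_left
      set N := normalizer (D : Set H)
      have hN : N ≠ ⊤ := hproper D hDp A hA hAD
      have hlt1 : Nat.card D < Nat.card ↥(S1 ⊓ N) := H48.card_lt_card_inf_normalizer h1.1.isPGroup inf_le_left hD1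
      have hlt2 : Nat.card D < Nat.card ↥(S2 ⊓ N) := H48.card_lt_card_inf_normalizer h2.1.isPGroup inf_le_right hD2
      obtain ⟨S0, hS0, hD1S0⟩ := H48.exists_isSylowIn_ge (h1.1.isPGroup.to_le inf_le_left)
        (inf_le_right : S1 ⊓ N ≤ N)
      obtain ⟨S3, hS3, hS03⟩ := H48.exists_isSylowIn_ge hS0.isPGroup (le_top : S0 ≤ ⊤)
      obtain ⟨M3, h3⟩ := exists_own hown hS3
      have hDN : D ≤ S1 ⊓ N := le_inf inf_le_left le_normalizer
      have h13 : M1 = M3 := by
        refine hU S1 S3 M1 M3 h1 h3 A hA (le_inf (hAD.trans inf_le_left)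
          ((hAD.trans hDN).trans (hD1S0.trans hS03))) ?_
        have := card_le_of_le (le_inf inf_le_left (hD1S0.trans hS03) : S1 ⊓ N ≤ S1 ⊓ S3)
        omega
      have h30 : S3 ⊓ N = S0 := (hS0.eq_of_le (hS3.isPGroup.to_le inf_le_left) inf_le_right
        (le_inf hS03 hS0.le)).symm
      have hNM : N ≤ M3 := by
        refine hY S3 M3 N h3 hN (h30 ▸ hS0) A hA (h30 ▸ (hAD.trans hDN).trans hD1S0) ?_
        rw [h30]
        have := card_le_of_le hD1S0
        omega
      obtain ⟨S4, hS4, hD2S4⟩ := H48.exists_isSylowIn_ge (h2.1.isPGroup.to_le inf_le_left)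
        ((inf_le_right.trans hNM).trans h13.ge : S2 ⊓ N ≤ M1)
      have h4 : Own S4 M1 := by
        have hc : Nat.card S1 ≤ Nat.card S4 := (isSylowIn_of_top h1.1 h1.2.2.1).card_eq hS4 |>.le
        refine ⟨h1.1.of_card le_top hS4.isPGroup hc, h1.2.1, hS4.le, fun X hX hSX => ?_⟩
        obtain ⟨x, hx, hxe⟩ := (isSylowIn_of_top h1.1 h1.2.2.1).exists_conj hS4
        have hc' := h1.conj x
        rw [hxe, H48.cj_eq_of_mem_normalizer (le_normalizer hx)] at hc'
        exact hc'.2.2.2 X hX hSX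
      refine hU S4 S2 M1 M2 h4 h2 A hA (le_inf ?_ (hAD.trans inf_le_right)) ?_
      · exact (hAD.trans (le_inf inf_le_right le_normalizer : D ≤ S2 ⊓ N)).trans hD2S4
      · have := card_le_of_le (le_inf hD2S4 inf_le_left : S2 ⊓ N ≤ S4 ⊓ S2)
        omega
    · -- a proper subgroup containing an offender
      suffices h : ∀ (c : ℕ) (S M Y : Subgroup H), Nat.card Y ≤ c → Own S M → Y ≠ ⊤ →
          IsSylowIn 2 (S ⊓ Y) Y → ∀ A, Good PP A → A ≤ S ⊓ Y → k ≤ Nat.card ↥(S ⊓ Y) → Y ≤ M from
        fun S M Y => h _ S M Y le_rfl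
      intro c
      induction c with
      | zero =>
        intro S M Y hc
        exact absurd hc (Nat.not_le.mpr Nat.card_pos)
      | succ c ihc =>
        intro S M Y hc hS hYtop hS0 A hA hAS hle
        rcases eq_or_lt_of_le hle with hk' | hlt
        swap
        · exact hY S M Y hS hYtop hS0 A hA hAS (by omega)
        set S0 := S ⊓ Y with hS0def
        by_cases hfull : S0 = S
        · exact hS.2.2.2 Y hYtop (hfull ▸ inf_le_right)
        by_contra hYM
        have hsub : ∀ X : Subgroup H, S0 ≤ X → X ≤ Y → X ≠ Y → X ≤ M := by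
          intro X hSX hXY hne
          have he : S ⊓ X = S0 := le_antisymm (inf_le_inf_left S hXY) (le_inf inf_le_left hSX)
          have hlt : Nat.card X < Nat.card Y := lt_of_le_of_ne (card_le_of_le hXY)
            fun h => hne (eq_of_le_of_card_ge hXY h.ge)
          have hX : IsSylowIn 2 S0 X := ⟨hSX, hS0.isPGroup, fun hd => hS0.ndvd (hd.trans (by
            rw [← relIndex_mul_relIndex S0 X Y hSX hXY]; exact dvd_mul_right _ _))⟩
          refine ihc S M X (by omega) hS (fun h => hYtop (top_le_iff.mp (h ▸ hXY))) (he ▸ hX) A hA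
            (he ▸ hAS) (he ▸ hle)
        -- a larger proper subgroup
        have grow : ∀ Y' : Subgroup H, Y' ≠ ⊤ → Y ≤ Y' → S ⊓ normalizer (S0 : Set H) ≤ Y' → False := by
          intro Y' hY' hYY' hN'
          obtain ⟨S1, hS1, hSS1⟩ := H48.exists_isSylowIn_ge (hS.1.isPGroup.to_le inf_le_left)
            (inf_le_right : S ⊓ Y' ≤ Y')
          obtain ⟨S3, hS3, hS13⟩ := H48.exists_isSylowIn_ge hS1.isPGroup (le_top : S1 ≤ ⊤)
          obtain ⟨M3, h3⟩ := exists_own hown hS3
          have hlt : Nat.card S0 < Nat.card ↥(S ⊓ normalizer (S0 : Set H)) :=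
            H48.card_lt_card_inf_normalizer hS.1.isPGroup inf_le_left hfull
          have hle1 : S ⊓ normalizer (S0 : Set H) ≤ S1 := (le_inf inf_le_left hN').trans hSS1
          have hA1 : A ≤ S1 := (hAS.trans (inf_le_inf_left S hYY')).trans hSS1
          have e : M = M3 := by
            refine hU S S3 M M3 hS h3 A hA (le_inf (hAS.trans inf_le_left) (hA1.trans hS13)) ?_
            have := card_le_of_le (le_inf inf_le_left (hle1.trans hS13) :
              S ⊓ normalizer (S0 : Set H) ≤ S ⊓ S3)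
            omega
          have h31 : S3 ⊓ Y' = S1 := (hS1.eq_of_le (hS3.isPGroup.to_le inf_le_left) inf_le_right
            (le_inf hS13 hS1.le)).symm
          refine hYM (hYY'.trans (e ▸ hY S3 M3 Y' h3 hY' (h31 ▸ hS1) A hA (h31 ▸ hA1) ?_))
          rw [h31]
          have := card_le_of_le hle1
          omega
        set RY : Subgroup H := (pCore 2 Y).map Y.subtype
        have hYRY : ∀ y ∈ Y, ∀ x ∈ RY, y * x * y⁻¹ ∈ RY := by
          rintro y hy _ ⟨x, hx, rfl⟩
          exact ⟨⟨y, hy⟩ * x * ⟨y, hy⟩⁻¹, (pCore_normal 2 Y).conj_mem x hx _, rfl⟩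
        have hRY : RY ≤ S0 := by
          rintro _ ⟨x, hx, rfl⟩
          exact Cores.pCore_le_sylow hS0.toSylow hx
        by_cases hall : ∀ B, PP B → B ≤ S0 → B ≤ RY
        · set K0 : Subgroup H := sSup {B | PP B ∧ B ≤ S0} with hK0def
          have hK0S : K0 ≤ S0 := sSup_le fun B hB => hB.2
          have hmono : ∀ y : H, (∀ B, PP B → B ≤ S0 → cj y B ≤ S0) → y ∈ normalizer (K0 : Set H) := by
            intro y hy
            refine H48.mem_normalizer_of_cj_eq (H48.cj_eq_self_of_le ?_)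
            rw [cj, map_le_iff_le_comap]
            exact sSup_le fun B hB => map_le_iff_le_comap.mp
              (le_sSup (a := cj y B) (s := {B | PP B ∧ B ≤ S0}) ⟨hconj B hB.1 y, hy B hB.1 hB.2⟩)
          refine grow (normalizer (K0 : Set H)) (hproper K0 (hS0.isPGroup.to_le hK0S) A hA
            (le_sSup (a := A) (s := {B | PP B ∧ B ≤ S0}) ⟨hA.1, hAS⟩)) ?_ ?_
          · exact fun y hy => hmono y fun B hB hBS => H48.cj_le.mpr fun x hx =>
              hRY (hYRY y hy x (hall B hB hBS hx))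
          · exact fun y hy => hmono y fun B hB hBS => H48.cj_le.mpr fun x hx =>
              (mem_normalizer_iff.mp hy.2 x).mp (hBS hx)
        push Not at hall
        obtain ⟨B, hB, hBS, hBR⟩ := hall
        exact hBR (hsmall S M Y hS hYtop hS0 hsub hYM B hB hBS)

/-- a good subgroup has only one maximal subgroup over it -/
theorem exists_home (PP : Subgroup H → Prop) (hconj : ∀ A, PP A → ∀ g : H, PP (cj g A))
    (hel : ∀ A, PP A → IsPGroup 2 A) (hsmall : SmallOK PP) {S M : Subgroup H} (hown : Own S M)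
    {A : Subgroup H} (hA : Good PP A) (hAS : A ≤ S) : Home A M := by
  haveI : Fact (Nat.Prime 2) := ⟨Nat.prime_two⟩
  obtain ⟨hU, hY⟩ := key_aux PP hconj hsmall hown (Nat.card S + 1) 0 (by omega)
  refine ⟨hown.2.1, hAS.trans hown.2.2.1, fun X hX hAX => ?_⟩
  obtain ⟨S0, hS0, hAS0⟩ := H48.exists_isSylowIn_ge (hel A hA.1) hAX
  obtain ⟨S', hS', hS0S'⟩ := H48.exists_isSylowIn_ge hS0.isPGroup (le_top : S0 ≤ ⊤)
  obtain ⟨M', hM'⟩ := exists_own hown hS'
  have he : S' ⊓ X = S0 := (hS0.eq_of_le (hS'.isPGroup.to_le inf_le_left) inf_le_right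
    (le_inf hS0S' hS0.le)).symm
  rw [hU S S' M M' hown hM' A hA (le_inf hAS (hAS0.trans hS0S')) (Nat.zero_le _)]
  exact hY S' M' X hM' hX (he ▸ hS0) A hA (he ▸ hAS0) (Nat.zero_le _)

end Cfsg.Agent.Thompson.GenOff
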