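import Mathlib
import Cfsg.Agent.Thompson.ParabolicKey

/-!
A group with one maximal subgroup over a Sylow 2-subgroup, trivial 2-core and no inverted element of
order three has no offender on a faithful module in characteristic two.
-/

set_option autoImplicit false

namespace Cfsg.Agent.Thompson.Par

open Subgroup
open scoped Pointwise
open H48 (IsSylowIn cj)
open Off (fixV stabV act_mul act_one act_inv_act act_act_inv end_ext)

universe u v

variable {H : Type u} [Group H] [Finite H] {V : Type v} [AddCommGroup V] [Finite V]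
  {ρ : H →* AddMonoid.End V}

/-- the action on an invariant subgroup -/
def subAct (ρ : H →* AddMonoid.End V) (U : AddSubgroup V) (hU : ∀ (x : H), ∀ w ∈ U, ρ x w ∈ U) :
    H →* AddMonoid.End U where
  toFun x :=
    { toFun := fun m => ⟨ρ x m.1, hU x m.1 m.2⟩
      map_zero' := Subtype.ext (map_zero _)
      map_add' := fun a b => Subtype.ext (map_add _ a.1 b.1) }
  map_one' := AddMonoidHom.ext fun m => Subtype.ext (act_one m.1)
  map_mul' a b := AddMonoidHom.ext fun m => Subtype.ext (act_mul a b m.1)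

/-- the action on the quotient by an invariant subgroup -/
def quoAct (ρ : H →* AddMonoid.End V) (U : AddSubgroup V) (hU : ∀ (x : H), ∀ w ∈ U, ρ x w ∈ U) :
    H →* AddMonoid.End (V ⧸ U) where
  toFun x := QuotientAddGroup.map U U (ρ x) (fun w hw => hU x w hw)
  map_one' := by
    refine AddMonoidHom.ext fun m => ?_
    obtain ⟨m, rfl⟩ := QuotientAddGroup.mk'_surjective U m
    exact congrArg QuotientAddGroup.mk (act_one (ρ := ρ) m)
  map_mul' a b := by
    refine AddMonoidHom.ext fun m => ?_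
    obtain ⟨m, rfl⟩ := QuotientAddGroup.mk'_surjective U m
    exact congrArg QuotientAddGroup.mk (act_mul (ρ := ρ) a b m)

/-- a reducible module reduces to a smaller one -/
theorem irreducible_of_offender {n : ℕ} (ih : NoOff.{u, v} n) (hn : Nat.card H + Nat.card V ≤ n + 1)
    (hρ : Function.Injective ρ) (hV : ∀ w : V, w + w = 0) {T M : Subgroup H} (hown : Own T M)
    (hcore : pCore 2 H = ⊥) (hinv : ¬ Inv3 H) {A : Subgroup H} (hA : El A) (hne : A ≠ ⊥)
    (hoff : Nat.card V ≤ Nat.card A * Nat.card (fixV ρ A)) (U : AddSubgroup V)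
    (hU : ∀ (x : H), ∀ w ∈ U, ρ x w ∈ U) : U = ⊥ ∨ U = ⊤ := by
  haveI : Fact (Nat.Prime 2) := ⟨Nat.prime_two⟩
  by_contra hcon
  push Not at hcon
  set σ1 := subAct ρ U hU
  set σ2 := quoAct ρ U hU
  have hinf : σ1.ker ⊓ σ2.ker = ⊥ := by
    have hp : IsPGroup 2 ↥(σ1.ker ⊓ σ2.ker) := fun x => ⟨1, Subtype.ext (end_ext hρ fun w => by
      show ρ ((x : H) ^ 2 ^ 1) w = ρ 1 w
      rw [act_one, pow_one, sq, act_mul]
      have h1 : ρ (x : H) w - w ∈ U := by
        have h := congrArg (fun f : AddMonoid.End (V ⧸ U) => f (QuotientAddGroup.mk w)) (x.2.2 : σ2 x = 1)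
        have h' : -(ρ (x : H) w) + w ∈ U := QuotientAddGroup.eq.mp h
        simpa [sub_eq_add_neg, add_comm] using neg_mem h'
      have h2 : ρ (x : H) (ρ (x : H) w - w) = ρ (x : H) w - w :=
        congrArg (fun f : AddMonoid.End U => (f ⟨_, h1⟩ : V)) (x.2.1 : σ1 x = 1)
      rw [map_sub, sub_eq_iff_eq_add] at h2
      rw [h2, show ρ (x : H) w - w + ρ (x : H) w = (ρ (x : H) w + ρ (x : H) w) - (w + w) + w by abel,
        hV, hV, sub_self, zero_add])⟩
    exact le_bot_iff.mp (hcore ▸ Cores.le_pCore hp)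
  have hodd : ∀ N : Subgroup H, N.Normal → N ≤ M → ∀ Q : Subgroup H, IsPGroup 2 Q → Q ≤ N → Q = ⊥ :=
    fun N hN hNM Q hQ hQN => by haveI := hN; exact eq_bot_of_normal_le hown hcore hNM hQ hQN
  have hcoreP : ∀ N : Subgroup H, N.Normal → N ≤ M → ∀ P : Subgroup H, P.Normal → N ≤ P → P ≤ N ⊔ T →
      P ≤ N := by
    intro N hN hNM P hP hNP hPle p hp
    haveI := hN
    obtain ⟨a, ha, t, ht, rfl⟩ := mem_sup_of_normal_left.mp (hPle hp)
    have htP : t ∈ P := by
      have := mul_mem (inv_mem (hNP ha)) hp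
      simpa using this
    have hTP := hodd P hP (hPle.trans (sup_le hNM hown.2.2.1)) (T ⊓ P) (hown.1.isPGroup.to_le inf_le_left)
      inf_le_right
    rw [show t = 1 from mem_bot.mp (hTP ▸ ⟨ht, htP⟩), mul_one]
    exact ha
  have hsmallU : Nat.card U < Nat.card V := lt_of_le_of_ne (Nat.card_le_card_of_injective _ Subtype.val_injective)
    fun h => hcon.2 (AddSubgroup.eq_top_of_card_eq U h)
  have hVU : Nat.card V = Nat.card (V ⧸ U) * Nat.card U := U.card_eq_card_quotient_mul_card_addSubgroup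
  have hsmallQ : Nat.card (V ⧸ U) < Nat.card V := by
    have h1 : 1 < Nat.card U := by
      obtain ⟨w, hw⟩ := AddSubgroup.ne_bot_iff_exists_ne_zero.mp hcon.1
      haveI : Nontrivial U := ⟨⟨w, 0, hw⟩⟩
      exact Finite.one_lt_card
    rw [hVU]; exact lt_mul_of_one_lt_right Nat.card_pos h1
  have hAinj : ∀ N : Subgroup H, N.Normal → N ≤ M → A ⊓ N = ⊥ := fun N hN hNM =>
    hodd N hN hNM _ (hA.isPGroup.to_le inf_le_left) inf_le_right
  by_cases h1 : σ1.ker ≤ M
  · refine false_of_quotient ih σ1 (fun w => Subtype.ext (hV w.1)) hown h1 (hcoreP _ inferInstance h1) hinv hA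
      (fun h => hne (by rw [← hAinj _ inferInstance h1, inf_eq_left.mpr h])) ?_ (by omega)
    rw [hAinj _ inferInstance h1, card_bot, mul_one]
    have hc := H63.card_sup_inf_add U (fixV ρ A)
    have h3 : Nat.card ↥(U ⊔ fixV ρ A) ≤ Nat.card V := Nat.card_le_card_of_injective _ Subtype.val_injective
    have h4 : Nat.card ↥(U ⊓ fixV ρ A) ≤ Nat.card (fixV σ1 A) :=
      Nat.card_le_card_of_injective (fun w => ⟨⟨w.1, w.2.1⟩, fun x hx => Subtype.ext (w.2.2 x hx)⟩)
        fun a b h => Subtype.ext (congrArg (fun e : fixV σ1 A => (e.1 : V)) h)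
    refine Nat.le_of_mul_le_mul_right ?_ (Nat.card_pos (α := fixV ρ A))
    calc Nat.card U * Nat.card (fixV ρ A) = Nat.card ↥(U ⊔ fixV ρ A) * Nat.card ↥(U ⊓ fixV ρ A) := hc
      _ ≤ Nat.card V * Nat.card ↥(U ⊓ fixV ρ A) := Nat.mul_le_mul_right _ h3
      _ ≤ Nat.card A * Nat.card (fixV ρ A) * Nat.card (fixV σ1 A) := Nat.mul_le_mul hoff h4
      _ = _ := by ring
  by_cases h2 : σ2.ker ≤ M
  · refine false_of_quotient ih σ2 (fun w => ?_) hown h2 (hcoreP _ inferInstance h2) hinv hA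
      (fun h => hne (by rw [← hAinj _ inferInstance h2, inf_eq_left.mpr h])) ?_ (by omega)
    · obtain ⟨w, rfl⟩ := QuotientAddGroup.mk'_surjective U w
      exact congrArg QuotientAddGroup.mk (hV w)
    rw [hAinj _ inferInstance h2, card_bot, mul_one]
    set C := fixV ρ A
    let f : C →+ V ⧸ U := (QuotientAddGroup.mk' U).comp C.subtype
    have hf : Nat.card C = Nat.card f.range * Nat.card f.ker := by
      rw [← AddSubgroup.index_ker, mul_comm]
      exact f.ker.card_mul_index.symm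
    have hk : Nat.card f.ker ≤ Nat.card U := Nat.card_le_card_of_injective
      (fun w => ⟨w.1.1, (QuotientAddGroup.eq_zero_iff _).mp w.2⟩)
      fun a b h => Subtype.ext (Subtype.ext (congrArg (fun e : U => (e : V)) h))
    have hr : Nat.card f.range ≤ Nat.card (fixV σ2 A) := by
      refine Nat.card_le_card_of_injective (AddSubgroup.inclusion ?_) (AddSubgroup.inclusion_injective _)
      rintro _ ⟨w, rfl⟩ x hx
      exact congrArg QuotientAddGroup.mk (w.2 x hx)
    refine Nat.le_of_mul_le_mul_right ?_ (Nat.card_pos (α := U))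
    calc Nat.card (V ⧸ U) * Nat.card U = Nat.card V := hVU.symm
      _ ≤ Nat.card A * Nat.card C := hoff
      _ = Nat.card A * (Nat.card f.range * Nat.card f.ker) := by rw [hf]
      _ ≤ Nat.card A * (Nat.card (fixV σ2 A) * Nat.card U) := Nat.mul_le_mul_left _ (Nat.mul_le_mul hr hk)
      _ = _ := by ring
  -- both images are 2-groups
  have hpk : ∀ N : Subgroup H, N.Normal → ¬ N ≤ M → ∀ x : H, ∃ k, x ^ 2 ^ k ∈ N := by
    intro N hN hNM x
    haveI := hN
    have htop : N ⊔ T = ⊤ := by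
      by_contra h
      exact hNM (le_sup_left.trans (hown.2.2.2 _ h le_sup_right))
    obtain ⟨a, ha, t, ht, rfl⟩ := mem_sup_of_normal_left.mp (htop.ge (mem_top x))
    obtain ⟨k, hk⟩ := hown.1.isPGroup ⟨t, ht⟩
    refine ⟨k, (QuotientGroup.eq_one_iff _).mp ?_⟩
    rw [QuotientGroup.mk_pow, QuotientGroup.mk_mul, (QuotientGroup.eq_one_iff a).mpr ha, one_mul,
      ← QuotientGroup.mk_pow, show t ^ 2 ^ k = 1 from congrArg Subtype.val hk]
    rfl
  have hP : IsPGroup 2 H := fun x => by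
    obtain ⟨k1, hk1⟩ := hpk _ inferInstance h1 x
    obtain ⟨k2, hk2⟩ := hpk _ inferInstance h2 x
    refine ⟨k1 + k2, mem_bot.mp (hinf ▸ ⟨?_, ?_⟩)⟩
    · rw [pow_add, pow_mul]; exact pow_mem hk1 _
    · rw [add_comm, pow_add, pow_mul]; exact pow_mem hk2 _
  exact hne (le_bot_iff.mp (le_top.trans ((Cores.pCore_eq_top_iff.mpr hP).ge.trans hcore.le)))

set_option maxHeartbeats 1000000 in
/-- the induction step -/
theorem no_offender_step {n : ℕ} (ih : NoOff.{u, v} n) (hn : Nat.card H + Nat.card V ≤ n + 1)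
    (hρ : Function.Injective ρ) (hV : ∀ w : V, w + w = 0) {T M : Subgroup H} (hown : Own T M)
    (hcore : pCore 2 H = ⊥) (hinv : ¬ Inv3 H) {A0 : Subgroup H} (hA0 : El A0) (hne0 : A0 ≠ ⊥)
    (hoff0 : Nat.card V ≤ Nat.card A0 * Nat.card (fixV ρ A0)) : False := by
  haveI : Fact (Nat.Prime 2) := ⟨Nat.prime_two⟩
  have hirr := irreducible_of_offender ih hn hρ hV hown hcore hinv hA0 hne0 hoff0
  obtain ⟨hU, hY⟩ := key_aux ih hn hρ hV hirr hown hcore hinv (Nat.card T + 1) 0 (by omega)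
  -- a quadratic largest offender
  obtain ⟨A1, hA1⟩ := exists_maxOff hA0 hne0 hoff0
  letI : DistribMulAction H V := DistribMulAction.compHom V ρ
  obtain ⟨A, hAA1, hAne, hAm, hq⟩ := H63.replacement (G := H) (V := V) (p := 2)
    (fun w => by rw [two_nsmul]; exact hV w) A1 (fun a ha b hb => hA1.1.comm ha hb)
    (fun a ha => by rw [sq]; exact hA1.1 a ha)
    (fun a _ h => end_ext hρ fun w => by rw [act_one]; exact h w) hA1.2.1
    (fun B hB => hA1.2.2.2 B (hA1.1.mono hB))
  have hAm' : Nat.card A * Nat.card (fixV ρ A) = Nat.card A1 * Nat.card (fixV ρ A1) := hAm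
  have hA : MaxOff ρ A := ⟨hA1.1.mono hAA1, hAne, hA1.2.2.1.trans hAm'.ge,
    fun B hB => (hA1.2.2.2 B hB).trans hAm'.ge⟩
  -- the conjugates of `A`
  have hquad : ∀ g : H, ∀ b ∈ cj g A, ∀ a ∈ cj g A, ∀ w, ρ b (ρ a w - w) = ρ a w - w := by
    rintro g _ ⟨b, hb, rfl⟩ _ ⟨a, ha, rfl⟩ w
    show ρ (g * b * g⁻¹) (ρ (g * a * g⁻¹) w - w) = ρ (g * a * g⁻¹) w - w
    have h := hq b hb a (hAA1 ha) (ρ g⁻¹ w)
    change ρ b (ρ a (ρ g⁻¹ w) - ρ g⁻¹ w) = ρ a (ρ g⁻¹ w) - ρ g⁻¹ w at h
    rw [act_mul, act_mul, act_mul, act_mul, show ρ g⁻¹ (ρ g (ρ a (ρ g⁻¹ w)) - w) =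
      ρ a (ρ g⁻¹ w) - ρ g⁻¹ w by rw [map_sub, act_inv_act], h, map_sub, act_act_inv]
  have hhome : ∀ B, MaxOff ρ B → ∃ M', Home B M' := by
    intro B hB
    obtain ⟨S, hS, hBS⟩ := H48.exists_isSylowIn_ge hB.1.isPGroup (le_top : B ≤ ⊤)
    obtain ⟨M', hM'⟩ := exists_own hown hS
    refine ⟨M', hM'.2.1, hBS.trans hM'.2.2.1, fun X hX hBX => ?_⟩
    obtain ⟨S0, hS0, hBS0⟩ := H48.exists_isSylowIn_ge hB.1.isPGroup hBX
    obtain ⟨S', hS', hS0S'⟩ := H48.exists_isSylowIn_ge hS0.isPGroup (le_top : S0 ≤ ⊤)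
    obtain ⟨M'', hM''⟩ := exists_own hown hS'
    have he : S' ⊓ X = S0 := (hS0.eq_of_le (hS'.isPGroup.to_le inf_le_left) inf_le_right
      (le_inf hS0S' hS0.le)).symm
    have := hY S' M'' X hM'' hX (he ▸ hS0) B hB (he ▸ hBS0) (Nat.zero_le _)
    rwa [hU S S' M' M'' hM' hM'' B hB (le_inf hBS (hBS0.trans hS0S')) (Nat.zero_le _)]
  obtain ⟨MA, hMA⟩ := hhome A hA
  have hhc : ∀ g : H, Home (cj g A) (cj g MA) := fun g => hMA.conj g
  set C : H → AddSubgroup V := fun g => fixV ρ (cj g A)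
  have hCcard : ∀ g, Nat.card (C g) = Nat.card (fixV ρ A) := fun g => card_fix_cj g A
  have hfix0 : ∀ v : V, (∀ x : H, ρ x v = v) → v = 0 := by
    intro v hv
    rcases hirr (fixV ρ (⊤ : Subgroup H)) (fun x w hw y _ => by
      rw [show ρ x w = w from hw x (mem_top x)]; exact hw y (mem_top y)) with h | h
    · exact AddSubgroup.mem_bot.mp (h ▸ (fun x _ => hv x : v ∈ fixV ρ (⊤ : Subgroup H)))
    · exfalso
      exact hAne ((eq_bot_iff_forall _).mpr fun a _ => end_ext hρ fun w => by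
        rw [act_one]; exact (h.ge (AddSubgroup.mem_top w) : w ∈ fixV ρ (⊤ : Subgroup H)) a (mem_top a))
  -- conjugates with different maximal subgroups
  have gen : ∀ g h : H, cj g MA ≠ cj h MA → cj g A ⊔ cj h A = ⊤ := fun g h hne => by
    by_contra htop
    have h1 := (hhc g).2.2 _ htop le_sup_left
    have h2 : cj g MA ≤ cj h MA := (hhc h).2.2 _ (hhc g).1 (le_sup_right.trans h1)
    exact hne (le_antisymm h2 ((hhc g).2.2 _ (hhc h).1 ((hhc g).2.1.trans h2)))
  have disj : ∀ g h : H, cj g MA ≠ cj h MA → C g ⊓ C h = ⊥ ∧ C g ⊔ C h = ⊤ := by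
    intro g h hne
    have htop := gen g h hne
    constructor
    · refine (AddSubgroup.eq_bot_iff_forall _).mpr fun v hv => hfix0 v fun x => ?_
      exact (sup_le (fun y hy => hv.1 y hy) (fun y hy => hv.2 y hy) : cj g A ⊔ cj h A ≤ stabV ρ v)
        (htop ▸ mem_top x)
    · let S : Subgroup H :=
        { carrier := {x | ∀ w, ρ x w - w ∈ C g ⊔ C h}
          one_mem' := fun w => by rw [act_one, sub_self]; exact zero_mem _
          mul_mem' := fun {x y} hx hy w => by
            rw [act_mul, show ρ x (ρ y w) - w = (ρ x (ρ y w) - ρ y w) + (ρ y w - w) by abel]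
            exact add_mem (hx _) (hy w)
          inv_mem' := fun {x} hx w => by
            have h := hx (ρ x⁻¹ w)
            rw [act_act_inv] at h
            simpa using neg_mem h }
      have hS : ∀ x : H, x ∈ S := fun x => (sup_le
        (fun a ha w => AddSubgroup.mem_sup_left fun b hb => hquad g b hb a ha w)
        (fun a ha w => AddSubgroup.mem_sup_right fun b hb => hquad h b hb a ha w) :
          cj g A ⊔ cj h A ≤ S) (htop ▸ mem_top x)
      refine (hirr _ fun x w hw => ?_).resolve_left fun h0 => ?_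
      · simpa using add_mem (hS x w) hw
      · refine hAne ((eq_bot_iff_forall _).mpr fun a _ => end_ext hρ fun w => ?_)
        rw [act_one]
        exact sub_eq_zero.mp (AddSubgroup.mem_bot.mp (h0 ▸ hS a w))
  have sing : ∀ g : H, ∀ v ∈ C g, v ≠ 0 → ∀ s : H, ρ s v = v → s ∈ cj g MA := by
    intro g v hv hv0 s hs
    refine (hhc g).2.2 (stabV ρ v) (fun h => hv0 (hfix0 v fun x => (h.ge (mem_top x) : x ∈ stabV ρ v)))
      (fun y hy => hv y hy) hs
  -- some conjugate has another maximal subgroup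
  obtain ⟨g0, hg0⟩ : ∃ g, cj g MA ≠ MA := by
    by_contra hcon
    push Not at hcon
    haveI : MA.Normal := ⟨fun x hx g => (hcon g).le (H48.conj_mem_cj hx)⟩
    obtain ⟨S, hS, hAS⟩ := H48.exists_isSylowIn_ge hA.1.isPGroup (le_top : A ≤ ⊤)
    obtain ⟨M', hM'⟩ := exists_own hown hS
    exact hAne (eq_bot_of_normal_le hM' hcore (hM'.2.2.2 MA hMA.1
      (hM'.2.2.1.trans (hMA.2.2 M' hM'.2.1 (hAS.trans hM'.2.2.1)))) hA.1.isPGroup hMA.2.1)
  have hsq : Nat.card V = Nat.card (fixV ρ A) * Nat.card (fixV ρ A) := by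
    obtain ⟨h1, h2⟩ := disj g0 1 (by rwa [H48.cj_one])
    have := H63.card_sup_inf_add (C g0) (C 1)
    rw [h1, h2, AddSubgroup.card_top, AddSubgroup.card_bot, mul_one, hCcard, hCcard] at this
    exact this.symm
  have hAge : Nat.card (fixV ρ A) ≤ Nat.card A := by
    have := hA.2.2.1
    rw [hsq] at this
    exact Nat.le_of_mul_le_mul_right this Nat.card_pos
  -- two conjugates normalizing each other are equal
  have uniq : ∀ g h : H, cj g A ≤ normalizer (cj h A : Set H) → cj h A ≤ normalizer (cj g A : Set H) →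
      cj g A = cj h A := by
    intro g h hgh hhg
    set B := cj g A with hB
    set B' := cj h A with hB'
    have hBm : MaxOff ρ B := hA.conj g
    have hB'm : MaxOff ρ B' := hA.conj h
    have hp : IsPGroup 2 ↥(B ⊔ B') := hBm.1.isPGroup.to_sup_of_normal_right' hB'm.1.isPGroup hgh
    have hcomm : ∀ b ∈ B, ∀ b' ∈ B', b * b' * b⁻¹ * b'⁻¹ ∈ B ⊓ B' := by
      intro b hb b' hb'
      refine Subgroup.mem_inf.mpr ⟨?_, B'.mul_mem ((mem_normalizer_iff.mp (hgh hb) b').mp hb') (B'.inv_mem hb')⟩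
      rw [show b * b' * b⁻¹ * b'⁻¹ = b * (b' * b⁻¹ * b'⁻¹) by group]
      exact mul_mem hb ((mem_normalizer_iff.mp (hhg hb') _).mp (inv_mem hb))
    have hMgh : cj g MA = cj h MA := by
      have htop : B ⊔ B' ≠ ⊤ := fun htop => hAne (le_bot_iff.mp (le_top.trans
        ((Cores.pCore_eq_top_iff.mpr ((htop ▸ hp).of_equiv topEquiv)).ge.trans hcore.le)))
      have h1 := (hhc g).2.2 _ htop le_sup_left
      have h2 : cj g MA ≤ cj h MA := (hhc h).2.2 _ (hhc g).1 (le_sup_right.trans h1)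
      exact le_antisymm h2 ((hhc g).2.2 _ (hhc h).1 ((hhc g).2.1.trans h2))
    by_cases hbot : B ⊓ B' = ⊥
    · exfalso
      have hc : ∀ b ∈ B, ∀ b' ∈ B', b * b' = b' * b := fun b hb b' hb' => by
        have := hcomm b hb b' hb'
        rw [hbot, mem_bot] at this
        calc b * b' = b * b' * b⁻¹ * b'⁻¹ * (b' * b) := by group
          _ = b' * b := by rw [this, one_mul]
      have hE : El (B ⊔ B') := el_sup hBm.1 hB'm.1 hc
      have hcard : Nat.card B * Nat.card B' ≤ Nat.card ↥(B ⊔ B') := by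
        have := H63.card_mul_le_sup_inf B B'
        rwa [hbot, card_bot, mul_one] at this
      obtain ⟨w, -, hw0, hw⟩ := exists_fixed (U := ⊤) hV hp
        (fun x _ w _ => AddSubgroup.mem_top (ρ x w)) (fun hh => hAne ((eq_bot_iff_forall _).mpr fun a _ =>
          end_ext hρ fun w => by
            have h1 : ρ a w ∈ (⊤ : AddSubgroup V) := AddSubgroup.mem_top _
            have h2 : w ∈ (⊤ : AddSubgroup V) := AddSubgroup.mem_top _
            rw [hh, AddSubgroup.mem_bot] at h1 h2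
            rw [h1, h2, map_zero]))
      have h2 : 2 ≤ Nat.card (fixV ρ (B ⊔ B')) := by
        haveI : Nontrivial (fixV ρ (B ⊔ B')) := ⟨⟨⟨w, hw⟩, 0, fun e => hw0 (congrArg Subtype.val e)⟩⟩
        exact Finite.one_lt_card
      have hm := hA.2.2.2 _ hE
      have hb : Nat.card B = Nat.card A := H48.card_cj g A
      have hb' : Nat.card B' = Nat.card A := H48.card_cj h A
      rw [hb, hb'] at hcard
      have : Nat.card A * Nat.card A * 2 ≤ Nat.card A * Nat.card A := calc
        Nat.card A * Nat.card A * 2 ≤ Nat.card ↥(B ⊔ B') * Nat.card (fixV ρ (B ⊔ B')) := Nat.mul_le_mul hcard h2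
        _ ≤ Nat.card A * Nat.card (fixV ρ A) := hm
        _ ≤ _ := Nat.mul_le_mul_left _ hAge
      have hpos : 0 < Nat.card A * Nat.card A := Nat.mul_pos Nat.card_pos Nat.card_pos
      omega
    by_cases hle : fixV ρ (B ⊓ B') ≤ C g
    · have hC'C : C h ≤ C g := le_trans (show C h ≤ fixV ρ (B ⊓ B') from fun w hw x hx => hw x hx.2) hle
      have hCC : C g = C h := (AddSubgroup.eq_of_le_of_card_ge hC'C (by rw [hCcard, hCcard])).symm
      have hc : ∀ b ∈ B, ∀ b' ∈ B', b * b' = b' * b := fun b hb b' hb' => end_ext hρ fun w => by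
        have h1 : ρ b' w - w ∈ C g := hCC ▸ fun x hx => hquad h x hx b' hb' w
        have h2 : ρ b w - w ∈ C h := hCC ▸ fun x hx => hquad g x hx b hb w
        have e1 := h1 b hb
        have e2 := h2 b' hb'
        rw [map_sub, sub_eq_iff_eq_add] at e1 e2
        rw [act_mul, act_mul, e1, e2]; abel
      have hE : El (B ⊔ B') := el_sup hBm.1 hB'm.1 hc
      have hfix : C g ≤ fixV ρ (B ⊔ B') := fun w hw x hx =>
        (sup_le (fun y hy => hw y hy) (fun y hy => (hCC ▸ hw : w ∈ C h) y hy) : B ⊔ B' ≤ stabV ρ w) hx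
      have hm := hBm.2.2.2 _ hE
      have h3 : Nat.card ↥(B ⊔ B') ≤ Nat.card B := by
        refine Nat.le_of_mul_le_mul_right ?_ (Nat.card_pos (α := C g))
        exact (Nat.mul_le_mul_left _ (Nat.card_le_card_of_injective (AddSubgroup.inclusion hfix)
          (AddSubgroup.inclusion_injective _))).trans hm
      have h4 : B ⊔ B' = B := (eq_of_le_of_card_ge le_sup_left h3).symm
      have h5 : B' ≤ B := le_sup_right.trans h4.le
      exact (eq_of_le_of_card_ge h5 (by rw [hB, hB', H48.card_cj, H48.card_cj])).symm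
    · exfalso
      have hbig : Nat.card (C g) < Nat.card (fixV ρ (B ⊓ B')) := by
        have hle' : C g ≤ fixV ρ (B ⊓ B') := fun w hw x hx => hw x hx.1
        refine lt_of_le_of_ne (Nat.card_le_card_of_injective (AddSubgroup.inclusion hle')
          (AddSubgroup.inclusion_injective _)) fun he => hle ?_
        exact (AddSubgroup.eq_of_le_of_card_ge hle' he.ge).ge
      obtain ⟨s, hs, hs1⟩ := (B ⊓ B').ne_bot_iff_exists_ne_one.mp hbot |> fun ⟨s, hs⟩ =>
        (⟨s.1, s.2, fun h => hs (Subtype.ext h)⟩ : ∃ s ∈ B ⊓ B', s ≠ 1)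
      have hall : ∀ x : H, s ∈ cj x MA := by
        intro x
        by_cases hx : cj x MA = cj g MA
        · exact hx ▸ (hhc g).2.1 hs.1
        · have hmeet : fixV ρ (B ⊓ B') ⊓ C x ≠ ⊥ := by
            intro h0
            have := H63.card_sup_inf_add (fixV ρ (B ⊓ B')) (C x)
            rw [h0, AddSubgroup.card_bot, mul_one] at this
            have h3 : Nat.card ↥(fixV ρ (B ⊓ B') ⊔ C x) ≤ Nat.card V :=
              Nat.card_le_card_of_injective _ Subtype.val_injective
            rw [← this, hCcard, hsq] at h3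
            have h4 := Nat.le_of_mul_le_mul_right h3 Nat.card_pos
            rw [hCcard] at hbig
            omega
          obtain ⟨v, hv⟩ := AddSubgroup.ne_bot_iff_exists_ne_zero.mp hmeet
          exact sing x v.1 v.2.2 (fun e => hv (Subtype.ext e)) s (v.2.1 s hs)
      have hs' : s ∈ MA.normalCore := fun x => by
        have := H48.mem_cj.mp (hall x⁻¹)
        simpa using this
      obtain ⟨S, hS, hAS⟩ := H48.exists_isSylowIn_ge hA.1.isPGroup (le_top : A ≤ ⊤)
      obtain ⟨M', hM'⟩ := exists_own hown hS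
      have hle' : MA.normalCore ≤ M' := (normalCore_le MA).trans (hM'.2.2.2 MA hMA.1
        (hM'.2.2.1.trans (hMA.2.2 M' hM'.2.1 (hAS.trans hM'.2.2.1))))
      have := eq_bot_of_normal_le hM' hcore hle' (hBm.1.isPGroup.to_le (zpowers_le.mpr hs.1))
        (zpowers_le.mpr hs')
      exact hs1 (mem_bot.mp (this ▸ mem_zpowers s))
  -- a conjugate is normal in every 2-subgroup containing it
  have hnorm : ∀ g : H, ∀ P : Subgroup H, IsPGroup 2 P → cj g A ≤ P → P ≤ normalizer (cj g A : Set H) := by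
    intro g P hP hgP
    set N := P ⊓ normalizer (cj g A : Set H) with hN
    by_cases hNP : N = P
    · exact hNP ▸ inf_le_right
    exfalso
    have hlt := H48.card_lt_card_inf_normalizer hP inf_le_left hNP
    obtain ⟨x, hx, hxN⟩ : ∃ x ∈ P ⊓ normalizer (N : Set H), x ∉ N := by
      by_contra hcon
      push Not at hcon
      exact absurd (card_le_of_le (fun x hx => hcon x hx : P ⊓ normalizer (N : Set H) ≤ N)) (not_le.mpr hlt)
    have hBN : cj g A ≤ N := le_inf hgP le_normalizer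
    have hxBN : cj x (cj g A) ≤ N := by
      have := H48.cj_mono (g := x) hBN
      rwa [H48.cj_eq_of_mem_normalizer hx.2] at this
    have hNx : N ≤ normalizer (cj x (cj g A) : Set H) := by
      have h1 : cj x N ≤ cj x (normalizer (cj g A : Set H)) := H48.cj_mono inf_le_right
      rwa [H48.cj_eq_of_mem_normalizer hx.2, H48.cj_normalizer] at h1
    have he : cj g A = cj (x * g) A := uniq g (x * g)
      (by rw [← H48.cj_cj]; exact hBN.trans hNx) (by rw [← H48.cj_cj]; exact hxBN.trans inf_le_right)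
    exact hxN ⟨hx.1, H48.mem_normalizer_of_cj_eq (by rw [H48.cj_cj]; exact he.symm)⟩
  -- elements of `A` avoid the other maximal subgroup
  have hfree : ∀ g h : H, cj g MA ≠ cj h MA → ∀ t ∈ cj g A, t ∈ cj h MA → t = 1 := by
    intro g h hne t ht htM
    obtain ⟨S, hS, hhS⟩ := H48.exists_isSylowIn_ge (hA.conj h).1.isPGroup (le_top : cj h A ≤ ⊤)
    obtain ⟨M', hM'⟩ := exists_own hown hS
    have hSM : S ≤ cj h MA := hM'.2.2.1.trans ((hhc h).2.2 M' hM'.2.1 (hhS.trans hM'.2.2.1))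
    obtain ⟨S1, hS1, htS1⟩ := H48.exists_isSylowIn_ge
      ((hA.conj g).1.isPGroup.to_le (zpowers_le.mpr ht)) (zpowers_le.mpr htM)
    obtain ⟨x, hxM, hxS⟩ := (isSylowIn_of_top hS hSM).exists_conj hS1
    have hB1 : cj (x * h) A ≤ S1 := by rw [← hxS, ← H48.cj_cj]; exact H48.cj_mono hhS
    have hMx : cj (x * h) MA = cj h MA := by
      rw [← H48.cj_cj]; exact H48.cj_eq_of_mem_normalizer (le_normalizer hxM)
    have htn := hnorm (x * h) S1 hS1.isPGroup hB1 (htS1 (mem_zpowers t))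
    obtain ⟨hd, hs⟩ := disj g (x * h) (by rwa [hMx])
    refine end_ext hρ fun w => ?_
    rw [act_one]
    obtain ⟨c, hc, c', hc', rfl⟩ := AddSubgroup.mem_sup.mp (hs.ge (AddSubgroup.mem_top w))
    have h1 : ρ t c' - c' ∈ C g := fun y hy => hquad g y hy t ht c'
    have h2 : ρ t c' ∈ C (x * h) := by
      refine (fun y hy => ?_)
      have h3 : t⁻¹ * y * t ∈ cj (x * h) A :=
        (mem_normalizer_iff'.mp htn (t⁻¹ * y)).mpr (by simpa using hy)
      have h4 := hc' _ h3
      rw [act_mul, act_mul] at h4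
      conv_rhs => rw [← h4, act_act_inv]
    have h5 : ρ t c' - c' ∈ (⊥ : AddSubgroup V) := hd ▸ AddSubgroup.mem_inf.mpr ⟨h1, AddSubgroup.sub_mem _ h2 hc'⟩
    rw [map_add, hc t ht, sub_eq_zero.mp (AddSubgroup.mem_bot.mp h5)]
  -- the dihedral group of order six
  have hsurj : ∀ g h : H, cj g MA ≠ cj h MA → ∀ v ∈ C h, v ≠ 0 → ∀ u ∈ C g, ∃ x ∈ cj g A, ρ x v - v = u := by
    intro g h hne v hv hv0 u hu
    let f : cj g A → C g := fun x => ⟨ρ x v - v, fun y hy => hquad g y hy x x.2 v⟩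
    have hf : Function.Injective f := by
      intro x y hxy
      have he : ρ (x : H) v - v = ρ (y : H) v - v := congrArg Subtype.val hxy
      have h1 : ρ ((x : H) * y) v = v := by
        have h2 := hquad g x x.2 y y.2 v
        rw [map_sub, sub_eq_iff_eq_add] at h2
        rw [act_mul, h2, sub_left_inj.mp he,
          show ρ (y : H) v - v + ρ (y : H) v = (ρ (y : H) v + ρ (y : H) v) - (v + v) + v by abel,
          hV, hV, sub_self, zero_add]
      have h3 := hfree g h hne _ (mul_mem x.2 y.2) (sing h v hv hv0 _ h1)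
      refine Subtype.ext ?_
      rw [eq_inv_of_mul_eq_one_left h3, (hA.conj g).1.inv_eq y.2]
    have hc : Nat.card (C g) ≤ Nat.card (cj g A) := by rw [hCcard, H48.card_cj]; exact hAge
    obtain ⟨x, hx⟩ := (hf.bijective_of_nat_card_le hc).surjective ⟨u, hu⟩
    exact ⟨x, x.2, congrArg Subtype.val hx⟩
  have hne : cj 1 MA ≠ cj g0 MA := by rw [H48.cj_one]; exact hg0.symm
  obtain ⟨a0, ha0⟩ : ∃ a : V, a ∈ C 1 ∧ a ≠ 0 := by
    obtain ⟨w, -, hw0, hw⟩ := exists_fixed (U := ⊤) hV (hA.conj 1).1.isPGroup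
      (fun x _ w _ => AddSubgroup.mem_top (ρ x w)) (fun hh => hAne ((eq_bot_iff_forall _).mpr fun a _ =>
        end_ext hρ fun w => by
          have h1 : ρ a w ∈ (⊤ : AddSubgroup V) := AddSubgroup.mem_top _
          have h2 : w ∈ (⊤ : AddSubgroup V) := AddSubgroup.mem_top _
          rw [hh, AddSubgroup.mem_bot] at h1 h2
          rw [h1, h2, map_zero]))
    exact ⟨w, hw, hw0⟩
  obtain ⟨y, hy, hy1⟩ : ∃ y ∈ cj g0 A, y ≠ 1 :=
    (cj g0 A).ne_bot_iff_exists_ne_one.mp (H48.cj_ne_bot hAne) |> fun ⟨s, hs⟩ =>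
      ⟨s.1, s.2, fun h => hs (Subtype.ext h)⟩
  set b0 := ρ y a0 - a0 with hb0
  have hbC : b0 ∈ C g0 := fun z hz => hquad g0 z hz y hy a0
  have hb0ne : b0 ≠ 0 := fun h => hy1
    (hfree g0 1 hne.symm y hy (sing 1 a0 ha0.1 ha0.2 y (sub_eq_zero.mp h)))
  obtain ⟨x, hx, hxb⟩ := hsurj 1 g0 hne b0 hbC hb0ne a0 ha0.1
  set z := x * y with hz
  have h1 : ρ x a0 = a0 := ha0.1 x hx
  have h2 : ρ x b0 = a0 + b0 := by rw [← hxb]; abel
  have h3 : ρ y b0 = b0 := hbC y hy
  have h4 : ρ y a0 = a0 + b0 := by rw [hb0]; abel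
  have hza : ρ z a0 = b0 := by
    rw [hz, act_mul, h4, map_add, h1, h2, ← add_assoc, hV, zero_add]
  have hzb : ρ z b0 = a0 + b0 := by rw [hz, act_mul, h3, h2]
  have hz3 : ρ (z ^ 3) a0 = a0 := by
    rw [show ρ (z ^ 3) a0 = ρ z (ρ z (ρ z a0)) by rw [← act_mul, ← act_mul]; simp [pow_succ, mul_assoc], hza, hzb, map_add, hza, hzb,
      show b0 + (a0 + b0) = a0 + (b0 + b0) by abel, hV, add_zero]
  have hx2 : x * x = 1 := (hA.conj 1).1 x hx
  have hy2 : y * y = 1 := (hA.conj g0).1 y hy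
  have hdvd : 3 ∣ orderOf z := by
    by_contra h
    obtain ⟨m, hm⟩ := exists_pow_eq_self_of_coprime (x := z) (n := 3)
      ((Nat.prime_three.coprime_iff_not_dvd).mpr h)
    have hfix : ρ ((z ^ 3) ^ m) a0 = a0 := pow_mem (show z ^ 3 ∈ stabV ρ a0 from hz3) m
    rw [hm, hza] at hfix
    rw [hfix] at h2
    rw [h1] at h2
    exact ha0.2 (by simpa using h2.symm)
  refine hinv ⟨z ^ (orderOf z / 3), x, ?_, ?_⟩
  · exact orderOf_pow_orderOf_div (orderOf_pos z).ne' hdvd
  · rw [← conj_pow, ← inv_pow]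
    congr 1
    rw [hz, mul_inv_rev, inv_eq_of_mul_eq_one_left hx2, inv_eq_of_mul_eq_one_left hy2,
      ← mul_assoc x x y, hx2, one_mul]

theorem noOff : ∀ n, NoOff.{u, v} n := by
  intro n
  induction n with
  | zero =>
    intro H _ _ V _ _ ρ _ _ _ _ _ A _ _ _ hn
    have := Nat.card_pos (α := H)
    omega
  | succ n ih =>
    intro H _ _ V _ _ ρ hρ hV hown hcore hinv A hA hne hoff hn
    obtain ⟨T, M, hown⟩ := hown
    exact no_offender_step ih hn hρ hV hown hcore hinv hA hne hoff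

/-- no offender -/
theorem no_offender (hρ : Function.Injective ρ) (hV : ∀ w : V, w + w = 0) {T M : Subgroup H} (hown : Own T M)
    (hcore : pCore 2 H = ⊥) (hinv : ¬ Inv3 H) {A : Subgroup H} (hA : El A)
    (hoff : Nat.card V ≤ Nat.card A * Nat.card (fixV ρ A)) : A = ⊥ := by
  by_contra hne
  exact noOff _ H V ρ hρ hV ⟨T, M, hown⟩ hcore hinv A hA hne hoff le_rfl

end Cfsg.Agent.Thompson.Par
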