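import Mathlib
import Cfsg.Agent.Thompson.ParabolicOffender

/-!
Reduction of the offender theorem to simple modules and faithful images.
-/

set_option autoImplicit false
set_option linter.unusedSectionVars false
set_option linter.style.haveILetI false

namespace Cfsg.Agent.Thompson.GenOff

open Subgroup
open H48 (IsSylowIn cj)
open Par (El Inv3 MaxOff subAct quoAct)
open Off (fixV stabV act_mul act_one act_inv_act act_act_inv end_ext)

universe u v

/-- the statement proved by induction -/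
def NoGen (n : ℕ) : Prop :=
  ∀ (H : Type u) [Group H] [Finite H] (V : Type v) [AddCommGroup V] [Finite V] (ρ : H →* AddMonoid.End V),
    Function.Injective ρ → (∀ w : V, w + w = 0) → pCore 2 H = ⊥ → ¬ Inv3 H →
    ∀ A : Subgroup H, El A → A ≠ ⊥ → Nat.card V ≤ Nat.card A * Nat.card (fixV ρ A) →
    Nat.card H + Nat.card V ≤ n → False

variable {H : Type u} [Group H] [Finite H] {V : Type v} [AddCommGroup V] [Finite V]
  {ρ : H →* AddMonoid.End V}

/-- the faithful image of a group has no offender -/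
theorem false_of_image {n : ℕ} (ih : NoGen.{u, v} n) {Y : Type u} [Group Y] [Finite Y] {W : Type v}
    [AddCommGroup W] [Finite W] (σ : Y →* AddMonoid.End W) (hW : ∀ w : W, w + w = 0)
    (hcore : pCore 2 (Y ⧸ σ.ker) = ⊥) (hinv : ¬ Inv3 Y) {A : Subgroup Y}
    (hA : ∀ a ∈ A, σ (a * a) = 1) (hne : ¬ A ≤ σ.ker)
    (hoff : Nat.card W * Nat.card ↥(A ⊓ σ.ker) ≤ Nat.card A * Nat.card (fixV σ A))
    (hn : Nat.card Y + Nat.card W ≤ n) : False := by
  set N := σ.ker
  set π := QuotientGroup.mk' N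
  let σ' : Y ⧸ N →* AddMonoid.End W := QuotientGroup.lift N σ le_rfl
  have hσ' : Function.Injective σ' := fun x y hxy => by
    obtain ⟨a, rfl⟩ := QuotientGroup.mk'_surjective N x
    obtain ⟨b, rfl⟩ := QuotientGroup.mk'_surjective N y
    refine QuotientGroup.eq.mpr ?_
    show σ (a⁻¹ * b) = 1
    rw [map_mul, show σ b = σ a from hxy.symm, ← map_mul, inv_mul_cancel, map_one]
  have hel : El (A.map π) := by
    rintro _ ⟨a, ha, rfl⟩
    refine hσ' ?_
    rw [map_one, ← map_mul]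
    exact hA a ha
  have hcardA : Nat.card A = Nat.card ↥(A ⊓ N) * Nat.card (A.map π) := by
    have h := (π.comp A.subtype).ker.card_eq_card_quotient_mul_card_subgroup
    rw [Nat.card_congr (QuotientGroup.quotientKerEquivRange (π.comp A.subtype)).toEquiv,
      show (π.comp A.subtype).range = A.map π by rw [MonoidHom.range_comp, range_subtype]] at h
    have he : Nat.card (π.comp A.subtype).ker = Nat.card ↥(A ⊓ N) := Nat.card_congr
      { toFun := fun x => ⟨x.1.1, x.1.2, (QuotientGroup.eq_one_iff _).mp x.2⟩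
        invFun := fun x => ⟨⟨x.1, x.2.1⟩, (QuotientGroup.eq_one_iff _).mpr x.2.2⟩
        left_inv := fun x => rfl
        right_inv := fun x => rfl }
    rw [h, he, mul_comm]
  refine ih (Y ⧸ N) W σ' hσ' hW hcore (fun h => hinv (h.of_quotient N)) (A.map π) hel
    (fun h => hne ((Subgroup.map_eq_bot_iff A).mp h |>.trans_eq (QuotientGroup.ker_mk' N))) ?_ ?_
  · have hfix : fixV σ A ≤ fixV σ' (A.map π) := by
      rintro w hw _ ⟨a, ha, rfl⟩
      exact hw a ha
    have h1 : Nat.card (fixV σ A) ≤ Nat.card (fixV σ' (A.map π)) :=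
      Nat.card_le_card_of_injective (AddSubgroup.inclusion hfix) (AddSubgroup.inclusion_injective _)
    refine Nat.le_of_mul_le_mul_right ?_ (Nat.card_pos (α := ↥(A ⊓ N)))
    calc Nat.card W * Nat.card ↥(A ⊓ N) ≤ Nat.card A * Nat.card (fixV σ A) := hoff
      _ ≤ Nat.card A * Nat.card (fixV σ' (A.map π)) := Nat.mul_le_mul_left _ h1
      _ = _ := by rw [hcardA]; ring
  · have : Nat.card (Y ⧸ N) ≤ Nat.card Y := Nat.card_le_card_of_surjective _ (QuotientGroup.mk'_surjective N)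
    omega

/-- a module generated by points fixed by a Sylow subgroup -/
theorem core_image_of_generated {Y : Type u} [Group Y] [Finite Y] {W : Type v} [AddCommGroup W]
    (σ : Y →* AddMonoid.End W) {S : Subgroup Y} (hS : IsSylowIn 2 S ⊤)
    (hgen : AddSubgroup.closure {m | ∃ y, ∃ z ∈ fixV σ S, σ y z = m} = ⊤) :
    pCore 2 (Y ⧸ σ.ker) = ⊥ := by
  haveI : Fact (Nat.Prime 2) := ⟨Nat.prime_two⟩
  set π := QuotientGroup.mk' σ.ker
  have hsurj := QuotientGroup.mk'_surjective σ.ker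
  let S' : Sylow 2 Y := hS.isPGroup.toSylow (by
    have := hS.ndvd
    rwa [relIndex_top_right] at this)
  set P := (pCore 2 (Y ⧸ σ.ker)).comap π
  haveI : P.Normal := Subgroup.Normal.comap (pCore_normal 2 _) π
  have hle : P ≤ σ.ker ⊔ S := by
    refine (comap_mono (Cores.pCore_le_sylow (S'.mapSurjective hsurj))).trans ?_
    rw [show ((S'.mapSurjective hsurj : Sylow 2 _) : Subgroup (Y ⧸ σ.ker)) = S.map π from rfl,
      comap_map_eq, QuotientGroup.ker_mk', sup_comm]
  have hfix : ∀ q ∈ P, ∀ z ∈ fixV σ S, σ q z = z := by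
    intro q hq z hz
    obtain ⟨k, hk, s, hs, rfl⟩ := mem_sup_of_normal_left.mp (hle hq)
    rw [act_mul, hz s hs]
    exact congrArg (fun f : AddMonoid.End W => f z) (hk : σ k = 1)
  have hker : P ≤ σ.ker := by
    intro p hp
    refine AddMonoidHom.ext fun m => ?_
    show σ p m = m
    refine AddSubgroup.closure_induction (p := fun m _ => σ p m = m) ?_ (map_zero _) ?_ ?_
      (hgen.ge (AddSubgroup.mem_top m))
    · rintro _ ⟨y, z, hz, rfl⟩
      have h := hfix _ ((inferInstance : P.Normal).conj_mem p hp y⁻¹) z hz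
      rw [inv_inv, act_mul, act_mul] at h
      conv_rhs => rw [← h, act_act_inv]
    · intro a b _ _ ha hb; rw [map_add, ha, hb]
    · intro a _ ha; rw [map_neg, ha]
  refine (eq_bot_iff_forall _).mpr fun x hx => ?_
  obtain ⟨p, rfl⟩ := hsurj x
  exact (QuotientGroup.eq_one_iff p).mpr (hker hx)

/-- a simple module -/
theorem core_image_of_simple {Y : Type u} [Group Y] [Finite Y] {W : Type v} [AddCommGroup W] [Finite W]
    (σ : Y →* AddMonoid.End W) (hW : ∀ w : W, w + w = 0) (hne : (⊤ : AddSubgroup W) ≠ ⊥)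
    (hsimple : ∀ U : AddSubgroup W, (∀ y, ∀ w ∈ U, σ y w ∈ U) → U = ⊥ ∨ U = ⊤) :
    pCore 2 (Y ⧸ σ.ker) = ⊥ := by
  haveI : Fact (Nat.Prime 2) := ⟨Nat.prime_two⟩
  set π := QuotientGroup.mk' σ.ker
  let σ' : Y ⧸ σ.ker →* AddMonoid.End W := QuotientGroup.lift σ.ker σ le_rfl
  set Q := pCore 2 (Y ⧸ σ.ker)
  haveI : Q.Normal := pCore_normal 2 _
  obtain ⟨w, -, hw0, hw⟩ := Par.exists_fixed (ρ := σ') (U := ⊤) hW (Cores.pCore_isPGroup (p := 2) (G := Y ⧸ σ.ker))
    (fun x _ w _ => AddSubgroup.mem_top (σ' x w)) hne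
  have hQ : fixV σ' Q = ⊤ := by
    refine (hsimple (fixV σ' Q) fun y m hm q hq => ?_).resolve_left fun h =>
      hw0 (AddSubgroup.mem_bot.mp (h ▸ (hw : w ∈ fixV σ' Q)))
    show σ' q (σ' (π y) m) = σ' (π y) m
    have h := hm _ ((inferInstance : Q.Normal).conj_mem q hq (π y)⁻¹)
    rw [inv_inv, act_mul, act_mul] at h
    conv_rhs => rw [← h, act_act_inv]
  refine (eq_bot_iff_forall _).mpr fun x hx => ?_
  obtain ⟨p, rfl⟩ := QuotientGroup.mk'_surjective σ.ker x
  refine (QuotientGroup.eq_one_iff p).mpr (AddMonoidHom.ext fun m => ?_)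
  exact (hQ.ge (AddSubgroup.mem_top m)) (π p) hx

/-- a largest offender restricts to any subspace -/
theorem card_restrict {A : Subgroup H} (hA : MaxOff ρ A) (U : AddSubgroup V) {K : Subgroup H} (hKA : K ≤ A)
    (hKU : U ≤ fixV ρ K) :
    Nat.card U * Nat.card K ≤ Nat.card A * Nat.card ↥(fixV ρ A ⊓ U) := by
  have h1 := H63.card_sup_inf_add (fixV ρ A) U
  have h2 : fixV ρ A ⊔ U ≤ fixV ρ K := sup_le (fun w hw x hx => hw x (hKA hx)) hKU
  have h3 : Nat.card ↥(fixV ρ A ⊔ U) ≤ Nat.card (fixV ρ K) :=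
    Nat.card_le_card_of_injective (AddSubgroup.inclusion h2) (AddSubgroup.inclusion_injective _)
  have h5 := hA.2.2.2 K (hA.1.mono hKA)
  refine Nat.le_of_mul_le_mul_left ?_ (Nat.card_pos (α := fixV ρ A))
  calc Nat.card (fixV ρ A) * (Nat.card U * Nat.card K)
      = Nat.card ↥(fixV ρ A ⊔ U) * Nat.card ↥(fixV ρ A ⊓ U) * Nat.card K := by rw [← mul_assoc, h1]
    _ ≤ Nat.card (fixV ρ K) * Nat.card ↥(fixV ρ A ⊓ U) * Nat.card K := by gcongr
    _ = Nat.card K * Nat.card (fixV ρ K) * Nat.card ↥(fixV ρ A ⊓ U) := by ring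
    _ ≤ Nat.card A * Nat.card (fixV ρ A) * Nat.card ↥(fixV ρ A ⊓ U) := Nat.mul_le_mul_right _ h5
    _ = _ := by ring

/-- the module of a least counterexample is simple -/
theorem simple_of_minimal {n : ℕ} (ih : NoGen.{u, v} n) (hn : Nat.card H + Nat.card V ≤ n + 1)
    (hρ : Function.Injective ρ) (hV : ∀ w : V, w + w = 0) (hcore : pCore 2 H = ⊥) (hinv : ¬ Inv3 H)
    {A : Subgroup H} (hA : MaxOff ρ A) (U : AddSubgroup V) (hU : ∀ (x : H), ∀ w ∈ U, ρ x w ∈ U) :
    U = ⊥ ∨ U = ⊤ := by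
  haveI : Fact (Nat.Prime 2) := ⟨Nat.prime_two⟩
  by_contra hcon
  push Not at hcon
  obtain ⟨U1, ⟨hU1, hU1b⟩, hmin⟩ := Set.exists_min_image
    {U : AddSubgroup V | (∀ (x : H), ∀ w ∈ U, ρ x w ∈ U) ∧ U ≠ ⊥} (fun U => Nat.card U) (Set.toFinite _)
    ⟨U, hU, hcon.1⟩
  have hU1t : U1 ≠ ⊤ := fun h => hcon.2 (AddSubgroup.eq_top_of_card_eq U
    (le_antisymm (Nat.card_le_card_of_injective _ Subtype.val_injective)
      (by rw [← AddSubgroup.card_top (G := V), ← h]; exact hmin U ⟨hU, hcon.1⟩)))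
  have hU1lt : Nat.card U1 < Nat.card V := lt_of_le_of_ne
    (Nat.card_le_card_of_injective _ Subtype.val_injective) fun h => hU1t (AddSubgroup.eq_top_of_card_eq U1 h)
  set σ1 := subAct ρ U1 hU1
  have hcore1 : pCore 2 (H ⧸ σ1.ker) = ⊥ := by
    refine core_image_of_simple σ1 (fun w => Subtype.ext (hV w.1)) (fun h => hU1b ?_) fun Z hZ => ?_
    · refine (AddSubgroup.eq_bot_iff_forall _).mpr fun w hw => ?_
      have h2 : (⟨w, hw⟩ : U1) = 0 := AddSubgroup.mem_bot.mp (h.le (AddSubgroup.mem_top (⟨w, hw⟩ : U1)))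
      exact congrArg (fun e : U1 => (e : V)) h2
    · by_cases hZb : Z = ⊥
      · exact Or.inl hZb
      refine Or.inr (eq_top_iff.mpr fun z _ => ?_)
      have h1 : Z.map U1.subtype = U1 := AddSubgroup.eq_of_le_of_card_ge (AddSubgroup.map_subtype_le Z)
        (hmin _ ⟨by rintro x _ ⟨m, hm, rfl⟩; exact ⟨σ1 x m, hZ x m hm, rfl⟩,
          fun h => hZb ((AddSubgroup.map_eq_bot_iff_of_injective _ U1.subtype_injective).mp h)⟩)
      obtain ⟨m, hm, he⟩ := h1.ge z.2
      rwa [show z = m from Subtype.ext he.symm]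
  have hker : ∀ B, MaxOff ρ B → B ≤ σ1.ker := by
    intro B hB
    by_contra hne
    refine false_of_image ih σ1 (fun w => Subtype.ext (hV w.1)) hcore1 hinv
      (fun b hb => by rw [hB.1 b hb, map_one]) hne ?_ (by omega)
    refine (card_restrict hB U1 inf_le_left fun w hw x hx => ?_).trans (Nat.mul_le_mul_left _ ?_)
    · exact congrArg (fun f : AddMonoid.End U1 => (f ⟨w, hw⟩ : V)) (hx.2 : σ1 x = 1)
    · exact Nat.card_le_card_of_injective (fun w => ⟨⟨w.1, w.2.2⟩, fun x hx => Subtype.ext (w.2.1 x hx)⟩)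
        fun a b h => Subtype.ext (congrArg (fun e : fixV σ1 B => (e.1 : V)) h)
  set N : Subgroup H := sSup {B | MaxOff ρ B}
  haveI : N.Normal := ⟨fun x hx g => by
    have h : cj g N ≤ N := by
      rw [cj, map_le_iff_le_comap]
      exact sSup_le fun B hB => map_le_iff_le_comap.mp (le_sSup (a := cj g B) (s := {B | MaxOff ρ B}) (hB.conj g))
    exact h (H48.conj_mem_cj hx)⟩
  have hNk : N ≤ σ1.ker := sSup_le hker
  have hAN : A ≤ N := le_sSup (a := A) (s := {B | MaxOff ρ B}) hA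
  by_cases hN : N = ⊤
  swap
  · have hcoreN : pCore 2 N = ⊥ := by
      haveI : ((pCore 2 N).map N.subtype).Normal := ConjAct.normal_of_characteristic_of_normal
      refine (map_eq_bot_iff_of_injective _ N.subtype_injective).mp
        (le_bot_iff.mp (hcore ▸ Cores.le_pCore ((Cores.pCore_isPGroup (p := 2) (G := N)).map _)))
    refine ih N V (ρ.comp N.subtype) (hρ.comp N.subtype_injective) hV hcoreN (fun h => hinv h.of_subgroup)
      (A.subgroupOf N) (fun a ha => Subtype.ext (hA.1 _ ha))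
      (fun h => hA.2.1 (by rw [← map_subgroupOf_eq_of_le hAN, h, Subgroup.map_bot])) ?_ ?_
    · rw [Nat.card_congr (subgroupOfEquivOfLe hAN).toEquiv]
      refine hA.2.2.1.trans (Nat.mul_le_mul_left _ (Nat.card_le_card_of_injective (AddSubgroup.inclusion ?_)
        (AddSubgroup.inclusion_injective _)))
      exact fun w hw x hx => hw _ hx
    · have : Nat.card N < Nat.card H :=
        lt_of_le_of_ne (card_le_card_group N) fun h => hN (eq_top_of_card_eq N h)
      omega
  set U0 := fixV ρ (⊤ : Subgroup H)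
  have hU10 : U1 ≤ U0 := fun w hw x _ =>
    congrArg (fun f : AddMonoid.End U1 => (f ⟨w, hw⟩ : V)) (hNk (hN ▸ mem_top x) : σ1 x = 1)
  have hU0i : ∀ (x : H), ∀ w ∈ U0, ρ x w ∈ U0 := fun x w hw => by
    rw [show ρ x w = w from hw x (mem_top x)]; exact hw
  set σ2 := quoAct ρ U0 hU0i
  have hinj : Function.Injective σ2 := by
    rw [← MonoidHom.ker_eq_bot_iff]
    refine le_bot_iff.mp (hcore ▸ Cores.le_pCore fun x => ⟨1, Subtype.ext (end_ext hρ fun w => ?_)⟩)
    show ρ ((x : H) ^ 2 ^ 1) w = ρ 1 w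
    rw [act_one, pow_one, sq, act_mul]
    have h1 : ρ (x : H) w - w ∈ U0 := by
      have h := congrArg (fun f : AddMonoid.End (V ⧸ U0) => f (QuotientAddGroup.mk w)) (x.2 : σ2 x = 1)
      have h' : -(ρ (x : H) w) + w ∈ U0 := QuotientAddGroup.eq.mp h
      simpa [sub_eq_add_neg, add_comm] using neg_mem h'
    have h2 : ρ (x : H) (ρ (x : H) w - w) = ρ (x : H) w - w := h1 _ (mem_top _)
    rw [map_sub, sub_eq_iff_eq_add] at h2
    rw [h2, show ρ (x : H) w - w + ρ (x : H) w = (ρ (x : H) w + ρ (x : H) w) - (w + w) + w by abel,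
      hV, hV, sub_self, zero_add]
  have hVU : Nat.card V = Nat.card (V ⧸ U0) * Nat.card U0 := U0.card_eq_card_quotient_mul_card_addSubgroup
  have hsmall : Nat.card (V ⧸ U0) < Nat.card V := by
    have h1 : 1 < Nat.card U0 := by
      obtain ⟨w, hw⟩ := AddSubgroup.ne_bot_iff_exists_ne_zero.mp hU1b
      haveI : Nontrivial U0 := ⟨⟨⟨w.1, hU10 w.2⟩, 0, fun h => hw (Subtype.ext (congrArg Subtype.val h :))⟩⟩
      exact Finite.one_lt_card
    rw [hVU]; exact lt_mul_of_one_lt_right Nat.card_pos h1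
  refine ih H (V ⧸ U0) σ2 hinj (fun w => ?_) hcore hinv A hA.1 hA.2.1 ?_ (by omega)
  · obtain ⟨w, rfl⟩ := QuotientAddGroup.mk'_surjective U0 w
    exact congrArg QuotientAddGroup.mk (hV w)
  set C := fixV ρ A
  let f : C →+ V ⧸ U0 := (QuotientAddGroup.mk' U0).comp C.subtype
  have hf : Nat.card C = Nat.card f.range * Nat.card f.ker := by
    rw [← AddSubgroup.index_ker, mul_comm]
    exact f.ker.card_mul_index.symm
  have hk : Nat.card f.ker ≤ Nat.card U0 := Nat.card_le_card_of_injective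
    (fun w => ⟨w.1.1, (QuotientAddGroup.eq_zero_iff _).mp w.2⟩)
    fun a b h => Subtype.ext (Subtype.ext (congrArg (fun e : U0 => (e : V)) h))
  have hr : Nat.card f.range ≤ Nat.card (fixV σ2 A) := by
    refine Nat.card_le_card_of_injective (AddSubgroup.inclusion ?_) (AddSubgroup.inclusion_injective _)
    rintro _ ⟨w, rfl⟩ x hx
    exact congrArg QuotientAddGroup.mk (w.2 x hx)
  refine Nat.le_of_mul_le_mul_right ?_ (Nat.card_pos (α := U0))
  calc Nat.card (V ⧸ U0) * Nat.card U0 = Nat.card V := hVU.symm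
    _ ≤ Nat.card A * Nat.card C := hA.2.2.1
    _ = Nat.card A * (Nat.card f.range * Nat.card f.ker) := by rw [hf]
    _ ≤ Nat.card A * (Nat.card (fixV σ2 A) * Nat.card U0) := Nat.mul_le_mul_left _ (Nat.mul_le_mul hr hk)
    _ = _ := by ring

end Cfsg.Agent.Thompson.GenOff
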