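import Mathlib
import Cfsg.Agent.Thompson.OffenderPairs

/-!
An invariant group of homomorphisms into a trivial module: if its restriction to some subspace is
smaller than the subspace, some simple submodule carries an offender.
-/

set_option autoImplicit false
set_option linter.unusedSectionVars false
set_option linter.unusedVariables false
set_option linter.style.haveILetI false

namespace Cfsg.Agent.Thompson.GenOff

open Off (fixV act_mul act_one act_inv_act act_act_inv)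

universe u v w

section Log

variable {M : Type v} [AddCommGroup M] [Finite M]

/-- the exponent of the order -/
noncomputable def lg (K : AddSubgroup M) : ℕ := Nat.log 2 (Nat.card K)

theorem card_eq_two_pow (hM : ∀ m : M, m + m = 0) (K : AddSubgroup M) : Nat.card K = 2 ^ lg K := by
  haveI : Fact (Nat.Prime 2) := ⟨Nat.prime_two⟩
  letI : Module (ZMod 2) K := AddCommGroup.zmodModule (fun x => by
    rw [two_nsmul]; exact Subtype.ext (hM x))
  have h : Nat.card K = 2 ^ Module.finrank (ZMod 2) K := by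
    rw [Module.natCard_eq_pow_finrank (K := ZMod 2), Nat.card_zmod]
  rw [lg, h, Nat.log_pow (by norm_num)]

theorem lg_sup_inf (hM : ∀ m : M, m + m = 0) (K L : AddSubgroup M) :
    lg (K ⊔ L) + lg (K ⊓ L) = lg K + lg L := by
  have h := H63.card_sup_inf_add K L
  rw [card_eq_two_pow hM, card_eq_two_pow hM, card_eq_two_pow hM, card_eq_two_pow hM, ← pow_add,
    ← pow_add] at h
  exact (Nat.pow_right_injective le_rfl h).symm

theorem lg_mono (hM : ∀ m : M, m + m = 0) {K L : AddSubgroup M} (h : K ≤ L) : lg K ≤ lg L :=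
  Nat.log_mono_right (Nat.card_le_card_of_injective _ (AddSubgroup.inclusion_injective h))

theorem lg_eq_zero (hM : ∀ m : M, m + m = 0) {K : AddSubgroup M} : lg K = 0 ↔ K = ⊥ := by
  constructor
  · intro h
    have := card_eq_two_pow hM K
    rw [h, pow_zero] at this
    exact AddSubgroup.card_eq_one.mp this
  · rintro rfl
    simp [lg]

theorem lg_map {N : Type w} [AddCommGroup N] [Finite N] (hM : ∀ m : M, m + m = 0)
    (hN : ∀ n : N, n + n = 0) (f : M →+ N) (K : AddSubgroup M) :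
    lg (K.map f) + lg (K ⊓ f.ker) = lg K := by
  let g : K →+ N := f.comp K.subtype
  have h1 : g.range = K.map f := by
    rw [AddMonoidHom.range_eq_map, ← AddSubgroup.map_map, ← AddMonoidHom.range_eq_map,
      AddSubgroup.range_subtype]
  have h2 : Nat.card g.ker = Nat.card ↥(K ⊓ f.ker) := Nat.card_congr
    { toFun := fun x => ⟨x.1.1, x.1.2, x.2⟩
      invFun := fun x => ⟨⟨x.1, x.2.1⟩, x.2.2⟩
      left_inv := fun x => rfl
      right_inv := fun x => rfl }
  have h3 : Nat.card g.range * Nat.card g.ker = Nat.card K := by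
    rw [← AddSubgroup.index_ker, mul_comm]
    exact g.ker.card_mul_index
  rw [h1, h2, card_eq_two_pow hM, card_eq_two_pow hN, card_eq_two_pow hM, ← pow_add] at h3
  exact Nat.pow_right_injective le_rfl h3

theorem lg_bot : lg (⊥ : AddSubgroup M) = 0 := by simp [lg]

end Log

section Rank

variable {P : Type u} [Group P] {W : Type v} [AddCommGroup W] [Finite W]
  {U : Type w} [AddCommGroup U] [Finite U]

instance finiteAddHom : Finite (W →+ U) := Finite.of_injective _ DFunLike.coe_injective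

/-- restriction to a subgroup -/
def rest (E : AddSubgroup W) : (W →+ U) →+ (E →+ U) where
  toFun f := f.comp E.subtype
  map_zero' := rfl
  map_add' _ _ := rfl

/-- the exponent of the restriction -/
noncomputable def rk (N : AddSubgroup (W →+ U)) (E : AddSubgroup W) : ℕ := lg (N.map (rest E))

/-- invariance under the operators -/
def Inv (σ : P →* AddMonoid.End W) (Y : AddSubgroup W) : Prop := ∀ g : P, ∀ y ∈ Y, σ g y ∈ Y

theorem hom_add_self (hW : ∀ x : W, x + x = 0) (f : W →+ U) : f + f = 0 := by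
  ext x
  rw [AddMonoidHom.add_apply, ← map_add, hW, map_zero, AddMonoidHom.zero_apply]

theorem hom_add_self' (hW : ∀ x : W, x + x = 0) {E : AddSubgroup W} (f : E →+ U) : f + f = 0 :=
  hom_add_self (fun x => Subtype.ext (hW x)) f

theorem mem_ker_rest {E : AddSubgroup W} {f : W →+ U} :
    f ∈ (rest (U := U) E).ker ↔ ∀ x ∈ E, f x = 0 :=
  ⟨fun h x hx => congrArg (fun e : E →+ U => e ⟨x, hx⟩) h, fun h => AddMonoidHom.ext fun x => h x x.2⟩

theorem rk_add (hW : ∀ x : W, x + x = 0) (N : AddSubgroup (W →+ U)) (E : AddSubgroup W) :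
    rk N E + lg (N ⊓ (rest E).ker) = lg N :=
  lg_map (hom_add_self hW) (hom_add_self' hW) (rest E) N

theorem rk_mono (hW : ∀ x : W, x + x = 0) (N : AddSubgroup (W →+ U)) {E F : AddSubgroup W} (h : E ≤ F) :
    rk N E ≤ rk N F := by
  have h1 := rk_add hW N E
  have h2 := rk_add hW N F
  have h3 : lg (N ⊓ (rest F).ker) ≤ lg (N ⊓ (rest E).ker) := lg_mono (hom_add_self hW)
    fun f hf => ⟨hf.1, mem_ker_rest.mpr fun x hx => mem_ker_rest.mp hf.2 x (h hx)⟩
  omega

theorem rk_bot (hW : ∀ x : W, x + x = 0) (N : AddSubgroup (W →+ U)) : rk N ⊥ = 0 := by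
  refine (lg_eq_zero (hom_add_self' hW)).mpr ((AddSubgroup.eq_bot_iff_forall _).mpr ?_)
  rintro _ ⟨f, -, rfl⟩
  refine AddMonoidHom.ext fun x => ?_
  rw [AddMonoidHom.zero_apply, show x = 0 from Subtype.ext (AddSubgroup.mem_bot.mp x.2), map_zero]

theorem rk_sup_inf (hW : ∀ x : W, x + x = 0) (N : AddSubgroup (W →+ U)) (E F : AddSubgroup W) :
    rk N (E ⊔ F) + rk N (E ⊓ F) ≤ rk N E + rk N F := by
  have hH := hom_add_self (U := U) hW
  have h1 := rk_add hW N E
  have h2 := rk_add hW N F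
  have h3 := rk_add hW N (E ⊔ F)
  have h4 := rk_add hW N (E ⊓ F)
  have h5 := lg_sup_inf hH (N ⊓ (rest E).ker) (N ⊓ (rest F).ker)
  have h6 : lg (N ⊓ (rest E).ker ⊔ N ⊓ (rest F).ker) ≤ lg (N ⊓ (rest (E ⊓ F)).ker) := by
    refine lg_mono hH (sup_le ?_ ?_) <;>
      exact fun f hf => ⟨hf.1, mem_ker_rest.mpr fun x hx => mem_ker_rest.mp hf.2 x (by
        first | exact hx.1 | exact hx.2)⟩
  have h7 : lg ((N ⊓ (rest E).ker) ⊓ (N ⊓ (rest F).ker)) ≤ lg (N ⊓ (rest (E ⊔ F)).ker) := by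
    refine lg_mono hH fun f hf => ⟨hf.1.1, mem_ker_rest.mpr fun x hx => ?_⟩
    obtain ⟨a, ha, b, hb, rfl⟩ := AddSubgroup.mem_sup.mp hx
    rw [map_add, mem_ker_rest.mp hf.1.2 a ha, mem_ker_rest.mp hf.2.2 b hb, add_zero]
  omega

/-- a linear substitution inside the group of homomorphisms -/
def Sub (N : AddSubgroup (W →+ U)) (α : W →+ W) : Prop := ∀ f ∈ N, f.comp α ∈ N

theorem rk_map_ker (hW : ∀ x : W, x + x = 0) (N : AddSubgroup (W →+ U)) {α : W →+ W} (hα : Sub N α)
    (E : AddSubgroup W) : rk N (E.map α) + rk N (E ⊓ α.ker) ≤ rk N E := by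
  let res : (E →+ U) →+ (↥(E ⊓ α.ker) →+ U) :=
    { toFun := fun f => f.comp (AddSubgroup.inclusion inf_le_left)
      map_zero' := rfl
      map_add' := fun _ _ => rfl }
  let pull : (↥(E.map α) →+ U) →+ (E →+ U) :=
    { toFun := fun f => f.comp (α.addSubgroupMap E)
      map_zero' := rfl
      map_add' := fun _ _ => rfl }
  have hinj : Function.Injective pull := fun f g h => AddMonoidHom.ext fun y => by
    obtain ⟨x, rfl⟩ := α.addSubgroupMap_surjective E y
    exact congrArg (fun e : E →+ U => e x) h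
  have h1 : (N.map (rest E)).map res = N.map (rest (E ⊓ α.ker)) := by
    rw [AddSubgroup.map_map]; rfl
  have h2 := lg_map (hom_add_self' hW) (hom_add_self' hW) res (N.map (rest E))
  rw [h1] at h2
  have h3 : (N.map (rest (E.map α))).map pull ≤ N.map (rest E) ⊓ res.ker := by
    rintro _ ⟨_, ⟨f, hf, rfl⟩, rfl⟩
    refine ⟨⟨f.comp α, hα f hf, rfl⟩, AddMonoidHom.ext fun x => ?_⟩
    show f (α x.1) = 0
    rw [show α x.1 = 0 from x.2.2, map_zero]
  have h4 : lg (N.map (rest (E.map α))) = lg ((N.map (rest (E.map α))).map pull) := by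
    have h5 := lg_map (hom_add_self' hW) (hom_add_self' hW) pull (N.map (rest (E.map α)))
    rw [(AddMonoidHom.ker_eq_bot_iff pull).mpr hinj, inf_bot_eq, lg_bot] at h5
    omega
  have h6 := lg_mono (hom_add_self' hW) h3
  show lg (N.map (rest (E.map α))) + lg (N.map (rest (E ⊓ α.ker))) ≤ lg (N.map (rest E))
  omega

theorem exists_functional (hU : ∀ x : U, x + x = 0) {x : U} (hx : x ≠ 0) :
    ∃ χ : U →+ ZMod 2, χ x ≠ 0 := by
  haveI : Fact (Nat.Prime 2) := ⟨Nat.prime_two⟩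
  letI : Module (ZMod 2) U := AddCommGroup.zmodModule (fun y => by rw [two_nsmul]; exact hU y)
  by_contra hcon
  push Not at hcon
  exact hx ((Module.forall_dual_apply_eq_zero_iff (ZMod 2) x).mp fun φ => hcon φ.toAddMonoidHom)

theorem card_dual (hW : ∀ x : W, x + x = 0) : Nat.card (W →+ ZMod 2) = Nat.card W := by
  haveI : Fact (Nat.Prime 2) := ⟨Nat.prime_two⟩
  letI : Module (ZMod 2) W := AddCommGroup.zmodModule (fun x => by rw [two_nsmul]; exact hW x)
  haveI : Module.Finite (ZMod 2) W := Module.Finite.of_finite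
  have e : (W →+ ZMod 2) ≃ (W →ₗ[ZMod 2] ZMod 2) :=
    { toFun := fun f => f.toZModLinearMap 2
      invFun := fun f => f.toAddMonoidHom
      left_inv := fun f => rfl
      right_inv := fun f => rfl }
  rw [Nat.card_congr e, Module.natCard_eq_pow_finrank (K := ZMod 2) (V := W →ₗ[ZMod 2] ZMod 2),
    Module.natCard_eq_pow_finrank (K := ZMod 2) (V := W)]
  exact congrArg _ Subspace.dual_finrank_eq

/-- the exponent of an invariant group of homomorphisms on a simple module is a multiple -/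
theorem lg_dvd_of_simple (σ : P →* AddMonoid.End W) (hW : ∀ x : W, x + x = 0) (hU : ∀ x : U, x + x = 0)
    (hsimple : ∀ Y : AddSubgroup W, Inv σ Y → Y = ⊥ ∨ Y = ⊤) :
    ∀ N : AddSubgroup (W →+ U), (∀ g, Sub N (σ g)) → lg (⊤ : AddSubgroup W) ∣ lg N := by
  have hH := hom_add_self (U := U) hW
  have hH2 := hom_add_self (U := ZMod 2) hW
  suffices main : ∀ n, ∀ N : AddSubgroup (W →+ U), lg N = n → (∀ g, Sub N (σ g)) →
      lg (⊤ : AddSubgroup W) ∣ lg N from fun N => main _ N rfl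
  intro n
  induction n using Nat.strong_induction_on with
  | _ n ih =>
  intro N hn hN
  by_cases hN0 : N = ⊥
  · rw [(lg_eq_zero hH).mpr hN0]; exact dvd_zero _
  obtain ⟨f, hf, hf0⟩ : ∃ f ∈ N, f ≠ 0 := by
    by_contra hcon
    push Not at hcon
    exact hN0 ((AddSubgroup.eq_bot_iff_forall _).mpr hcon)
  obtain ⟨x, hx⟩ : ∃ x, f x ≠ 0 := by
    by_contra hcon
    push Not at hcon
    exact hf0 (AddMonoidHom.ext hcon)
  obtain ⟨χ, hχ⟩ := exists_functional hU hx
  let Φ : (W →+ U) →+ (W →+ ZMod 2) := AddMonoidHom.compHom χ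
  set J := N.map Φ
  have hJ0 : J ≠ ⊥ := fun h => hχ (congrArg (fun e : W →+ ZMod 2 => e x)
    (AddSubgroup.mem_bot.mp (h ▸ ⟨f, hf, rfl⟩ : Φ f ∈ (⊥ : AddSubgroup _))))
  let K : AddSubgroup W :=
    { carrier := {y | ∀ j ∈ J, j y = 0}
      zero_mem' := fun j _ => map_zero j
      add_mem' := fun {a b} ha hb j hj => by rw [map_add, ha j hj, hb j hj, add_zero]
      neg_mem' := fun {a} ha j hj => by rw [map_neg, ha j hj, neg_zero] }
  have hK : K = ⊥ := by
    refine (hsimple K ?_).resolve_right fun h => hJ0 ((AddSubgroup.eq_bot_iff_forall _).mpr fun j hj =>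
      AddMonoidHom.ext fun y => (h ▸ AddSubgroup.mem_top y : y ∈ K) j hj)
    rintro g y hy _ ⟨e, he, rfl⟩
    exact hy _ ⟨e.comp (σ g), hN g e he, rfl⟩
  have hge : Nat.card W ≤ Nat.card J := by
    have h1 : Nat.card W ≤ Nat.card (J →+ ZMod 2) := by
      refine Nat.card_le_card_of_injective (fun y => (AddMonoidHom.eval y).comp J.subtype) ?_
      intro y z h
      refine sub_eq_zero.mp (AddSubgroup.mem_bot.mp (hK ▸ (fun j hj => ?_ : y - z ∈ K)))
      rw [map_sub, sub_eq_zero]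
      exact congrArg (fun e : J →+ ZMod 2 => e ⟨j, hj⟩) h
    rwa [card_dual (fun j => Subtype.ext (hH2 j.1))] at h1
  have hJ : lg J = lg (⊤ : AddSubgroup W) := by
    have h1 : Nat.card J ≤ Nat.card W :=
      (Nat.card_le_card_of_injective _ Subtype.val_injective).trans (card_dual hW).le
    rw [lg, lg, le_antisymm h1 hge, AddSubgroup.card_top]
  have h2 := lg_map hH hH2 Φ N
  have hJ' : lg (N.map Φ) = lg (⊤ : AddSubgroup W) := hJ
  have hW0 : lg (⊤ : AddSubgroup W) ≠ 0 := fun h => hx (by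
    rw [show x = 0 from AddSubgroup.mem_bot.mp ((lg_eq_zero hW).mp h ▸ AddSubgroup.mem_top x), map_zero])
  have hker : ∀ g, Sub (N ⊓ Φ.ker) (σ g) := fun g e he => ⟨hN g e he.1, AddMonoidHom.ext fun y =>
    congrArg (fun k : W →+ ZMod 2 => k (σ g y)) he.2⟩
  rw [← h2]
  exact dvd_add hJ.symm.dvd (ih _ (by omega) _ rfl hker)

/-- a small restriction gives an offender on a simple submodule -/
theorem exists_simple_offender (σ : P →* AddMonoid.End W) (hW : ∀ x : W, x + x = 0)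
    (hU : ∀ x : U, x + x = 0) (N : AddSubgroup (W →+ U)) (hN : ∀ g, Sub N (σ g)) (A : Subgroup P)
    (C : AddSubgroup W) (hC : C ≤ fixV σ A) (a : ℕ)
    (hbest : ∀ Y, Inv σ Y → lg Y + rk N (C ⊓ Y) ≤ a + lg (C ⊓ Y) + rk N Y)
    {E : AddSubgroup W} (hE : rk N E < lg E) :
    ∃ X : AddSubgroup W, X ≠ ⊥ ∧ Inv σ X ∧ (∀ Y ≤ X, Inv σ Y → Y = ⊥ ∨ Y = X) ∧
      lg X ≤ a + lg (X ⊓ fixV σ A) := by
  classical
  -- least slope
  obtain ⟨E0, hE0, hmin⟩ : ∃ E0 : AddSubgroup W, 0 < lg E0 ∧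
      ∀ F : AddSubgroup W, 0 < lg F → rk N E0 * lg F ≤ rk N F * lg E0 := by
    obtain ⟨E0, hE0, hmin⟩ := Set.exists_min_image {F : AddSubgroup W | 0 < lg F}
      (fun F => (rk N F : ℚ) / lg F) (Set.toFinite _) ⟨E, Nat.zero_lt_of_lt hE⟩
    refine ⟨E0, hE0, fun F hF => ?_⟩
    have := hmin F hF
    rw [div_le_div_iff₀ (by exact_mod_cast hE0) (by exact_mod_cast hF)] at this
    exact_mod_cast this
  have hlt : rk N E0 < lg E0 := by
    have h1 := hmin E (Nat.zero_lt_of_lt hE)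
    have h2 : rk N E * lg E0 < lg E * lg E0 := Nat.mul_lt_mul_of_pos_right hE hE0
    by_contra h3
    have h4 : lg E0 * lg E ≤ rk N E0 * lg E := Nat.mul_le_mul_right _ (not_lt.mp h3)
    rw [mul_comm (lg E0)] at h4
    omega
  set q0 := rk N E0
  set l0 := lg E0
  have hall : ∀ F : AddSubgroup W, q0 * lg F ≤ rk N F * l0 := fun F => by
    rcases Nat.eq_zero_or_pos (lg F) with h | h
    · simp [h]
    · exact hmin F h
  let Tight : AddSubgroup W → Prop := fun F => rk N F * l0 = q0 * lg F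
  have tight_bot : Tight ⊥ := by show _ = _; rw [rk_bot hW, lg_bot]; simp
  have tight_sup : ∀ F G, Tight F → Tight G → Tight (F ⊔ G) := fun F G hF hG => by
    have h1 := rk_sup_inf hW N F G
    have h2 := lg_sup_inf hW F G
    have h3 := hall (F ⊔ G)
    have h4 := hall (F ⊓ G)
    have h5 := Nat.mul_le_mul_right l0 h1
    have h6 := congrArg (q0 * ·) h2
    simp only [Nat.mul_add, Nat.add_mul] at h5 h6
    show _ = _
    have hF' : rk N F * l0 = q0 * lg F := hF
    have hG' : rk N G * l0 = q0 * lg G := hG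
    omega
  have tight_map : ∀ α : W →+ W, Sub N α → ∀ F, Tight F → Tight (F.map α) := fun α hα F hF => by
    have h1 := rk_map_ker hW N hα F
    have h2 := lg_map hW hW α F
    have h3 := hall (F.map α)
    have h4 := hall (F ⊓ α.ker)
    have h5 := Nat.mul_le_mul_right l0 h1
    have h6 := congrArg (q0 * ·) h2
    simp only [Nat.mul_add, Nat.add_mul] at h5 h6
    show _ = _
    have hF' : rk N F * l0 = q0 * lg F := hF
    omega
  have tight_Sup : ∀ s : Set (AddSubgroup W), (∀ F ∈ s, Tight F) → Tight (sSup s) := fun s hs => by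
    refine (Set.toFinite s).induction_on_subset (motive := fun t _ => Tight (sSup t)) s ?_ ?_
    · simpa using tight_bot
    · intro F t hF _ _ ih
      rw [sSup_insert]
      exact tight_sup _ _ (hs F hF) ih
  -- a least invariant tight subgroup
  obtain ⟨W1, ⟨hW1t, hW1i, hW1ne⟩, hW1min⟩ := Set.exists_min_image
    {F : AddSubgroup W | Tight F ∧ Inv σ F ∧ F ≠ ⊥} (fun F => lg F) (Set.toFinite _) ⟨sSup {F | Tight F}, by
      refine ⟨tight_Sup _ fun F hF => hF, fun g y hy => ?_, fun h => ?_⟩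
      · have h1 : (sSup {F | Tight F}).map (σ g) ≤ sSup {F | Tight F} :=
          le_sSup (tight_map _ (hN g) _ (tight_Sup _ fun F hF => hF) : _ ∈ {F | Tight F})
        exact h1 ⟨y, hy, rfl⟩
      · have h1 : E0 ≤ sSup {F | Tight F} := le_sSup (show Tight E0 from rfl)
        rw [h, le_bot_iff] at h1
        exact hE0.ne' ((lg_eq_zero hW).mpr h1)⟩
  have hW1eq : ∀ F, F ≤ W1 → Tight F → Inv σ F → F ≠ ⊥ → F = W1 := fun F hle h1 h2 h3 => by
    refine AddSubgroup.eq_of_le_of_card_ge hle ?_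
    rw [card_eq_two_pow hW, card_eq_two_pow hW]
    exact Nat.pow_le_pow_right two_pos (hW1min F ⟨h1, h2, h3⟩)
  -- the algebra of operators and a least left ideal
  let 𝔄 : AddSubgroup (W →+ W) := AddSubgroup.closure (Set.range fun g => (σ g : W →+ W))
  have hsub : ∀ α ∈ 𝔄, Sub N α := fun α hα => by
    refine AddSubgroup.closure_induction (p := fun α _ => Sub N α) ?_ ?_ ?_ ?_ hα
    · rintro _ ⟨g, rfl⟩; exact hN g
    · intro f _; rw [AddMonoidHom.comp_zero]; exact zero_mem _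
    · intro x y _ _ hx hy f hf; rw [AddMonoidHom.comp_add]; exact add_mem (hx f hf) (hy f hf)
    · intro x _ hx f hf
      rw [show f.comp (-x) = -(f.comp x) by ext; simp]
      exact neg_mem (hx f hf)
  have hA1 : ∀ α ∈ 𝔄, ∀ y ∈ W1, α y ∈ W1 := fun α hα y hy => by
    refine AddSubgroup.closure_induction (p := fun α _ => α y ∈ W1) ?_ ?_ ?_ ?_ hα
    · rintro _ ⟨g, rfl⟩; exact hW1i g y hy
    · exact zero_mem W1
    · intro x z _ _ hx hz; exact add_mem hx hz
    · intro x _ hx; exact neg_mem hx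
  let Ideal' : AddSubgroup (W →+ W) → Prop := fun I =>
    I ≤ 𝔄 ∧ (∀ g : P, ∀ α ∈ I, (σ g : W →+ W).comp α ∈ I) ∧ ∃ α ∈ I, ∃ y ∈ W1, α y ≠ 0
  haveI : Finite (W →+ W) := Finite.of_injective _ DFunLike.coe_injective
  obtain ⟨I, hI, hImin⟩ := Set.exists_min_image {I | Ideal' I} (fun I => Nat.card I) (Set.toFinite _) ⟨𝔄, by
    refine ⟨le_rfl, fun g α hα => ?_, ?_⟩
    · refine AddSubgroup.closure_induction (p := fun α _ => (σ g : W →+ W).comp α ∈ 𝔄) ?_ ?_ ?_ ?_ hα
      · rintro _ ⟨h, rfl⟩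
        refine AddSubgroup.subset_closure ⟨g * h, ?_⟩
        exact AddMonoidHom.ext fun y => act_mul g h y
      · rw [show (σ g : W →+ W).comp 0 = 0 from AddMonoidHom.ext fun _ => map_zero (σ g)]; exact zero_mem _
      · intro x y _ _ hx hy
        rw [show (σ g : W →+ W).comp (x + y) = (σ g : W →+ W).comp x + (σ g : W →+ W).comp y from
          AddMonoidHom.ext fun z => map_add (σ g) (x z) (y z)]
        exact add_mem hx hy
      · intro x _ hx
        rw [show (σ g : W →+ W).comp (-x) = -((σ g : W →+ W).comp x) by ext y; exact map_neg (σ g) (x y)]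
        exact neg_mem hx
    · obtain ⟨⟨y, hy⟩, hy0⟩ := AddSubgroup.ne_bot_iff_exists_ne_zero.mp hW1ne
      refine ⟨_, AddSubgroup.subset_closure ⟨1, rfl⟩, y, hy, ?_⟩
      intro h
      exact hy0 (Subtype.ext ((act_one (ρ := σ) y).symm.trans h))⟩
  have hmin' : ∀ J ≤ I, (∀ g : P, ∀ α ∈ J, (σ g : W →+ W).comp α ∈ J) → J = I ∨ ∀ α ∈ J, ∀ y ∈ W1, α y = 0 := by
    intro J hJ hJi
    by_cases h : ∃ α ∈ J, ∃ y ∈ W1, α y ≠ 0
    · exact Or.inl (AddSubgroup.eq_of_le_of_card_ge hJ (hImin J ⟨hJ.trans hI.1, hJi, h⟩))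
    · push Not at h; exact Or.inr h
  let ev : W → AddSubgroup W := fun y => I.map (AddMonoidHom.eval y : (W →+ W) →+ W)
  have hevi : ∀ y, Inv σ (ev y) := by
    rintro y g _ ⟨α, hα, rfl⟩
    exact ⟨_, hI.2.1 g α hα, rfl⟩
  have hevW : ∀ y ∈ W1, ev y ≤ W1 := by
    rintro y hy _ ⟨α, hα, rfl⟩
    exact hA1 α (hI.1 hα) y hy
  have hevs : ∀ y ∈ W1, ∀ Y ≤ ev y, Inv σ Y → Y = ⊥ ∨ Y = ev y := by
    intro y hy Y hY hYi
    rcases hmin' (I ⊓ Y.comap (AddMonoidHom.eval y : (W →+ W) →+ W)) inf_le_left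
        (fun g α hα => ⟨hI.2.1 g α hα.1, hYi g _ hα.2⟩) with h | h
    · refine Or.inr (le_antisymm hY ?_)
      rintro _ ⟨α, hα, rfl⟩
      exact ((h.ge hα).2 : α y ∈ Y)
    · refine Or.inl ((AddSubgroup.eq_bot_iff_forall _).mpr fun z hz => ?_)
      obtain ⟨α, hα, rfl⟩ := hY hz
      exact h α ⟨hα, hz⟩ y hy
  let I0 : AddSubgroup (W →+ W) :=
    { carrier := {α | α ∈ I ∧ ∀ y ∈ W1, α y = 0}
      zero_mem' := ⟨zero_mem I, fun _ _ => rfl⟩
      add_mem' := fun {a b} ha hb => ⟨add_mem ha.1 hb.1, fun y hy => by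
        rw [AddMonoidHom.add_apply, ha.2 y hy, hb.2 y hy, add_zero]⟩
      neg_mem' := fun {a} ha => ⟨neg_mem ha.1, fun y hy => by
        rw [AddMonoidHom.neg_apply, ha.2 y hy, neg_zero]⟩ }
  set x := lg I - lg I0
  have hevl : ∀ y ∈ W1, ev y ≠ ⊥ → lg (ev y) = x := by
    intro y hy hne
    have h1 := lg_map (hom_add_self hW) hW (AddMonoidHom.eval y : (W →+ W) →+ W) I
    have h2 : I ⊓ (AddMonoidHom.eval y : (W →+ W) →+ W).ker = I0 := by
      refine le_antisymm (fun α hα => ?_) fun α hα => ⟨hα.1, hα.2 y hy⟩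
      rcases hmin' (I ⊓ (AddMonoidHom.eval y : (W →+ W) →+ W).ker) inf_le_left
        (fun g β hβ => ⟨hI.2.1 g β hβ.1, (congrArg (σ g) (hβ.2 : β y = 0)).trans (map_zero _)⟩) with h | h
      · exfalso
        refine hne ((AddSubgroup.eq_bot_iff_forall _).mpr ?_)
        rintro _ ⟨β, hβ, rfl⟩
        exact (h.ge hβ).2
      · exact ⟨hα.1, h α hα⟩
    rw [h2] at h1
    show lg (ev y) = x
    change lg (ev y) + lg I0 = lg I at h1
    omega
  have hgen : sSup {F | ∃ y ∈ W1, F = ev y} = W1 := by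
    have hle : sSup {F | ∃ y ∈ W1, F = ev y} ≤ W1 := sSup_le fun F ⟨y, hy, hF⟩ => hF ▸ hevW y hy
    have heq : sSup {F | ∃ y ∈ W1, F = ev y} = sSup {F | ∃ α ∈ I, F = W1.map α} := by
      refine le_antisymm (sSup_le ?_) (sSup_le ?_)
      · rintro F ⟨y, hy, rfl⟩ _ ⟨α, hα, rfl⟩
        exact le_sSup (a := W1.map α) (s := {F | ∃ α ∈ I, F = W1.map α}) ⟨α, hα, rfl⟩ ⟨y, hy, rfl⟩
      · rintro F ⟨α, hα, rfl⟩ _ ⟨y, hy, rfl⟩
        exact le_sSup (a := ev y) (s := {F | ∃ y ∈ W1, F = ev y}) ⟨y, hy, rfl⟩ ⟨α, hα, rfl⟩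
    refine hW1eq _ hle ?_ ?_ ?_
    · rw [heq]
      exact tight_Sup _ fun F ⟨α, hα, hF⟩ => hF ▸ tight_map α (hsub α (hI.1 hα)) W1 hW1t
    · intro g z hz
      have h1 : (sSup {F | ∃ y ∈ W1, F = ev y}).map (σ g) ≤ sSup {F | ∃ y ∈ W1, F = ev y} := by
        refine AddSubgroup.map_le_iff_le_comap.mpr (sSup_le fun F hF => ?_)
        obtain ⟨y, hy, rfl⟩ := hF
        exact fun z hz => le_sSup (a := ev y) (s := {F | ∃ y ∈ W1, F = ev y}) ⟨y, hy, rfl⟩ (hevi y g z hz)
      exact h1 ⟨z, hz, rfl⟩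
    · obtain ⟨α, hα, y, hy, hne⟩ := hI.2.2
      exact fun h => hne (AddSubgroup.mem_bot.mp
        (h ▸ le_sSup (a := ev y) (s := {F | ∃ y ∈ W1, F = ev y}) ⟨y, hy, rfl⟩ ⟨α, hα, rfl⟩))
  -- the best simple submodule
  obtain ⟨y0, hy0, hy0ne⟩ : ∃ y ∈ W1, ev y ≠ ⊥ := by
    by_contra hcon
    push Not at hcon
    exact hW1ne (hgen ▸ le_bot_iff.mp (sSup_le fun F ⟨y, hy, hF⟩ => (hF.trans (hcon y hy)).le))
  obtain ⟨ym, ⟨hym, hymne⟩, hymax⟩ := Set.exists_max_image {y : W | y ∈ W1 ∧ ev y ≠ ⊥}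
    (fun y => lg (ev y ⊓ fixV σ A)) (Set.toFinite _) ⟨y0, hy0, hy0ne⟩
  set fm := lg (ev ym ⊓ fixV σ A)
  -- a largest good invariant subgroup
  let Good : AddSubgroup W → Prop := fun Y =>
    Y ≤ W1 ∧ Inv σ Y ∧ x ∣ lg Y ∧ x ∣ rk N Y ∧ x * lg (Y ⊓ fixV σ A) ≤ fm * lg Y
  obtain ⟨Y, hY, hYmax⟩ := Set.exists_max_image {Y | Good Y} (fun Y => lg Y) (Set.toFinite _) ⟨⊥, by
    refine ⟨bot_le, fun g z hz => ?_, by rw [lg_bot]; exact dvd_zero _, by rw [rk_bot hW]; exact dvd_zero _, ?_⟩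
    · rw [AddSubgroup.mem_bot] at hz ⊢; rw [hz, map_zero]
    · rw [bot_inf_eq, lg_bot]; simp⟩
  have hYtop : Y = W1 := by
    refine le_antisymm hY.1 (hgen ▸ sSup_le ?_)
    rintro F ⟨y, hy, rfl⟩
    by_contra hnot
    have hne : ev y ≠ ⊥ := fun h => hnot (h ▸ bot_le)
    have hdis : Y ⊓ ev y = ⊥ := (hevs y hy _ inf_le_right fun g z hz =>
      ⟨hY.2.1 g z hz.1, hevi y g z hz.2⟩).resolve_right fun h => hnot (inf_eq_right.mp h)
    have hx : lg (ev y) = x := hevl y hy hne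
    have hl : lg (Y ⊔ ev y) = lg Y + x := by
      have := lg_sup_inf hW Y (ev y)
      rw [hdis, lg_bot, hx] at this
      omega
    have hYi' : Inv σ (Y ⊔ ev y) := fun g z hz => by
      obtain ⟨a, ha, b, hb, rfl⟩ := AddSubgroup.mem_sup.mp hz
      rw [map_add]
      exact add_mem (AddSubgroup.mem_sup_left (hY.2.1 g a ha)) (AddSubgroup.mem_sup_right (hevi y g b hb))
    have hq : x ∣ rk N (Y ⊔ ev y) := by
      have hH := hom_add_self (U := U) hW
      have e1 := rk_add hW N Y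
      have e2 := rk_add hW N (Y ⊔ ev y)
      set K := N ⊓ (rest Y).ker
      have e3 := lg_map hH (hom_add_self' hW) (rest (ev y)) K
      have e4 : K ⊓ (rest (ev y)).ker = N ⊓ (rest (Y ⊔ ev y)).ker := by
        refine le_antisymm (fun f hf => ⟨hf.1.1, mem_ker_rest.mpr fun z hz => ?_⟩) fun f hf =>
          ⟨⟨hf.1, mem_ker_rest.mpr fun z hz => mem_ker_rest.mp hf.2 z (AddSubgroup.mem_sup_left hz)⟩,
            mem_ker_rest.mpr fun z hz => mem_ker_rest.mp hf.2 z (AddSubgroup.mem_sup_right hz)⟩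
        obtain ⟨a, ha, b, hb, rfl⟩ := AddSubgroup.mem_sup.mp hz
        rw [map_add, mem_ker_rest.mp hf.1.2 a ha, mem_ker_rest.mp hf.2 b hb, add_zero]
      rw [e4] at e3
      let τ : P →* AddMonoid.End (ev y) :=
        { toFun := fun g =>
            { toFun := fun z => ⟨σ g z.1, hevi y g z.1 z.2⟩
              map_zero' := Subtype.ext (map_zero _)
              map_add' := fun a b => Subtype.ext (map_add _ a.1 b.1) }
          map_one' := AddMonoidHom.ext fun z => Subtype.ext (act_one z.1)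
          map_mul' := fun a b => AddMonoidHom.ext fun z => Subtype.ext (act_mul a b z.1) }
      have hd : x ∣ lg (K.map (rest (ev y))) := by
        have := lg_dvd_of_simple τ (fun z => Subtype.ext (hW z.1)) hU (fun Z hZ => ?_) (K.map (rest (ev y))) ?_
        · have e : lg (⊤ : AddSubgroup (ev y)) = x := by rw [lg, AddSubgroup.card_top, ← hx, lg]
          rwa [e] at this
        · rcases hevs y hy (Z.map (ev y).subtype) (AddSubgroup.map_subtype_le Z) (by
            rintro g _ ⟨z, hz, rfl⟩; exact ⟨τ g z, hZ g z hz, rfl⟩) with h | h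
          · exact Or.inl ((AddSubgroup.map_eq_bot_iff_of_injective _ (ev y).subtype_injective).mp h)
          · refine Or.inr (eq_top_iff.mpr fun z _ => ?_)
            obtain ⟨z', hz', hzz⟩ := h.ge z.2
            rwa [show z = z' from Subtype.ext hzz.symm]
        · rintro g _ ⟨f, hf, rfl⟩
          exact ⟨f.comp (σ g), ⟨hN g f hf.1, mem_ker_rest.mpr fun z hz => mem_ker_rest.mp hf.2 _
            (hY.2.1 g z hz)⟩, rfl⟩
      have hd2 := hY.2.2.2.1
      have : rk N (Y ⊔ ev y) = rk N Y + lg (K.map (rest (ev y))) := by omega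
      rw [this]; exact dvd_add hd2 hd
    have hfix : lg ((Y ⊔ ev y) ⊓ fixV σ A) ≤ lg (Y ⊓ fixV σ A) + lg (ev y ⊓ fixV σ A) := by
      refine le_trans (lg_mono hW ?_) (Nat.le_of_add_right_le (lg_sup_inf hW (Y ⊓ fixV σ A) (ev y ⊓ fixV σ A)).le)
      rintro z ⟨hz, hzA⟩
      obtain ⟨a, ha, b, hb, rfl⟩ := AddSubgroup.mem_sup.mp hz
      have key : ∀ g ∈ A, σ g a = a ∧ σ g b = b := fun g hg => by
        have h := hzA g hg
        rw [map_add] at h
        have h2 : σ g a - a = b - σ g b := by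
          rw [sub_eq_sub_iff_add_eq_add, h]; abel
        have h3 : σ g a - a ∈ Y ⊓ ev y := ⟨AddSubgroup.sub_mem Y (hY.2.1 g a ha) ha, h2 ▸ AddSubgroup.sub_mem (ev y) hb (hevi y g b hb)⟩
        rw [hdis, AddSubgroup.mem_bot] at h3
        refine ⟨sub_eq_zero.mp h3, ?_⟩
        rw [h3] at h2
        exact (sub_eq_zero.mp h2.symm).symm
      exact add_mem (AddSubgroup.mem_sup_left ⟨ha, fun g hg => (key g hg).1⟩)
        (AddSubgroup.mem_sup_right ⟨hb, fun g hg => (key g hg).2⟩)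
    have h9 := hYmax (Y ⊔ ev y) ⟨sup_le hY.1 (hevW y hy), hYi', hl ▸ dvd_add hY.2.2.1 dvd_rfl, hq, by
      rw [hl, Nat.mul_add]
      calc x * lg ((Y ⊔ ev y) ⊓ fixV σ A) ≤ x * lg (Y ⊓ fixV σ A) + x * lg (ev y ⊓ fixV σ A) := by
            rw [← Nat.mul_add]; exact Nat.mul_le_mul_left _ hfix
        _ ≤ fm * lg Y + fm * x := Nat.add_le_add hY.2.2.2.2 (by
            rw [mul_comm fm x]; exact Nat.mul_le_mul_left _ (hymax y ⟨hy, hne⟩))⟩
    have : 0 < x := hx ▸ Nat.pos_of_ne_zero fun h => hne ((lg_eq_zero hW).mp h)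
    omega
  subst hYtop
  refine ⟨ev ym, hymne, hevi ym, hevs ym hym, ?_⟩
  rw [hevl ym hym hymne]
  set C1 := C ⊓ Y
  set l := lg Y
  set q := rk N Y
  set c := lg C1
  set q1 := rk N C1
  have hl : 0 < l := Nat.pos_of_ne_zero fun h => hW1ne ((lg_eq_zero hW).mp h)
  have ht : q * l0 = q0 * l := hW1t
  have hql : q < l := by
    by_contra h
    have h1 : l * l0 ≤ q * l0 := Nat.mul_le_mul_right _ (not_lt.mp h)
    have h2 : q0 * l < l0 * l := Nat.mul_lt_mul_of_pos_right hlt hl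
    rw [mul_comm l] at h1
    omega
  have hx' : q + x ≤ l := by
    obtain ⟨i, hi⟩ := hY.2.2.1
    obtain ⟨j, hj⟩ := hY.2.2.2.1
    change l = x * i at hi
    change q = x * j at hj
    rw [hi, hj] at hql ⊢
    have : j < i := Nat.lt_of_mul_lt_mul_left hql
    calc x * j + x = x * (j + 1) := by ring
      _ ≤ x * i := Nat.mul_le_mul_left _ this
  have hq1 : q * c ≤ q1 * l := by
    refine Nat.le_of_mul_le_mul_right ?_ hE0
    calc q * c * l0 = q0 * c * l := by
          rw [mul_comm q c, mul_assoc, ht, ← mul_assoc, mul_comm c q0]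
      _ ≤ q1 * l0 * l := Nat.mul_le_mul_right _ (hall C1)
      _ = q1 * l * l0 := by ring
  have hb : l + q1 ≤ a + c + q := hbest Y hW1i
  have hfixc : x * c ≤ fm * l := (Nat.mul_le_mul_left _ (lg_mono hW
    (fun z hz => ⟨hz.2, hC hz.1⟩ : C1 ≤ Y ⊓ fixV σ A))).trans hY.2.2.2.2
  have hcl : c ≤ l := lg_mono hW inf_le_right
  show x ≤ a + fm
  refine Nat.le_of_mul_le_mul_right ?_ hl
  nlinarith [Nat.mul_le_mul_right l hb, Nat.mul_le_mul hx' (le_refl (l - c)), Nat.sub_add_cancel hcl]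

end Rank

end Cfsg.Agent.Thompson.GenOff
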