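import Mathlib
import Cfsg.Agent.Thompson.GeneralBase
import Cfsg.Agent.Thompson.GeneralRank

/-!
Two conjugate quadratic offenders generating a subgroup that moves the module attached to a Sylow
2-subgroup give an offender on a smaller module.
-/

set_option autoImplicit false
set_option linter.unusedSectionVars false
set_option linter.style.haveILetI false

namespace Cfsg.Agent.Thompson.GenOff

open Subgroup
open H48 (IsSylowIn cj)
open Par (El Inv3 MaxOff subAct quoAct setStab isSylowIn_of_top)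
open Off (fixV stabV act_mul act_one act_inv_act act_act_inv end_ext)

universe u v

variable {H : Type u} [Group H] [Finite H] {V : Type v} [AddCommGroup V] [Finite V]
  {ρ : H →* AddMonoid.End V}

/-- a quadratic largest offender -/
def QM (ρ : H →* AddMonoid.End V) (B : Subgroup H) : Prop :=
  MaxOff ρ B ∧ ∀ a ∈ B, ∀ b ∈ B, ∀ w, ρ b (ρ a w - w) = ρ a w - w

/-- the subgroup generated by the quadratic largest offenders in `S` -/
def DS (ρ : H →* AddMonoid.End V) (S : Subgroup H) : Subgroup H := sSup {B | QM ρ B ∧ B ≤ S}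

/-- the translates of the points fixed by `S` under the normalizer of `DS` -/
def F1 (ρ : H →* AddMonoid.End V) (S : Subgroup H) : AddSubgroup V :=
  AddSubgroup.closure {w | ∃ m ∈ normalizer (DS ρ S : Set H), ∃ z ∈ fixV ρ S, ρ m z = w}

/-- its stabiliser -/
def St (ρ : H →* AddMonoid.End V) (S : Subgroup H) : Subgroup H := setStab ρ (F1 ρ S)

/-- inside a 2-subgroup normalised by `Y` -/
def InCore (Y B : Subgroup H) : Prop :=
  ∃ Q : Subgroup H, IsPGroup 2 Q ∧ Q ≤ Y ∧ Y ≤ normalizer (Q : Set H) ∧ B ≤ Q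

/-- the elements fixing a subgroup pointwise -/
def fixer (ρ : H →* AddMonoid.End V) (U : AddSubgroup V) : Subgroup H where
  carrier := {x | ∀ w ∈ U, ρ x w = w}
  one_mem' := fun w _ => act_one w
  mul_mem' := fun {a b} ha hb w hw => by rw [act_mul, hb w hw, ha w hw]
  inv_mem' := fun {a} ha w hw => by
    conv_lhs => rw [← ha w hw]
    exact act_inv_act a w

theorem QM.conj {B : Subgroup H} (h : QM ρ B) (g : H) : QM ρ (cj g B) := by
  refine ⟨h.1.conj g, ?_⟩
  rintro _ ⟨a, ha, rfl⟩ _ ⟨b, hb, rfl⟩ w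
  show ρ (g * b * g⁻¹) (ρ (g * a * g⁻¹) w - w) = ρ (g * a * g⁻¹) w - w
  have h' := h.2 a ha b hb (ρ g⁻¹ w)
  rw [act_mul, act_mul, act_mul, act_mul, show ρ g⁻¹ (ρ g (ρ a (ρ g⁻¹ w)) - w) =
    ρ a (ρ g⁻¹ w) - ρ g⁻¹ w by rw [map_sub, act_inv_act], h', map_sub, act_act_inv]

theorem le_normalizer_DS (S : Subgroup H) : S ≤ normalizer (DS ρ S : Set H) := by
  intro s hs
  refine H48.mem_normalizer_of_cj_eq (H48.cj_eq_self_of_le ?_)
  rw [cj, map_le_iff_le_comap]
  refine sSup_le fun B hB => map_le_iff_le_comap.mp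
    (le_sSup (a := cj s B) (s := {B | QM ρ B ∧ B ≤ S}) ⟨hB.1.conj s, ?_⟩)
  exact H48.cj_le.mpr fun x hx => mul_mem (mul_mem hs (hB.2 hx)) (inv_mem hs)

theorem F1_inv {S : Subgroup H} {m : H} (hm : m ∈ normalizer (DS ρ S : Set H)) {w : V} (hw : w ∈ F1 ρ S) :
    ρ m w ∈ F1 ρ S := by
  refine AddSubgroup.closure_induction (p := fun w _ => ρ m w ∈ F1 ρ S) ?_ ?_ ?_ ?_ hw
  · rintro _ ⟨m', hm', z, hz, rfl⟩
    rw [← act_mul]
    exact AddSubgroup.subset_closure ⟨_, mul_mem hm hm', z, hz, rfl⟩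
  · rw [map_zero]; exact zero_mem _
  · intro a b _ _ ha hb; rw [map_add]; exact add_mem ha hb
  · intro a _ ha; rw [map_neg]; exact neg_mem ha

theorem normalizer_le_St (S : Subgroup H) : normalizer (DS ρ S : Set H) ≤ St ρ S :=
  fun _ hm => ⟨fun _ hw => F1_inv hm hw, fun _ hw => F1_inv (inv_mem hm) hw⟩

theorem fix_le_F1 (S : Subgroup H) : fixV ρ S ≤ F1 ρ S :=
  fun z hz => AddSubgroup.subset_closure ⟨1, one_mem _, z, hz, act_one z⟩

theorem F1_le_fix {S : Subgroup H} {B : Subgroup H} (hB : QM ρ B) (hBS : B ≤ S) :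
    F1 ρ S ≤ fixV ρ B := by
  have hD : DS ρ S ≤ S := sSup_le fun B hB => hB.2
  have h : F1 ρ S ≤ fixV ρ (DS ρ S) := by
    refine (AddSubgroup.closure_le _).mpr ?_
    rintro _ ⟨m, hm, z, hz, rfl⟩ x hx
    have h1 : m⁻¹ * x * m ∈ DS ρ S := (mem_normalizer_iff''.mp hm x).mp hx
    have h2 := hz _ (hD h1)
    rw [act_mul, act_mul] at h2
    conv_rhs => rw [← h2, act_act_inv]
  exact fun w hw x hx => h hw x (le_sSup (a := B) (s := {B | QM ρ B ∧ B ≤ S}) ⟨hB, hBS⟩ hx)

set_option maxHeartbeats 4000000 in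
/-- the contradiction in a group generated by two conjugate offenders -/
theorem false_of_pair {n : ℕ} (ih : NoGen.{u, v} n) (hn : Nat.card H + Nat.card V ≤ n + 1)
    (hρ : Function.Injective ρ) (hV : ∀ w : V, w + w = 0) (hinv : ¬ Inv3 H)
    {S : Subgroup H} (hS : IsSylowIn 2 S ⊤) {Y : Subgroup H} (hY : Y ≠ ⊤)
    (hS0 : IsSylowIn 2 (S ⊓ Y) Y)
    (hsub : ∀ X : Subgroup H, S ⊓ Y ≤ X → X ≤ Y → X ≠ Y → X ≤ St ρ S) (hYst : ¬ Y ≤ St ρ S)
    {A : Subgroup H} (hA : QM ρ A) (hAS : A ≤ S ⊓ Y) (hAc : ¬ InCore Y A) {g : H} (hg : g ∈ Y)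
    (hgen : A ⊔ cj g A = Y)
    (hz : ∀ z ∈ Y, A ⊔ cj z A = Y ∨ ∀ r ∈ cj z A, ∀ w ∈ F1 ρ S, ρ r w = w) : False := by
  haveI : Fact (Nat.Prime 2) := ⟨Nat.prime_two⟩
  set S0 := S ⊓ Y
  set RY : Subgroup H := (pCore 2 Y).map Y.subtype with hRYdef
  have hRYY : RY ≤ Y := map_subtype_le _
  have hYRY : ∀ y ∈ Y, ∀ x ∈ RY, y * x * y⁻¹ ∈ RY := by
    rintro y hy _ ⟨x, hx, rfl⟩
    exact ⟨⟨y, hy⟩ * x * ⟨y, hy⟩⁻¹, (pCore_normal 2 Y).conj_mem x hx _, rfl⟩
  have hRS : RY ≤ S0 := by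
    rintro _ ⟨x, hx, rfl⟩
    exact Cores.pCore_le_sylow hS0.toSylow hx
  have hAY : A ≤ Y := hAS.trans inf_le_right
  have hgY : cj g A ≤ Y := le_sup_right.trans hgen.le
  set C := fixV ρ A with hCdef
  set C' := fixV ρ (cj g A) with hC'def
  set U0 := C ⊓ C'
  have hU0Y : ∀ y ∈ Y, ∀ w ∈ U0, ρ y w = w := fun y hy w hw =>
    (sup_le (fun x hx => hw.1 x hx) (fun x hx => hw.2 x hx) : A ⊔ cj g A ≤ stabV ρ w) (hgen.ge hy)
  have hquad := hA.2
  have hquad' := (hA.conj g).2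
  have hUi : ∀ y ∈ Y, ∀ w, ρ y w - w ∈ C ⊔ C' := by
    let Sd : Subgroup H :=
      { carrier := {x | ∀ w, ρ x w - w ∈ C ⊔ C'}
        one_mem' := fun w => by rw [act_one, sub_self]; exact zero_mem _
        mul_mem' := fun {x y} hx hy w => by
          rw [act_mul, show ρ x (ρ y w) - w = (ρ x (ρ y w) - ρ y w) + (ρ y w - w) by abel]
          exact add_mem (hx _) (hy w)
        inv_mem' := fun {x} hx w => by
          have h := hx (ρ x⁻¹ w)
          rw [act_act_inv] at h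
          simpa using neg_mem h }
    exact fun y hy => (sup_le (fun a ha w => AddSubgroup.mem_sup_left fun b hb => hquad a ha b hb w)
      (fun a ha w => AddSubgroup.mem_sup_right fun b hb => hquad' a ha b hb w) :
        A ⊔ cj g A ≤ Sd) (hgen.ge hy)
  -- the normal subgroup
  set NR : Subgroup H := Subgroup.closure {x | ∃ y ∈ Y, ∃ r ∈ A ⊓ RY, y * r * y⁻¹ = x} with hNRdef
  have hNRR : NR ≤ RY := (Subgroup.closure_le _).mpr (by
    rintro _ ⟨y, hy, r, hr, rfl⟩; exact hYRY y hy r hr.2)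
  have hANR : A ⊓ RY ≤ NR := fun r hr => Subgroup.subset_closure ⟨1, one_mem _, r, hr, by group⟩
  have hNRn : ∀ y ∈ Y, ∀ x ∈ NR, y * x * y⁻¹ ∈ NR := by
    intro y hy x hx
    have h1 : cj y NR ≤ NR := by
      rw [cj, hNRdef, MonoidHom.map_closure]
      refine (Subgroup.closure_le _).mpr ?_
      rintro _ ⟨_, ⟨y', hy', r, hr, rfl⟩, rfl⟩
      exact Subgroup.subset_closure ⟨y * y', mul_mem hy hy', r, hr, by simp [mul_assoc]⟩
    exact h1 (H48.conj_mem_cj hx)
  have hF1C : F1 ρ S ≤ C := F1_le_fix hA (hAS.trans inf_le_left)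
  have hSM : S ≤ normalizer (DS ρ S : Set H) := le_normalizer_DS S
  have hF1U : ∀ r ∈ NR, ∀ w ∈ F1 ρ S, ρ r w - w ∈ U0 := by
    let Sd : Subgroup H :=
      { carrier := {x | x ∈ Y ∧ ∀ w ∈ F1 ρ S, ρ x w - w ∈ U0}
        one_mem' := ⟨one_mem _, fun w _ => by rw [act_one, sub_self]; exact zero_mem _⟩
        mul_mem' := fun {x y} hx hy => ⟨mul_mem hx.1 hy.1, fun w hw => by
          have h1 := hU0Y x hx.1 _ (hy.2 w hw)
          rw [map_sub] at h1
          rw [act_mul, show ρ x (ρ y w) - w = (ρ x (ρ y w) - ρ x w) + (ρ x w - w) by abel, h1]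
          exact add_mem (hy.2 w hw) (hx.2 w hw)⟩
        inv_mem' := fun {x} hx => ⟨inv_mem hx.1, fun w hw => by
          have h1 := hU0Y x⁻¹ (inv_mem hx.1) _ (hx.2 w hw)
          rw [map_sub, act_inv_act] at h1
          rw [show ρ x⁻¹ w - w = -(w - ρ x⁻¹ w) by abel, h1]
          exact neg_mem (hx.2 w hw)⟩ }
    have h : NR ≤ Sd := (Subgroup.closure_le _).mpr (by
      rintro _ ⟨y, hy, r, hr, rfl⟩
      have hmem : y * r * y⁻¹ ∈ cj y A := H48.conj_mem_cj hr.1
      have hxR : y * r * y⁻¹ ∈ RY := hYRY y hy r hr.2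
      refine ⟨hRYY hxR, fun w hw => ?_⟩
      rcases hz y hy with htop | hfix
      · have hxM : y * r * y⁻¹ ∈ normalizer (DS ρ S : Set H) := hSM (hRS hxR).1
        have h1 : ρ (y * r * y⁻¹) w - w ∈ C := sub_mem (hF1C (F1_inv hxM hw)) (hF1C hw)
        refine AddSubgroup.mem_inf.mpr ⟨h1, fun x hx => ?_⟩
        exact (sup_le (fun b hb => h1 b hb) (fun b hb => (hA.conj y).2 _ hmem b hb w) :
          A ⊔ cj y A ≤ stabV ρ (ρ (y * r * y⁻¹) w - w)) (htop.ge (hgY hx))
      · rw [hfix _ hmem w hw, sub_self]; exact zero_mem _)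
    exact fun r hr => (h hr).2
  -- the module
  let Us : AddSubgroup V :=
    { carrier := {w | w ∈ C ⊔ C' ∧ ∀ r ∈ NR, ρ r w - w ∈ U0}
      zero_mem' := ⟨zero_mem _, fun r _ => by rw [map_zero, sub_zero]; exact zero_mem _⟩
      add_mem' := fun {a b} ha hb => ⟨add_mem ha.1 hb.1, fun r hr => by
        rw [map_add, show ρ r a + ρ r b - (a + b) = (ρ r a - a) + (ρ r b - b) by abel]
        exact add_mem (ha.2 r hr) (hb.2 r hr)⟩
      neg_mem' := fun {a} ha => ⟨neg_mem ha.1, fun r hr => by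
        rw [map_neg, show -ρ r a - -a = -(ρ r a - a) by abel]
        exact neg_mem (ha.2 r hr)⟩ }
  have hUsY : ∀ (y : Y), ∀ w ∈ Us, ρ (y : H) w ∈ Us := fun y w hw => by
    refine ⟨by simpa using add_mem (hUi y y.2 w) hw.1, fun r hr => ?_⟩
    have h1 := hw.2 _ (show (y : H)⁻¹ * r * y ∈ NR by simpa using hNRn _ (inv_mem y.2) r hr)
    rw [act_mul, act_mul] at h1
    have h2 := hU0Y y y.2 _ h1
    rw [map_sub, act_act_inv] at h2
    rw [h2]; exact h1
  have hU0Us : U0 ≤ Us := fun w hw => ⟨AddSubgroup.mem_sup_left hw.1, fun r hr => by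
    rw [hU0Y r (hRYY (hNRR hr)) w hw, sub_self]; exact zero_mem _⟩
  have hF1Us : F1 ρ S ≤ Us := fun w hw => ⟨AddSubgroup.mem_sup_left (hF1C hw), fun r hr => hF1U r hr w hw⟩
  set U0' := U0.addSubgroupOf Us
  let σ0 : Y →* AddMonoid.End V := ρ.comp Y.subtype
  let σs : Y →* AddMonoid.End Us := subAct σ0 Us (fun y w hw => hUsY y w hw)
  have hU0'i : ∀ (y : Y), ∀ w ∈ U0', σs y w ∈ U0' := fun y w hw => by
    show ρ (y : H) w.1 ∈ U0
    rw [hU0Y y y.2 w.1 hw]; exact hw
  let σ : Y →* AddMonoid.End (Us ⧸ U0') := quoAct σs U0' hU0'i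
  let π : Us →+ Us ⧸ U0' := QuotientAddGroup.mk' U0'
  have hπs : Function.Surjective π := QuotientAddGroup.mk'_surjective U0'
  have hW : ∀ w : Us ⧸ U0', w + w = 0 := fun w => by
    obtain ⟨v, rfl⟩ := hπs w
    rw [← map_add, show v + v = 0 from Subtype.ext (hV v.1), map_zero]
  let dev : H → (Us →+ V) := fun r =>
    { toFun := fun v => ρ r v.1 - v.1
      map_zero' := by simp
      map_add' := fun a b => by
        show ρ r (a.1 + b.1) - (a.1 + b.1) = _
        rw [map_add]; abel }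
  have hdev : ∀ r ∈ NR, ∀ v ∈ U0', dev r v = 0 := fun r hr v hv =>
    sub_eq_zero.mpr (hU0Y r (hRYY (hNRR hr)) _ hv)
  have dmul : ∀ r ∈ NR, ∀ s ∈ NR, ∀ v : Us, dev (r * s) v = dev r v + dev s v := fun r hr s hs v => by
    show ρ (r * s) v.1 - v.1 = (ρ r v.1 - v.1) + (ρ s v.1 - v.1)
    have h1 := hU0Y r (hRYY (hNRR hr)) _ (v.2.2 s hs)
    rw [map_sub] at h1
    rw [act_mul, show ρ r (ρ s v.1) - v.1 = (ρ r (ρ s v.1) - ρ r v.1) + (ρ r v.1 - v.1) by abel, h1]
    abel
  let N : AddSubgroup (Us ⧸ U0' →+ V) :=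
    { carrier := {f | ∃ r ∈ NR, ∀ v, f (π v) = dev r v}
      zero_mem' := ⟨1, one_mem _, fun v => by
        show (0 : V) = ρ 1 v.1 - v.1
        rw [act_one, sub_self]⟩
      add_mem' := by
        rintro a b ⟨r, hr, ha⟩ ⟨s, hs, hb⟩
        exact ⟨r * s, mul_mem hr hs, fun v => by rw [AddMonoidHom.add_apply, ha, hb, dmul r hr s hs]⟩
      neg_mem' := by
        rintro a ⟨r, hr, ha⟩
        refine ⟨r⁻¹, inv_mem hr, fun v => ?_⟩
        rw [AddMonoidHom.neg_apply, ha, neg_eq_iff_add_eq_zero, ← dmul r hr r⁻¹ (inv_mem hr), mul_inv_cancel]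
        show ρ 1 v.1 - v.1 = 0
        rw [act_one, sub_self] }
  have hN : ∀ y, Sub N (σ y) := by
    rintro y f ⟨r, hr, hf⟩
    refine ⟨(y : H)⁻¹ * r * y, by simpa using hNRn _ (inv_mem y.2) r hr, fun v => ?_⟩
    show f (π (σs y v)) = ρ ((y : H)⁻¹ * r * y) v.1 - v.1
    rw [hf]
    show ρ r (ρ (y : H) v.1) - ρ (y : H) v.1 = ρ ((y : H)⁻¹ * r * y) v.1 - v.1
    have hmem : ρ r (ρ (y : H) v.1) - ρ (y : H) v.1 ∈ U0 := (hUsY y v.1 v.2).2 r hr
    have h := hU0Y _ (inv_mem y.2) _ hmem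
    rw [map_sub, act_inv_act, ← act_mul, ← act_mul] at h
    rw [← h]
  set A' := A.subgroupOf Y
  set C'' := C.addSubgroupOf Us
  set Cb := C''.map π
  have hCb : Cb ≤ fixV σ A' := by
    rintro _ ⟨v, hv, rfl⟩ a ha
    show π (σs a v) = π v
    exact congrArg π (Subtype.ext (hv _ ha))
  -- the offending exponent
  obtain ⟨nA, hnA⟩ := IsPGroup.iff_card.mp hA.1.1.isPGroup
  obtain ⟨nR, hnR⟩ := IsPGroup.iff_card.mp (hA.1.1.isPGroup.to_le (inf_le_left : A ⊓ RY ≤ A))
  have hnle : nR ≤ nA := (Nat.pow_le_pow_iff_right (le_refl 2)).mp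
    (hnR ▸ hnA ▸ card_le_of_le (inf_le_left : A ⊓ RY ≤ A))
  have hlgU : ∀ Z : AddSubgroup Us, U0' ≤ Z → lg (Z.map π) + lg U0' = lg Z := fun Z hZ => by
    have := lg_map (fun m => Subtype.ext (hV m.1)) hW π Z
    rwa [QuotientAddGroup.ker_mk', inf_eq_right.mpr hZ] at this
  have hbest : ∀ W1 : AddSubgroup (Us ⧸ U0'), Inv σ W1 →
      lg W1 + rk N (Cb ⊓ W1) ≤ (nA - nR) + lg (Cb ⊓ W1) + rk N W1 := by
    intro W1 _
    set U1' := W1.comap π
    set U1 := U1'.map Us.subtype with hU1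
    have hk0 : U0' ≤ U1' := fun v hv => by
      show π v ∈ W1
      rw [show π v = 0 from (QuotientAddGroup.eq_zero_iff _).mpr hv]; exact zero_mem _
    set K : Subgroup H := A ⊓ RY ⊓ fixer ρ U1
    have h1 := card_restrict hA.1 U1 (inf_le_left.trans inf_le_left : K ≤ A) (fun w hw x hx => hx.2 w hw)
    have h2 : Nat.card U1 = 2 ^ lg U1' := by
      rw [← card_eq_two_pow (fun m => Subtype.ext (hV m.1)) U1']
      exact (Nat.card_congr (U1'.equivMapOfInjective _ Us.subtype_injective).toEquiv).symm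
    have h3 : Nat.card ↥(fixV ρ A ⊓ U1) ≤ 2 ^ lg (C'' ⊓ U1') := by
      rw [← card_eq_two_pow (fun m => Subtype.ext (hV m.1))]
      refine Nat.card_le_card_of_injective (fun w => ⟨⟨w.1, ?_⟩, w.2.1, ?_⟩) (fun a b h =>
        Subtype.ext (congrArg (fun e : ↥(C'' ⊓ U1') => ((e : Us) : V)) h))
      · obtain ⟨v, -, hv⟩ := w.2.2; rw [← hv]; exact v.2
      · obtain ⟨v, hv, hve⟩ := w.2.2
        rwa [show (⟨w.1, _⟩ : Us) = v from Subtype.ext hve.symm]
    have hmap1 : U1'.map π = W1 := AddSubgroup.map_comap_eq_self_of_surjective hπs W1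
    have hmap2 : (C'' ⊓ U1').map π = Cb ⊓ W1 := by
      refine le_antisymm (le_inf (AddSubgroup.map_mono inf_le_left) ((AddSubgroup.map_mono inf_le_right).trans
        hmap1.le)) ?_
      rintro _ ⟨⟨v, hv, rfl⟩, hvW⟩
      exact ⟨v, ⟨hv, hvW⟩, rfl⟩
    have e1 : lg W1 + lg U0' = lg U1' := by rw [← hlgU U1' hk0, hmap1]
    have e2 : lg (Cb ⊓ W1) + lg U0' = lg (C'' ⊓ U1') := by
      rw [← hlgU (C'' ⊓ U1') (le_inf (fun v hv => hv.1) hk0), hmap2]
    -- the part of `A` acting into the fixed points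
    let τ : ↥(A ⊓ RY) →* Multiplicative (W1 →+ V) :=
      { toFun := fun r => Multiplicative.ofAdd
          ((QuotientAddGroup.lift U0' (dev r) (hdev r (hANR r.2))).comp W1.subtype)
        map_one' := by
          refine congrArg Multiplicative.ofAdd (AddMonoidHom.ext fun w => ?_)
          obtain ⟨v, hv⟩ := hπs w.1
          show QuotientAddGroup.lift U0' (dev 1) (hdev 1 (one_mem _)) w.1 = 0
          rw [← hv]
          show ρ 1 v.1 - v.1 = 0
          rw [act_one, sub_self]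
        map_mul' := fun r s => by
          refine congrArg Multiplicative.ofAdd (AddMonoidHom.ext fun w => ?_)
          obtain ⟨v, hv⟩ := hπs w.1
          show QuotientAddGroup.lift U0' (dev ((r : H) * s)) (hdev _ (mul_mem (hANR r.2) (hANR s.2))) w.1 =
            QuotientAddGroup.lift U0' (dev r) (hdev _ (hANR r.2)) w.1 +
              QuotientAddGroup.lift U0' (dev s) (hdev _ (hANR s.2)) w.1
          rw [← hv]
          exact dmul r (hANR r.2) s (hANR s.2) v }
    have hker : Nat.card τ.ker ≤ Nat.card K := by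
      refine Nat.card_le_card_of_injective (fun r => ⟨r.1.1, r.1.2, fun w hw => ?_⟩)
        fun a b h => Subtype.ext (Subtype.ext (congrArg (fun e : K => (e : H)) h))
      obtain ⟨v, hv, rfl⟩ := hw
      have := congrArg (fun e : Multiplicative (W1 →+ V) => (Multiplicative.toAdd e) ⟨π v, hv⟩) r.2
      exact sub_eq_zero.mp this
    let res : (W1 →+ V) →+ (↥(Cb ⊓ W1) →+ V) :=
      { toFun := fun f => f.comp (AddSubgroup.inclusion inf_le_right)
        map_zero' := rfl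
        map_add' := fun _ _ => rfl }
    have hrange : Nat.card τ.range ≤ 2 ^ lg (N.map (rest W1) ⊓ res.ker) := by
      rw [← card_eq_two_pow (hom_add_self (fun x => Subtype.ext (hW x.1)))]
      refine Nat.card_le_card_of_injective (fun e => ⟨Multiplicative.toAdd e.1, ?_⟩)
        fun a b h => Subtype.ext (congrArg (fun e : ↥(N.map (rest W1) ⊓ res.ker) => (e.1 : W1 →+ V)) h)
      obtain ⟨r, hr⟩ := e.2
      rw [← hr]
      refine ⟨⟨QuotientAddGroup.lift U0' (dev r) (hdev r (hANR r.2)), ⟨r, hANR r.2, fun v => rfl⟩, rfl⟩, ?_⟩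
      refine AddMonoidHom.ext fun w => ?_
      obtain ⟨v, hv, hve⟩ := w.2.1
      show QuotientAddGroup.lift U0' (dev r) (hdev _ (hANR r.2)) w.1 = 0
      rw [← hve]
      exact sub_eq_zero.mpr (hv r.1 r.2.1)
    have hq : rk N (Cb ⊓ W1) + lg (N.map (rest W1) ⊓ res.ker) = rk N W1 := by
      have h := lg_map (hom_add_self (fun x => Subtype.ext (hW x.1)))
        (hom_add_self (fun x => Subtype.ext (hW x.1))) res (N.map (rest W1))
      rwa [AddSubgroup.map_map, show res.comp (rest W1) = rest (Cb ⊓ W1) from rfl] at h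
    have hAR : Nat.card ↥(A ⊓ RY) ≤ Nat.card K * 2 ^ lg (N.map (rest W1) ⊓ res.ker) := by
      have h := τ.ker.card_eq_card_quotient_mul_card_subgroup
      rw [Nat.card_congr (QuotientGroup.quotientKerEquivRange τ).toEquiv] at h
      rw [h, mul_comm]
      exact Nat.mul_le_mul hker hrange
    set k := lg (N.map (rest W1) ⊓ res.ker)
    have h4 : 2 ^ (lg U1' + nR) ≤ 2 ^ (nA + lg (C'' ⊓ U1') + k) := by
      rw [pow_add, pow_add, pow_add, ← h2, ← hnA, ← hnR]
      calc Nat.card U1 * Nat.card ↥(A ⊓ RY) ≤ Nat.card U1 * (Nat.card K * 2 ^ k) :=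
            Nat.mul_le_mul_left _ hAR
        _ = Nat.card U1 * Nat.card K * 2 ^ k := by ring
        _ ≤ Nat.card A * Nat.card ↥(fixV ρ A ⊓ U1) * 2 ^ k := Nat.mul_le_mul_right _ h1
        _ ≤ _ := Nat.mul_le_mul_right _ (Nat.mul_le_mul_left _ h3)
    have h5 := (Nat.pow_le_pow_iff_right (le_refl 2)).mp h4
    omega
  set E : AddSubgroup (Us ⧸ U0') := ((F1 ρ S).addSubgroupOf Us).map π with hE
  by_cases hdef : rk N E < lg E
  · -- an offender on a simple submodule
    obtain ⟨X, hXne, hXi, hXs, hXoff⟩ := exists_simple_offender σ hW hV N hN A' Cb hCb (nA - nR) hbest hdef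
    set τ := subAct σ X hXi
    have htriv : ¬ τ.ker = ⊤ := by
      intro htop
      obtain ⟨⟨w, hw⟩, hw0⟩ := AddSubgroup.ne_bot_iff_exists_ne_zero.mp hXne
      obtain ⟨v, rfl⟩ := hπs w
      have hfix : ∀ y ∈ Y, ρ y v.1 - v.1 ∈ U0 := fun y hy => by
        have h : σ ⟨y, hy⟩ (π v) = π v :=
          congrArg (fun f : AddMonoid.End X => ((f ⟨π v, hw⟩ : X) : Us ⧸ U0'))
            (htop.ge (mem_top (⟨y, hy⟩ : Y)) : τ ⟨y, hy⟩ = 1)
        have h' : -(σs ⟨y, hy⟩ v) + v ∈ U0' := QuotientAddGroup.eq.mp h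
        have h'' : -(ρ y v.1) + v.1 ∈ U0 := h'
        simpa [sub_eq_add_neg, add_comm] using neg_mem h''
      refine hw0 (Subtype.ext ?_)
      show π v = 0
      refine (QuotientAddGroup.eq_zero_iff _).mpr ?_
      obtain ⟨c, hc, c', hc', hcc⟩ := AddSubgroup.mem_sup.mp v.2.1
      show v.1 ∈ U0
      rw [← hcc]
      -- each component is fixed modulo `U0`
      have key : ∀ x : V, (∀ a ∈ A, ρ a x - x ∈ U0) → (∀ b ∈ cj g A, ρ b x - x ∈ U0) →
          ∀ a ∈ A, ρ (g * a * g⁻¹) x - x = ρ a x - x := by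
        intro x hxA hxB a ha
        let Sd : Subgroup H :=
          { carrier := {y | y ∈ Y ∧ ρ y x - x ∈ U0}
            one_mem' := ⟨one_mem _, by rw [act_one, sub_self]; exact zero_mem _⟩
            mul_mem' := fun {p q} hp hq => ⟨mul_mem hp.1 hq.1, by
              have h1 := hU0Y p hp.1 _ hq.2
              rw [map_sub] at h1
              rw [act_mul, show ρ p (ρ q x) - x = (ρ p (ρ q x) - ρ p x) + (ρ p x - x) by abel, h1]
              exact add_mem hq.2 hp.2⟩
            inv_mem' := fun {p} hp => ⟨inv_mem hp.1, by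
              have h1 := hU0Y p⁻¹ (inv_mem hp.1) _ hp.2
              rw [map_sub, act_inv_act] at h1
              rw [show ρ p⁻¹ x - x = -(x - ρ p⁻¹ x) by abel, h1]
              exact neg_mem hp.2⟩ }
        have hall : ∀ y ∈ Y, ρ y x - x ∈ U0 := fun y hy =>
          ((sup_le (fun p hp => ⟨hAY hp, hxA p hp⟩) (fun p hp => ⟨hgY hp, hxB p hp⟩) :
            A ⊔ cj g A ≤ Sd) (hgen.ge hy)).2
        have hd : ∀ p ∈ Y, ∀ q ∈ Y, ρ (p * q) x - x = (ρ p x - x) + (ρ q x - x) := fun p hp q hq => by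
          have h1 := hU0Y p hp _ (hall q hq)
          rw [map_sub] at h1
          rw [act_mul, show ρ p (ρ q x) - x = (ρ p (ρ q x) - ρ p x) + (ρ p x - x) by abel, h1]
          abel
        have h0 : (ρ g x - x) + (ρ g⁻¹ x - x) = 0 := by
          rw [← hd g hg g⁻¹ (inv_mem hg), mul_inv_cancel, act_one, sub_self]
        rw [hd (g * a) (mul_mem hg (hAY ha)) g⁻¹ (inv_mem hg), hd g hg a (hAY ha),
          show ρ g x - x + (ρ a x - x) + (ρ g⁻¹ x - x) = (ρ a x - x) + ((ρ g x - x) + (ρ g⁻¹ x - x)) by abel,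
          h0, add_zero]
      have hc'A : ∀ a ∈ A, ρ a c' - c' ∈ U0 := fun a ha => by
        have h := hfix a (hAY ha)
        rw [← hcc, map_add, hc a ha] at h
        simpa using h
      have hcB : ∀ b ∈ cj g A, ρ b c - c ∈ U0 := fun b hb => by
        have h := hfix b (hgY hb)
        rw [← hcc, map_add, hc' b hb] at h
        simpa using h
      have hc'B : ∀ b ∈ cj g A, ρ b c' - c' ∈ U0 := fun b hb => by
        rw [hc' b hb, sub_self]; exact zero_mem _
      have hcA : ∀ a ∈ A, ρ a c - c ∈ U0 := fun a ha => by rw [hc a ha, sub_self]; exact zero_mem _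
      refine add_mem (AddSubgroup.mem_inf.mpr ⟨hc, ?_⟩) (AddSubgroup.mem_inf.mpr ⟨?_, hc'⟩)
      · rintro _ ⟨a, ha, rfl⟩
        show ρ (g * a * g⁻¹) c = c
        have h := key c hcA hcB a ha
        rw [hc a ha, sub_self] at h
        exact sub_eq_zero.mp h
      · intro a ha
        have h := key c' hc'A hc'B a ha
        rw [hc' _ (H48.conj_mem_cj ha), sub_self] at h
        exact sub_eq_zero.mp h.symm
    have hXne' : (⊤ : AddSubgroup X) ≠ ⊥ := fun h => hXne ((AddSubgroup.eq_bot_iff_forall _).mpr fun w hw => by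
      have h2 : (⟨w, hw⟩ : X) = 0 := AddSubgroup.mem_bot.mp (h.le (AddSubgroup.mem_top (⟨w, hw⟩ : X)))
      exact congrArg (fun e : X => (e : Us ⧸ U0')) h2)
    have hXsimp : ∀ Z : AddSubgroup X, (∀ y, ∀ w ∈ Z, τ y w ∈ Z) → Z = ⊥ ∨ Z = ⊤ := fun Z hZ => by
      rcases hXs (Z.map X.subtype) (AddSubgroup.map_subtype_le Z) (by
        rintro y _ ⟨z, hz, rfl⟩; exact ⟨τ y z, hZ y z hz, rfl⟩) with h | h
      · exact Or.inl ((AddSubgroup.map_eq_bot_iff_of_injective _ X.subtype_injective).mp h)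
      · refine Or.inr (eq_top_iff.mpr fun z _ => ?_)
        obtain ⟨z', hz', hzz⟩ := h.ge z.2
        rwa [show z = z' from Subtype.ext hzz.symm]
    have hcoreX := core_image_of_simple τ (fun w => Subtype.ext (hW w.1)) hXne' hXsimp
    -- the kernel meets the Sylow subgroup in the 2-core
    let SY : Sylow 2 Y := hS0.toSylow
    set S0' := S0.subgroupOf Y
    have hK : S0' ⊓ τ.ker ≤ pCore 2 Y := by
      by_cases hfull : τ.ker ⊔ S0' = ⊤
      · exfalso
        refine htriv (eq_top_iff.mpr fun y _ => (QuotientGroup.eq_one_iff y).mp ?_)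
        have hp : IsPGroup 2 (Y ⧸ τ.ker) := IsPGroup.of_surjective hS0.toSylow.isPGroup'
          ((QuotientGroup.mk' τ.ker).comp (hS0.toSylow : Subgroup Y).subtype) fun z => by
            obtain ⟨z, rfl⟩ := QuotientGroup.mk'_surjective τ.ker z
            obtain ⟨k, hk, s, hs, rfl⟩ := mem_sup_of_normal_left.mp (hfull.ge (mem_top z))
            refine ⟨⟨s, hs⟩, ?_⟩
            show QuotientGroup.mk' τ.ker s = QuotientGroup.mk' τ.ker (k * s)
            rw [map_mul, show QuotientGroup.mk' τ.ker k = 1 from (QuotientGroup.eq_one_iff k).mpr hk, one_mul]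
        exact (mem_bot.mp (hcoreX ▸ Cores.pCore_eq_top_iff.mpr hp ▸ mem_top _) :)
      have hsub' : ∀ X' : Subgroup Y, X' ≠ ⊤ → S0' ≤ X' → ∀ x ∈ X', (x : H) ∈ St ρ S := by
        intro X' hX' hSX x hx
        refine hsub (X'.map Y.subtype) (fun s hs => ⟨⟨s, hs.2⟩, hSX hs, rfl⟩) (map_subtype_le X')
          (fun h => hX' ?_) ⟨x, hx, rfl⟩
        rw [← comap_map_eq_self_of_injective Y.subtype_injective X', h]
        exact subgroupOf_self Y
      have hfr : normalizer ((S0' ⊓ τ.ker : Subgroup Y) : Set Y) ⊔ τ.ker = ⊤ := frattini_inf SY τ.ker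
      have htop : normalizer ((S0' ⊓ τ.ker : Subgroup Y) : Set Y) = ⊤ := by
        by_contra h
        have hle' : S0' ≤ normalizer ((S0' ⊓ τ.ker : Subgroup Y) : Set Y) :=
          le_normalizer_iff.mpr fun s hs y hy =>
            mem_inf.mpr ⟨mul_mem (mul_mem hs hy.1) (inv_mem hs), τ.normal_ker.conj_mem y hy.2 s⟩
        refine hYst fun y hy => ?_
        have h1 : (⊤ : Subgroup Y) ≤ (St ρ S).subgroupOf Y := hfr ▸ sup_le
          (fun x hx => hsub' _ h hle' x hx)
          (fun x hx => hsub' _ hfull le_sup_right x (mem_sup_left hx))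
        exact h1 (mem_top (⟨y, hy⟩ : Y))
      haveI := normalizer_eq_top_iff.mp htop
      exact Cores.le_pCore (hS0.toSylow.isPGroup'.to_le inf_le_left)
    have hAker : ∀ a ∈ A' ⊓ τ.ker, (a : H) ∈ RY := fun a ha =>
      ⟨a, hK ⟨hAS ha.1, ha.2⟩, rfl⟩
    refine false_of_image ih τ (fun w => Subtype.ext (hW w.1)) hcoreX (fun h => hinv h.of_subgroup)
      (A := A') (fun a ha => by rw [show a * a = 1 from Subtype.ext (hA.1.1 _ ha), map_one]) (fun hle => ?_) ?_ ?_
    · exact hAc ⟨RY, (Cores.pCore_isPGroup (p := 2) (G := Y)).map _, hRYY,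
        fun y hy => mem_normalizer_iff.mpr fun x => ⟨fun hx => hYRY y hy x hx,
          fun hx => by simpa [mul_assoc] using hYRY _ (inv_mem hy) _ hx⟩,
        fun a ha => hAker ⟨a, hAY ha⟩ ⟨ha, hle ha⟩⟩
    · have h1 : Nat.card ↥(A' ⊓ τ.ker) ≤ 2 ^ nR := hnR ▸ Nat.card_le_card_of_injective
        (fun a => ⟨((a : Y) : H), a.2.1, hAker a a.2⟩) (fun a b h => Subtype.ext (Subtype.ext
          (congrArg (fun e : ↥(A ⊓ RY) => (e : H)) h)))
      have h2 : Nat.card A' = 2 ^ nA := hnA ▸ Nat.card_congr (subgroupOfEquivOfLe hAY).toEquiv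
      have h3 : 2 ^ lg (X ⊓ fixV σ A') ≤ Nat.card (fixV τ A') := by
        rw [← card_eq_two_pow hW]
        exact Nat.card_le_card_of_injective (fun w => ⟨⟨w.1, w.2.1⟩, fun x hx => Subtype.ext (w.2.2 x hx)⟩)
          fun a b h => Subtype.ext (congrArg (fun e : fixV τ A' => ((e : X) : Us ⧸ U0')) h)
      rw [card_eq_two_pow hW X, h2]
      calc 2 ^ lg X * Nat.card ↥(A' ⊓ τ.ker) ≤ 2 ^ lg X * 2 ^ nR := Nat.mul_le_mul_left _ h1
        _ ≤ 2 ^ (nA + lg (X ⊓ fixV σ A')) := by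
            rw [← pow_add]; exact Nat.pow_le_pow_right two_pos (by omega)
        _ ≤ 2 ^ nA * Nat.card (fixV τ A') := by rw [pow_add]; exact Nat.mul_le_mul_left _ h3
    · have e1 : Nat.card Y < Nat.card H :=
        lt_of_le_of_ne (card_le_card_group Y) fun h => hY (eq_top_of_card_eq Y h)
      have e2 : Nat.card X ≤ Nat.card (Us ⧸ U0') := Nat.card_le_card_of_injective _ Subtype.val_injective
      have e3 : Nat.card (Us ⧸ U0') ≤ Nat.card Us := Nat.card_le_card_of_surjective _ hπs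
      have e4 : Nat.card Us ≤ Nat.card V := Nat.card_le_card_of_injective _ Subtype.val_injective
      omega
  -- an offender on the attached module
  set M := normalizer (DS ρ S : Set H)
  let α : M →* AddMonoid.End (F1 ρ S) :=
    { toFun := fun m =>
        { toFun := fun w => ⟨ρ m w.1, F1_inv m.2 w.2⟩
          map_zero' := Subtype.ext (map_zero _)
          map_add' := fun a b => Subtype.ext (map_add _ a.1 b.1) }
      map_one' := AddMonoidHom.ext fun w => Subtype.ext (act_one w.1)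
      map_mul' := fun a b => AddMonoidHom.ext fun w => Subtype.ext (act_mul (a : H) b w.1) }
  have hSylM : IsSylowIn 2 (S.subgroupOf M) ⊤ :=
    ⟨le_top, hS.isPGroup.comap_subtype, by rw [relIndex_top_right]; exact (isSylowIn_of_top hS hSM).ndvd⟩
  have hgenF : AddSubgroup.closure {w | ∃ m, ∃ z ∈ fixV α (S.subgroupOf M), α m z = w} = ⊤ := by
    refine eq_top_iff.mpr fun w _ => ?_
    suffices h : ∀ (x : V) (hx : x ∈ F1 ρ S), (⟨x, hx⟩ : F1 ρ S) ∈
        AddSubgroup.closure {w | ∃ m, ∃ z ∈ fixV α (S.subgroupOf M), α m z = w} from h w.1 w.2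
    intro x hx
    refine AddSubgroup.closure_induction (p := fun x hx => (⟨x, hx⟩ : F1 ρ S) ∈
        AddSubgroup.closure {w | ∃ m, ∃ z ∈ fixV α (S.subgroupOf M), α m z = w}) ?_ ?_ ?_ ?_ hx
    · rintro _ ⟨m, hm, z, hz, rfl⟩
      exact AddSubgroup.subset_closure ⟨⟨m, hm⟩, ⟨z, fix_le_F1 S hz⟩,
        fun s hs => Subtype.ext (hz _ hs), rfl⟩
    · exact zero_mem _
    · intro a b ha hb h1 h2; exact add_mem h1 h2
    · intro a ha h1; exact neg_mem h1
  have hNRM : NR ≤ M := hNRR.trans (hRS.trans (inf_le_left.trans hSM))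
  set E' := NR.subgroupOf M
  have hcardE : Nat.card (F1 ρ S) = 2 ^ lg E * Nat.card ↥(((F1 ρ S).addSubgroupOf Us) ⊓ U0') := by
    have h := lg_map (fun m => Subtype.ext (hV m.1)) hW π ((F1 ρ S).addSubgroupOf Us)
    rw [QuotientAddGroup.ker_mk'] at h
    rw [card_eq_two_pow (fun m => Subtype.ext (hV m.1)), ← pow_add,
      Nat.card_congr (AddSubgroup.addSubgroupOfEquivOfLe hF1Us).symm.toEquiv,
      card_eq_two_pow (fun m => Subtype.ext (hV m.1)), hE, h]
  -- restriction to the image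
  let ε : ↥E' →* Multiplicative (E →+ V) :=
    { toFun := fun r => Multiplicative.ofAdd
        ((QuotientAddGroup.lift U0' (dev ((r : M) : H)) (hdev _ r.2)).comp E.subtype)
      map_one' := by
        refine congrArg Multiplicative.ofAdd (AddMonoidHom.ext fun w => ?_)
        obtain ⟨v, hv⟩ := hπs w.1
        show QuotientAddGroup.lift U0' (dev 1) (hdev 1 (one_mem _)) w.1 = 0
        rw [← hv]
        show ρ 1 v.1 - v.1 = 0
        rw [act_one, sub_self]
      map_mul' := fun r s => by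
        refine congrArg Multiplicative.ofAdd (AddMonoidHom.ext fun w => ?_)
        obtain ⟨v, hv⟩ := hπs w.1
        show QuotientAddGroup.lift U0' (dev (((r : M) : H) * ((s : M) : H))) (hdev _ (mul_mem r.2 s.2)) w.1 =
          QuotientAddGroup.lift U0' (dev ((r : M) : H)) (hdev _ r.2) w.1 +
            QuotientAddGroup.lift U0' (dev ((s : M) : H)) (hdev _ s.2) w.1
        rw [← hv]
        exact dmul _ r.2 _ s.2 v }
  have hkey : Nat.card (N.map (rest E)) * Nat.card ↥(E' ⊓ α.ker) ≤ Nat.card E' := by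
    have h := ε.ker.card_eq_card_quotient_mul_card_subgroup
    rw [Nat.card_congr (QuotientGroup.quotientKerEquivRange ε).toEquiv] at h
    rw [h]
    refine Nat.mul_le_mul ?_ ?_
    · refine Nat.card_le_card_of_injective (fun f => ⟨Multiplicative.ofAdd f.1, ?_⟩)
        fun a b h => Subtype.ext (Multiplicative.ofAdd.injective (congrArg (fun e : ε.range => e.1) h))
      obtain ⟨f, ⟨r, hr, hf⟩, hfe⟩ := f.2
      refine ⟨⟨⟨r, hNRM hr⟩, hr⟩, congrArg Multiplicative.ofAdd (AddMonoidHom.ext fun w => ?_)⟩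
      obtain ⟨v, hv⟩ := hπs w.1
      rw [← hfe]
      show QuotientAddGroup.lift U0' (dev r) (hdev r hr) w.1 = f w.1
      rw [← hv, hf]
      rfl
    · refine Nat.card_le_card_of_injective (fun r => ⟨⟨r.1, r.2.1⟩, ?_⟩)
        fun a b h => Subtype.ext (congrArg (fun e : ε.ker => ((e : E') : M)) h)
      refine congrArg Multiplicative.ofAdd (AddMonoidHom.ext fun w => ?_)
      obtain ⟨v, hv, hve⟩ := w.2
      show QuotientAddGroup.lift U0' (dev ((r : M) : H)) (hdev _ r.2.1) w.1 = 0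
      rw [← hve]
      exact sub_eq_zero.mpr (congrArg (fun f : AddMonoid.End (F1 ρ S) => ((f ⟨v.1, hv⟩ : F1 ρ S) : V)) r.2.2)
  rw [not_lt] at hdef
  have hF1lt : Nat.card (F1 ρ S) < Nat.card V := by
    refine lt_of_le_of_ne (Nat.card_le_card_of_injective _ Subtype.val_injective) fun h => hA.1.2.1 ?_
    refine (eq_bot_iff_forall _).mpr fun a ha => end_ext hρ fun w => ?_
    rw [act_one]
    exact hF1C (AddSubgroup.eq_top_of_card_eq _ h ▸ AddSubgroup.mem_top w) a ha
  refine false_of_image ih α (fun w => Subtype.ext (hV w.1)) (core_image_of_generated α hSylM hgenF)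
    (fun h => hinv h.of_subgroup) (A := E') ?_ ?_ ?_ ?_
  · intro r hr
    refine AddMonoidHom.ext fun w => Subtype.ext ?_
    show ρ (((r : M) : H) * ((r : M) : H)) w.1 = w.1
    have h1 := hF1U ((r : M) : H) hr w.1 w.2
    have h2 := hU0Y ((r : M) : H) (hRYY (hNRR hr)) _ h1
    rw [map_sub, sub_eq_iff_eq_add] at h2
    rw [act_mul, h2, show ρ ((r : M) : H) w.1 - w.1 + ρ ((r : M) : H) w.1 =
      (ρ ((r : M) : H) w.1 + ρ ((r : M) : H) w.1) - (w.1 + w.1) + w.1 by abel, hV, hV, sub_self, zero_add]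
  · intro hle
    have hfix : ∀ r ∈ NR, ∀ w (hw : w ∈ F1 ρ S), ρ r w = w := fun r hr w hw =>
      congrArg (fun f : AddMonoid.End (F1 ρ S) => ((f ⟨w, hw⟩ : F1 ρ S) : V))
        (hle (show (⟨r, hNRM hr⟩ : M) ∈ E' from hr))
    have h0 : rk N E = 0 := by
      refine (lg_eq_zero (hom_add_self' hW)).mpr ((AddSubgroup.eq_bot_iff_forall _).mpr ?_)
      rintro _ ⟨f, ⟨r, hr, hf⟩, rfl⟩
      refine AddMonoidHom.ext fun w => ?_
      obtain ⟨v, hv, hve⟩ := w.2
      show f w.1 = 0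
      rw [← hve, hf]
      exact sub_eq_zero.mpr (hfix r hr _ hv)
    have hEb : E = ⊥ := (lg_eq_zero hW).mp (by omega)
    refine hYst fun y hy => ?_
    have hU : ∀ w ∈ F1 ρ S, w ∈ U0 := fun w hw => by
      have h : π ⟨w, hF1Us hw⟩ ∈ E := ⟨⟨w, hF1Us hw⟩, hw, rfl⟩
      rw [hEb, AddSubgroup.mem_bot] at h
      exact ((QuotientAddGroup.eq_zero_iff (⟨w, hF1Us hw⟩ : Us)).mp h :)
    exact ⟨fun w hw => by rw [hU0Y y hy w (hU w hw)]; exact hw,
      fun w hw => by rw [hU0Y _ (inv_mem hy) w (hU w hw)]; exact hw⟩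
  · rw [hcardE]
    have h1 : Nat.card ↥(((F1 ρ S).addSubgroupOf Us) ⊓ U0') ≤ Nat.card (fixV α E') := by
      refine Nat.card_le_card_of_injective (fun w => ⟨⟨w.1.1, w.2.1⟩, fun r hr => Subtype.ext ?_⟩)
        fun a b h => Subtype.ext (Subtype.ext (congrArg (fun e : fixV α E' => ((e : F1 ρ S) : V)) h))
      exact hU0Y _ (hRYY (hNRR hr)) _ w.2.2
    have h2 : 2 ^ lg E ≤ Nat.card (N.map (rest E)) := by
      rw [card_eq_two_pow (hom_add_self' hW)]; exact Nat.pow_le_pow_right two_pos hdef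
    calc 2 ^ lg E * Nat.card ↥(((F1 ρ S).addSubgroupOf Us) ⊓ U0') * Nat.card ↥(E' ⊓ α.ker)
        ≤ Nat.card (N.map (rest E)) * Nat.card (fixV α E') * Nat.card ↥(E' ⊓ α.ker) := by gcongr
      _ = Nat.card (N.map (rest E)) * Nat.card ↥(E' ⊓ α.ker) * Nat.card (fixV α E') := by ring
      _ ≤ _ := Nat.mul_le_mul_right _ hkey
  · have : Nat.card M ≤ Nat.card H := card_le_card_group M
    omega

end Cfsg.Agent.Thompson.GenOff
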