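import Mathlib
import Cfsg.Agent.Thompson.GeneralPair
import Cfsg.Agent.Thompson.GeneralKey

/-!
No offender exists for a group with trivial 2-core in which no element of order three is inverted,
acting faithfully on a module in characteristic two.
-/

set_option autoImplicit false
set_option linter.unusedSectionVars false
set_option linter.style.haveILetI false

namespace Cfsg.Agent.Thompson.GenOff

open Subgroup
open H48 (IsSylowIn cj)
open Par (El Inv3 MaxOff Own Home setStab isSylowIn_of_top)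
open Off (fixV stabV act_mul act_one act_inv_act act_act_inv end_ext)

universe u v

variable {H : Type u} [Group H] [Finite H] {V : Type v} [AddCommGroup V] [Finite V]
  {ρ : H →* AddMonoid.End V}

theorem DS_cj (S : Subgroup H) (g : H) : DS ρ (cj g S) = cj g (DS ρ S) := by
  refine le_antisymm (sSup_le fun B hB => ?_) ?_
  · rw [← H48.cj_cj_inv g B]
    refine H48.cj_mono (le_sSup (a := cj g⁻¹ B) (s := {B | QM ρ B ∧ B ≤ S}) ⟨hB.1.conj g⁻¹, ?_⟩)
    rw [← H48.cj_inv_cj g S]
    exact H48.cj_mono hB.2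
  · rw [cj, map_le_iff_le_comap]
    exact sSup_le fun B hB => map_le_iff_le_comap.mp
      (le_sSup (a := cj g B) (s := {B | QM ρ B ∧ B ≤ cj g S}) ⟨hB.1.conj g, H48.cj_mono hB.2⟩)

theorem F1_cj_mem {S : Subgroup H} (g : H) {w : V} (hw : w ∈ F1 ρ S) : ρ g w ∈ F1 ρ (cj g S) := by
  refine AddSubgroup.closure_induction (p := fun w _ => ρ g w ∈ F1 ρ (cj g S)) ?_ ?_ ?_ ?_ hw
  · rintro _ ⟨m, hm, z, hz, rfl⟩
    refine AddSubgroup.subset_closure ⟨g * m * g⁻¹, ?_, ρ g z, ?_, ?_⟩
    · rw [DS_cj, ← H48.cj_normalizer]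
      exact H48.conj_mem_cj hm
    · rintro _ ⟨s, hs, rfl⟩
      show ρ (g * s * g⁻¹) (ρ g z) = ρ g z
      rw [act_mul, act_mul, act_inv_act, hz s hs]
    · rw [← act_mul, ← act_mul]
      congr 2
      group
  · rw [map_zero]; exact zero_mem _
  · intro a b _ _ ha hb; rw [map_add]; exact add_mem ha hb
  · intro a _ ha; rw [map_neg]; exact neg_mem ha

theorem St_cj (S : Subgroup H) (g : H) : St ρ (cj g S) = cj g (St ρ S) := by
  have key : ∀ (T : Subgroup H) (k : H), cj k (St ρ T) ≤ St ρ (cj k T) := by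
    intro T k
    have h1 : ∀ w ∈ F1 ρ (cj k T), ρ k⁻¹ w ∈ F1 ρ T := fun w hw => by
      have := F1_cj_mem k⁻¹ hw
      rwa [H48.cj_inv_cj] at this
    rintro _ ⟨x, hx, rfl⟩
    constructor
    · intro w hw
      show ρ (k * x * k⁻¹) w ∈ _
      rw [act_mul, act_mul]
      exact F1_cj_mem k (hx.1 _ (h1 w hw))
    · intro w hw
      show ρ (k * x * k⁻¹)⁻¹ w ∈ _
      rw [show (k * x * k⁻¹)⁻¹ = k * x⁻¹ * k⁻¹ by group, act_mul, act_mul]
      exact F1_cj_mem k (hx.2 _ (h1 w hw))
  refine le_antisymm ?_ (key S g)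
  have h := H48.cj_mono (g := g) (key (cj g S) g⁻¹)
  rwa [H48.cj_cj_inv, H48.cj_inv_cj] at h

/-- a smaller group of the kind in question has all quadratic offenders in its 2-core -/
theorem inCore_of_small {n : ℕ} (ih : NoGen.{u, v} n) (hn : Nat.card H + Nat.card V ≤ n + 1)
    (hρ : Function.Injective ρ) (hV : ∀ w : V, w + w = 0) (hinv : ¬ Inv3 H) :
    ∀ (c : ℕ) (S Y : Subgroup H), IsSylowIn 2 S ⊤ → Nat.card Y ≤ c → Y ≠ ⊤ → IsSylowIn 2 (S ⊓ Y) Y →
      (∀ X : Subgroup H, S ⊓ Y ≤ X → X ≤ Y → X ≠ Y → X ≤ St ρ S) → ¬ Y ≤ St ρ S →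
      ∀ B, QM ρ B → B ≤ S ⊓ Y → InCore Y B := by
  haveI : Fact (Nat.Prime 2) := ⟨Nat.prime_two⟩
  intro c
  induction c with
  | zero => intro S Y _ hc; exact absurd hc (Nat.not_le.mpr Nat.card_pos)
  | succ c ihc =>
    intro S Y hS hc hY hS0 hsub hYst A hA hAS
    by_contra hAc
    set S0 : Subgroup Y := (S ⊓ Y).subgroupOf Y with hS0def
    set M0 : Subgroup Y := (St ρ S).subgroupOf Y with hM0def
    let PP : Subgroup Y → Prop := fun B => QM ρ (B.map Y.subtype)
    have hS0map : S0.map Y.subtype = S ⊓ Y := map_subgroupOf_eq_of_le inf_le_right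
    have hM0map : M0.map Y.subtype = St ρ S ⊓ Y := subgroupOf_map_subtype _ _
    have hmapcj : ∀ (x : Y) (K : Subgroup Y), (cj x K).map Y.subtype = cj (x : H) (K.map Y.subtype) := by
      intro x K
      rw [cj, cj, Subgroup.map_map, Subgroup.map_map]
      rfl
    have hown : Own S0 M0 := by
      refine ⟨⟨le_top, hS0.isPGroup.comap_subtype, ?_⟩, fun h => hYst (subgroupOf_eq_top.mp h), ?_, ?_⟩
      · rw [relIndex_top_right]; exact hS0.ndvd
      · intro s hs
        exact normalizer_le_St S (le_normalizer_DS S (hs : (s : H) ∈ S ⊓ Y).1)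
      · intro X hX hSX x hx
        refine hsub (X.map Y.subtype) (fun s hs => ⟨⟨s, hs.2⟩, hSX hs, rfl⟩) (map_subtype_le X)
          (fun h => hX ?_) ⟨x, hx, rfl⟩
        rw [← comap_map_eq_self_of_injective Y.subtype_injective X, h]
        exact subgroupOf_self Y
    have hconj : ∀ B, PP B → ∀ x : Y, PP (cj x B) := fun B hB x => by
      show QM ρ ((cj x B).map Y.subtype)
      rw [hmapcj]
      exact hB.conj _
    have hsmall : SmallOK PP := by
      intro S' M' Y' hown' hY' hS'Y' hsub' hY'M' B hB hBS'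
      obtain ⟨x, -, hx⟩ := hown.1.exists_conj hown'.1
      have hM' : M' = cj x M0 := by
        have h := hown.conj x
        rw [hx] at h
        exact hown'.unique h
      set S'' := cj (x : H) S
      set Y'' := Y'.map Y.subtype
      have hY''Y : Y'' ≤ Y := map_subtype_le _
      have hYx : cj (x : H) Y = Y := H48.cj_eq_of_mem_normalizer (le_normalizer x.2)
      have hS'map : S'.map Y.subtype = S'' ⊓ Y := by
        rw [← hx, hmapcj, hS0map, cj, Subgroup.map_inf _ _ _ (MulAut.conj (x : H)).injective]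
        exact congrArg (S'' ⊓ ·) hYx
      have hM'map : M'.map Y.subtype = St ρ S'' ⊓ Y := by
        rw [hM', hmapcj, hM0map, cj, Subgroup.map_inf _ _ _ (MulAut.conj (x : H)).injective, St_cj]
        exact congrArg (cj (x : H) (St ρ S) ⊓ ·) hYx
      have he : S'' ⊓ Y'' = (S' ⊓ Y').map Y.subtype := by
        rw [Subgroup.map_inf _ _ _ Y.subtype_injective, hS'map, inf_assoc, inf_eq_right.mpr hY''Y]
      have hlt : Nat.card Y'' < Nat.card Y := by
        rw [card_map_of_injective Y.subtype_injective]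
        exact lt_of_le_of_ne (card_le_card_group Y') fun h => hY' (eq_top_of_card_eq Y' h)
      have hsy : IsSylowIn 2 (S'' ⊓ Y'') Y'' := by
        refine ⟨inf_le_right, ?_, ?_⟩
        · rw [he]; exact hS'Y'.isPGroup.map _
        · rw [he, relIndex_map_map_of_injective _ _ Y.subtype_injective]; exact hS'Y'.ndvd
      have hcore := ihc S'' Y'' (Par.cj_top (x : H) ▸ hS.cj (x : H))
        (by omega) (fun h => hY (top_le_iff.mp (h ▸ hY''Y))) hsy ?_ ?_ (B.map Y.subtype) hB
        (he ▸ Subgroup.map_mono hBS')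
      · obtain ⟨Q, hQ, hQY, hYQ, hBQ⟩ := hcore
        set Q' := Q.subgroupOf Y
        have hQ'Y' : Q' ≤ Y' := fun q hq => by
          obtain ⟨y, hy, hye⟩ := hQY hq
          rwa [show q = y from Subtype.ext hye.symm]
        have hn' : (Q'.subgroupOf Y').Normal := ⟨fun q hq y => by
          exact (mem_normalizer_iff.mp (hYQ ⟨y.1, y.2, rfl⟩) _).mp hq⟩
        haveI := hn'
        intro b hb
        exact ⟨⟨b, (hBS' hb).2⟩, Cores.le_pCore (N := Q'.subgroupOf Y') (hQ.comap_subtype.comap_subtype)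
          (show (⟨b, (hBS' hb).2⟩ : Y') ∈ Q'.subgroupOf Y' from hBQ ⟨b, hb, rfl⟩), rfl⟩
      · intro X hX hXY hXne
        have hXY' : X ≤ Y := hXY.trans hY''Y
        have h1 : X.subgroupOf Y ≤ M' := by
          refine hsub' _ (fun s hs => hX (he ▸ ⟨s, hs, rfl⟩)) (fun s hs => ?_) fun h => hXne ?_
          · obtain ⟨y, hy, hye⟩ := hXY (hs : (s : H) ∈ X)
            rwa [show s = y from Subtype.ext hye.symm]
          · rw [← map_subgroupOf_eq_of_le hXY', h]
        intro z hz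
        exact (hM'map ▸ ⟨⟨z, hXY' hz⟩, h1 hz, rfl⟩ : z ∈ St ρ S'' ⊓ Y).1
      · intro hle
        refine hY'M' fun y hy => ?_
        have : (y : H) ∈ St ρ S'' ⊓ Y := ⟨hle ⟨y, hy, rfl⟩, y.2⟩
        rw [← hM'map] at this
        obtain ⟨m, hm, hme⟩ := this
        rwa [show y = m from Subtype.ext hme.symm]
    set A' := A.subgroupOf Y
    have hA'map : A'.map Y.subtype = A := map_subgroupOf_eq_of_le (hAS.trans inf_le_right)
    have hgood : Good PP A' := ⟨show QM ρ _ from hA'map.symm ▸ hA, fun h => hAc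
      ⟨(pCore 2 Y).map Y.subtype, (Cores.pCore_isPGroup (p := 2) (G := Y)).map _, map_subtype_le _,
        fun y hy => mem_normalizer_iff.mpr fun z => by
          constructor
          · rintro ⟨q, hq, rfl⟩
            exact ⟨⟨y, hy⟩ * q * ⟨y, hy⟩⁻¹, (pCore_normal 2 Y).conj_mem q hq _, rfl⟩
          · rintro ⟨q, hq, hqe⟩
            refine ⟨⟨y, hy⟩⁻¹ * q * ⟨y, hy⟩, by simpa using (pCore_normal 2 Y).conj_mem q hq ⟨y, hy⟩⁻¹, ?_⟩
            simp only [Subgroup.subtype_apply, Subgroup.coe_mul, Subgroup.coe_inv] at hqe ⊢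
            rw [hqe]; group,
        fun a ha => ⟨⟨a, (hAS ha).2⟩, h ha, rfl⟩⟩⟩
    have hA'S : A' ≤ S0 := fun a ha => hAS (ha : (a : H) ∈ A)
    have hhome : Home A' M0 := exists_home PP hconj
      (fun B hB => (hB.1.1.isPGroup).of_equiv (B.equivMapOfInjective Y.subtype Y.subtype_injective).symm)
      hsmall hown hgood hA'S
    -- a conjugate outside
    obtain ⟨g, hg⟩ : ∃ g : Y, ¬ cj g A' ≤ M0 := by
      by_contra hcon
      push Not at hcon
      set N : Subgroup Y := normalClosure (A' : Set Y)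
      have hNM : N ≤ M0 := by
        refine (Subgroup.closure_le _).mpr fun z hz => ?_
        obtain ⟨a, ha, hc'⟩ := Group.mem_conjugatesOfSet_iff.mp hz
        obtain ⟨w, rfl⟩ := isConj_iff.mp hc'
        exact hcon w (H48.conj_mem_cj ha)
      have hfr : normalizer ((S0 ⊓ N : Subgroup Y) : Set Y) ⊔ N = ⊤ := frattini_inf hS0.toSylow N
      have hle : S0 ≤ normalizer ((S0 ⊓ N : Subgroup Y) : Set Y) :=
        le_normalizer_iff.mpr fun s hs y hy =>
          mem_inf.mpr ⟨mul_mem (mul_mem hs hy.1) (inv_mem hs),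
            (inferInstance : N.Normal).conj_mem y hy.2 s⟩
      have htop : normalizer ((S0 ⊓ N : Subgroup Y) : Set Y) = ⊤ := by
        by_contra h
        exact hown.2.1 (top_le_iff.mp (hfr ▸ sup_le (hown.2.2.2 _ h hle) hNM))
      haveI := normalizer_eq_top_iff.mp htop
      exact hgood.2 (fun a ha => Cores.le_pCore (hown.1.isPGroup.to_le inf_le_left)
        (⟨hA'S ha, subset_normalClosure ha⟩ : a ∈ S0 ⊓ N))
    have hgen' : A' ⊔ cj g A' = ⊤ := by
      by_contra h
      exact hg (le_sup_right.trans (hhome.2.2 _ h le_sup_left))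
    refine false_of_pair ih hn hρ hV hinv hS hY hS0 hsub hYst hA hAS hAc g.2 ?_ ?_
    · have h := congrArg (fun K : Subgroup Y => K.map Y.subtype) hgen'
      simp only [Subgroup.map_sup, hmapcj, hA'map] at h
      rwa [← MonoidHom.range_eq_map, range_subtype] at h
    · intro z hz
      by_cases hzM : cj (⟨z, hz⟩ : Y) A' ≤ M0
      swap
      · left
        have h' : A' ⊔ cj (⟨z, hz⟩ : Y) A' = ⊤ := by
          by_contra h
          exact hzM (le_sup_right.trans (hhome.2.2 _ h le_sup_left))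
        have h := congrArg (fun K : Subgroup Y => K.map Y.subtype) h'
        simp only [Subgroup.map_sup, hmapcj, hA'map] at h
        rwa [← MonoidHom.range_eq_map, range_subtype] at h
      right
      obtain ⟨T1, hT1, hle1⟩ := H48.exists_isSylowIn_ge
        ((hA.1.1.isPGroup.of_equiv (A'.equivMapOfInjective Y.subtype Y.subtype_injective |>.trans
          (MulEquiv.subgroupCongr hA'map)).symm).map (MulAut.conj (⟨z, hz⟩ : Y)).toMonoidHom) hzM
      obtain ⟨m, hm, hme⟩ := (isSylowIn_of_top hown.1 hown.2.2.1).exists_conj hT1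
      intro r hr w hw
      have hr' : (⟨z, hz⟩ : Y) * ⟨z⁻¹ * r * z, (mul_mem (mul_mem (inv_mem hz)
          ((H48.cj_le.mpr (fun a ha => mul_mem (mul_mem hz (hAS ha).2) (inv_mem hz)) : cj z A ≤ Y) hr)) hz)⟩ *
          (⟨z, hz⟩ : Y)⁻¹ ∈ cj m S0 := by
        rw [hme]
        refine hle1 (H48.conj_mem_cj ?_)
        obtain ⟨a, ha, rfl⟩ := hr
        show z⁻¹ * (z * a * z⁻¹) * z ∈ A
        simpa [mul_assoc] using ha
      have hmw : ρ (m : H)⁻¹ w ∈ F1 ρ S := (hm : (m : H) ∈ St ρ S).2 w hw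
      obtain ⟨s, hs, hse⟩ := hr'
      have hrs : (m : H) * s * (m : H)⁻¹ = r := by
        have := congrArg (fun e : Y => (e : H)) hse
        simpa [mul_assoc] using this
      have hcj : cj ((m : H)⁻¹ * z) A ≤ S := by
        intro a ha
        obtain ⟨a0, ha0, rfl⟩ := ha
        have h2 : (⟨z, hz⟩ : Y) * ⟨a0, (hAS ha0).2⟩ * (⟨z, hz⟩ : Y)⁻¹ ∈ cj m S0 :=
          hme ▸ hle1 (H48.conj_mem_cj (show (⟨a0, (hAS ha0).2⟩ : Y) ∈ A' from ha0))
        obtain ⟨s', hs', hse'⟩ := h2
        have h3 : (m : H) * s' * (m : H)⁻¹ = z * a0 * z⁻¹ := congrArg (fun e : Y => (e : H)) hse'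
        show (m : H)⁻¹ * z * a0 * ((m : H)⁻¹ * z)⁻¹ ∈ S
        rw [show (m : H)⁻¹ * z * a0 * ((m : H)⁻¹ * z)⁻¹ = (m : H)⁻¹ * (z * a0 * z⁻¹) * m by group, ← h3,
          show (m : H)⁻¹ * ((m : H) * s' * (m : H)⁻¹) * m = s' by group]
        exact (hs' : (s' : H) ∈ S ⊓ Y).1
      have hfix := F1_le_fix (hA.conj ((m : H)⁻¹ * z)) hcj hmw
      have hmem : (m : H)⁻¹ * r * m ∈ cj ((m : H)⁻¹ * z) A := by
        obtain ⟨a, ha, rfl⟩ := hr
        refine ⟨a, ha, ?_⟩
        show (m : H)⁻¹ * z * a * ((m : H)⁻¹ * z)⁻¹ = (m : H)⁻¹ * (z * a * z⁻¹) * m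
        group
      have h4 := hfix _ hmem
      rw [act_mul, act_mul, act_act_inv] at h4
      have h5 := congrArg (ρ (m : H)) h4
      rwa [act_act_inv, act_act_inv] at h5

/-- the induction step -/
theorem no_general_step {n : ℕ} (ih : NoGen.{u, v} n) (hn : Nat.card H + Nat.card V ≤ n + 1)
    (hρ : Function.Injective ρ) (hV : ∀ w : V, w + w = 0) (hcore : pCore 2 H = ⊥) (hinv : ¬ Inv3 H)
    {A0 : Subgroup H} (hA0 : El A0) (hne0 : A0 ≠ ⊥)
    (hoff0 : Nat.card V ≤ Nat.card A0 * Nat.card (fixV ρ A0)) : False := by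
  haveI : Fact (Nat.Prime 2) := ⟨Nat.prime_two⟩
  obtain ⟨A1, hA1⟩ := Par.exists_maxOff hA0 hne0 hoff0
  have hirr := simple_of_minimal ih hn hρ hV hcore hinv hA1
  letI : DistribMulAction H V := DistribMulAction.compHom V ρ
  obtain ⟨A, hAA1, hAne, hAm, hq⟩ := H63.replacement (G := H) (V := V) (p := 2)
    (fun w => by rw [two_nsmul]; exact hV w) A1 (fun a ha b hb => hA1.1.comm ha hb)
    (fun a ha => by rw [sq]; exact hA1.1 a ha)
    (fun a _ h => end_ext hρ fun w => by rw [act_one]; exact h w) hA1.2.1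
    (fun B hB => hA1.2.2.2 B (hA1.1.mono hB))
  have hAm' : Nat.card A * Nat.card (fixV ρ A) = Nat.card A1 * Nat.card (fixV ρ A1) := hAm
  have hA : QM ρ A := ⟨⟨hA1.1.mono hAA1, hAne, hA1.2.2.1.trans hAm'.ge,
    fun B hB => (hA1.2.2.2 B hB).trans hAm'.ge⟩, fun a ha b hb w => hq b hb a (hAA1 ha) w⟩
  obtain ⟨S, hS, hAS⟩ := H48.exists_isSylowIn_ge hA.1.1.isPGroup (le_top : A ≤ ⊤)
  have hVne : (⊤ : AddSubgroup V) ≠ ⊥ := fun h => hAne ((eq_bot_iff_forall _).mpr fun a _ =>
    end_ext hρ fun w => by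
      have h1 : ρ a w ∈ (⊤ : AddSubgroup V) := AddSubgroup.mem_top _
      have h2 : w ∈ (⊤ : AddSubgroup V) := AddSubgroup.mem_top _
      rw [h, AddSubgroup.mem_bot] at h1 h2
      rw [h1, h2, map_zero])
  have hFne : F1 ρ S ≠ ⊥ := by
    obtain ⟨w, -, hw0, hw⟩ := Par.exists_fixed hV hS.isPGroup
      (fun x _ w _ => AddSubgroup.mem_top (ρ x w)) hVne
    exact fun h => hw0 (AddSubgroup.mem_bot.mp (h ▸ fix_le_F1 S (hw : w ∈ fixV ρ S)))
  have hSt : St ρ S ≠ ⊤ := by
    intro h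
    rcases hirr (F1 ρ S) (fun x w hw => (h.ge (mem_top x)).1 w hw) with h0 | h0
    · exact hFne h0
    · exact hAne ((eq_bot_iff_forall _).mpr fun a ha => end_ext hρ fun w => by
        rw [act_one]; exact F1_le_fix hA hAS (h0.ge (AddSubgroup.mem_top w)) a ha)
  have hmain : ∀ (c : ℕ) (P : Subgroup H), Nat.card P ≤ c → P ≠ ⊤ → S ≤ P → P ≤ St ρ S := by
    intro c
    induction c with
    | zero => intro P hc; exact absurd hc (Nat.not_le.mpr Nat.card_pos)
    | succ c ihc =>
      intro P hc hP hSP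
      by_contra hnot
      have he : S ⊓ P = S := inf_eq_left.mpr hSP
      have hsub : ∀ X : Subgroup H, S ⊓ P ≤ X → X ≤ P → X ≠ P → X ≤ St ρ S := fun X hX hXP hne => by
        have hlt : Nat.card X < Nat.card P := lt_of_le_of_ne (card_le_of_le hXP)
          fun h => hne (eq_of_le_of_card_ge hXP h.ge)
        exact ihc X (by omega) (fun h => hP (top_le_iff.mp (h ▸ hXP))) (he ▸ hX)
      have hall := inCore_of_small ih hn hρ hV hinv _ S P hS le_rfl hP
        (he.symm ▸ isSylowIn_of_top hS hSP) hsub hnot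
      refine hnot (le_trans (fun y hy => ?_) (normalizer_le_St S))
      refine H48.mem_normalizer_of_cj_eq (H48.cj_eq_self_of_le ?_)
      rw [cj, map_le_iff_le_comap]
      refine sSup_le fun B hB => map_le_iff_le_comap.mp
        (le_sSup (a := cj y B) (s := {B | QM ρ B ∧ B ≤ S}) ⟨hB.1.conj y, ?_⟩)
      obtain ⟨Q, hQ, hQP, hPQ, hBQ⟩ := hall B hB.1 (he.symm ▸ hB.2)
      have hQS : Q ≤ S := by
        haveI : (Q.subgroupOf P).Normal := normal_subgroupOf_of_le_normalizer hPQ
        intro q hq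
        have h1 : (⟨q, hQP hq⟩ : P) ∈ pCore 2 P :=
          Cores.le_pCore (N := Q.subgroupOf P) hQ.comap_subtype (show (⟨q, hQP hq⟩ : P) ∈ Q.subgroupOf P from hq)
        exact (Cores.pCore_le_sylow (isSylowIn_of_top hS hSP).toSylow h1 :)
      exact H48.cj_le.mpr fun b hb => hQS ((mem_normalizer_iff.mp (hPQ hy) b).mp (hBQ hb))
  refine hAne (Par.no_offender hρ hV ⟨hS, hSt, (le_normalizer_DS S).trans (normalizer_le_St S),
    fun X hX hSX => hmain _ X le_rfl hX hSX⟩ hcore hinv hA.1.1 hA.1.2.2.1)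

theorem noGen : ∀ n, NoGen.{u, v} n := by
  intro n
  induction n with
  | zero =>
    intro H _ _ V _ _ ρ _ _ _ _ A _ _ _ hn
    have := Nat.card_pos (α := H)
    omega
  | succ n ih =>
    intro H _ _ V _ _ ρ hρ hV hcore hinv A hA hne hoff hn
    exact no_general_step ih hn hρ hV hcore hinv hA hne hoff

/-- no offender -/
theorem no_offender (hρ : Function.Injective ρ) (hV : ∀ w : V, w + w = 0) (hcore : pCore 2 H = ⊥)
    (hinv : ¬ Inv3 H) {A : Subgroup H} (hA : El A)
    (hoff : Nat.card V ≤ Nat.card A * Nat.card (fixV ρ A)) : A = ⊥ := by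
  by_contra hne
  exact noGen _ H V ρ hρ hV hcore hinv A hA hne hoff le_rfl

end Cfsg.Agent.Thompson.GenOff
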