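import Mathlib
import Cfsg.Agent.Thompson.GeneralOffender
import Cfsg.Agent.Thompson.FourFree

/-!
The factorization of a constrained four-free group by the centraliser of the centre and the
normalizer of the Thompson subgroup of a Sylow 2-subgroup.
-/

set_option autoImplicit false
set_option linter.unusedSectionVars false
set_option linter.style.haveILetI false

namespace Cfsg.Agent.Thompson.FourFree

open Subgroup
open Off (fixV act_mul act_one act_inv_act act_act_inv end_ext SixPair)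
open Par (Inv3 El)

universe u v

/-- an inverted element of order three gives a dihedral pair -/
theorem sixPair_of_inv3 {H : Type u} [Group H] [Finite H] {W : Type v} [AddCommGroup W] [Finite W]
    {ρ : H →* AddMonoid.End W} (hρ : Function.Injective ρ) (hW : ∀ w : W, w + w = 0) (h : Inv3 H) :
    SixPair ρ := by
  haveI : Fact (Nat.Prime 2) := ⟨Nat.prime_two⟩
  obtain ⟨b, t0, hb, ht0⟩ := h
  obtain ⟨k, r, hr, hkr⟩ := Nat.exists_eq_pow_mul_and_not_dvd (orderOf_pos t0).ne' 2 (by norm_num)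
  set t := t0 ^ r with ht
  have htb : t * b * t⁻¹ = b⁻¹ := by
    obtain ⟨j, hj⟩ := Nat.odd_iff.mpr (Nat.two_dvd_ne_zero.mp hr)
    have h2 : Commute (t0 ^ 2) b := by
      refine mul_inv_eq_iff_eq_mul.mp ?_
      rw [sq, mul_inv_rev, show t0 * t0 * b * (t0⁻¹ * t0⁻¹) = t0 * (t0 * b * t0⁻¹) * t0⁻¹ by group, ht0,
        show t0 * b⁻¹ * t0⁻¹ = (t0 * b * t0⁻¹)⁻¹ by group, ht0, inv_inv]
    rw [ht, hj, pow_succ', pow_mul, mul_inv_rev,
      show t0 * (t0 ^ 2) ^ j * b * (((t0 ^ 2) ^ j)⁻¹ * t0⁻¹) =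
        t0 * ((t0 ^ 2) ^ j * b * ((t0 ^ 2) ^ j)⁻¹) * t0⁻¹ by group,
      mul_inv_eq_iff_eq_mul.mpr (h2.pow_left j).eq, ht0]
  have hP : IsPGroup 2 (zpowers t) := by
    have h1 : t ^ 2 ^ k = 1 := by rw [ht, ← pow_mul, mul_comm, ← hkr, pow_orderOf_eq_one]
    obtain ⟨i, -, hi⟩ := (Nat.dvd_prime_pow Nat.prime_two).mp (orderOf_dvd_of_pow_eq_one h1)
    exact IsPGroup.of_card (n := i) (by rw [Nat.card_zpowers, hi])
  have hb3 : b ^ 3 = 1 := hb ▸ pow_orderOf_eq_one b
  let U : AddSubgroup W :=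
    { carrier := {v | v + ρ b v + ρ b (ρ b v) = 0}
      zero_mem' := by simp
      add_mem' := fun {x y} hx hy => by
        show x + y + ρ b (x + y) + ρ b (ρ b (x + y)) = 0
        rw [map_add, map_add, show x + y + (ρ b x + ρ b y) + (ρ b (ρ b x) + ρ b (ρ b y)) =
          (x + ρ b x + ρ b (ρ b x)) + (y + ρ b y + ρ b (ρ b y)) by abel, hx, hy, add_zero]
      neg_mem' := fun {x} hx => by
        show -x + ρ b (-x) + ρ b (ρ b (-x)) = 0
        rw [map_neg, map_neg, show -x + -ρ b x + -ρ b (ρ b x) = -(x + ρ b x + ρ b (ρ b x)) by abel, hx, neg_zero] }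
  have htbt : ∀ w, ρ t (ρ b w) = ρ b (ρ b (ρ t w)) := fun w => by
    rw [← act_mul, ← act_mul, ← act_mul]
    congr 2
    calc t * b = t * b * t⁻¹ * t := by group
      _ = b⁻¹ * t := by rw [htb]
      _ = b * b * t := by
        congr 1
        exact inv_eq_of_mul_eq_one_right (by rw [← mul_assoc, ← sq, ← pow_succ]; exact hb3)
  have hb3' : ∀ w, ρ b (ρ b (ρ b w)) = w := fun w => by
    rw [← act_mul, ← act_mul, show b * b * b = b ^ 3 by simp [pow_succ], hb3, act_one]
  have hUt : ∀ x ∈ zpowers t, ∀ w ∈ U, ρ x w ∈ U := by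
    have h1 : ∀ w ∈ U, ρ t w ∈ U := by
      intro w hw
      have h := congrArg (ρ t) (hw : w + ρ b w + ρ b (ρ b w) = 0)
      rw [map_zero, map_add, map_add, htbt, htbt, htbt] at h
      show ρ t w + ρ b (ρ t w) + ρ b (ρ b (ρ t w)) = 0
      rw [hb3'] at h
      rw [← h]; abel
    have h2 : ∀ n : ℕ, ∀ w ∈ U, ρ (t ^ n) w ∈ U := by
      intro n
      induction n with
      | zero => intro w hw; rwa [pow_zero, act_one]
      | succ n ih => intro w hw; rw [pow_succ', act_mul]; exact h1 _ (ih w hw)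
    intro x hx w hw
    obtain ⟨n, rfl⟩ := mem_powers_iff_mem_zpowers.mpr hx
    exact h2 n w hw
  obtain ⟨u, hu⟩ : ∃ u, ρ b u ≠ u := by
    by_contra hcon
    push Not at hcon
    have : b = 1 := end_ext hρ fun w => by rw [act_one]; exact hcon w
    rw [this, orderOf_one] at hb
    norm_num at hb
  have hUne : U ≠ ⊥ := fun h => hu (sub_eq_zero.mp (AddSubgroup.mem_bot.mp (h ▸ (by
    show ρ b u - u + ρ b (ρ b u - u) + ρ b (ρ b (ρ b u - u)) = 0
    rw [map_sub, map_sub, hb3']; abel : ρ b u - u ∈ U))))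
  obtain ⟨v, hvU, hv0, hv⟩ := Par.exists_fixed hW hP hUt hUne
  have hvt : ρ t v = v := hv t (mem_zpowers t)
  have hbb : ρ b (ρ b v) = v + ρ b v := by
    have h : v + ρ b v + ρ b (ρ b v) = 0 := hvU
    calc ρ b (ρ b v) = (v + ρ b v) + (v + ρ b v + ρ b (ρ b v)) := by
          rw [show v + ρ b v + (v + ρ b v + ρ b (ρ b v)) = (v + v) + (ρ b v + ρ b v) + ρ b (ρ b v) by abel,
            hW, hW, zero_add, zero_add]
      _ = v + ρ b v := by rw [h, add_zero]
  have hbinv : ∀ w, ρ b⁻¹ w = ρ b (ρ b w) := fun w => by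
    conv_lhs => rw [← hb3' w]
    exact act_inv_act b _
  refine ⟨t, b * t * b⁻¹, v, ρ b v, hv0, hvt, ?_, ?_, ?_⟩
  · rw [htbt, hvt, hbb]
  · rw [act_mul, act_mul, act_inv_act, hvt]
  · rw [act_mul, act_mul, hbinv, htbt, htbt, hvt, hb3', hbb]

variable {G : Type u} [Group G] [Finite G]

/-- an element of odd order fixing the involutions of an abelian 2-subgroup which it normalizes fixes it -/
theorem centralizes_of_involutions {B : Subgroup G} (hB : IsPGroup 2 B)
    (hc : ∀ v ∈ B, ∀ w ∈ B, v * w = w * v) {z : G} {m : ℕ} (hm : ¬ 2 ∣ m) (hzm : z ^ m = 1)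
    (hn : ∀ v ∈ B, z * v * z⁻¹ ∈ B) (hinv : ∀ v ∈ B, v * v = 1 → z * v * z⁻¹ = v) :
    ∀ w ∈ B, z * w * z⁻¹ = w := by
  suffices h : ∀ k : ℕ, ∀ w ∈ B, w ^ 2 ^ k = 1 → z * w * z⁻¹ = w by
    intro w hw
    obtain ⟨k, hk⟩ := hB ⟨w, hw⟩
    exact h k w hw (congrArg Subtype.val hk)
  intro k
  induction k with
  | zero => intro w _ hw; rw [pow_zero, pow_one] at hw; simp [hw]
  | succ k ihk =>
    intro w hwB hw
    have hw2 : z * w ^ 2 * z⁻¹ = w ^ 2 := ihk _ (pow_mem hwB 2) (by rw [← pow_mul, ← pow_succ']; exact hw)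
    set c := z * w * z⁻¹ * w⁻¹
    have hcB : c ∈ B := mul_mem (hn w hwB) (inv_mem hwB)
    have hcc : Commute c w := hc c hcB w hwB
    have hzw : z * w * z⁻¹ = c * w := (inv_mul_cancel_right _ _).symm
    have hc2 : c * c = 1 := by
      rw [← sq]
      refine mul_right_cancel (b := w ^ 2) ?_
      rw [one_mul, ← hcc.mul_pow, ← hzw, conj_pow, hw2]
    have hzc : z * c * z⁻¹ = c := hinv c hcB hc2
    have hpw : ∀ j : ℕ, z ^ j * w * (z ^ j)⁻¹ = c ^ j * w := by
      intro j
      induction j with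
      | zero => simp
      | succ j ihj =>
        have hzcj : z * c ^ j * z⁻¹ = c ^ j := by rw [← conj_pow, hzc]
        rw [pow_succ', show z * z ^ j * w * (z * z ^ j)⁻¹ = z * (z ^ j * w * (z ^ j)⁻¹) * z⁻¹ by group, ihj,
          show z * (c ^ j * w) * z⁻¹ = (z * c ^ j * z⁻¹) * (z * w * z⁻¹) by group, hzcj, hzw, ← mul_assoc,
          ← pow_succ]
    have hcm : c ^ m = 1 := by
      have := hpw m
      rw [hzm, one_mul, inv_one, mul_one] at this
      exact mul_right_cancel (this.symm.trans (one_mul w).symm)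
    obtain ⟨j, hj⟩ := Nat.odd_iff.mpr (Nat.two_dvd_ne_zero.mp hm)
    have hc1 : c = 1 := by
      rw [hj, pow_succ, pow_mul, sq, hc2, one_pow, one_mul] at hcm
      exact hcm
    rw [hzw, hc1, one_mul]

/-- the factorization -/
theorem exists_center_jay_factor (hfree : ¬ Cfsg.Involves (Equiv.Perm (Fin 4)) G)
    (hc : centralizer (pCore 2 G : Set G) ≤ pCore 2 G) (S : Sylow 2 G) (x : G) :
    ∃ a ∈ centralizer (((S : Subgroup G) ⊓ centralizer ((S : Subgroup G) : Set G) : Subgroup G) : Set G),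
      ∃ b ∈ normalizer (jay 2 (S : Subgroup G) : Set G), x = a * b := by
  classical
  haveI : Fact (Nat.Prime 2) := ⟨Nat.prime_two⟩
  set Q := pCore 2 G
  haveI : Q.Normal := pCore_normal 2 G
  have hQS : Q ≤ (S : Subgroup G) := Cores.pCore_le_sylow S
  set Z : Subgroup G := (S : Subgroup G) ⊓ centralizer ((S : Subgroup G) : Set G) with hZdef
  have hZC : Z ≤ centralizer (Q : Set G) := fun z hz => mem_centralizer_iff.mpr fun q hq =>
    mem_centralizer_iff.mp hz.2 q (hQS hq)
  set V1 : Subgroup G := normalClosure (Z : Set G)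
  have hV1 : V1 ≤ Q ⊓ centralizer (Q : Set G) := by
    haveI : (Q ⊓ centralizer (Q : Set G)).Normal := Subgroup.normal_inf_normal _ _
    exact normalClosure_le_normal (le_inf (hZC.trans hc) hZC)
  have hV1c : ∀ v ∈ V1, ∀ w ∈ V1, v * w = w * v := fun v hv w hw =>
    mem_centralizer_iff.mp (hV1 hw).2 v (hV1 hv).1
  have hV1p : IsPGroup 2 V1 := Cores.pCore_isPGroup.to_le (hV1.trans inf_le_left)
  set C := centralizer (V1 : Set G)
  haveI : C.Normal := inferInstance
  let V : Subgroup G :=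
    { carrier := {v | v ∈ V1 ∧ v * v = 1}
      one_mem' := ⟨one_mem _, one_mul 1⟩
      mul_mem' := fun {v w} hv hw => ⟨mul_mem hv.1 hw.1, by
        rw [show v * w * (v * w) = v * (w * v) * w by simp only [mul_assoc], hV1c w hw.1 v hv.1,
          show v * (v * w) * w = (v * v) * (w * w) by simp only [mul_assoc], hv.2, hw.2, mul_one]⟩
      inv_mem' := fun {v} hv => ⟨inv_mem hv.1, by rw [← mul_inv_rev, hv.2, inv_one]⟩ }
  haveI hVn : V.Normal := ⟨fun v hv g => ⟨normalClosure_normal.conj_mem v hv.1 g, by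
    rw [show g * v * g⁻¹ * (g * v * g⁻¹) = g * (v * v) * g⁻¹ by group, hv.2, mul_one, mul_inv_cancel]⟩⟩
  have hVc : ∀ v ∈ V, ∀ w ∈ V, v * w = w * v := fun v hv w hw => hV1c v hv.1 w hw.1
  letI : CommGroup V :=
    { (inferInstance : Group V) with mul_comm := fun v w => Subtype.ext (hVc v v.2 w w.2) }
  set ρ0 : G →* AddMonoid.End (Additive V) := conjRep V
  set N := ρ0.ker
  have hCN : C ≤ N := fun c hcC => AddMonoidHom.ext fun w => Additive.toMul.injective (Subtype.ext (by
    show c * (Additive.toMul w : V).1 * c⁻¹ = (Additive.toMul w : V).1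
    rw [mul_inv_eq_iff_eq_mul]
    exact (mem_centralizer_iff.mp hcC _ (Additive.toMul w : V).2.1).symm))
  have hNfix : ∀ n ∈ N, ∀ v ∈ V, n * v * n⁻¹ = v := fun n hn v hv =>
    congrArg (fun e : AddMonoid.End (Additive V) =>
      ((Additive.toMul (e (Additive.ofMul ⟨v, hv⟩)) : V) : G)) (hn : ρ0 n = 1)
  set q := QuotientGroup.mk' C
  have hq : Function.Surjective q := QuotientGroup.mk'_surjective C
  have hcoreC : pCore 2 (G ⧸ C) = ⊥ := by
    set P := (pCore 2 (G ⧸ C)).comap q
    haveI : P.Normal := Subgroup.Normal.comap (pCore_normal 2 _) q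
    have hle : P ≤ C ⊔ (S : Subgroup G) := by
      refine (comap_mono (Cores.pCore_le_sylow (S.mapSurjective hq))).trans ?_
      rw [show ((S.mapSurjective hq : Sylow 2 _) : Subgroup (G ⧸ C)) = (S : Subgroup G).map q from rfl,
        comap_map_eq, QuotientGroup.ker_mk', sup_comm]
    have hPC : P ≤ C := by
      intro p hp
      refine mem_centralizer_iff.mpr fun v hv => ?_
      have hset : V1 ≤ centralizer ({p} : Set G) := by
        refine (Subgroup.closure_le _).mpr fun w hw => ?_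
        obtain ⟨z, hz, hzw⟩ := Group.mem_conjugatesOfSet_iff.mp hw
        obtain ⟨g, rfl⟩ := isConj_iff.mp hzw
        obtain ⟨c, hcC, s, hs, hcs⟩ :=
          mem_sup_of_normal_left.mp (hle ((inferInstance : P.Normal).conj_mem p hp g⁻¹))
        have h1 : c * s * z = z * (c * s) := by
          have e1 : z * c = c * z := mem_centralizer_iff.mp hcC z (subset_normalClosure hz)
          have e2 : s * z = z * s := mem_centralizer_iff.mp hz.2 s hs
          rw [mul_assoc, e2, ← mul_assoc, ← e1, mul_assoc]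
        rw [hcs, inv_inv] at h1
        refine mem_centralizer_singleton_iff.mpr ?_
        calc g * z * g⁻¹ * p = g * (z * (g⁻¹ * p * g)) * g⁻¹ := by group
          _ = g * (g⁻¹ * p * g * z) * g⁻¹ := by rw [h1]
          _ = p * (g * z * g⁻¹) := by group
      exact mem_centralizer_singleton_iff.mp (hset hv)
    refine (eq_bot_iff_forall _).mpr fun y hy => ?_
    obtain ⟨p, rfl⟩ := hq y
    exact (QuotientGroup.eq_one_iff p).mpr (hPC hy)
  have hNC : N ≤ C := by
    haveI : (N.map q).Normal := Subgroup.Normal.map inferInstance q hq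
    have hp : IsPGroup 2 (N.map q) := by
      rintro ⟨_, n, hn, rfl⟩
      obtain ⟨k, m, hm, hkm⟩ := Nat.exists_eq_pow_mul_and_not_dvd (orderOf_pos n).ne' 2 (by norm_num)
      refine ⟨k, Subtype.ext ?_⟩
      show q n ^ 2 ^ k = 1
      rw [← map_pow]
      refine (QuotientGroup.eq_one_iff _).mpr (mem_centralizer_iff.mpr fun v hv => ?_)
      have h := centralizes_of_involutions hV1p hV1c (z := n ^ 2 ^ k) hm
        (by rw [← pow_mul, ← hkm, pow_orderOf_eq_one]) (fun v hv => normalClosure_normal.conj_mem v hv _)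
        (fun v hv hv2 => hNfix _ (pow_mem hn _) v ⟨hv, hv2⟩) v hv
      exact (mul_inv_eq_iff_eq_mul.mp h).symm
    have h := Cores.le_pCore hp
    rw [hcoreC, le_bot_iff, Subgroup.map_eq_bot_iff, QuotientGroup.ker_mk'] at h
    exact h
  have hNeq : N = C := le_antisymm hNC hCN
  set π := QuotientGroup.mk' N
  let ρ : G ⧸ N →* AddMonoid.End (Additive V) := QuotientGroup.lift N ρ0 le_rfl
  have hρ : Function.Injective ρ := fun e e' he => by
    obtain ⟨e, rfl⟩ := QuotientGroup.mk'_surjective N e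
    obtain ⟨e', rfl⟩ := QuotientGroup.mk'_surjective N e'
    refine QuotientGroup.eq.mpr ?_
    show ρ0 (e⁻¹ * e') = 1
    rw [map_mul, show ρ0 e' = ρ0 e from he.symm, ← map_mul, inv_mul_cancel, map_one]
  have hVV : ∀ w : Additive V, w + w = 0 := fun w =>
    congrArg Additive.ofMul (Subtype.ext (Additive.toMul w : V).2.2 :
      (Additive.toMul w : V) * Additive.toMul w = 1)
  have hap : ∀ (e : G) (w : Additive V),
      ((Additive.toMul (ρ (π e) w) : V) : G) = e * (Additive.toMul w : V) * e⁻¹ := fun _ _ => rfl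
  have hinv : ¬ Inv3 (G ⧸ N) := by
    intro h
    obtain ⟨e, e', a, b, ha, h1, h2, h3, h4⟩ := sixPair_of_inv3 hρ hVV h
    obtain ⟨e, rfl⟩ := QuotientGroup.mk'_surjective N e
    obtain ⟨e', rfl⟩ := QuotientGroup.mk'_surjective N e'
    refine hfree (involves_of_pair V (fun v hv => hv.2) hVc (x := e) (y := e')
      (Additive.toMul a : V).2 (Additive.toMul b : V).2
      (fun h => ha (congrArg Additive.ofMul (Subtype.ext h : (Additive.toMul a : V) = 1)))
      ?_ ?_ ?_ ?_)
    · rw [← hap, h1]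
    · rw [← hap, h2]; rfl
    · rw [← hap, h3]
    · rw [← hap, h4]; rfl
  have hcoreN : pCore 2 (G ⧸ N) = ⊥ := by
    have e := Cores.pCore_map_mulEquiv (p := 2) (QuotientGroup.quotientMulEquivOfEq hNeq)
    rw [hcoreC, Subgroup.map_eq_bot_iff_of_injective _
      (QuotientGroup.quotientMulEquivOfEq hNeq).injective] at e
    exact e
  have hJN : jay 2 (S : Subgroup G) ≤ (S : Subgroup G) ⊓ N := by
    refine le_inf jay_le (sSup_le fun A hA => ?_)
    have hAexp : IsAbExp 2 A := hA.2.1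
    have hAel : El A := fun a ha => by rw [← sq]; exact hAexp.2 a ha
    have hel : El ((A ⊓ N) ⊔ V) := Par.el_sup (hAel.mono inf_le_left) (fun v hv => hv.2)
      (fun a ha v hv => mul_inv_eq_iff_eq_mul.mp (hNfix a ha.2 v hv))
    have hexp : IsAbExp 2 ((A ⊓ N) ⊔ V) := ⟨isMulCommutative_iff_forall.mpr fun c hc d hd => hel.comm hc hd,
      fun c hc => by rw [sq]; exact hel c hc⟩
    have hVS : V ≤ (S : Subgroup G) := fun v hv => hQS (hV1 hv.1).1
    have hcardle : Nat.card ↥((A ⊓ N) ⊔ V) ≤ Nat.card A :=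
      hA.2.2 _ (sup_le (inf_le_left.trans hA.1) hVS) hexp
    set A' := A.map π
    have hcardA : Nat.card A = Nat.card ↥(A ⊓ N) * Nat.card A' := by
      have h := (π.comp A.subtype).ker.card_eq_card_quotient_mul_card_subgroup
      rw [Nat.card_congr (QuotientGroup.quotientKerEquivRange (π.comp A.subtype)).toEquiv,
        show (π.comp A.subtype).range = A.map π by rw [MonoidHom.range_comp, range_subtype]] at h
      have he : Nat.card (π.comp A.subtype).ker = Nat.card ↥(A ⊓ N) := Nat.card_congr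
        { toFun := fun x => ⟨x.1.1, x.1.2, (QuotientGroup.eq_one_iff _).mp x.2⟩
          invFun := fun x => ⟨⟨x.1, x.2.1⟩, (QuotientGroup.eq_one_iff _).mpr x.2.2⟩
          left_inv := fun x => rfl
          right_inv := fun x => rfl }
      rw [h, he, mul_comm]
    have hfix : Nat.card ↥((A ⊓ N) ⊓ V) ≤ Nat.card (fixV ρ A') := by
      refine Nat.card_le_card_of_injective (fun v => ⟨Additive.ofMul ⟨v.1, v.2.2⟩, ?_⟩) fun v v' he =>
        Subtype.ext (congrArg (fun w : Additive V => ((Additive.toMul w : V) : G)) (congrArg Subtype.val he))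
      rintro _ ⟨e, he, rfl⟩
      refine Additive.toMul.injective (Subtype.ext ?_)
      show e * v.1 * e⁻¹ = v.1
      rw [mul_inv_eq_iff_eq_mul]
      exact hAexp.comm he v.2.1.1
    have hoff : Nat.card (Additive V) ≤ Nat.card A' * Nat.card (fixV ρ A') := by
      rw [Nat.card_congr (Additive.toMul (α := V))]
      refine Nat.le_of_mul_le_mul_left ?_ (Nat.card_pos (α := ↥(A ⊓ N)))
      have h1 := Cores.card_sup_mul_card_inf (A ⊓ N) V
      calc Nat.card ↥(A ⊓ N) * Nat.card V = Nat.card ↥(A ⊓ N ⊔ V) * Nat.card ↥((A ⊓ N) ⊓ V) := h1.symm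
        _ ≤ Nat.card A * Nat.card (fixV ρ A') := Nat.mul_le_mul hcardle hfix
        _ = _ := by rw [hcardA]; ring
    have h := GenOff.no_offender hρ hVV hcoreN hinv (hAel.map π) hoff
    exact (Subgroup.map_eq_bot_iff A).mp h |>.trans_eq (QuotientGroup.ker_mk' N)
  have hfr : normalizer ((((S : Subgroup G) ⊓ N : Subgroup G)) : Set G) ⊔ N = ⊤ := frattini_inf S N
  obtain ⟨a, ha, b, hb, rfl⟩ : ∃ a ∈ N, ∃ b ∈ normalizer ((((S : Subgroup G) ⊓ N : Subgroup G)) : Set G),
      a * b = x := by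
    have h := hfr.ge (mem_top x)
    rw [sup_comm, mem_sup_of_normal_left] at h
    exact h
  refine ⟨a, mem_centralizer_iff.mpr fun z hz => mem_centralizer_iff.mp (hNC ha) z (subset_normalClosure hz),
    b, ?_, rfl⟩
  rw [← jay_eq_of_le hJN inf_le_left]
  exact normalizer_le_normalizer_jay 2 _ hb

end Cfsg.Agent.Thompson.FourFree
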