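import Mathlib
import Cfsg.Agent.Thompson.SfourFactor
import Cfsg.Agent.Thompson.Section
import Cfsg.Agent.S1996
import Cfsg.Agent.H49.QdFree
import Cfsg.Agent.H58.QdTwo

/-!
The centre and the Thompson subgroup control strong fusion in all sections of a four-free group.
-/

set_option autoImplicit false
set_option linter.unusedSectionVars false
set_option linter.style.haveILetI false

namespace Cfsg.Agent.Thompson.FourFree

open Subgroup

universe u

/-- the centre as a functor -/
def zFun (Q : Type u) [Group Q] : Subgroup Q := Subgroup.center Q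

/-- the Thompson subgroup (elementary version, for the prime two) as a functor -/
def jeFun (Q : Type u) [Group Q] : Subgroup Q := Cfsg.thompsonSubgroup 2 Q

theorem inducedFunctor_zFun {G : Type u} [Group G] (P : Subgroup G) :
    inducedFunctor zFun P = P ⊓ centralizer (P : Set G) := by
  ext x
  constructor
  · rintro ⟨y, hy, rfl⟩
    exact ⟨y.2, mem_centralizer_iff.mpr fun z hz =>
      congrArg Subtype.val (mem_center_iff.mp hy ⟨z, hz⟩)⟩
  · rintro ⟨hx, hc⟩
    exact ⟨⟨x, hx⟩, mem_center_iff.mpr fun z => Subtype.ext (mem_centralizer_iff.mp hc z z.2), rfl⟩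

theorem inducedFunctor_jeFun {G : Type u} [Group G] (P : Subgroup G) :
    inducedFunctor jeFun P = jay 2 P := by
  rw [← thompsonSubgroupOf_eq]
  rfl

theorem jeFun_eq (Q : Type u) [Group Q] : jeFun Q = jay 2 (⊤ : Subgroup Q) := thompsonSubgroup_eq 2

theorem isCharPFunctor_jeFun : IsCharPFunctor.{u} 2 jeFun := by
  haveI : Fact (Nat.Prime 2) := ⟨Nat.prime_two⟩
  refine ⟨fun Q _ _ hQ _ h => zjay_ne_bot (hQ.to_subgroup ⊤) top_ne_bot (Or.inr rfl) (le_bot_iff.mp
    (inf_le_left.trans ((jeFun_eq Q).symm.trans h).le)), fun Q R _ _ _ _ φ => ?_⟩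
  rw [jeFun_eq, jeFun_eq, ← jay_map φ.toMonoidHom φ.injective, map_top_of_surjective _ φ.surjective]

theorem isCharPFunctor_zFun (p : ℕ) [Fact p.Prime] : IsCharPFunctor.{u} p zFun := by
  refine ⟨fun Q _ _ hQ _ => hQ.bot_lt_center.ne', fun Q R _ _ _ _ φ => ?_⟩
  ext x
  constructor
  · rintro ⟨y, hy, rfl⟩
    refine mem_center_iff.mpr fun z => ?_
    obtain ⟨w, rfl⟩ := φ.surjective z
    show φ w * φ y = φ y * φ w
    rw [← map_mul, mem_center_iff.mp hy w, map_mul]
  · intro hx
    refine ⟨φ.symm x, mem_center_iff.mpr fun w => φ.injective ?_, φ.apply_symm_apply x⟩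
    rw [map_mul, map_mul, φ.apply_symm_apply]
    exact mem_center_iff.mp hx (φ w)

theorem sfour_free_section {G : Type u} [Group G] (h : ¬ Involves (Equiv.Perm (Fin 4)) G)
    (K R : Subgroup G) [(R.subgroupOf K).Normal] :
    ¬ Involves (Equiv.Perm (Fin 4)) (↥K ⧸ R.subgroupOf K) := fun hs =>
  h (hasSection_iff.mp (((hasSection_iff.mpr hs).of_surjective
    (QuotientGroup.mk'_surjective _)).of_injective K.subtype_injective))

/-- the pair controls strong fusion -/
theorem familyControls_sfour_free {G : Type u} [Group G] [Finite G]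
    (h : ¬ Involves (Equiv.Perm (Fin 4)) G) :
    FamilyControlsStrongFusionIn 2 {inducedFunctor (G := G) zFun, inducedFunctor (G := G) jeFun} ⊤ := by
  haveI : Fact (Nat.Prime 2) := ⟨Nat.prime_two⟩
  refine S1996.result zFun jeFun (isCharPFunctor_zFun 2) isCharPFunctor_jeFun fun K R _ hc T x => ?_
  obtain ⟨a, ha, b, hb, rfl⟩ := exists_center_jay_factor (sfour_free_section h K R) hc T x
  exact ⟨a, centralizer_le_normalizer _ (by rw [inducedFunctor_zFun]; exact ha), b,
    by rw [inducedFunctor_jeFun]; exact hb, rfl⟩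

theorem qd_two_equiv : Nonempty (↥(qd 2) ≃* Equiv.Perm (Fin 4)) := by
  obtain ⟨e⟩ := H58.Qd.qd_two_iso_perm
  exact ⟨(MulEquiv.subgroupCongr (show qd 2 = qdOver (ZMod 2) from rfl)).trans e⟩

theorem sfour_free_of_familyControls {G : Type u} [Group G] [Finite G]
    (𝓦 : Set (∀ (Q : Type u) [Group Q], Subgroup Q)) (h𝓦 : ∀ W ∈ 𝓦, IsCharPFunctor.{u} 2 W)
    (h : ∀ (K R : Subgroup G) [(R.subgroupOf K).Normal],
      FamilyControlsStrongFusionIn 2 ((fun W => inducedFunctor (G := ↥K ⧸ R.subgroupOf K) W) '' 𝓦) ⊤) :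
    ¬ Involves (Equiv.Perm (Fin 4)) G := by
  haveI : Fact (Nat.Prime 2) := ⟨Nat.prime_two⟩
  intro hi
  obtain ⟨e⟩ := qd_two_equiv
  obtain ⟨K, R, hR, ⟨f⟩⟩ := hi
  exact H49.not_sfc_qd (p := 2) (f.trans e.symm) h𝓦 (H49.sfc_of_familyControls h𝓦 (h K R))

end Cfsg.Agent.Thompson.FourFree
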