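import Mathlib
import Cfsg.Agent.Cores.PCore
import Cfsg.Agent.Cores.Basic
import Cfsg.Agent.Fusion.PComplement
import Cfsg.Agent.Fusion.Alperin
import Cfsg.Agent.H48.Local
import Cfsg.Agent.S1961
import Cfsg.Agent.Thompson.ZJ

/-!
A functor that is normal in every `p`-constrained member of a class closed under subgroups and
quotients controls strong fusion in every member of the class.
-/

set_option autoImplicit false

namespace Cfsg.Agent.Thompson

open Subgroup
open H48 (cj limg IsSylowIn isSylowIn_sylow cj_le cj_mono conj_mem_cj mem_cj)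

universe u

variable {p : ℕ}

/-- a functor on `p`-subgroups, compatible with homomorphisms injective on the subgroup -/
structure IsPFunctor (p : ℕ) (W : ∀ (G : Type u) [Group G], Subgroup G → Subgroup G) : Prop where
  le : ∀ (G : Type u) [Group G] [Finite G] (P : Subgroup G), IsPGroup p P → W G P ≤ P
  ne_bot : ∀ (G : Type u) [Group G] [Finite G] (P : Subgroup G), IsPGroup p P → P ≠ ⊥ → W G P ≠ ⊥
  map_eq : ∀ (G H : Type u) [Group G] [Group H] [Finite G] (f : G →* H) (P : Subgroup G),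
    IsPGroup p P → Function.Injective (f.comp P.subtype) → W H (P.map f) = (W G P).map f

/-- `W` controls strong fusion in `G` -/
def StrongFusionFor (p : ℕ) (W : ∀ (G : Type u) [Group G], Subgroup G → Subgroup G)
    (G : Type u) [Group G] : Prop :=
  ∀ (S : Sylow p G) (A : Set G) (g : G), A ⊆ (S : Subgroup G) → limg A g ⊆ (S : Subgroup G) →
    ∃ n ∈ normalizer (W G (S : Subgroup G) : Set G), ∀ a ∈ A, n * a * n⁻¹ = g * a * g⁻¹

variable {W : ∀ (G : Type u) [Group G], Subgroup G → Subgroup G}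
variable {G : Type u} [Group G] [Finite G]

theorem IsPFunctor.isConjugacyFunctor (hW : IsPFunctor p W) : IsConjugacyFunctor p (W G) :=
  fun P hP => ⟨hW.le G P hP, hW.ne_bot G P hP,
    fun g => hW.map_eq G G _ P hP ((MulAut.conj g).injective.comp P.subtype_injective)⟩

theorem IsPFunctor.normalizer_le (hW : IsPFunctor p W) {P : Subgroup G} (hP : IsPGroup p P) :
    normalizer (P : Set G) ≤ normalizer (W G P : Set G) := fun g hg =>
  H48.mem_normalizer_of_cj_eq (by
    rw [cj, ← (hW.isConjugacyFunctor P hP).2.2 g, show P.map _ = P from H48.cj_eq_of_mem_normalizer hg])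

/-- fusion inside a subgroup `M` of a set in a Sylow subgroup `R` of `M` -/
theorem fuse_in_subgroup [Fact p.Prime] (hW : IsPFunctor p W) {M R : Subgroup G} (hM : StrongFusionFor p W M)
    (hR : IsSylowIn p R M) {A : Set G} {g : G} (hg : g ∈ M) (hA : A ⊆ R) (hAg : limg A g ⊆ R) :
    ∃ n ∈ M ⊓ normalizer (W G R : Set G), ∀ a ∈ A, n * a * n⁻¹ = g * a * g⁻¹ := by
  obtain ⟨n, hn, hna⟩ := hM hR.toSylow {x | (x : G) ∈ A} ⟨g, hg⟩ (fun x hx => hA hx) (by
    rintro _ ⟨x, hx, rfl⟩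
    exact hAg ⟨x, hx, rfl⟩)
  refine ⟨n, ⟨n.2, H48.mem_normalizer_of_cj_eq ?_⟩,
    fun a ha => congrArg Subtype.val (hna ⟨a, hR.le (hA ha)⟩ ha)⟩
  have h := hW.map_eq M G M.subtype _ hR.toSylow.isPGroup'
    (M.subtype_injective.comp (Subtype.val_injective))
  rw [hR.coe_toSylow, subgroupOf_map_subtype, inf_eq_left.mpr hR.le] at h
  rw [hR.coe_toSylow] at hn
  have h2 := H48.cj_eq_of_mem_normalizer hn
  rw [h, cj, Subgroup.map_map]
  conv_rhs => rw [← h2, cj, Subgroup.map_map]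
  rfl

theorem fuse_of_sylow_le [Fact p.Prime] (hW : IsPFunctor p W) {M : Subgroup G} (hM : StrongFusionFor p W M)
    (S : Sylow p G) (hS : (S : Subgroup G) ≤ M) {A : Set G} {g : G} (hg : g ∈ M)
    (hA : A ⊆ (S : Subgroup G)) (hAg : limg A g ⊆ (S : Subgroup G)) :
    ∃ n ∈ normalizer (W G (S : Subgroup G) : Set G), ∀ a ∈ A, n * a * n⁻¹ = g * a * g⁻¹ := by
  obtain ⟨n, hn, h⟩ := fuse_in_subgroup hW hM (R := (S : Subgroup G))
    ⟨hS, S.isPGroup', fun hd => S.not_dvd_index (hd.trans (relIndex_dvd_index_of_le hS))⟩ hg hA hAg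
  exact ⟨n, hn.2, h⟩

theorem relIndex_sup_eq_card {B K : Subgroup G} (h : B ≤ normalizer (K : Set G)) (hd : K ⊓ B = ⊥) :
    B.relIndex (K ⊔ B) = Nat.card K := by
  have h1 := (B.subgroupOf (K ⊔ B)).card_mul_index
  rw [Nat.card_congr (subgroupOfEquivOfLe (le_sup_right : B ≤ K ⊔ B)).toEquiv, Coprime.card_sup h hd,
    mul_comm (Nat.card K)] at h1
  exact Nat.eq_of_mul_eq_mul_left Nat.card_pos h1

theorem normalizer_le_normalizer_centralizer' (E : Subgroup G) :
    normalizer (E : Set G) ≤ normalizer (centralizer (E : Set G) : Set G) := fun g hg =>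
  H48.mem_normalizer_of_cj_eq (H48.cj_eq_self_of_le (cj_le.mpr fun c hc => mem_centralizer_iff.mpr fun e he => by
    have h1 := mem_centralizer_iff.mp hc _ (by simpa using (mem_normalizer_iff.mp (inv_mem hg) e).mp he :
      g⁻¹ * e * g ∈ (E : Set G))
    calc e * (g * c * g⁻¹) = g * (g⁻¹ * e * g * c) * g⁻¹ := by group
      _ = g * c * g⁻¹ * e := by rw [h1]; group))

theorem index_map_not_dvd [Fact p.Prime] (K : Subgroup G) [K.Normal] (S : Sylow p G) :
    ¬ p ∣ ((S : Subgroup G).map (QuotientGroup.mk' K)).index := fun hd =>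
  S.not_dvd_index (hd.trans (index_map_dvd _ (QuotientGroup.mk'_surjective K)))

/-- reduction modulo a normal `p'`-subgroup -/
theorem strongFusion_of_quotient_coprime [Fact p.Prime] (hW : IsPFunctor p W) (K : Subgroup G) [K.Normal]
    (hK : (Nat.card K).Coprime p) (h : StrongFusionFor p W (G ⧸ K)) : StrongFusionFor p W G := by
  intro S A g hA hAg
  set π := QuotientGroup.mk' K
  set Z := W G (S : Subgroup G) with hZ
  have hdis : ∀ {P : Subgroup G}, IsPGroup p P → ∀ x ∈ P, x ∈ K → x = 1 := fun hP x hx hxK =>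
    mem_bot.mp ((Cores.disjoint_of_isPGroup_of_coprime hP hK).le ⟨hx, hxK⟩)
  have hinj : Function.Injective (π.comp (S : Subgroup G).subtype) :=
    (injective_iff_map_eq_one _).mpr fun x hx =>
      Subtype.ext (hdis S.isPGroup' x x.2 ((QuotientGroup.eq_one_iff _).mp hx))
  let S' : Sylow p (G ⧸ K) := S.mapSurjective (QuotientGroup.mk'_surjective K)
  have hS'W : W (G ⧸ K) (S' : Subgroup (G ⧸ K)) = Z.map π := hW.map_eq G (G ⧸ K) π _ S.isPGroup' hinj
  obtain ⟨m, hm, hma⟩ := h S' (π '' A) (π g) (by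
      rintro _ ⟨a, ha, rfl⟩
      exact ⟨a, hA ha, rfl⟩) (by
      rintro _ ⟨_, ⟨a, ha, rfl⟩, rfl⟩
      exact ⟨g * a * g⁻¹, hAg ⟨a, ha, rfl⟩, by simp [π]⟩)
  obtain ⟨m, rfl⟩ := QuotientGroup.mk'_surjective K m
  rw [hS'W] at hm
  -- Frattini: `m ∈ N(Z) K`
  obtain ⟨n0, hn0, k, hk, rfl⟩ : ∃ n0 ∈ normalizer (Z : Set G), ∃ k ∈ K, m = n0 * k := by
    set L := Z ⊔ K with hL
    have hLc : L = (Z.map π).comap π := by rw [comap_map_eq, QuotientGroup.ker_mk']
    have hmL : cj m L = L := by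
      have h2 : (cj m L).map π = L.map π := by
        rw [hLc, map_comap_eq_self_of_surjective (QuotientGroup.mk'_surjective K)]
        conv_rhs => rw [← H48.cj_eq_of_mem_normalizer hm]
        rw [cj, cj, Subgroup.map_map,
          show π.comp (MulAut.conj m).toMonoidHom = (MulAut.conj (π m)).toMonoidHom.comp π from
            MonoidHom.ext fun x => by simp,
          ← Subgroup.map_map, map_comap_eq_self_of_surjective (QuotientGroup.mk'_surjective K)]
      refine H48.cj_eq_self_of_le fun x hx => ?_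
      have h3 : π x ∈ L.map π := h2.le ⟨x, hx, rfl⟩
      have h4 : x ∈ (L.map π).comap π := h3
      rwa [comap_map_eq, QuotientGroup.ker_mk', sup_eq_left.mpr (le_sup_right : K ≤ L)] at h4
    have hZL : IsSylowIn p Z L := by
      refine ⟨le_sup_left, S.isPGroup'.to_le (hW.le G _ S.isPGroup'), ?_⟩
      intro hd
      have h1 : Z.relIndex L ∣ Nat.card K := by
        rw [hL, sup_comm]
        refine (relIndex_sup_eq_card (fun z _ => (normalizer_eq_top (H := K)).ge (mem_top z))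
          (eq_bot_iff.mpr fun x hx => mem_bot.mpr
            (hdis (S.isPGroup'.to_le (hW.le G _ S.isPGroup')) x hx.2 hx.1))).dvd
      exact (Fact.out : p.Prime).coprime_iff_not_dvd.mp hK.symm (hd.trans h1)
    have hZm := hZL.cj m
    rw [hmL] at hZm
    obtain ⟨l, hl, hlZ⟩ := hZm.exists_conj hZL
    rw [H48.cj_cj] at hlZ
    have hl' : l⁻¹ ∈ Z ⊔ K := inv_mem hl
    obtain ⟨z, hz, k, hk, hzk⟩ := mem_sup_of_normal_right.mp hl'
    have hlm : l * m ∈ normalizer (Z : Set G) := H48.mem_normalizer_of_cj_eq hlZ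
    refine ⟨z * (l * m), mul_mem (le_normalizer hz) hlm, (l * m)⁻¹ * k * (l * m),
      by simpa using Normal.conj_mem (inferInstance : K.Normal) k hk (l * m)⁻¹, ?_⟩
    rw [show z * (l * m) * ((l * m)⁻¹ * k * (l * m)) = (z * k) * l * m by group, hzk,
      inv_mul_cancel, one_mul]
  have hcong : ∀ a ∈ A, π (n0 * a * n0⁻¹) = π (g * a * g⁻¹) := fun a ha => by
    have := hma (π a) ⟨a, ha, rfl⟩
    rw [map_mul π, show π k = 1 from (QuotientGroup.eq_one_iff k).mpr hk, mul_one] at this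
    simpa [π] using this
  set B := closure (limg A n0) with hB
  set B' := closure (limg A g) with hB'
  have hB'S : B' ≤ (S : Subgroup G) := (closure_le _).mpr hAg
  have hBS : B ≤ cj n0 (S : Subgroup G) := (closure_le _).mpr (by
    rintro _ ⟨a, ha, rfl⟩; exact conj_mem_cj (hA ha))
  have hBp : IsPGroup p B := (H48.isPGroup_cj S.isPGroup').to_le hBS
  have hB'p : IsPGroup p B' := S.isPGroup'.to_le hB'S
  set N := normalizer (Z : Set G)
  have hSN : (S : Subgroup G) ≤ N := le_normalizer.trans (hW.normalizer_le S.isPGroup')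
  have hBN : B ≤ N := (closure_le _).mpr (by
    rintro _ ⟨a, ha, rfl⟩; show n0 * a * n0⁻¹ ∈ N; exact mul_mem (mul_mem hn0 (hSN (hA ha))) (inv_mem hn0))
  set K0 := K ⊓ N
  have hNK0 : ∀ x ∈ N, x ∈ normalizer (K0 : Set G) := fun x hx => H48.mem_normalizer_of_cj_eq
    (H48.cj_eq_self_of_le (cj_le.mpr fun y hy => ⟨Normal.conj_mem inferInstance y hy.1 x,
      N.mul_mem (N.mul_mem hx hy.2) (N.inv_mem hx)⟩))
  set L := B ⊔ K0 with hL
  have hB'L : B' ≤ L := (closure_le _).mpr (by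
    rintro _ ⟨a, ha, rfl⟩
    show g * a * g⁻¹ ∈ L
    have hk : (n0 * a * n0⁻¹)⁻¹ * (g * a * g⁻¹) ∈ K0 := ⟨QuotientGroup.eq.mp (hcong a ha),
      N.mul_mem (N.inv_mem (hBN (subset_closure ⟨a, ha, rfl⟩))) (hSN (hB'S (subset_closure ⟨a, ha, rfl⟩)))⟩
    rw [show g * a * g⁻¹ = (n0 * a * n0⁻¹) * ((n0 * a * n0⁻¹)⁻¹ * (g * a * g⁻¹)) by group]
    exact mul_mem (mem_sup_left (subset_closure ⟨a, ha, rfl⟩)) (mem_sup_right hk))
  have hLB : ∀ x ∈ L, ∃ b ∈ B, ∃ k ∈ K0, x = b * k := fun x hx => by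
    have hx' : x ∈ ((B ⊔ K0 : Subgroup G) : Set G) := hx
    rw [coe_mul_of_left_le_normalizer_right _ _ fun b hb => hNK0 b (hBN hb)] at hx'
    obtain ⟨b, hb, k, hk, rfl⟩ := hx'
    exact ⟨b, hb, k, hk, rfl⟩
  have hsyl : IsSylowIn p B L := by
    refine ⟨le_sup_left, hBp, fun hd => ?_⟩
    have h1 : B.relIndex L ∣ Nat.card K0 := by
      rw [hL, sup_comm]
      exact (relIndex_sup_eq_card (fun b hb => hNK0 b (hBN hb)) (eq_bot_iff.mpr fun x hx => mem_bot.mpr
        (hdis hBp x hx.2 hx.1.1))).dvd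
    exact (Fact.out : p.Prime).coprime_iff_not_dvd.mp hK.symm
      (hd.trans (h1.trans (card_dvd_of_le inf_le_left)))
  obtain ⟨l, hl, hlB⟩ := hsyl.exists_cj_le hB'p hB'L
  obtain ⟨b, hb, k0, hk0, rfl⟩ := hLB l hl
  -- `k0` carries `B'` into `B`
  have hk0B : cj k0 B' ≤ B := by
    have := cj_mono (g := b⁻¹) hlB
    rw [H48.cj_cj, inv_mul_cancel_left, H48.cj_eq_of_mem_normalizer (inv_mem (le_normalizer hb))] at this
    exact this
  refine ⟨k0⁻¹ * n0, mul_mem (inv_mem hk0.2) hn0, fun a ha => ?_⟩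
  have h1 : k0 * (g * a * g⁻¹) * k0⁻¹ ∈ B := hk0B (conj_mem_cj (subset_closure ⟨a, ha, rfl⟩))
  have h2 : (n0 * a * n0⁻¹)⁻¹ * (k0 * (g * a * g⁻¹) * k0⁻¹) ∈ K := QuotientGroup.eq.mp (by
    show π (n0 * a * n0⁻¹) = π (k0 * (g * a * g⁻¹) * k0⁻¹)
    rw [map_mul π (k0 * (g * a * g⁻¹)), map_mul π k0, map_inv, show π k0 = 1 from
      (QuotientGroup.eq_one_iff k0).mpr hk0.1, hcong a ha]
    simp)
  have h3 := inv_mul_eq_one.mp (hdis hBp _ (mul_mem (inv_mem (subset_closure ⟨a, ha, rfl⟩)) h1) h2)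
  calc k0⁻¹ * n0 * a * (k0⁻¹ * n0)⁻¹ = k0⁻¹ * (n0 * a * n0⁻¹) * k0 := by group
    _ = k0⁻¹ * (k0 * (g * a * g⁻¹) * k0⁻¹) * k0 := by rw [show n0 * a * n0⁻¹ = k0 * (g * a * g⁻¹) * k0⁻¹ from h3]
    _ = g * a * g⁻¹ := by group

/-- an element of `p`-power index over the centralizer of `Q` acting trivially modulo `Q` -/
theorem pow_mem_centralizer_of_trivial_quotient [Fact p.Prime] {Q E : Subgroup G} [Q.Normal]
    (hQ : IsPGroup p Q) (hQE : Q ≤ E) {y : G} {j : ℕ} (hy : y ^ p ^ j ∈ centralizer (Q : Set G))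
    (hE : ∀ e ∈ E, (e⁻¹ * (y * e * y⁻¹)) ∈ Q) : ∃ i : ℕ, y ^ p ^ i ∈ centralizer (E : Set G) := by
  obtain ⟨k, hk⟩ := IsPGroup.iff_card.mp hQ
  set z := y ^ p ^ j with hz
  have hstab : ∀ n : ℕ, ∀ e ∈ E, e⁻¹ * (y ^ n * e * (y ^ n)⁻¹) ∈ Q := by
    intro n
    induction n with
    | zero => intro e _; simp
    | succ n ih =>
      intro e he
      have h1 := ih e he
      have h2 := hE _ (mul_mem he (hQE h1))
      rw [mul_inv_cancel_left] at h2
      have := mul_mem h1 h2
      convert this using 1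
      rw [pow_succ']; group
  refine ⟨j + k, mem_centralizer_iff.mpr fun e he => ?_⟩
  rw [pow_add, pow_mul, ← hz]
  set c := e⁻¹ * (z * e * z⁻¹) with hc
  have hcQ : c ∈ Q := hstab _ e he
  have hcz : Commute z c := (mem_centralizer_iff.mp hy c hcQ).symm
  have hn : ∀ n : ℕ, z ^ n * e = e * (c ^ n * z ^ n) := by
    intro n
    induction n with
    | zero => simp
    | succ n ihn =>
      calc z ^ (n + 1) * e = z * (z ^ n * e) := by rw [pow_succ', mul_assoc]
        _ = (e * c) * ((z * c ^ n) * z ^ n) := by rw [ihn, hc, mul_inv_cancel_left]; group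
        _ = _ := by rw [(hcz.pow_right n).eq, pow_succ' c, pow_succ' z]; simp only [mul_assoc]
  have hc1 : c ^ p ^ k = 1 := orderOf_dvd_iff_pow_eq_one.mp (hk ▸ Subgroup.orderOf_dvd_natCard Q hcQ)
  rw [hn, hc1, one_mul]

/-- the step through an extremal subgroup: `M` is the preimage of the controlling normalizer in `G/Q` -/
theorem exists_mem_of_extremal [Fact p.Prime] (S : Sylow p G) {Q : Subgroup G} [Q.Normal] (hQ : IsPGroup p Q)
    (hG : ∀ y : G, ∃ j : ℕ, y ^ p ^ j ∈ centralizer (Q : Set G)) {M : Subgroup G}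
    (hSM : (S : Subgroup G) ≤ M) {E : Subgroup G} (hES : E ≤ (S : Subgroup G)) (hQE : Q ≤ E)
    (hE : IsSylowIn p ((S : Subgroup G) ⊓ normalizer (E : Set G)) (normalizer (E : Set G)))
    {B : Set G} {x : G} (hB : limg B x = (E : Set G))
    (hmod : ∃ m ∈ M, ∀ b ∈ B, (x * b * x⁻¹)⁻¹ * (m * b * m⁻¹) ∈ Q) :
    ∃ m ∈ M, ∀ b ∈ B, m * b * m⁻¹ = x * b * x⁻¹ := by
  obtain ⟨m, hm, hmb⟩ := hmod
  set y := m * x⁻¹ with hy
  have hye : ∀ e ∈ E, e⁻¹ * (y * e * y⁻¹) ∈ Q := fun e he => by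
    obtain ⟨b, hb, rfl⟩ : e ∈ limg B x := hB ▸ he
    convert hmb b hb using 1
    rw [hy]; group
  -- the stabilizer of the series `E ≥ Q`
  set π := QuotientGroup.mk' Q
  set K0 := (centralizer ((E.map π : Subgroup (G ⧸ Q)) : Set (G ⧸ Q))).comap π with hK0
  have hK0e : ∀ {w : G}, w ∈ K0 ↔ ∀ e ∈ E, e⁻¹ * (w * e * w⁻¹) ∈ Q := by
    intro w
    rw [hK0, mem_comap, mem_centralizer_iff]
    refine ⟨fun h e he => (QuotientGroup.eq_one_iff (N := Q) _).mp ?_, fun h => ?_⟩
    · show π (e⁻¹ * (w * e * w⁻¹)) = 1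
      rw [map_mul, map_inv, map_mul, map_mul, map_inv, ← h _ ⟨e, he, rfl⟩]; group
    · rintro _ ⟨e, he, rfl⟩
      have h1 : π (e⁻¹ * (w * e * w⁻¹)) = 1 := (QuotientGroup.eq_one_iff _).mpr (h e he)
      rw [map_mul, map_inv, map_mul, map_mul, map_inv, inv_mul_eq_one] at h1
      conv_lhs => rw [h1]
      group
  have hKN : K0 ≤ normalizer (E : Set G) := fun w hw => H48.mem_normalizer_of_cj_eq
    (H48.cj_eq_self_of_le (cj_le.mpr fun e he => by
      simpa using mul_mem he (hQE (hK0e.mp hw e he))))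
  have hK0n : (K0.subgroupOf (normalizer (E : Set G))).Normal := by
    refine ⟨fun w hw n => ?_⟩
    simp only [mem_subgroupOf] at hw ⊢
    refine hK0e.mpr fun e he => ?_
    have h1 : (n : G)⁻¹ * e * n ∈ E := by
      simpa using (mem_normalizer_iff.mp (inv_mem n.2) e).mp he
    have h2 := Normal.conj_mem (inferInstance : Q.Normal) _ (hK0e.mp hw _ h1) (n : G)
    convert h2 using 1
    simp [mul_assoc]
  -- `K0 = C(E) U` with `U ≤ S`
  have hCK : centralizer (E : Set G) ≤ K0 := fun w hw => hK0e.mpr fun e he => by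
    rw [← mem_centralizer_iff.mp hw e he]; simp
  set U := ((S : Subgroup G) ⊓ normalizer (E : Set G)) ⊓ K0 with hU
  have hUsyl : IsSylowIn p U K0 := by
    refine ⟨inf_le_right, S.isPGroup'.to_le (inf_le_left.trans inf_le_left), fun hd => ?_⟩
    have := hK0n
    let T := hE.toSylow
    obtain ⟨T', hT'⟩ := exists_sylow_inf_normal T (K0.subgroupOf (normalizer (E : Set G)))
    refine (H48.isSylowIn_map (K0.subgroupOf (normalizer (E : Set G))) T').ndvd ?_
    rw [hT', H48.IsSylowIn.coe_toSylow, ← Subgroup.relIndex_map_map_of_injective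
      _ _ (normalizer (E : Set G)).subtype_injective,
      Subgroup.map_inf _ _ _ (normalizer (E : Set G)).subtype_injective, subgroupOf_map_subtype,
      subgroupOf_map_subtype, inf_eq_left.mpr hKN]
    rw [hU] at hd
    simp only [inf_assoc, inf_left_idem] at hd ⊢
    exact hd
  have hEC : ∀ w ∈ K0, w ∈ centralizer (E : Set G) ⊔ U := by
    have hnorm : ((centralizer (E : Set G)).subgroupOf K0).Normal :=
      normal_subgroupOf_of_le_normalizer (hKN.trans (normalizer_le_normalizer_centralizer' _))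
    set L := (centralizer (E : Set G) ⊔ U).subgroupOf K0 with hL
    have hq : IsPGroup p (K0 ⧸ (centralizer (E : Set G)).subgroupOf K0) := by
      intro w
      obtain ⟨w, rfl⟩ := QuotientGroup.mk'_surjective _ w
      obtain ⟨j, hj⟩ := hG (w : G)
      obtain ⟨i, hi⟩ := pow_mem_centralizer_of_trivial_quotient hQ hQE hj (hK0e.mp w.2)
      exact ⟨i, (map_pow _ w _).symm.trans ((QuotientGroup.eq_one_iff _).mpr hi)⟩
    obtain ⟨a, ha⟩ := IsPGroup.iff_card.mp hq
    have h1 : L.index ∣ p ^ a := by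
      rw [← ha, ← index_eq_card]
      exact index_dvd_of_le fun z hz => mem_sup_left (T := U) hz
    obtain ⟨b, -, hb⟩ := (Nat.dvd_prime_pow Fact.out).mp h1
    have h2 : L.index ∣ U.relIndex K0 := index_dvd_of_le fun z hz => mem_sup_right hz
    have hL1 : L = ⊤ := by
      rw [← index_eq_one, hb]
      rcases b with _ | b
      · rfl
      · exact absurd ((dvd_pow_self p (Nat.succ_ne_zero b)).trans (hb ▸ h2)) hUsyl.ndvd
    intro w hw
    exact (hL1.ge (mem_top ⟨w, hw⟩) :)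
  have hyK : y ∈ ((U ⊔ centralizer (E : Set G) : Subgroup G) : Set G) := by
    rw [sup_comm]; exact hEC y (hK0e.mpr hye)
  rw [coe_mul_of_left_le_normalizer_right _ _
    ((inf_le_left.trans inf_le_right).trans (normalizer_le_normalizer_centralizer' _))] at hyK
  obtain ⟨u, hu, c, hc, huc⟩ := hyK
  change u * c = y at huc
  refine ⟨u⁻¹ * m, mul_mem (inv_mem (hSM hu.1.1)) hm, fun b hb => ?_⟩
  have he : x * b * x⁻¹ ∈ E := (hB.le ⟨b, hb, rfl⟩ :)
  have hc' := mem_centralizer_iff.mp hc _ he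
  calc u⁻¹ * m * b * (u⁻¹ * m)⁻¹ = u⁻¹ * (y * (x * b * x⁻¹) * y⁻¹) * u := by rw [hy]; group
    _ = c * (x * b * x⁻¹) * c⁻¹ := by rw [← huc]; group
    _ = _ := by rw [← hc', mul_inv_cancel_right]

/-- **Strong fusion from the constrained members of a class.** -/
theorem strongFusion_of_constrained [Fact p.Prime] (hW : IsPFunctor p W)
    (C : ∀ (G : Type u) [Group G], Prop)
    (hsub : ∀ (G : Type u) [Group G] [Finite G] (M : Subgroup G), C G → C M)
    (hquot : ∀ (G : Type u) [Group G] [Finite G] (N : Subgroup G) [N.Normal], C G → C (G ⧸ N))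
    (hnorm : ∀ (G : Type u) [Group G] [Finite G], C G →
      centralizer (pCore p G : Set G) ≤ pCore p G → ∀ S : Sylow p G, (W G (S : Subgroup G)).Normal) :
    ∀ (n : ℕ) (G : Type u) [Group G] [Finite G], Nat.card G ≤ n → C G → StrongFusionFor p W G := by
  intro n
  induction n with
  | zero => intro G _ _ hc; exact absurd hc (Nat.not_le.mpr Nat.card_pos)
  | succ n ih =>
    intro G _ _ hcard hCG
    have hlt : ∀ M : Subgroup G, M ≠ ⊤ → Nat.card M ≤ n := fun M hM => by
      have : Nat.card M < Nat.card G := lt_of_le_of_ne (card_le_card_group M) fun h => hM (eq_top_of_card_eq M h)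
      omega
    have hquo : ∀ (K : Subgroup G) [K.Normal], K ≠ ⊥ → StrongFusionFor p W (G ⧸ K) := by
      intro K _ hK
      refine ih _ ?_ (hquot G K hCG)
      have h1 := K.card_mul_index
      rw [index_eq_card] at h1
      have h2 : 2 ≤ Nat.card K := K.one_lt_card_iff_ne_bot.mpr hK
      have h3 : 0 < Nat.card (G ⧸ K) := Nat.card_pos
      nlinarith
    have hsubF : ∀ M : Subgroup G, M ≠ ⊤ → StrongFusionFor p W M := fun M hM => ih _ (hlt M hM) (hsub G M hCG)
    by_cases hK : pPrimeCore p G = ⊥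
    swap
    · exact strongFusion_of_quotient_coprime hW _ Cores.coprime_card_pPrimeCore (hquo _ hK)
    intro S A g hA hAg
    by_cases hQ1 : pCore p G = ⊥
    · -- all normalizers of non-trivial `p`-subgroups are proper
      have hloc : ∀ T : Subgroup G, T ≠ ⊥ → IsWellPlaced p (W G) (S : Subgroup G) T →
          ControlsStrongFusionIn p (W G) (normalizer (T : Set G)) := fun T hT hwp => by
        have hR := H48.IsWellPlaced.isSylowIn S.isPGroup' hwp
        refine H48.controls_of_strongFusionAt hR fun A' h hh hA' hA'' => ?_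
        refine fuse_in_subgroup hW (hsubF _ fun htop => hT ?_) hR hh hA' hA''
        have : T.Normal := normalizer_eq_top_iff.mp htop
        exact le_bot_iff.mp (hQ1 ▸ Cores.le_pCore (S.isPGroup'.to_le hwp.1))
      obtain ⟨x, hx, h⟩ := H48.strongFusionAt_of_controls hW.isConjugacyFunctor
        (S1961.result S (W G) hW.isConjugacyFunctor hloc) (isSylowIn_sylow S) A g (mem_top g) hA hAg
      exact ⟨x, hx.2, h⟩
    set Q := pCore p G with hQ
    set Cq := centralizer (Q : Set G) with hCq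
    have hQp : IsPGroup p Q := Cores.pCore_isPGroup
    have hQS : Q ≤ (S : Subgroup G) := Cores.pCore_le_sylow S
    by_cases hconst : Cq ≤ Q
    · have : (W G (S : Subgroup G)).Normal := hnorm G hCG hconst S
      exact ⟨g, (normalizer_eq_top (H := _)).ge (mem_top g), fun _ _ => rfl⟩
    by_cases hCS : Cq ⊔ (S : Subgroup G) = ⊤
    · -- `G/Q`
      have hGj : ∀ y : G, ∃ j : ℕ, y ^ p ^ j ∈ Cq := fun y => by
        obtain ⟨c, hc, s, hs, rfl⟩ := mem_sup_of_normal_left.mp (hCS.ge (mem_top y))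
        obtain ⟨j, hj⟩ := S.isPGroup' ⟨s, hs⟩
        refine ⟨j, (QuotientGroup.eq_one_iff _).mp ?_⟩
        rw [QuotientGroup.mk_pow, QuotientGroup.mk_mul, (QuotientGroup.eq_one_iff c).mpr hc, one_mul,
          ← QuotientGroup.mk_pow, show s ^ p ^ j = 1 from congrArg Subtype.val hj]
        rfl
      set π := QuotientGroup.mk' Q
      let S' : Sylow p (G ⧸ Q) := S.mapSurjective (QuotientGroup.mk'_surjective Q)
      set M := (normalizer (W (G ⧸ Q) (S' : Subgroup (G ⧸ Q)) : Set (G ⧸ Q))).comap π with hM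
      have hSM : (S : Subgroup G) ≤ M := fun s hs =>
        (le_normalizer.trans (hW.normalizer_le S'.isPGroup')) ⟨s, hs, rfl⟩
      by_cases hMtop : M = ⊤
      · -- `S = Q`
        have h1 : (W (G ⧸ Q) (S' : Subgroup (G ⧸ Q))).Normal := by
          refine normalizer_eq_top_iff.mp (top_le_iff.mp fun x _ => ?_)
          obtain ⟨y, rfl⟩ := QuotientGroup.mk'_surjective Q x
          exact (hMtop.ge (mem_top y) :)
        have h2 : (S' : Subgroup (G ⧸ Q)) = ⊥ := by
          by_contra hne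
          refine hW.ne_bot _ _ S'.isPGroup' hne (le_bot_iff.mp ?_)
          rw [← Cores.pCore_quotient_pCore (p := p) (G := G)]
          exact Cores.le_pCore (S'.isPGroup'.to_le (hW.le _ _ S'.isPGroup'))
        have hSQ : (S : Subgroup G) = Q := le_antisymm (fun s hs =>
          (QuotientGroup.eq_one_iff s).mp (mem_bot.mp (h2 ▸ ⟨s, hs, rfl⟩))) hQS
        refine ⟨g, hW.normalizer_le S.isPGroup' ?_, fun _ _ => rfl⟩
        rw [hSQ]
        exact (normalizer_eq_top (H := _)).ge (mem_top g)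
      have hmod : ∀ (B : Set G) (x : G), B ⊆ (S : Subgroup G) → limg B x ⊆ (S : Subgroup G) →
          ∃ m ∈ M, ∀ b ∈ B, (x * b * x⁻¹)⁻¹ * (m * b * m⁻¹) ∈ Q := by
        intro B x hB hBx
        obtain ⟨m, hm, hmb⟩ := hquo Q hQ1 S' (π '' B) (π x) (by
            rintro _ ⟨b, hb, rfl⟩; exact ⟨b, hB hb, rfl⟩) (by
            rintro _ ⟨_, ⟨b, hb, rfl⟩, rfl⟩
            exact ⟨x * b * x⁻¹, hBx ⟨b, hb, rfl⟩, by simp [π]⟩)
        obtain ⟨m, rfl⟩ := QuotientGroup.mk'_surjective Q m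
        refine ⟨m, hm, fun b hb => QuotientGroup.eq.mp ?_⟩
        show π (x * b * x⁻¹) = π (m * b * m⁻¹)
        simpa [π] using (hmb (π b) ⟨b, hb, rfl⟩).symm
      set B0 := closure A ⊔ Q with hB0
      have hB0S : B0 ≤ (S : Subgroup G) := sup_le ((closure_le _).mpr hA) hQS
      have hB0g : cj g B0 ≤ (S : Subgroup G) := by
        rw [cj, hB0, Subgroup.map_sup, MonoidHom.map_closure]
        refine sup_le ((closure_le _).mpr hAg) ?_
        rintro _ ⟨q, hq, rfl⟩
        exact hQS (Normal.conj_mem (inferInstance : Q.Normal) q hq g)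
      obtain ⟨e, he1, -, he3⟩ := Fusion.exists_extremal S hB0S
      set E := cj e B0
      have hQE : Q ≤ E := fun q hq => mem_cj.mpr
        (mem_sup_right (by simpa using Normal.conj_mem (inferInstance : Q.Normal) q hq e⁻¹))
      have hEsyl : IsSylowIn p ((S : Subgroup G) ⊓ normalizer (E : Set G)) (normalizer (E : Set G)) :=
        ⟨inf_le_right, S.isPGroup'.to_le inf_le_left, he3⟩
      have hEe : limg (B0 : Set G) e = (E : Set G) := H48.limg_coe B0 e
      have hEg : limg ((cj g B0 : Subgroup G) : Set G) (e * g⁻¹) = (E : Set G) := by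
        rw [H48.limg_coe, H48.cj_cj, inv_mul_cancel_right]
      obtain ⟨m1, hm1, h1⟩ := exists_mem_of_extremal S hQp hGj hSM he1 hQE hEsyl hEe
        (hmod _ _ hB0S (hEe.le.trans he1))
      obtain ⟨m2, hm2, h2⟩ := exists_mem_of_extremal S hQp hGj hSM he1 hQE hEsyl hEg
        (hmod _ _ hB0g (hEg.le.trans he1))
      have hag : ∀ a ∈ A, m2⁻¹ * m1 * a * (m2⁻¹ * m1)⁻¹ = g * a * g⁻¹ := fun a ha => by
        have ha0 : a ∈ B0 := mem_sup_left (subset_closure ha)
        have e2 := h2 _ (conj_mem_cj ha0)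
        calc m2⁻¹ * m1 * a * (m2⁻¹ * m1)⁻¹ = m2⁻¹ * (m1 * a * m1⁻¹) * m2 := by group
          _ = m2⁻¹ * ((e * g⁻¹) * (g * a * g⁻¹) * (e * g⁻¹)⁻¹) * m2 := by rw [h1 a ha0]; group
          _ = g * a * g⁻¹ := by rw [← e2]; group
      obtain ⟨n, hn, hna⟩ := fuse_of_sylow_le hW (hsubF M hMtop) S hSM (mul_mem (inv_mem hm2) hm1) hA
        (by rintro _ ⟨a, ha, rfl⟩; show m2⁻¹ * m1 * a * (m2⁻¹ * m1)⁻¹ ∈ (S : Subgroup G); rw [hag a ha]; exact hAg ⟨a, ha, rfl⟩)
      exact ⟨n, hn, fun a ha => (hna a ha).trans (hag a ha)⟩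
    -- `G = N(R) C(Q)`
    set L := Cq ⊔ Q with hL
    set R := (S : Subgroup G) ⊓ L with hR
    set H := normalizer (R : Set G) with hH
    have hQR : Q ≤ R := le_inf hQS le_sup_right
    have hSH : (S : Subgroup G) ≤ H := fun s hs => H48.mem_normalizer_of_cj_eq
      (H48.cj_eq_self_of_le (cj_le.mpr fun r hr =>
        ⟨(S : Subgroup G).mul_mem ((S : Subgroup G).mul_mem hs hr.1) ((S : Subgroup G).inv_mem hs), Normal.conj_mem inferInstance r hr.2 s⟩))
    obtain ⟨T, hT⟩ := exists_sylow_inf_normal S L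
    have hfr : H ⊔ L = ⊤ := by
      have := Sylow.normalizer_sup_eq_top T
      rwa [hT] at this
    have hHC : ∀ y : G, ∃ h ∈ H, ∃ c ∈ Cq, y = h * c := fun y => by
      have hy : y ∈ H ⊔ Cq := by
        have : H ⊔ Cq = ⊤ := top_le_iff.mp (hfr.ge.trans (sup_le le_sup_left
          (sup_le le_sup_right ((hQS.trans hSH).trans le_sup_left))))
        exact this.ge (mem_top y)
      obtain ⟨h, hh, c, hc, rfl⟩ := mem_sup_of_normal_right.mp hy
      exact ⟨h, hh, c, hc, rfl⟩
    have hHtop : H ≠ ⊤ := by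
      intro htop
      apply hconst
      have : R.Normal := normalizer_eq_top_iff.mp htop
      have hRQ : R ≤ Q := Cores.le_pCore (S.isPGroup'.to_le inf_le_left)
      obtain ⟨T', hT'⟩ := exists_sylow_inf_normal S Cq
      have hcent : normalizer ((T' : Subgroup Cq) : Set Cq) ≤ centralizer ((T' : Subgroup Cq) : Set Cq) := by
        intro x _
        refine mem_centralizer_iff.mpr fun t ht => Subtype.ext ?_
        have htS : (t : G) ∈ (S : Subgroup G) ⊓ Cq := hT'.le ⟨t, ht, rfl⟩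
        exact mem_centralizer_iff.mp x.2 _ (hRQ ⟨htS.1, mem_sup_left htS.2⟩)
      obtain ⟨P, N, hNn, hNP⟩ := Fusion.hasNormalPComplement_of_normalizer_le_centralizer T' hcent
      have hN1 : (Nat.card N).Coprime p := ((Fact.out : p.Prime).coprime_iff_not_dvd.mpr
        (Fusion.not_dvd_card_of_isComplement' P hNP)).symm
      have hN : N = ⊥ := by
        have h3 : N ≤ pPrimeCore p Cq := Cores.le_pPrimeCore hN1
        have h4 : (pPrimeCore p Cq).map Cq.subtype ≤ ⊥ := hK ▸ Cores.map_pPrimeCore_le_of_normal Cq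
        rw [le_bot_iff, Subgroup.map_eq_bot_iff_of_injective _ Cq.subtype_injective] at h4
        exact le_bot_iff.mp (h4 ▸ h3)
      have hP : (P : Subgroup Cq) = ⊤ := by
        have := hNP.sup_eq_top
        rwa [hN, bot_sup_eq] at this
      intro c hc
      obtain ⟨x, hx⟩ := MulAction.exists_smul_eq Cq P T'
      have hT'top : (T' : Subgroup Cq) = ⊤ := by
        refine eq_top_of_card_eq _ ?_
        rw [Nat.card_congr (T'.equiv P).toEquiv, hP, card_top]
      have hcS : c ∈ (S : Subgroup G) ⊓ Cq := hT'.le ⟨⟨c, hc⟩, hT'top.ge (mem_top _), rfl⟩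
      exact hRQ ⟨hcS.1, mem_sup_left hcS.2⟩
    obtain ⟨h, hh, c, hc, rfl⟩ := hHC g
    set L1 := (Cq ⊔ (S : Subgroup G)) ⊓ H with hL1
    set B'' := closure (limg A c) with hB''
    have hB''h : B'' ≤ cj h⁻¹ (S : Subgroup G) := (closure_le _).mpr (by
      rintro _ ⟨a, ha, rfl⟩
      refine mem_cj.mpr ?_
      have := hAg ⟨a, ha, rfl⟩
      change h * c * a * (h * c)⁻¹ ∈ (S : Subgroup G) at this
      show (h⁻¹)⁻¹ * (c * a * c⁻¹) * h⁻¹ ∈ (S : Subgroup G)
      convert this using 1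
      group)
    have hB''L : B'' ≤ L1 := le_inf ((closure_le _).mpr (by
        rintro _ ⟨a, ha, rfl⟩
        show c * a * c⁻¹ ∈ Cq ⊔ (S : Subgroup G)
        exact mul_mem (mul_mem (mem_sup_left hc) (mem_sup_right (hA ha))) (inv_mem (mem_sup_left hc))))
      (hB''h.trans (cj_le.mpr fun s hs => by
        simpa using mul_mem (mul_mem (inv_mem hh) (hSH hs)) hh))
    have hSL1 : IsSylowIn p (S : Subgroup G) L1 :=
      ⟨le_inf le_sup_right hSH, S.isPGroup', fun hd => S.not_dvd_index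
        (hd.trans (relIndex_dvd_index_of_le (le_inf le_sup_right hSH)))⟩
    obtain ⟨l, hl, hlB⟩ := hSL1.exists_cj_le ((H48.isPGroup_cj S.isPGroup').to_le hB''h) hB''L
    obtain ⟨c1, hc1, s, hs, rfl⟩ := mem_sup_of_normal_left.mp hl.1
    -- move `s` to the left
    set d := s⁻¹ * c1 * s with hd
    have hdC : d ∈ Cq := by simpa [hd] using Normal.conj_mem (inferInstance : Cq.Normal) c1 hc1 s⁻¹
    have hdH : d ∈ H := by
      have : d = s⁻¹ * (c1 * s) := by rw [hd, mul_assoc]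
      rw [this]; exact mul_mem (inv_mem (hSH hs)) hl.2
    have hdB : ∀ a ∈ A, d * c * a * (d * c)⁻¹ ∈ (S : Subgroup G) := fun a ha => by
      have h1 := hlB (conj_mem_cj (subset_closure (⟨a, ha, rfl⟩ : c * a * c⁻¹ ∈ limg A c)))
      have h2 := mul_mem (mul_mem (inv_mem hs) h1) hs
      convert h2 using 1
      rw [hd]; group
    obtain ⟨n1, hn1, h1a⟩ := fuse_of_sylow_le hW (hsubF _ hCS) S le_sup_right
      (mem_sup_left (mul_mem hdC hc)) hA (by rintro _ ⟨a, ha, rfl⟩; exact hdB a ha)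
    obtain ⟨n2, hn2, h2a⟩ := fuse_of_sylow_le hW (hsubF H hHtop) S hSH
      (mul_mem hh (inv_mem hdH)) (A := limg A (d * c)) (by rintro _ ⟨a, ha, rfl⟩; exact hdB a ha) (by
        rw [H48.limg_limg, show h * d⁻¹ * (d * c) = h * c by group]; exact hAg)
    refine ⟨n2 * n1, mul_mem hn2 hn1, fun a ha => ?_⟩
    calc n2 * n1 * a * (n2 * n1)⁻¹ = n2 * (n1 * a * n1⁻¹) * n2⁻¹ := by group
      _ = h * d⁻¹ * (d * c * a * (d * c)⁻¹) * (h * d⁻¹)⁻¹ := by rw [h1a a ha]; exact h2a _ ⟨a, ha, rfl⟩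
      _ = h * c * a * (h * c)⁻¹ := by group

end Cfsg.Agent.Thompson
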