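import Mathlib
import Cfsg.Agent.Thompson.StrongFusion
import Cfsg.Agent.Thompson.PStable
import Cfsg.Agent.Thompson.NormalPComplement
import Cfsg.Agent.H58.Qd

/-!
`Z(J(S))` controls strong fusion when `Qd(p)` is not involved, and a local form.
-/

set_option autoImplicit false

namespace Cfsg.Agent.Thompson

open Subgroup
open H48 (cj limg IsSylowIn isSylowIn_sylow cj_le cj_mono conj_mem_cj mem_cj)

universe u

variable {p : ℕ}

/-- `zjay e` as a functor -/
abbrev zjayW (e : ℕ) : ∀ (G : Type u) [Group G], Subgroup G → Subgroup G := fun G _ P => zjay e P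

theorem zjayW_isPFunctor [Fact p.Prime] {e : ℕ} (he : e = 0 ∨ e = p) : IsPFunctor.{u} p (zjayW e) where
  le _ _ _ _ _ := zjay_le
  ne_bot _ _ _ _ hP hne := zjay_ne_bot hP hne he
  map_eq _ _ _ _ _ f P _ hf := zjay_map_of_injective_comp f P hf

theorem hasSection_sl2_of_qd {G : Type*} [Group G] [Fact p.Prime] (h : HasSection (qd p) G) :
    HasSection (Matrix.SpecialLinearGroup (Fin 2) (ZMod p)) G := by
  obtain ⟨M, φ0, hφ0⟩ := h
  let φ : M →* ↥(qdOver (ZMod p)) :=
    (MulEquiv.subgroupCongr (show qd p = qdOver (ZMod p) from rfl)).toMonoidHom.comp φ0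
  have hφ : Function.Surjective φ := (MulEquiv.subgroupCongr (show qd p = qdOver (ZMod p) from rfl)).surjective.comp hφ0
  refine ⟨M, (H58.Qd.toSL2 (F := ZMod p)).comp φ, fun A => ?_⟩
  obtain ⟨m, hm⟩ := hφ (H58.Qd.mk A 0)
  exact ⟨m, by rw [MonoidHom.comp_apply, hm]; exact H58.Qd.toSL2_mk A 0⟩

theorem strongFusion_zjay [Fact p.Prime] (hp : p ≠ 2) {e : ℕ} (he : e = 0 ∨ e = p) (G : Type u) [Group G]
    [Finite G] (h : ¬ HasSection (qd p) G) : StrongFusionFor p (zjayW e) G :=
  strongFusion_of_constrained (zjayW_isPFunctor he) (fun H _ => ¬ HasSection (qd p) H)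
    (fun _ _ _ M hH h' => hH (h'.of_injective M.subtype_injective))
    (fun _ _ _ N _ hH h' => hH (h'.of_surjective (QuotientGroup.mk'_surjective N)))
    (fun H _ _ hH hc S => zjay_normal hp he hc (stableOnNormal_of_qd_free hp hH) S)
    (Nat.card G) G le_rfl h

/-! ### local form -/

variable {G : Type u} [Group G] [Finite G]

/-- the conjugation by `g` on `A` is induced from `N(W S)` -/
def Induced' (e : ℕ) (S : Sylow p G) (A : Set G) (g : G) : Prop :=
  ∃ n ∈ normalizer (zjay e (S : Subgroup G) : Set G), ∀ a ∈ A, n * a * n⁻¹ = g * a * g⁻¹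

theorem Induced'.trans {e : ℕ} {S : Sylow p G} {A : Set G} {g k : G} (h1 : Induced' e S A g)
    (h2 : Induced' e S (limg A g) k) : Induced' e S A (k * g) := by
  obtain ⟨n, hn, h1⟩ := h1
  obtain ⟨m, hm, h2⟩ := h2
  refine ⟨m * n, mul_mem hm hn, fun a ha => ?_⟩
  calc m * n * a * (m * n)⁻¹ = m * (n * a * n⁻¹) * m⁻¹ := by group
    _ = k * (g * a * g⁻¹) * k⁻¹ := by rw [h1 a ha]; exact h2 _ ⟨a, ha, rfl⟩
    _ = k * g * a * (k * g)⁻¹ := by group

theorem Induced'.mono {e : ℕ} {S : Sylow p G} {A B : Set G} {g : G} (h : Induced' e S A g) (hB : B ⊆ A) :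
    Induced' e S B g := by
  obtain ⟨n, hn, h1⟩ := h
  exact ⟨n, hn, fun a ha => h1 a (hB ha)⟩

theorem Induced'.congr {e : ℕ} {S : Sylow p G} {A : Set G} {g g' : G} (h : Induced' e S A g)
    (he : ∀ a ∈ A, g * a * g⁻¹ = g' * a * g'⁻¹) : Induced' e S A g' := by
  obtain ⟨n, hn, h1⟩ := h
  exact ⟨n, hn, fun a ha => (h1 a ha).trans (he a ha)⟩

/-- If the normalizers of the subgroups containing `Z(S)` have no section `Qd(p)`, `Z(J(S))` controls
the fusion of `S`. -/
theorem induced_zjay_of_local [Fact p.Prime] (hp : p ≠ 2) (S : Sylow p G)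
    (hfree : ∀ P : Subgroup G, (S : Subgroup G) ⊓ centralizer ((S : Subgroup G) : Set G) ≤ P →
      P ≤ (S : Subgroup G) → ¬ HasSection (qd p) (normalizer (P : Set G))) :
    ∀ (T : Subgroup G), T ≤ (S : Subgroup G) → ∀ g : G, cj g T ≤ (S : Subgroup G) →
      Induced' 0 S (T : Set G) g := by
  have hW := zjayW_isPFunctor.{u} (p := p) (e := 0) (.inl rfl)
  have hSp := S.isPGroup'
  let Free : Subgroup G → Prop := fun V => ¬ HasSection (qd p) (normalizer (V : Set G))
  let Fus : Subgroup G → Prop := fun V => ∀ (A : Set G) (y : G), y ∈ normalizer (V : Set G) →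
    A ⊆ ((S : Subgroup G) ⊓ normalizer (V : Set G) : Subgroup G) →
    limg A y ⊆ ((S : Subgroup G) ⊓ normalizer (V : Set G) : Subgroup G) → Induced' 0 S A y
  suffices key : ∀ (d r : ℕ), Nat.card S - r = d →
      (∀ T : Subgroup G, T ≤ (S : Subgroup G) → Nat.card T = r → ∀ g : G, cj g T ≤ (S : Subgroup G) →
        Induced' 0 S (T : Set G) g) ∧
      (∀ V : Subgroup G, V ≤ (S : Subgroup G) → Free V → V ≠ ⊥ →
        Nat.card ↥((S : Subgroup G) ⊓ normalizer (V : Set G)) = r → Fus V) from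
    fun T hT g hg => (key _ _ rfl).1 T hT rfl g hg
  intro d
  induction d using Nat.strong_induction_on with
  | _ d ih =>
  intro r hd
  have ihT : ∀ T : Subgroup G, T ≤ (S : Subgroup G) → r < Nat.card T → ∀ g : G,
      cj g T ≤ (S : Subgroup G) → Induced' 0 S (T : Set G) g := fun T h1 h2 =>
    (ih _ (by have : Nat.card T ≤ Nat.card S := Subgroup.card_le_of_le h1; omega) (Nat.card T) rfl).1 T h1 rfl
  have ihV : ∀ V : Subgroup G, V ≤ (S : Subgroup G) → Free V → V ≠ ⊥ →
      r < Nat.card ↥((S : Subgroup G) ⊓ normalizer (V : Set G)) → Fus V := fun V h1 h2 h3 h4 =>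
    (ih _ (by
      have : Nat.card ↥((S : Subgroup G) ⊓ normalizer (V : Set G)) ≤ Nat.card S :=
        Subgroup.card_le_of_le inf_le_left
      omega) _ rfl).2 V h1 h2 h3 rfl
  -- extremal subgroups
  have good : ∀ V : Subgroup G, V ≤ (S : Subgroup G) → Free V → V ≠ ⊥ →
      (S : Subgroup G) ⊓ centralizer ((S : Subgroup G) : Set G) ≤ (S : Subgroup G) ⊓ normalizer (V : Set G) →
      r ≤ Nat.card ↥((S : Subgroup G) ⊓ normalizer (V : Set G)) →
      IsSylowIn p ((S : Subgroup G) ⊓ normalizer (V : Set G)) (normalizer (V : Set G)) → Fus V := by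
    intro V hVS hV hV1 hZR hr hsyl A y hy hA hA'
    set R := (S : Subgroup G) ⊓ normalizer (V : Set G) with hR
    obtain ⟨x, hx, hxa⟩ := fuse_in_subgroup hW (strongFusion_zjay hp (.inl rfl) _ hV) hsyl hy hA hA'
    by_cases hRS : R = (S : Subgroup G)
    · exact ⟨x, hRS ▸ hx.2, hxa⟩
    have hRp : IsPGroup p R := hSp.to_le inf_le_left
    have hRV : V ≤ R := le_inf hVS le_normalizer
    have hRne : R ≠ ⊥ := fun h => hV1 (le_bot_iff.mp (h ▸ hRV))
    have hlt := H48.card_lt_card_inf_normalizer hSp (inf_le_left : R ≤ S) hRS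
    have hle : (S : Subgroup G) ⊓ normalizer (R : Set G) ≤
        (S : Subgroup G) ⊓ normalizer (zjay 0 R : Set G) := inf_le_inf le_rfl (hW.normalizer_le hRp)
    have hsub : R ≤ (S : Subgroup G) ⊓ normalizer (zjay 0 R : Set G) :=
      (le_inf inf_le_left le_normalizer).trans hle
    refine (ihV (zjay 0 R) (zjay_le.trans inf_le_left) (hfree _ ?_ (zjay_le.trans inf_le_left))
      (hW.ne_bot G R hRp hRne) (lt_of_le_of_lt hr (hlt.trans_le (Subgroup.card_le_of_le hle))) A x hx.2
      (hA.trans hsub) ?_).congr hxa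
    · rw [zjay_eq_inf_centralizer]
      exact le_inf hZR fun z hz => mem_centralizer_iff.mpr fun w hw =>
        mem_centralizer_iff.mp hz.2 w ((jay_le.trans inf_le_left : jay 0 R ≤ _) hw)
    · rw [H48.limg_congr hxa]; exact hA'.trans hsub
  have move : ∀ T E : Subgroup G, T ≤ (S : Subgroup G) → (∃ k, cj k T = E) →
      IsSylowIn p ((S : Subgroup G) ⊓ normalizer (E : Set G)) (normalizer (E : Set G)) →
      ∃ h : G, cj h T = E ∧
        cj h ((S : Subgroup G) ⊓ normalizer (T : Set G)) ≤ (S : Subgroup G) ⊓ normalizer (E : Set G) := by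
    rintro T E - ⟨k, hk⟩ hE
    obtain ⟨m, hm, hm'⟩ := hE.exists_cj_le (H48.isPGroup_cj (g := k) (hSp.to_le (inf_le_left :
      (S : Subgroup G) ⊓ normalizer (T : Set G) ≤ S)))
      (by rw [← hk, ← H48.cj_normalizer]; exact cj_mono inf_le_right)
    exact ⟨m * k, by rw [← H48.cj_cj, hk, H48.cj_eq_of_mem_normalizer hm], by rwa [← H48.cj_cj]⟩
  have hQ : ∀ T : Subgroup G, T ≤ (S : Subgroup G) → Nat.card T = r → ∀ g : G,
      cj g T ≤ (S : Subgroup G) → Induced' 0 S (T : Set G) g := by
    intro T hT hr g hg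
    by_cases hTS : T = (S : Subgroup G)
    · subst hTS
      exact ⟨g, hW.normalizer_le hSp (H48.mem_normalizer_of_cj_eq (H48.cj_eq_self_of_le hg)), fun _ _ => rfl⟩
    obtain ⟨e, he1, -, he3⟩ := Fusion.exists_extremal S hT
    set E := cj e T
    have hEsyl : IsSylowIn p ((S : Subgroup G) ⊓ normalizer (E : Set G)) (normalizer (E : Set G)) :=
      ⟨inf_le_right, hSp.to_le inf_le_left, he3⟩
    have hES : E ≤ (S : Subgroup G) := he1
    have hEr : Nat.card E = r := (H48.card_cj e T).trans hr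
    obtain ⟨h₁, e₁, l₁⟩ := move T E hT ⟨e, rfl⟩ hEsyl
    obtain ⟨h₂, e₂, l₂⟩ := move (cj g T) E hg ⟨e * g⁻¹, by rw [H48.cj_cj, inv_mul_cancel_right]⟩ hEsyl
    have hT2ne : cj g T ≠ (S : Subgroup G) := fun he =>
      hTS (H48.eq_of_le_of_card_le hT (by rw [← he, H48.card_cj]))
    have r₁ : Induced' 0 S (T : Set G) h₁ :=
      (ihT _ inf_le_left (hr ▸ H48.card_lt_card_inf_normalizer hSp hT hTS) h₁
        (l₁.trans inf_le_left)).mono (le_inf hT le_normalizer : T ≤ _)
    have r₂ : Induced' 0 S (E : Set G) h₂⁻¹ := by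
      refine (ihT (cj h₂ ((S : Subgroup G) ⊓ normalizer ((cj g T : Subgroup G) : Set G)))
        (l₂.trans inf_le_left) ?_ h₂⁻¹ (by rw [H48.cj_inv_cj]; exact inf_le_left)).mono ?_
      · rw [H48.card_cj, ← hr, ← H48.card_cj g T]; exact H48.card_lt_card_inf_normalizer hSp hg hT2ne
      · rw [← e₂]; exact cj_mono (le_inf hg le_normalizer)
    set y := h₂ * g * h₁⁻¹ with hydef
    have hy : y ∈ normalizer (E : Set G) := by
      refine H48.mem_normalizer_of_cj_eq ?_
      nth_rw 1 [← e₁]
      rw [H48.cj_cj, hydef, inv_mul_cancel_right, ← H48.cj_cj, e₂]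
    have r₃ : Induced' 0 S (E : Set G) y := by
      set N := normalizer (E : Set G) with hN
      set C := centralizer (E : Set G) with hC
      set E' := ((S : Subgroup G) ⊓ N) ⊓ (E ⊔ C) with hE'
      have hEE' : E ≤ E' := le_inf (le_inf hES le_normalizer) le_sup_left
      have hCN : C ≤ N := centralizer_le_normalizer _
      have hLN : E ⊔ C ≤ N := sup_le le_normalizer hCN
      by_cases hlt : E' = E
      · -- `C_S(E) ≤ E`
        have hZE : (S : Subgroup G) ⊓ centralizer ((S : Subgroup G) : Set G) ≤ E := fun z hz =>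
          hlt.le ⟨⟨hz.1, hCN (centralizer_le (fun a ha => hES ha) hz.2)⟩,
            mem_sup_right (centralizer_le (fun a ha => hES ha) hz.2)⟩
        by_cases hE0 : E = ⊥
        · refine ⟨1, one_mem _, fun a ha => ?_⟩
          rw [show a = 1 from mem_bot.mp (hE0 ▸ ha)]; simp
        have hER : E ≤ (S : Subgroup G) ⊓ N := le_inf hES le_normalizer
        refine good E hES (hfree E hZE hES) hE0 (hZE.trans hER) (hEr ▸ Subgroup.card_le_of_le hER) hEsyl
          _ y hy hER ?_
        rw [H48.limg_coe, H48.cj_eq_of_mem_normalizer hy]; exact hER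
      -- Frattini for `E C(E)` in `N(E)`
      have hnorm : ((E ⊔ C).subgroupOf N).Normal := by
        refine normal_subgroupOf_of_le_normalizer fun n hn => H48.mem_normalizer_of_cj_eq ?_
        rw [cj, Subgroup.map_sup, show E.map _ = E from H48.cj_eq_of_mem_normalizer hn,
          show C.map _ = C from H48.cj_eq_of_mem_normalizer (normalizer_le_normalizer_centralizer' E hn)]
      obtain ⟨T', hT'⟩ := exists_sylow_inf_normal hEsyl.toSylow ((E ⊔ C).subgroupOf N)
      have hfr := Sylow.normalizer_sup_eq_top T'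
      rw [hT', H48.IsSylowIn.coe_toSylow] at hfr
      obtain ⟨h, hh, l, hl, hhl⟩ := mem_sup_of_normal_right.mp (hfr.ge (mem_top ⟨y, hy⟩))
      have hhE' : (h : G) ∈ normalizer (E' : Set G) := by
        refine H48.mem_normalizer_of_cj_eq ?_
        have h2 := congrArg (Subgroup.map N.subtype) (H48.cj_eq_of_mem_normalizer hh)
        rw [cj, Subgroup.map_map] at h2
        rw [cj, show E' = ((((S : Subgroup G) ⊓ N).subgroupOf N) ⊓ (E ⊔ C).subgroupOf N).map N.subtype by
          rw [Subgroup.map_inf _ _ _ N.subtype_injective, subgroupOf_map_subtype, subgroupOf_map_subtype,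
            inf_eq_left.mpr hLN, hE']
          simp only [inf_assoc, inf_left_idem, inf_idem], Subgroup.map_map]
        exact h2
      have hl' : (l : G) ∈ ((E ⊔ C : Subgroup G) : Set G) := hl
      rw [Subgroup.coe_mul_of_left_le_normalizer_right E C
        ((le_normalizer).trans (normalizer_le_normalizer_centralizer' E))] at hl'
      obtain ⟨e', he', c, hc, hec⟩ := hl'
      change e' * c = (l : G) at hec
      have hhe : (h : G) * e' ∈ normalizer (E' : Set G) := mul_mem hhE' (le_normalizer (hEE' he'))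
      have hlt' : r < Nat.card E' := by
        rw [← hEr]
        refine lt_of_le_of_ne (Subgroup.card_le_of_le hEE') fun hc => hlt ?_
        exact (H48.eq_of_le_of_card_le hEE' hc.ge).symm
      have hE'S : E' ≤ (S : Subgroup G) := inf_le_left.trans inf_le_left
      refine ((ihT E' hE'S hlt' _ (by rw [H48.cj_eq_of_mem_normalizer hhe]; exact hE'S)).mono hEE').congr
        fun a ha => ?_
      have hya : y = (h : G) * e' * c := by
        rw [mul_assoc, hec]; exact (congrArg Subtype.val hhl).symm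
      have h3 := mem_centralizer_iff.mp hc a ha
      rw [hya]
      calc (h : G) * e' * a * ((h : G) * e')⁻¹ = (h : G) * e' * (a * c) * c⁻¹ * ((h : G) * e')⁻¹ := by group
        _ = _ := by rw [h3]; group
    have h123 := r₁.trans (k := h₂⁻¹ * y) (by
      rw [H48.limg_coe, e₁]
      exact r₃.trans (by rw [H48.limg_coe, H48.cj_eq_of_mem_normalizer hy]; exact r₂))
    simpa [hydef, mul_assoc] using h123
  refine ⟨hQ, fun V hVS hV hV1 hr A y hy hA hA' => ?_⟩
  -- move `V` to an extremal subgroup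
  obtain ⟨e, he1, he2, he3⟩ := Fusion.exists_extremal S hVS
  set U := cj e V
  have hUsyl : IsSylowIn p ((S : Subgroup G) ⊓ normalizer (U : Set G)) (normalizer (U : Set G)) :=
    ⟨inf_le_right, hSp.to_le inf_le_left, he3⟩
  set RV := (S : Subgroup G) ⊓ normalizer (V : Set G) with hRV
  have hle : cj e RV ≤ (S : Subgroup G) ⊓ normalizer (U : Set G) :=
    le_inf he2 (by rw [← H48.cj_normalizer]; exact cj_mono inf_le_right)
  have hUfree : Free U := fun hs => hV (by
    have hsec : HasSection (qd p) ↥(cj e (normalizer (V : Set G))) := by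
      rw [H48.cj_normalizer]; exact hs
    exact hsec.of_injective (f := ((normalizer (V : Set G)).equivMapOfInjective _
      (MulAut.conj e).injective).symm.toMonoidHom) (MulEquiv.injective _))
  have hZR : (S : Subgroup G) ⊓ centralizer ((S : Subgroup G) : Set G) ≤
      (S : Subgroup G) ⊓ normalizer (U : Set G) :=
    le_inf inf_le_left (fun z hz => centralizer_le_normalizer _ (centralizer_le (fun a ha => he1 ha) hz.2))
  have hsrc := hQ RV inf_le_left hr e he2
  have hsrc' := hQ (cj e RV) he2 (by rw [H48.card_cj, hr]) e⁻¹ (by rw [H48.cj_inv_cj]; exact inf_le_left)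
  have hA1 : limg A e ⊆ ((S : Subgroup G) ⊓ normalizer (U : Set G) : Subgroup G) := by
    rintro _ ⟨a, ha, rfl⟩; exact hle (conj_mem_cj (hA ha))
  have h2 := good U he1 hUfree (H48.cj_ne_bot hV1) hZR (by
    rw [← hr, ← H48.card_cj e]; exact Subgroup.card_le_of_le hle) hUsyl (limg A e) (e * y * e⁻¹) (by
    rw [← H48.cj_normalizer]; exact conj_mem_cj hy) hA1 (by
    rw [H48.limg_limg, inv_mul_cancel_right]
    rintro _ ⟨a, ha, rfl⟩
    refine hle ⟨y * a * y⁻¹, hA' ⟨a, ha, rfl⟩, ?_⟩
    simp [mul_assoc])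
  have h3 : Induced' 0 S (limg (limg A e) (e * y * e⁻¹)) e⁻¹ := hsrc'.mono (by
    rw [H48.limg_limg, inv_mul_cancel_right]
    rintro _ ⟨a, ha, rfl⟩
    exact ⟨y * a * y⁻¹, hA' ⟨a, ha, rfl⟩, by simp [mul_assoc]⟩)
  have := (hsrc.mono hA).trans (h2.trans h3)
  simpa [mul_assoc] using this

end Cfsg.Agent.Thompson
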