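import Mathlib
import Cfsg.Agent.Thompson.Forms
import Cfsg.Agent.Thompson.ZJFusion
import Cfsg.Agent.Linear.Order

/-!
`Qd(p)`: it gives a `p`-local `SL₂(p)`, and its `Z(J)` does not control fusion.
-/

set_option autoImplicit false

namespace Cfsg.Agent.Thompson

open Subgroup
open scoped commutatorElement
open Cfsg.Agent.H58.Qd

variable {p : ℕ}

theorem exists_local_sl2_of_qd {G : Type*} [Group G] [Finite G] [Fact p.Prime] (h : HasSection (qd p) G) :
    ∃ P : Subgroup G, IsPGroup p P ∧ P ≠ ⊥ ∧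
      HasSection (Matrix.SpecialLinearGroup (Fin 2) (ZMod p)) (normalizer (P : Set G)) := by
  obtain ⟨M, φ0, hφ0⟩ := h
  let φ : M →* ↥(qdOver (ZMod p)) :=
    (MulEquiv.subgroupCongr (show qd p = qdOver (ZMod p) from rfl)).toMonoidHom.comp φ0
  have hφ : Function.Surjective φ :=
    (MulEquiv.subgroupCongr (show qd p = qdOver (ZMod p) from rfl)).surjective.comp hφ0
  have : (H58.Qd.trans (ZMod p)).Normal := MonoidHom.normal_ker _
  set W := (H58.Qd.trans (ZMod p)).comap φ with hW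
  obtain ⟨T⟩ := (inferInstance : Nonempty (Sylow p W))
  set P := (T : Subgroup W).map W.subtype with hP
  have hfr : normalizer (P : Set M) ⊔ W = ⊤ := Sylow.normalizer_sup_eq_top T
  refine ⟨P.map M.subtype, (T.isPGroup'.map _).map _, ?_, ?_⟩
  · rw [Ne, Subgroup.map_eq_bot_iff_of_injective _ M.subtype_injective,
      Subgroup.map_eq_bot_iff_of_injective _ W.subtype_injective]
    intro hT
    obtain ⟨m, hm⟩ := hφ (H58.Qd.mk 1 ![1, 0])
    have hmW : m ∈ W := by
      show φ m ∈ H58.Qd.trans (ZMod p)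
      rw [hm]; exact (mem_trans_iff _).mpr ⟨_, rfl⟩
    have hne : φ m ≠ 1 := by
      rw [hm, ← H58.Qd.mk_one]
      intro h
      have := congrArg (fun x => ent x 0 2) h
      simp at this
    have hd : p ∣ Nat.card W := by
      have h1 : orderOf (φ m) ∣ orderOf (⟨m, hmW⟩ : W) :=
        orderOf_map_dvd φ m |>.trans (Subgroup.orderOf_mk m hmW).symm.dvd
      obtain ⟨k, hk⟩ := trans_isPGroup (F := ZMod p) ⟨φ m, hmW⟩
      obtain ⟨j, -, hj⟩ := (Nat.dvd_prime_pow Fact.out).mp
        (orderOf_dvd_of_pow_eq_one (congrArg Subtype.val hk : φ m ^ p ^ k = 1))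
      rcases j with _ | j
      · exact absurd (orderOf_eq_one_iff.mp hj) hne
      · exact ((hj ▸ dvd_pow_self p (Nat.succ_ne_zero j)).trans h1).trans (_root_.orderOf_dvd_natCard _)
    apply T.not_dvd_index
    rwa [hT, index_bot]
  · let f : normalizer (P : Set M) →* normalizer ((P.map M.subtype : Subgroup G) : Set G) :=
      MonoidHom.codRestrict (M.subtype.comp (normalizer (P : Set M)).subtype) _ fun n => by
        refine H48.mem_normalizer_of_cj_eq ?_
        conv_rhs => rw [← H48.cj_eq_of_mem_normalizer n.2]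
        rw [H48.cj, H48.cj, Subgroup.map_map P M.subtype, Subgroup.map_map P _ M.subtype]
        rfl
    refine HasSection.of_injective (f := f) (fun a b h => Subtype.ext (Subtype.ext
      (congrArg (fun z : ↥(normalizer ((P.map M.subtype : Subgroup G) : Set G)) => (z : G)) h))) ?_
    refine ⟨⊤, (toSL2.comp (φ.comp (normalizer (P : Set M)).subtype)).comp (Subgroup.subtype ⊤), fun A => ?_⟩
    obtain ⟨m, hm⟩ := hφ (H58.Qd.mk A 0)
    obtain ⟨n, hn, w, hw, hnw⟩ := mem_sup_of_normal_right.mp (hfr.ge (mem_top m))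
    refine ⟨⟨⟨n, hn⟩, mem_top _⟩, ?_⟩
    show toSL2 (φ n) = A
    have : toSL2 (φ w) = 1 := hw
    rw [← hnw, map_mul] at hm
    have h2 := congrArg toSL2 hm
    rwa [map_mul, this, mul_one, toSL2_mk] at h2

theorem not_controlsStrongFusion_zjay_of_equiv_qd {Q : Type*} [Group Q] [Finite Q] [Fact p.Prime]
    (hp : p ≠ 2) (e : Q ≃* ↥(qdOver (ZMod p))) :
    ∃ T : Sylow p Q, ¬ ControlsStrongFusion p (zjay 0 (T : Subgroup Q)) := by
  have hpp : p.Prime := Fact.out
  set P := (toSL2.comp e.toMonoidHom : Q →* Matrix.SpecialLinearGroup (Fin 2) (ZMod p)).ker with hP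
  have hPm : ∀ x, x ∈ P ↔ ∃ v, e x = H58.Qd.mk 1 v := fun x => mem_trans_iff (e x)
  have hPmk : ∀ v, e.symm (H58.Qd.mk 1 v) ∈ P := fun v => (hPm _).mpr ⟨v, e.apply_symm_apply _⟩
  have hPc : IsMulCommutative P := isMulCommutative_iff_forall.mpr fun a ha b hb => e.injective (by
    obtain ⟨v, hv⟩ := (hPm a).mp ha
    obtain ⟨w, hw⟩ := (hPm b).mp hb
    rw [map_mul, map_mul, hv, hw, mk_mul, mk_mul]
    simp [add_comm])
  have hPp : IsPGroup p P := by
    rintro ⟨x, hx⟩
    obtain ⟨k, hk⟩ := trans_isPGroup (F := ZMod p) ⟨e x, hx⟩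
    exact ⟨k, Subtype.ext (e.injective ((map_pow e x _).trans
      ((congrArg Subtype.val hk).trans (map_one e).symm)))⟩
  -- a Sylow subgroup containing the upper unitriangular elements
  let U : Multiplicative (ZMod p) →* Q := e.symm.toMonoidHom.comp
    (MonoidHom.mk' (fun t => H58.Qd.mk (upper (Multiplicative.toAdd t)) 0) fun s t => by
      rw [mk_mul, Matrix.mulVec_zero, zero_add, upper_mul]; rfl)
  have hUp : IsPGroup p U.range := by
    rintro ⟨_, t, rfl⟩
    refine ⟨1, Subtype.ext ?_⟩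
    show U t ^ p ^ 1 = 1
    rw [← map_pow, pow_one]
    have : t ^ p = 1 := Multiplicative.toAdd.injective (by simp)
    rw [this, map_one]
  obtain ⟨T, hT⟩ := (hUp.to_sup_of_normal_right (K := P) hPp).exists_le_sylow
  refine ⟨T, ?_⟩
  have hPT : P ≤ (T : Subgroup Q) := le_sup_right.trans hT
  let u : Q := U (Multiplicative.ofAdd 1)
  have hu : u ∈ (T : Subgroup Q) := le_sup_left.trans hT ⟨_, rfl⟩
  have heu : e u = H58.Qd.mk (upper 1) 0 := e.apply_symm_apply _
  let z : Q := e.symm (H58.Qd.mk 1 ![1, 0])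
  let z' : Q := e.symm (H58.Qd.mk 1 ![0, 1])
  have hcommz : ∀ v : Fin 2 → ZMod p, Commute u (e.symm (H58.Qd.mk 1 v)) ↔ v 1 = 0 := by
    intro v
    rw [Commute, SemiconjBy, ← e.injective.eq_iff, map_mul, map_mul, heu, e.apply_symm_apply, mk_mul, mk_mul]
    constructor
    · intro h
      have := congrArg (fun x => ent x 0 2) h
      simpa [upper_coe, Matrix.vecHead, Matrix.vecTail] using this
    · intro h
      simp only [Matrix.SpecialLinearGroup.coe_one, Matrix.one_mulVec, one_mul, mul_one, add_zero, zero_add, upper_coe]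
      congr 1
      ext i; fin_cases i <;> simp [Matrix.mulVec, dotProduct, Fin.sum_univ_two, h]
  have hnab : ¬ IsMulCommutative (T : Subgroup Q) := fun h => by
    have := (hcommz ![0, 1]).mp (isMulCommutative_iff_forall.mp h u hu _ (hPT (hPmk _)))
    simp at this
  -- orders
  have hcardP : Nat.card P = p ^ 2 := by
    rw [← Nat.card_congr (Equiv.ofBijective (fun v : Fin 2 → ZMod p => (⟨e.symm (H58.Qd.mk 1 v), hPmk v⟩ : P))
      ⟨fun v w h => ?_, fun x => ?_⟩), Nat.card_fun, Nat.card_zmod, Nat.card_fin]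
    · have h' := e.symm.injective (congrArg (fun z : P => (z : Q)) h)
      ext i; fin_cases i
      · simpa using congrArg (fun z => ent z 0 2) h'
      · simpa using congrArg (fun z => ent z 1 2) h'
    · obtain ⟨v, hv⟩ := (hPm x).mp x.2
      exact ⟨v, Subtype.ext (by show e.symm _ = (x : Q); rw [← hv, e.symm_apply_apply])⟩
  have hcardT : Nat.card (T : Subgroup Q) ∣ p ^ 3 := by
    obtain ⟨k, hk⟩ := IsPGroup.iff_card.mp T.isPGroup'
    rw [hk]
    refine pow_dvd_pow p ?_
    have h1 : Nat.card (T : Subgroup Q) ∣ Nat.card Q := Subgroup.card_subgroup_dvd_card _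
    have hsur : Function.Surjective (toSL2.comp e.toMonoidHom : Q →* Matrix.SpecialLinearGroup (Fin 2) (ZMod p)) :=
      fun A => ⟨e.symm (H58.Qd.mk A 0), by simp [toSL2_mk]⟩
    have h2 := P.card_mul_index
    rw [hcardP, hP, Subgroup.index_ker, MonoidHom.range_eq_top.mpr hsur, Subgroup.card_top,
      Linear.card_SL_two, ZMod.card] at h2
    rw [hk, ← h2] at h1
    by_contra hk3
    have h4 : p ^ 4 ∣ p ^ 3 * (p ^ 2 - 1) := by
      refine dvd_trans (pow_dvd_pow p (show 4 ≤ k by omega)) ?_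
      refine h1.trans (dvd_of_eq ?_)
      ring
    rw [pow_succ, Nat.mul_dvd_mul_iff_left (pow_pos hpp.pos 3)] at h4
    have h5 : p ∣ p ^ 2 - (p ^ 2 - 1) := Nat.dvd_sub (dvd_pow_self p two_ne_zero) h4
    rw [Nat.sub_sub_self (Nat.one_le_pow _ _ hpp.pos), Nat.dvd_one] at h5
    exact hpp.one_lt.ne' h5
  have hmax : ∀ B ≤ (T : Subgroup Q), IsAbExp 0 B → Nat.card B ≤ p ^ 2 := by
    intro B hB hBa
    obtain ⟨j, hj, hBc⟩ := (Nat.dvd_prime_pow hpp).mp ((Subgroup.card_dvd_of_le hB).trans hcardT)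
    rw [hBc]
    refine Nat.pow_le_pow_right hpp.pos ?_
    by_contra hj2
    have h3 : j = 3 := by omega
    refine hnab ((H48.eq_of_le_of_card_le hB ?_ : B = (T : Subgroup Q)) ▸ hBa.1)
    rw [hBc, h3]
    exact Nat.le_of_dvd (pow_pos hpp.pos 3) hcardT
  have hPmem : P ∈ maxIn 0 (T : Subgroup Q) :=
    ⟨hPT, ⟨hPc, fun a _ => pow_zero a⟩, fun B hB hBa => hcardP ▸ hmax B hB hBa⟩
  -- the second maximal abelian subgroup
  let g2 : Multiplicative (ZMod p × ZMod p) →* Q := e.symm.toMonoidHom.comp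
    (MonoidHom.mk' (fun t => H58.Qd.mk (upper (Multiplicative.toAdd t).1) ![(Multiplicative.toAdd t).2, 0]) fun s t => by
      rw [mk_mul, upper_mul]
      congr 1
      ext i; fin_cases i <;> simp [upper_coe, Matrix.vecHead, Matrix.vecTail, add_comm])
  set A2 := g2.range with hA2
  have hA2T : A2 ≤ (T : Subgroup Q) := by
    rintro _ ⟨t, rfl⟩
    have he : g2 t = e.symm (H58.Qd.mk 1 ![(Multiplicative.toAdd t).2, 0]) *
        U (Multiplicative.ofAdd (Multiplicative.toAdd t).1) := by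
      show e.symm _ = _ * e.symm _
      rw [← map_mul]
      simp [mk_mul]
    rw [he]
    exact mul_mem (hPT (hPmk _)) (le_sup_left.trans hT ⟨_, rfl⟩)
  have hA2c : Nat.card A2 = p ^ 2 := by
    have hinj : Function.Injective g2 := fun s t h => by
      have h' := e.symm.injective h
      refine Multiplicative.toAdd.injective (Prod.ext ?_ ?_)
      · simpa [upper_coe] using congrArg (fun z => ent z 0 1) h'
      · simpa using congrArg (fun z => ent z 0 2) h'
    rw [hA2, MonoidHom.range_eq_map, card_map_of_injective hinj, card_top,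
      Nat.card_congr Multiplicative.toAdd, Nat.card_prod, Nat.card_zmod, sq]
  have hA2mem : A2 ∈ maxIn 0 (T : Subgroup Q) := ⟨hA2T, ⟨isMulCommutative_iff_forall.mpr (by
    rintro _ ⟨s, rfl⟩ _ ⟨t, rfl⟩
    rw [← map_mul, mul_comm, map_mul]), fun a _ => pow_zero a⟩, fun B hB hBa => hA2c ▸ hmax B hB hBa⟩
  -- `Z(J(T))` lies in the line
  have hline : ∀ x ∈ zjay 0 (T : Subgroup Q), ∃ v : Fin 2 → ZMod p, v 1 = 0 ∧ x = e.symm (H58.Qd.mk 1 v) := by
    intro x hx
    have hxP : x ∈ P := mem_of_mem_centralizer hPmem (zjay_le hx)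
      (centralizer_le (fun a ha => le_jay hPmem ha) hx.2) (pow_zero x)
    obtain ⟨v, hv⟩ := (hPm x).mp hxP
    have hxv : x = e.symm (H58.Qd.mk 1 v) := by rw [← hv, e.symm_apply_apply]
    refine ⟨v, (hcommz v).mp ?_, hxv⟩
    rw [← hxv]
    refine mem_centralizer_iff.mp hx.2 u (le_jay hA2mem ⟨Multiplicative.ofAdd (1, 0), ?_⟩)
    show e.symm (H58.Qd.mk (upper 1) ![0, 0]) = e.symm (H58.Qd.mk (upper 1) 0)
    congr 2
  obtain ⟨x, hx, hx1⟩ := (Subgroup.bot_or_exists_ne_one _).resolve_left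
    (zjay_ne_bot T.isPGroup' (fun h => hnab (h ▸ inferInstance)) (.inl rfl))
  obtain ⟨v, hv1, rfl⟩ := hline x hx
  rintro ⟨T', hT', hctl⟩
  have hPT' : P ≤ (T' : Subgroup Q) :=
    (Cores.le_pCore (hN := MonoidHom.normal_ker _) hPp).trans (Cores.pCore_le_sylow T')
  let R0 : Matrix.SpecialLinearGroup (Fin 2) (ZMod p) := ⟨!![0, 1; -1, 0], by simp [Matrix.det_fin_two]⟩
  let r : Q := e.symm (H58.Qd.mk R0 0)
  obtain ⟨-, h2⟩ := hctl (P : Set Q) hPT'
  obtain ⟨n, hn, hnr⟩ := h2 r (by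
    rintro _ ⟨a, ha, rfl⟩
    exact hPT' (Normal.conj_mem (MonoidHom.normal_ker _) a ha r))
  obtain ⟨w, hw1, hw⟩ := hline _ ((mem_normalizer_iff.mp hn _).mp hx)
  rw [← hnr _ (hPmk v)] at hw
  have h3 := congrArg e (mul_inv_eq_iff_eq_mul.mp hw)
  rw [map_mul, map_mul, e.apply_symm_apply, e.apply_symm_apply, e.apply_symm_apply, mk_mul, mk_mul] at h3
  have h4 := congrArg (fun z => ent z 1 2) h3
  simp [R0, hw1, Matrix.vecHead, Matrix.vecTail] at h4
  apply hx1
  have : v = 0 := by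
    ext i; fin_cases i
    · simpa using h4
    · simpa using hv1
  rw [this, H58.Qd.mk_one, map_one]

end Cfsg.Agent.Thompson
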