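import Mathlib
import Cfsg.Agent.Thompson.GeneralOffender
import Cfsg.Agent.Coprime.Action

/-!
Pieces of an elementary abelian 2-subgroup: a decomposition `B * C` and an element commuting with `B`
which lies in the subgroup generated by elements of `l`-power order of `⟨C, C^g⟩`, for an odd prime `l`
modulo which two has large order. Such a piece bounds the fixed points in every module.
-/

set_option autoImplicit false
set_option linter.unusedSectionVars false
set_option linter.style.haveILetI false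

namespace Cfsg.Agent.Thompson.Pc

open Subgroup
open H48 (cj)
open Par (El)
open Off (fixV act_mul act_one act_inv_act act_act_inv)
open GenOff (lg card_eq_two_pow lg_sup_inf lg_mono)

universe u v w

/-- `l` is an odd prime whose order of two is at least `4 * c - 1` -/
def Gap (l c : ℕ) : Prop := l.Prime ∧ l ≠ 2 ∧ ∀ j, 0 < j → j + 1 < 4 * c → ¬ l ∣ 2 ^ j - 1

variable {H : Type u} [Group H]

/-- generated by the elements of `l`-power order -/
def lclosure (l : ℕ) (K : Subgroup H) : Subgroup H := closure {x | x ∈ K ∧ ∃ k, x ^ l ^ k = 1}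

theorem lclosure_le (l : ℕ) (K : Subgroup H) : lclosure l K ≤ K := (closure_le _).mpr fun _ hx => hx.1

theorem lclosure_mono {l : ℕ} {K L : Subgroup H} (h : K ≤ L) : lclosure l K ≤ lclosure l L :=
  closure_mono fun _ hx => ⟨h hx.1, hx.2⟩

theorem mem_lclosure {l k : ℕ} {K : Subgroup H} {x : H} (hx : x ∈ K) (h : x ^ l ^ k = 1) :
    x ∈ lclosure l K := subset_closure ⟨hx, k, h⟩

theorem map_lclosure_le {H' : Type w} [Group H'] (l : ℕ) (f : H →* H') (K : Subgroup H) :
    (lclosure l K).map f ≤ lclosure l (K.map f) := by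
  rw [lclosure, MonoidHom.map_closure, closure_le]
  rintro _ ⟨x, ⟨hx, k, hk⟩, rfl⟩
  exact mem_lclosure (k := k) ⟨x, hx, rfl⟩ (by rw [← map_pow, hk, map_one])

/-- an element of `l`-power order in an image is the image of one -/
theorem exists_lift [Finite H] {H' : Type w} [Group H'] {l : ℕ} (hl : l.Prime) (f : H →* H')
    {K : Subgroup H} {y : H'} (hy : y ∈ K.map f) {k : ℕ} (hk : y ^ l ^ k = 1) :
    ∃ x ∈ K, (∃ i, x ^ l ^ i = 1) ∧ f x = y := by
  obtain ⟨x, hx, rfl⟩ := hy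
  obtain ⟨a, m, hm, he⟩ := Nat.exists_eq_pow_mul_and_not_dvd (orderOf_pos x).ne' l hl.ne_one
  have hco : m.Coprime (l ^ k) := (Nat.Coprime.pow_right k ((hl.coprime_iff_not_dvd.mpr hm).symm))
  rcases Nat.eq_zero_or_pos k with rfl | hkpos
  · refine ⟨1, one_mem _, ⟨0, one_pow _⟩, ?_⟩
    rw [map_one]; simpa using hk.symm
  obtain ⟨t, -, ht⟩ := Nat.exists_mul_mod_eq_one_of_coprime hco
    (Nat.one_lt_pow hkpos.ne' hl.one_lt)
  refine ⟨x ^ (m * t), pow_mem hx _, ⟨a, ?_⟩, ?_⟩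
  · rw [← pow_mul, show m * t * l ^ a = orderOf x * t by rw [he]; ring, pow_mul, pow_orderOf_eq_one,
      one_pow]
  · rw [map_pow, pow_eq_pow_mod _ hk, ht, pow_one]

theorem lclosure_map [Finite H] {H' : Type w} [Group H'] {l : ℕ} (hl : l.Prime) (f : H →* H')
    (K : Subgroup H) : lclosure l (K.map f) = (lclosure l K).map f := by
  refine le_antisymm ((closure_le _).mpr ?_) (map_lclosure_le l f K)
  rintro y ⟨hy, k, hk⟩
  obtain ⟨x, hx, ⟨i, hi⟩, rfl⟩ := exists_lift hl f hy hk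
  exact ⟨x, mem_lclosure hx hi, rfl⟩

/-- a piece of `A` -/
structure Piece (A : Subgroup H) where
  B : Subgroup H
  C : Subgroup H
  g : H
  l : ℕ
  c : ℕ
  gap : Gap l c
  cpos : 0 < c
  hB : B ≤ A
  hC : C ≤ A
  cover : A ≤ B ⊔ C
  disj : B ⊓ C = ⊥
  card : Nat.card C = 2 ^ c
  comm : ∀ b ∈ B, g * b = b * g
  mem : g ∈ lclosure l (C ⊔ cj g C)
  nontriv : lclosure l (C ⊔ cj g C) ≠ ⊥

/-- the subgroup generated by the `l`-elements of a piece -/
def Piece.O {A : Subgroup H} (P : Piece A) : Subgroup H := lclosure P.l (P.C ⊔ cj P.g P.C)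

theorem Piece.O_le {A : Subgroup H} (P : Piece A) : P.O ≤ P.C ⊔ cj P.g P.C := lclosure_le _ _

theorem Piece.g_mem {A : Subgroup H} (P : Piece A) : P.g ∈ P.O := P.mem

theorem Piece.O_ne_bot {A : Subgroup H} (P : Piece A) : P.O ≠ ⊥ := P.nontriv

theorem Piece.sup_eq {A : Subgroup H} (P : Piece A) : P.B ⊔ P.C = A :=
  le_antisymm (sup_le P.hB P.hC) P.cover

theorem Piece.sup_le_centralizer {A : Subgroup H} (hA : El A) (P : Piece A) :
    P.C ⊔ cj P.g P.C ≤ centralizer (P.B : Set H) := by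
  refine sup_le (fun x hx => mem_centralizer_iff.mpr fun b hb => hA.comm (P.hB hb) (P.hC hx)) ?_
  rintro _ ⟨x, hx, rfl⟩
  refine mem_centralizer_iff.mpr fun b hb => ?_
  show b * (P.g * x * P.g⁻¹) = P.g * x * P.g⁻¹ * b
  have h1 : P.g * b = b * P.g := P.comm b hb
  have h2 : b * x = x * b := hA.comm (P.hB hb) (P.hC hx)
  have h3 : P.g⁻¹ * b = b * P.g⁻¹ := by
    rw [inv_mul_eq_iff_eq_mul, ← mul_assoc, h1, mul_inv_cancel_right]
  calc b * (P.g * x * P.g⁻¹) = P.g * (b * x) * P.g⁻¹ := by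
        rw [← mul_assoc, ← mul_assoc, ← h1]; simp only [mul_assoc]
    _ = P.g * x * (b * P.g⁻¹) := by rw [h2]; simp only [mul_assoc]
    _ = _ := by rw [← h3]; simp only [mul_assoc]

theorem Piece.O_comm {A : Subgroup H} (hA : El A) (P : Piece A) {x b : H} (hx : x ∈ P.O)
    (hb : b ∈ P.B) : b * x = x * b :=
  mem_centralizer_iff.mp (P.sup_le_centralizer hA (P.O_le hx)) b hb

section Module

variable {V : Type v} [AddCommGroup V] {ρ : H →* AddMonoid.End V}

/-- an element of odd order which is trivial on `U` and on `w` modulo `U` fixes `w` -/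
theorem fix_of_sub_mem (hV : ∀ w : V, w + w = 0) {x : H} {n : ℕ} (hn : ¬ 2 ∣ n) (hx : x ^ n = 1)
    {w : V} (hu : ρ x (ρ x w - w) = ρ x w - w) : ρ x w = w := by
  have h : ∀ k : ℕ, ρ (x ^ k) w = w + k • (ρ x w - w) := by
    intro k
    induction k with
    | zero => rw [pow_zero, act_one, zero_smul, add_zero]
    | succ k ih =>
      rw [pow_succ', act_mul, ih, map_add, map_nsmul, hu, succ_nsmul]
      abel
  have h1 := h n
  rw [hx, act_one] at h1
  have h2 : n • (ρ x w - w) = 0 := by simpa using h1.symm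
  obtain ⟨m, rfl⟩ : ∃ m, n = 2 * m + 1 := ⟨n / 2, by omega⟩
  rw [succ_nsmul, mul_comm, mul_nsmul, two_nsmul, ← nsmul_add, hV, nsmul_zero, zero_add] at h2
  exact sub_eq_zero.mp h2

variable [Finite V]

/-- a 2-group fixes a point outside an invariant proper subgroup, modulo it -/
theorem exists_fixed_mod [Finite H] (hV : ∀ w : V, w + w = 0) {P : Subgroup H} (hP : IsPGroup 2 P)
    {W : AddSubgroup V} (hW : ∀ x ∈ P, ∀ w ∈ W, ρ x w ∈ W) (hne : W ≠ ⊤) :
    ∃ w, w ∉ W ∧ ∀ x ∈ P, ρ x w - w ∈ W := by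
  haveI : Fact (Nat.Prime 2) := ⟨Nat.prime_two⟩
  letI : MulAction P (V ⧸ W) :=
    { smul := fun x w => QuotientAddGroup.map W W (ρ x) (fun y hy => hW x x.2 y hy) w
      one_smul := fun w => by
        obtain ⟨w, rfl⟩ := QuotientAddGroup.mk'_surjective W w
        exact congrArg QuotientAddGroup.mk (act_one (ρ := ρ) w)
      mul_smul := fun x y w => by
        obtain ⟨w, rfl⟩ := QuotientAddGroup.mk'_surjective W w
        exact congrArg QuotientAddGroup.mk (act_mul (ρ := ρ) (x : H) y w) }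
  obtain ⟨v, hv⟩ : ∃ v, v ∉ W := by
    by_contra hcon
    push Not at hcon
    exact hne (eq_top_iff.mpr fun v _ => hcon v)
  have h2 : 2 ∣ Nat.card (V ⧸ W) := by
    have hv0 : (v : V ⧸ W) ≠ 0 := fun h => hv ((QuotientAddGroup.eq_zero_iff v).mp h)
    have h : addOrderOf (v : V ⧸ W) = 2 := addOrderOf_eq_prime (by
      rw [two_nsmul, ← QuotientAddGroup.mk_add, hV, QuotientAddGroup.mk_zero]) hv0
    exact h ▸ addOrderOf_dvd_natCard _
  obtain ⟨q, hq, hq0⟩ := hP.exists_fixed_point_of_prime_dvd_card_of_fixed_point (V ⧸ W) h2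
    (a := 0) (fun x => by
      show QuotientAddGroup.map W W (ρ x) _ 0 = 0
      exact map_zero _)
  obtain ⟨w, rfl⟩ := QuotientAddGroup.mk'_surjective W q
  refine ⟨w, fun h => hq0 ((QuotientAddGroup.eq_zero_iff w).mpr h).symm, fun x hx => ?_⟩
  have h : ((ρ x w : V) : V ⧸ W) = (w : V ⧸ W) := hq ⟨x, hx⟩
  exact QuotientAddGroup.eq_iff_sub_mem.mp h

/-- an element of odd order commuting with a 2-group, trivial on its fixed points, is trivial -/
theorem fix_of_fix_fixV [Finite H] (hV : ∀ w : V, w + w = 0) {x : H} {n : ℕ} (hn : ¬ 2 ∣ n)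
    (hx : x ^ n = 1) {P : Subgroup H} (hP : IsPGroup 2 P) (hc : ∀ b ∈ P, b * x = x * b)
    (hfix : ∀ w ∈ fixV ρ P, ρ x w = w) (w : V) : ρ x w = w := by
  let W : AddSubgroup V :=
    { carrier := {w | ρ x w = w}
      zero_mem' := map_zero _
      add_mem' := fun {a b} ha hb => by
        show ρ x (a + b) = a + b
        rw [map_add, show ρ x a = a from ha, show ρ x b = b from hb]
      neg_mem' := fun {a} ha => by
        show ρ x (-a) = -a
        rw [map_neg, show ρ x a = a from ha] }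
  have hW : ∀ b ∈ P, ∀ w ∈ W, ρ b w ∈ W := fun b hb w (hw : ρ x w = w) => by
    show ρ x (ρ b w) = ρ b w
    rw [← act_mul, ← hc b hb, act_mul, hw]
  by_contra hne
  obtain ⟨v, hv, hvP⟩ := exists_fixed_mod hV hP hW (fun h => hne (h ▸ AddSubgroup.mem_top w : w ∈ W))
  -- the difference is fixed by `P`
  refine hv (fix_of_sub_mem hV hn hx (hfix _ fun b hb => ?_))
  have h1 : ρ x (ρ b v - v) = ρ b v - v := hvP b hb
  rw [map_sub, ← act_mul, ← hc b hb, act_mul, sub_eq_sub_iff_sub_eq_sub, ← map_sub] at h1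
  exact h1

/-- something moved by the `l`-closure is moved by a generator -/
theorem exists_moving_gen {l : ℕ} {K : Subgroup H} {x : H} (hx : x ∈ lclosure l K) {w : V}
    (hne : ρ x w ≠ w) : ∃ y ∈ K, (∃ k, y ^ l ^ k = 1) ∧ ρ y w ≠ w := by
  by_contra hcon
  push Not at hcon
  refine hne ((closure_le (Off.stabV ρ w)).mpr (fun y hy => ?_) hx)
  exact hcon y hy.1 hy.2

/-- the fixed points of a moving element of `l`-power order are few -/
theorem card_fix_le [Finite H] (hV : ∀ w : V, w + w = 0) {l c k : ℕ} (hg : Gap l c) {x : H}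
    (hx : x ^ l ^ k = 1) {D U : AddSubgroup V} (hD : ∀ w ∈ D, ρ x w ∈ D) {w : V} (hw : w ∈ D)
    (hne : ρ x w ≠ w) (hU : ∀ u ∈ U, ρ x u = u) (hUD : U ≤ D) : lg U + (4 * c - 1) ≤ lg D := by
  obtain ⟨hl, hl2, hgap⟩ := hg
  haveI : Fact l.Prime := ⟨hl⟩
  have hDn : ∀ j : ℕ, ∀ w ∈ D, ρ (x ^ j) w ∈ D := by
    intro j
    induction j with
    | zero => intro w hw; rwa [pow_zero, act_one]
    | succ j ih => intro w hw; rw [pow_succ, act_mul]; exact ih _ (hD w hw)
  have hDz : ∀ y ∈ zpowers x, ∀ w ∈ D, ρ y w ∈ D := by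
    intro y hy w hw
    obtain ⟨j, rfl⟩ := mem_powers_iff_mem_zpowers.mpr hy
    exact hDn j w hw
  have hP : IsPGroup l (zpowers x) := by
    intro y
    refine ⟨k, Subtype.ext ?_⟩
    obtain ⟨j, hj⟩ := mem_zpowers_iff.mp y.2
    rw [SubgroupClass.coe_pow, ← hj, ← zpow_natCast, ← zpow_mul, mul_comm, zpow_mul, zpow_natCast, hx,
      one_zpow, OneMemClass.coe_one]
  letI : MulAction (zpowers x) D :=
    { smul := fun y d => ⟨ρ y d.1, hDz y y.2 d.1 d.2⟩
      one_smul := fun d => Subtype.ext (act_one d.1)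
      mul_smul := fun y z d => Subtype.ext (act_mul (y : H) z d.1) }
  let F : AddSubgroup V :=
    { carrier := {w | w ∈ D ∧ ρ x w = w}
      zero_mem' := ⟨zero_mem _, map_zero _⟩
      add_mem' := fun {a b} ha hb => ⟨add_mem ha.1 hb.1, by rw [map_add, ha.2, hb.2]⟩
      neg_mem' := fun {a} ha => ⟨neg_mem ha.1, by rw [map_neg, ha.2]⟩ }
  have he : Nat.card (MulAction.fixedPoints (zpowers x) D) = Nat.card F := Nat.card_congr
    { toFun := fun d => ⟨d.1.1, d.1.2, congrArg Subtype.val (d.2 ⟨x, mem_zpowers x⟩)⟩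
      invFun := fun w => ⟨⟨w.1, w.2.1⟩, fun y => Subtype.ext (by
        show y.1 ∈ Off.stabV ρ w.1
        exact (zpowers_le.mpr (show x ∈ Off.stabV ρ w.1 from w.2.2)) y.2)⟩
      left_inv := fun d => rfl
      right_inv := fun w => rfl }
  have hmod := hP.card_modEq_card_fixedPoints D
  rw [he, card_eq_two_pow hV, card_eq_two_pow hV] at hmod
  have hFD : F ≤ D := fun _ h => h.1
  have hlt : lg F < lg D := by
    refine lt_of_le_of_ne (lg_mono hV hFD) fun h => hne ?_
    have hFe : F = D := AddSubgroup.eq_of_le_of_card_ge hFD (by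
      rw [card_eq_two_pow hV, card_eq_two_pow hV F, h])
    exact (hFe ▸ hw : w ∈ F).2
  have hdvd : l ∣ 2 ^ lg F * (2 ^ (lg D - lg F) - 1) := by
    rw [Nat.mul_sub, mul_one, ← pow_add, Nat.add_sub_cancel' hlt.le]
    exact (Nat.modEq_iff_dvd' (Nat.pow_le_pow_right (by norm_num) hlt.le)).mp hmod.symm
  rcases hl.dvd_mul.mp hdvd with h | h
  · exact absurd ((Nat.prime_dvd_prime_iff_eq hl Nat.prime_two).mp (hl.dvd_of_dvd_pow h)) hl2
  · have h1 : 4 * c - 1 ≤ lg D - lg F := by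
      by_contra hcon
      exact hgap _ (by omega) (by omega) h
    have h2 : lg U ≤ lg F := lg_mono hV fun u hu => ⟨hUD hu, hU u hu⟩
    omega

/-- moved points of an `l`-closure -/
theorem lclosure_bound [Finite H] (hV : ∀ w : V, w + w = 0) {l c : ℕ} (hg : Gap l c) {K : Subgroup H}
    {D U : AddSubgroup V} (hD : ∀ x ∈ K, ∀ w ∈ D, ρ x w ∈ D) {x : H} (hx : x ∈ lclosure l K) {w : V}
    (hw : w ∈ D) (hne : ρ x w ≠ w) (hU : ∀ y ∈ K, ∀ u ∈ U, ρ y u = u) (hUD : U ≤ D) :
    lg U + (4 * c - 1) ≤ lg D := by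
  obtain ⟨y, hy, ⟨k, hk⟩, hyw⟩ := exists_moving_gen hx hne
  exact card_fix_le hV hg hk (hD y hy) hw hyw (hU y hy) hUD

theorem sup_le_stabV {X Y : Subgroup H} {u : V} (hX : u ∈ fixV ρ X) (hY : u ∈ fixV ρ Y) :
    X ⊔ Y ≤ Off.stabV ρ u := sup_le (fun _ h => hX _ h) (fun _ h => hY _ h)

/-- the fixed points of `A` are few when `⟨A, A^g⟩` has a moving `l`-closure -/
theorem gap_bound [Finite H] (hV : ∀ w : V, w + w = 0) {l c : ℕ} (hg : Gap l c) {A : Subgroup H}
    {g : H} {D : AddSubgroup V} (hD : ∀ x ∈ A ⊔ cj g A, ∀ w ∈ D, ρ x w ∈ D)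
    (hgD : ∀ w ∈ D, ρ g w ∈ D) {x : H} (hx : x ∈ lclosure l (A ⊔ cj g A)) {w : V} (hw : w ∈ D)
    (hne : ρ x w ≠ w) : lg (fixV ρ A ⊓ D) + 2 * c ≤ lg D := by
  let e : (fixV ρ A ⊓ D : AddSubgroup V) → (fixV ρ (cj g A) ⊓ D : AddSubgroup V) := fun u =>
    ⟨ρ g u.1, Off.mem_fix_cjg.mpr (by rw [act_inv_act]; exact u.2.1), hgD _ u.2.2⟩
  have he : Function.Injective e := fun a b h => by
    have h1 := congrArg (fun t : (fixV ρ (cj g A) ⊓ D : AddSubgroup V) => ρ g⁻¹ t.1) h
    simp only [e, act_inv_act] at h1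
    exact Subtype.ext h1
  have h2 : lg (fixV ρ A ⊓ D) ≤ lg (fixV ρ (cj g A) ⊓ D) :=
    Nat.log_mono_right (Nat.card_le_card_of_injective e he)
  have h1 := lclosure_bound hV hg hD hx hw hne
    (U := (fixV ρ A ⊓ D) ⊓ (fixV ρ (cj g A) ⊓ D))
    (fun y hy u hu => sup_le_stabV hu.1.1 hu.2.1 hy) (inf_le_left.trans inf_le_right)
  have h3 := lg_sup_inf hV (fixV ρ A ⊓ D) (fixV ρ (cj g A) ⊓ D)
  have h4 := lg_mono hV
    (sup_le (inf_le_right : fixV ρ A ⊓ D ≤ D) (inf_le_right : fixV ρ (cj g A) ⊓ D ≤ D))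
  omega

/-- the span of the commutators with a subgroup -/
def comV (ρ : H →* AddMonoid.End V) (A : Subgroup H) : AddSubgroup V :=
  AddSubgroup.closure {v | ∃ a ∈ A, ∃ w, ρ a w - w = v}

theorem sub_mem_comV {A : Subgroup H} {a : H} (ha : a ∈ A) (w : V) : ρ a w - w ∈ comV ρ A :=
  AddSubgroup.subset_closure ⟨a, ha, w, rfl⟩

/-- the bound for a quadratic subgroup -/
theorem quad_bound [Finite H] (hV : ∀ w : V, w + w = 0) {l c : ℕ} (hg : Gap l c) {A : Subgroup H}
    {g : H} (hq : ∀ a ∈ A, ∀ b ∈ A, ∀ w, ρ a (ρ b w - w) = ρ b w - w) {x : H}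
    (hx : x ∈ lclosure l (A ⊔ cj g A)) {w : V} (hne : ρ x w ≠ w) :
    lg (comV ρ (cj g A) ⊓ fixV ρ A) + lg (comV ρ A ⊓ fixV ρ (cj g A)) + (4 * c - 1) ≤
      lg (comV ρ A) + lg (comV ρ (cj g A)) := by
  obtain ⟨z, hz, ⟨k, hk⟩, hzw⟩ := exists_moving_gen hx hne
  obtain ⟨hl, hl2, hgap⟩ := hg
  have hodd : ¬ 2 ∣ l ^ k := fun h =>
    hl2 ((Nat.prime_dvd_prime_iff_eq Nat.prime_two hl).mp (Nat.prime_two.dvd_of_dvd_pow h)).symm
  have hD' : comV ρ A ≤ fixV ρ A := (AddSubgroup.closure_le _).mpr fun v ⟨b, hb, w, he⟩ => by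
    subst he
    exact fun a ha => hq a ha b hb w
  have hDD : comV ρ (cj g A) ≤ fixV ρ (cj g A) := (AddSubgroup.closure_le _).mpr fun v ⟨b, hb, w, he⟩ => by
    subst he
    obtain ⟨b, hb, rfl⟩ := hb
    refine Off.mem_fix_cjg.mpr fun a ha => ?_
    have hb' : ρ g⁻¹ (ρ ((MulAut.conj g).toMonoidHom b) w - w) = ρ b (ρ g⁻¹ w) - ρ g⁻¹ w := by
      rw [map_sub, ← act_mul, ← act_mul]
      congr 2
      simp only [MulEquiv.coe_toMonoidHom, MulAut.conj_apply]
      group
    rw [hb']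
    exact hq a ha b hb _
  set D := comV ρ (cj g A) with hDdef
  set D' := comV ρ A with hD'def
  set E := D ⊔ D' with hE
  let S : Subgroup H :=
    { carrier := {y | ∀ w, ρ y w - w ∈ E}
      one_mem' := fun w => by rw [act_one, sub_self]; exact zero_mem _
      mul_mem' := fun {a b} ha hb w => by
        rw [act_mul, show ρ a (ρ b w) - w = (ρ a (ρ b w) - ρ b w) + (ρ b w - w) by abel]
        exact add_mem (ha _) (hb _)
      inv_mem' := fun {a} ha w => by
        have := ha (ρ a⁻¹ w)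
        rw [act_act_inv] at this
        rw [← neg_sub]
        exact neg_mem this }
  have hS : A ⊔ cj g A ≤ S := sup_le (fun a ha w => AddSubgroup.mem_sup_right (sub_mem_comV ha w))
    (fun a ha w => AddSubgroup.mem_sup_left (sub_mem_comV ha w))
  set T : V →+ V := @HSub.hSub (V →+ V) (V →+ V) (V →+ V) _ (ρ z) (AddMonoidHom.id V) with hT
  have hTapp : ∀ v, T v = ρ z v - v := fun v => rfl
  have hrange : T.range ≤ E := by
    rintro _ ⟨v, rfl⟩
    exact hS hz v
  have hker : lg T.ker + (4 * c - 1) ≤ lg (⊤ : AddSubgroup V) :=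
    card_fix_le hV ⟨hl, hl2, hgap⟩ hk (D := ⊤) (U := T.ker) (fun _ _ => trivial) (w := w) trivial hzw
      (fun u hu => sub_eq_zero.mp (AddMonoidHom.mem_ker.mp hu)) le_top
  have hlgT : lg T.range + lg T.ker = lg (⊤ : AddSubgroup V) := by
    have := GenOff.lg_map hV hV T ⊤
    rwa [top_inf_eq, ← AddMonoidHom.range_eq_map] at this
  set U := (D ⊓ fixV ρ A) ⊔ (D' ⊓ fixV ρ (cj g A)) with hUdef
  have hUfix : ∀ u ∈ U, ρ z u = u := by
    intro u hu
    have h1 : U ≤ fixV ρ A ⊓ fixV ρ (cj g A) := sup_le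
      (fun v hv => ⟨hv.2, hDD hv.1⟩) (fun v hv => ⟨hD' hv.1, hv.2⟩)
    exact sup_le_stabV (h1 hu).1 (h1 hu).2 hz
  have hUE : U ≤ E := sup_le_sup inf_le_left inf_le_left
  have hbot : T.range ⊓ U = ⊥ := by
    refine (AddSubgroup.eq_bot_iff_forall _).mpr ?_
    rintro _ ⟨⟨v, rfl⟩, hu⟩
    have h1 := hUfix _ hu
    rw [hTapp] at h1 ⊢
    rw [fix_of_sub_mem hV hodd hk h1, sub_self]
  have h3 := lg_sup_inf hV T.range U
  rw [hbot, GenOff.lg_bot] at h3
  have h4 := lg_mono hV (sup_le hrange hUE)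
  have h5 := lg_sup_inf hV D D'
  rw [← hE] at h5
  have h6 := lg_sup_inf hV (D ⊓ fixV ρ A) (D' ⊓ fixV ρ (cj g A))
  rw [← hUdef] at h6
  have h7 := lg_mono hV
    (le_inf (inf_le_left.trans inf_le_left) (inf_le_right.trans inf_le_left) :
      (D ⊓ fixV ρ A) ⊓ (D' ⊓ fixV ρ (cj g A)) ≤ D ⊓ D')
  omega

/-- a piece bounds the fixed points -/
theorem Piece.bound [Finite H] (hV : ∀ w : V, w + w = 0) {A : Subgroup H} (hA : El A) (P : Piece A)
    {x : H} (hx : x ∈ P.O) {w : V} (hne : ρ x w ≠ w) :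
    lg (fixV ρ A) + 2 * P.c ≤ lg (fixV ρ P.B) := by
  obtain ⟨y, hy, ⟨k, hk⟩, hyw⟩ := exists_moving_gen hx hne
  have hodd : ¬ 2 ∣ P.l ^ k := fun h => P.gap.2.1
    ((Nat.prime_dvd_prime_iff_eq Nat.prime_two P.gap.1).mp (Nat.prime_two.dvd_of_dvd_pow h)).symm
  have hcent := P.sup_le_centralizer hA
  obtain ⟨v, hv, hv'⟩ : ∃ v ∈ fixV ρ P.B, ρ y v ≠ v := by
    by_contra hcon
    push Not at hcon
    exact hyw (fix_of_fix_fixV hV hodd hk (hA.mono P.hB).isPGroup
      (fun b hb => mem_centralizer_iff.mp (hcent hy) b hb) hcon w)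
  have hinv : ∀ z : H, (∀ b ∈ P.B, b * z = z * b) → ∀ u ∈ fixV ρ P.B, ρ z u ∈ fixV ρ P.B := by
    intro z hz u hu b hb
    rw [← act_mul, hz b hb, act_mul, hu b hb]
  have h := gap_bound hV P.gap (A := P.C) (g := P.g) (D := fixV ρ P.B)
    (fun z hz => hinv z fun b hb => mem_centralizer_iff.mp (hcent hz) b hb)
    (hinv P.g fun b hb => (P.comm b hb).symm) (mem_lclosure hy hk) hv hv'
  refine le_trans (Nat.add_le_add_right (lg_mono hV fun u hu => ?_) _) h
  exact ⟨fun c hc => hu c (P.hC hc), fun b hb => hu b (P.hB hb)⟩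

end Module

section Transport

variable {H' : Type w} [Group H']

theorem card_ker_mul_map (f : H →* H') {K : Subgroup H} (hle : f.ker ≤ K) :
    Nat.card f.ker * Nat.card (K.map f) = Nat.card K := by
  set g : K →* H' := f.comp K.subtype with hg
  have h1 : g.range = K.map f := by
    rw [hg, MonoidHom.range_comp, K.range_subtype]
  have h2 : Nat.card g.ker = Nat.card f.ker := Nat.card_congr
    { toFun := fun x => ⟨x.1.1, x.2⟩
      invFun := fun x => ⟨⟨x.1, hle x.2⟩, x.2⟩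
      left_inv := fun x => rfl
      right_inv := fun x => rfl }
  rw [← h1, ← h2, ← Nat.card_congr (QuotientGroup.quotientKerEquivRange g).toEquiv, mul_comm]
  exact (Subgroup.card_eq_card_quotient_mul_card_subgroup g.ker).symm

/-- an element of `l`-power order commuting with the image lifts to the centraliser -/
theorem exists_centralizer_lift [Finite H] (f : H →* H') (hodd : ¬ 2 ∣ Nat.card f.ker)
    {B : Subgroup H} (hB : El B) {l k : ℕ} (hl : l.Prime) (hl2 : l ≠ 2) {y : H'}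
    (hy : y ∈ (⊤ : Subgroup H).map f) (hk : y ^ l ^ k = 1) (hc : ∀ b ∈ B, f b * y = y * f b) :
    ∃ x ∈ centralizer (B : Set H), f x = y := by
  set K := (zpowers y).comap f with hKdef
  have hker : f.ker ≤ K := fun x hx => mem_comap.mpr (by rw [MonoidHom.mem_ker.mp hx]; exact one_mem _)
  haveI := f.normal_ker
  have hBK : B ≤ normalizer (K : Set H) := by
    intro b hb
    have hcomm : ∀ z ∈ zpowers y, f b * z * (f b)⁻¹ = z := by
      intro z hz
      obtain ⟨j, rfl⟩ := mem_zpowers_iff.mp hz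
      rw [(Commute.zpow_right (show Commute (f b) y from hc b hb) j).eq, mul_inv_cancel_right]
    refine mem_normalizer_iff.mpr fun h => ⟨fun hh => ?_, fun hh => ?_⟩
    · rw [hKdef, mem_comap, map_mul, map_mul, map_inv, hcomm _ hh]; exact hh
    · rw [hKdef, mem_comap, map_mul, map_mul, map_inv] at hh
      have h1 := hcomm _ hh
      have h2 : f b * f h * (f b)⁻¹ = f h := by simpa using h1
      rw [hKdef, mem_comap, ← h2]
      exact hh
  have hoddK : ¬ 2 ∣ Nat.card K := by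
    intro h
    have hsplit : Nat.card f.ker * Nat.card (K.map f) = Nat.card K := card_ker_mul_map f hker
    rw [← hsplit] at h
    rcases Nat.prime_two.dvd_mul.mp h with h | h
    · exact hodd h
    · have h1 : Nat.card (K.map f) ∣ l ^ k := by
        refine (Subgroup.card_dvd_of_le (map_comap_le _ _)).trans ?_
        rw [Nat.card_zpowers]
        exact orderOf_dvd_of_pow_eq_one hk
      exact hl2 ((Nat.prime_dvd_prime_iff_eq Nat.prime_two hl).mp
        (Nat.prime_two.dvd_of_dvd_pow (h.trans h1))).symm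
  have hcop : (Nat.card B).Coprime (Nat.card K) := by
    haveI : Fact (Nat.Prime 2) := ⟨Nat.prime_two⟩
    obtain ⟨n, hn⟩ := IsPGroup.iff_card.mp hB.isPGroup
    rw [hn]
    exact Nat.Coprime.pow_left n (Nat.prime_two.coprime_iff_not_dvd.mpr hoddK)
  have hsolv : Group.IsSolvable B ∨ Group.IsSolvable K := by
    refine Or.inl ?_
    haveI : Fact (Nat.Prime 2) := ⟨Nat.prime_two⟩
    haveI := hB.isPGroup.isNilpotent
    infer_instance
  obtain ⟨x, -, rfl⟩ := hy
  obtain ⟨c, hc', hcn⟩ := Coprime.exists_centralizer_mem_coset hBK hcop hsolv hker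
    (fun b _ => by rw [normalizer_eq_top]; exact mem_top b) (mem_comap.mpr (mem_zpowers (f x)) : x ∈ K) (fun b hb => by
      rw [MonoidHom.mem_ker]
      simp only [map_mul, map_inv]
      rw [hc b hb, mul_inv_cancel_right, inv_mul_cancel])
  refine ⟨c, hc'.2, ?_⟩
  rw [MonoidHom.mem_ker, map_mul, map_inv, inv_mul_eq_one] at hcn
  exact hcn.symm

/-- a piece of a quotient by an odd normal subgroup lifts -/
theorem exists_piece_lift [Finite H] (f : H →* H') (hsurj : Function.Surjective f)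
    (hodd : ¬ 2 ∣ Nat.card f.ker) {A : Subgroup H} (hA : El A) (P : Piece (A.map f)) :
    ∃ Q : Piece A, P.O ≤ Q.O.map f ∧ Q.c = P.c := by
  have hinj : ∀ a ∈ A, f a = 1 → a = 1 := fun a ha h1 => by
    rw [← orderOf_eq_one_iff]
    have h2 : orderOf a ∣ 2 := orderOf_dvd_of_pow_eq_one (by rw [sq]; exact hA a ha)
    have h3 : orderOf a ∣ Nat.card f.ker := by
      have := orderOf_dvd_natCard (⟨a, h1⟩ : f.ker)
      rwa [← Subgroup.orderOf_coe] at this
    exact ((Nat.dvd_prime Nat.prime_two).mp h2).resolve_right fun h => hodd (h ▸ h3)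
  set B := A ⊓ P.B.comap f with hBdef
  set C := A ⊓ P.C.comap f with hCdef
  have hBm : B.map f = P.B := by
    refine le_antisymm (map_le_iff_le_comap.mpr inf_le_right) fun y hy => ?_
    obtain ⟨a, ha, rfl⟩ := P.hB hy
    exact ⟨a, ⟨ha, hy⟩, rfl⟩
  have hCm : C.map f = P.C := by
    refine le_antisymm (map_le_iff_le_comap.mpr inf_le_right) fun y hy => ?_
    obtain ⟨a, ha, rfl⟩ := P.hC hy
    exact ⟨a, ⟨ha, hy⟩, rfl⟩
  have hgc : ∀ y ∈ P.O, ∃ x ∈ centralizer (B : Set H), f x = y := by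
    intro y hy
    induction hy using closure_induction with
    | mem y hy =>
      obtain ⟨hyK, k, hk⟩ := hy
      obtain ⟨x, rfl⟩ := hsurj y
      refine exists_centralizer_lift f hodd (hA.mono inf_le_left) P.gap.1 P.gap.2.1
        ⟨x, mem_top x, rfl⟩ hk fun b hb => ?_
      exact mem_centralizer_iff.mp (P.sup_le_centralizer (hA.map f) hyK) _ (hBm ▸ ⟨b, hb, rfl⟩)
    | one => exact ⟨1, one_mem _, map_one f⟩
    | mul a b _ _ ha hb =>
      obtain ⟨x, hx, rfl⟩ := ha
      obtain ⟨x', hx', rfl⟩ := hb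
      exact ⟨x * x', mul_mem hx hx', map_mul f x x'⟩
    | inv a _ ha =>
      obtain ⟨x, hx, rfl⟩ := ha
      exact ⟨x⁻¹, inv_mem hx, map_inv f x⟩
  obtain ⟨g, ⟨hg, hgf⟩, hmin⟩ := Set.exists_min_image
    {x : H | x ∈ centralizer (B : Set H) ∧ f x = P.g} (fun x => Nat.card ↥(C ⊔ cj x C)) (Set.toFinite _)
    (hgc P.g P.g_mem)
  set O := lclosure P.l (C ⊔ cj g C) with hOdef
  have hX : (C ⊔ cj g C).map f = P.C ⊔ cj P.g P.C := by
    rw [Subgroup.map_sup, hCm]
    congr 1
    rw [← hCm, ← hgf, cj, cj, map_map, map_map]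
    congr 1
    ext x
    simp
  have hO : O.map f = P.O := by rw [hOdef, ← lclosure_map P.gap.1, hX]; rfl
  obtain ⟨o, ho, hof⟩ : P.g ∈ O.map f := hO ▸ P.g_mem
  have hcentX : C ⊔ cj g C ≤ centralizer (B : Set H) := by
    refine sup_le (fun x hx => mem_centralizer_iff.mpr fun b hb => hA.comm hb.1 hx.1) ?_
    rintro _ ⟨x, hx, rfl⟩
    have h1 : x ∈ centralizer (B : Set H) := mem_centralizer_iff.mpr fun b hb => hA.comm hb.1 hx.1
    exact mul_mem (mul_mem hg h1) (inv_mem hg)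
  have hoX : o ∈ C ⊔ cj g C := lclosure_le _ _ ho
  have hle : C ⊔ cj o C ≤ C ⊔ cj g C := sup_le le_sup_left (H48.cj_le.mpr fun x hx =>
    mul_mem (mul_mem hoX (mem_sup_left hx)) (inv_mem hoX))
  have heq : C ⊔ cj o C = C ⊔ cj g C :=
    eq_of_le_of_card_ge hle (hmin o ⟨hcentX hoX, hof⟩)
  refine ⟨{ B := B, C := C, g := o, l := P.l, c := P.c, gap := P.gap, cpos := P.cpos
            hB := inf_le_left, hC := inf_le_left
            cover := ?_, disj := ?_, card := ?_, comm := ?_, mem := ?_, nontriv := ?_ }, ?_, rfl⟩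
  · intro a ha
    have h1 : f a ∈ (B ⊔ C).map f := by
      rw [Subgroup.map_sup, hBm, hCm]; exact P.cover ⟨a, ha, rfl⟩
    obtain ⟨a', ha', he⟩ := h1
    have ha'A : a' ∈ A := (sup_le inf_le_left inf_le_left : B ⊔ C ≤ A) ha'
    have := hinj _ (mul_mem (inv_mem ha'A) ha) (by rw [map_mul, map_inv, he, inv_mul_cancel])
    rw [← inv_mul_eq_one.mp this]
    exact ha'
  · refine (eq_bot_iff_forall _).mpr fun x hx => hinj x hx.1.1 ?_
    exact mem_bot.mp (P.disj ▸ ⟨hBm ▸ ⟨x, hx.1, rfl⟩, hCm ▸ ⟨x, hx.2, rfl⟩⟩)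
  · rw [← P.card, ← hCm]
    refine Nat.card_congr (Equiv.ofBijective (fun x : C => (⟨f x.1, x.1, x.2, rfl⟩ : C.map f))
      ⟨fun x y h => ?_, ?_⟩)
    · have h1 : f x.1 = f y.1 := congrArg Subtype.val h
      have := hinj _ (mul_mem (inv_mem x.2.1) y.2.1) (by rw [map_mul, map_inv, h1, inv_mul_cancel])
      exact Subtype.ext (inv_mul_eq_one.mp this)
    · rintro ⟨_, x, hx, rfl⟩
      exact ⟨⟨x, hx⟩, rfl⟩
  · exact fun b hb => (mem_centralizer_iff.mp (hcentX hoX) b hb).symm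
  · rw [heq]; exact ho
  · rw [heq]
    intro hbot
    exact P.O_ne_bot (by rw [← hO, hOdef, hbot, Subgroup.map_bot])
  · show P.O ≤ (lclosure P.l (C ⊔ cj o C)).map f
    rw [heq]; exact hO.ge

/-- the image of a piece under an injective map -/
theorem exists_piece_map [Finite H] (f : H →* H') (hf : Function.Injective f) {A : Subgroup H}
    (P : Piece A) : ∃ Q : Piece (A.map f), Q.O = P.O.map f ∧ Q.c = P.c := by
  have hX : P.C.map f ⊔ cj (f P.g) (P.C.map f) = (P.C ⊔ cj P.g P.C).map f := by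
    rw [Subgroup.map_sup]
    congr 1
    rw [cj, cj, map_map, map_map]
    congr 1
    ext x
    simp
  refine ⟨{ B := P.B.map f, C := P.C.map f, g := f P.g, l := P.l, c := P.c, gap := P.gap
            cpos := P.cpos, hB := map_mono P.hB, hC := map_mono P.hC
            cover := by rw [← Subgroup.map_sup]; exact map_mono P.cover
            disj := by rw [← Subgroup.map_inf _ _ f hf, P.disj, Subgroup.map_bot]
            card := by rw [card_map_of_injective hf, P.card]
            comm := ?_, mem := ?_, nontriv := ?_ }, ?_, rfl⟩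
  · rintro _ ⟨b, hb, rfl⟩
    rw [← map_mul, ← map_mul, P.comm b hb]
  · rw [hX, lclosure_map P.gap.1]; exact ⟨P.g, P.mem, rfl⟩
  · rw [hX, lclosure_map P.gap.1]
    intro h
    exact P.nontriv ((map_eq_bot_iff_of_injective _ hf).mp h)
  · show lclosure P.l (P.C.map f ⊔ cj (f P.g) (P.C.map f)) = _
    rw [hX, lclosure_map P.gap.1]; rfl

end Transport

end Cfsg.Agent.Thompson.Pc
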