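import Mathlib
import Cfsg.Agent.Thompson.PieceBasic

/-!
The property of a simple group needed for pieces: involutory automorphisms are inner or invert an element
of order three, and for every involution `d` and every elementary abelian subgroup of order `2 ^ c` some
prime `l` with a large gap has the elements of `l`-power order inverted by `d` generating the group.
-/

set_option autoImplicit false
set_option linter.unusedSectionVars false
set_option linter.style.haveILetI false

namespace Cfsg.Agent.Thompson.Pc

open Subgroup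
open Par (El)

universe u v

/-- elements of `l`-power order inverted by `d` -/
def invSet {T : Type u} [Group T] (l : ℕ) (d : T) : Set T := {e | (∃ k, e ^ l ^ k = 1) ∧ d * e * d⁻¹ = e⁻¹}

/-- what is used about a simple factor -/
structure GoodT (T : Type u) [Group T] : Prop where
  simple : IsSimpleGroup T
  noncomm : ¬ IsMulCommutative T
  even : ∃ d : T, orderOf d = 2
  inner : ∀ α : MulAut T, α * α = 1 →
    (∃ t : T, ∀ x, α x = t * x * t⁻¹) ∨ ∃ x : T, orderOf x = 3 ∧ α x = x⁻¹
  gen : ∀ d : T, orderOf d = 2 → ∀ c : ℕ, 0 < c → (∃ D : Subgroup T, El D ∧ Nat.card D = 2 ^ c) →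
    ∃ l, Gap l c ∧ closure (invSet l d) = ⊤

theorem GoodT.of_equiv {T : Type u} {T' : Type v} [Group T] [Group T'] (h : GoodT T) (e : T ≃* T') :
    GoodT T' := by
  haveI := h.simple
  refine ⟨MulEquiv.isSimpleGroup e.symm, fun hc => h.noncomm ?_, ?_, fun α hα => ?_, fun d hd c hc hD => ?_⟩
  swap
  · obtain ⟨d, hd⟩ := h.even
    exact ⟨e d, by rw [MulEquiv.orderOf_eq, hd]⟩
  · constructor
    constructor
    intro a b
    apply e.injective
    rw [map_mul, map_mul]
    exact hc.is_comm.comm _ _
  · set β : MulAut T := e.trans (α.trans e.symm) with hβ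
    have hβ2 : β * β = 1 := MulEquiv.ext fun x => by
      have h1 : α (α (e x)) = e x := DFunLike.congr_fun hα (e x)
      simp [hβ, MulAut.mul_apply, h1]
    rcases h.inner β hβ2 with ⟨t, ht⟩ | ⟨x, hx, hxi⟩
    · refine Or.inl ⟨e t, fun y => e.symm.injective ?_⟩
      have := ht (e.symm y)
      simpa [hβ] using this
    · refine Or.inr ⟨e x, by rw [MulEquiv.orderOf_eq, hx], e.symm.injective ?_⟩
      simpa [hβ] using hxi
  · obtain ⟨D, hDe, hDc⟩ := hD
    obtain ⟨l, hl, hcl⟩ := h.gen (e.symm d) (by rw [MulEquiv.orderOf_eq, hd]) c hc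
      ⟨D.map e.symm.toMonoidHom, hDe.map _, by rw [card_map_of_injective e.symm.injective, hDc]⟩
    refine ⟨l, hl, top_le_iff.mp ?_⟩
    calc (⊤ : Subgroup T') = (⊤ : Subgroup T).map e.toMonoidHom :=
          (map_top_of_surjective _ e.surjective).symm
      _ ≤ closure (invSet l d) := by
          rw [← hcl, MonoidHom.map_closure]
          refine closure_mono ?_
          rintro _ ⟨x, ⟨⟨k, hk⟩, hx⟩, rfl⟩
          refine ⟨⟨k, by simpa using congrArg e hk⟩, ?_⟩
          simpa using congrArg e hx

/-- it is enough that `C(d)` and the inverted elements generate -/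
theorem closure_invSet_eq_top {T : Type u} [Group T] [IsSimpleGroup T] {l : ℕ} {d e : T}
    (he : e ∈ invSet l d) (hne : e ≠ 1)
    (hgen : closure ((centralizer ({d} : Set T) : Set T) ∪ invSet l d) = ⊤) :
    closure (invSet l d) = ⊤ := by
  have hle : closure ((centralizer ({d} : Set T) : Set T) ∪ invSet l d) ≤
      normalizer (closure (invSet l d) : Set T) := by
    rw [closure_le]
    rintro g (hg | hg)
    · have hconj : ∀ h ∈ centralizer ({d} : Set T), ∀ x ∈ invSet l d, h * x * h⁻¹ ∈ invSet l d := by
        rintro h hh x ⟨⟨k, hk⟩, hx⟩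
        refine ⟨⟨k, by rw [conj_pow, hk, mul_one, mul_inv_cancel]⟩, ?_⟩
        have h1 : Commute d h := mem_centralizer_iff.mp hh d rfl
        calc d * (h * x * h⁻¹) * d⁻¹ = (d * h) * x * (h⁻¹ * d⁻¹) := by group
          _ = (h * d) * x * (d⁻¹ * h⁻¹) := by rw [h1.eq, show h⁻¹ * d⁻¹ = d⁻¹ * h⁻¹ by
                rw [← mul_inv_rev, ← mul_inv_rev, h1.eq]]
          _ = h * (d * x * d⁻¹) * h⁻¹ := by group
          _ = _ := by rw [hx]; group
      have hmap : ∀ h ∈ centralizer ({d} : Set T),
          (closure (invSet l d)).map (MulAut.conj h).toMonoidHom ≤ closure (invSet l d) := by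
        intro h hh
        rw [MonoidHom.map_closure, closure_le]
        rintro _ ⟨x, hx, rfl⟩
        exact subset_closure (hconj h hh x hx)
      rw [SetLike.mem_coe, mem_normalizer_iff]
      refine fun x => ⟨fun hx => hmap g hg ⟨x, hx, rfl⟩, fun hx => ?_⟩
      have := hmap g⁻¹ (inv_mem hg) ⟨_, hx, rfl⟩
      simpa [mul_assoc] using this
    · exact le_normalizer (subset_closure hg)
  rw [hgen, top_le_iff, normalizer_eq_top_iff] at hle
  refine (hle.eq_bot_or_eq_top).resolve_left fun h => hne ?_
  have : e ∈ closure (invSet l d) := subset_closure he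
  rwa [h, mem_bot] at this

/-- inverting is invariant under conjugation -/
theorem closure_invSet_conj {T : Type u} [Group T] {l : ℕ} {d : T} (k : T)
    (h : closure (invSet l d) = ⊤) : closure (invSet l (k * d * k⁻¹)) = ⊤ := by
  refine top_le_iff.mp ?_
  calc (⊤ : Subgroup T) = (closure (invSet l d)).map (MulAut.conj k).toMonoidHom := by
        rw [h, map_top_of_surjective]; exact (MulAut.conj k).surjective
    _ ≤ _ := by
        rw [MonoidHom.map_closure]
        refine closure_mono ?_
        rintro _ ⟨x, ⟨⟨j, hj⟩, hx⟩, rfl⟩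
        refine ⟨⟨j, by rw [← map_pow, hj, map_one]⟩, ?_⟩
        simp only [MulEquiv.coe_toMonoidHom, MulAut.conj_apply]
        calc k * d * k⁻¹ * (k * x * k⁻¹) * (k * d * k⁻¹)⁻¹ = k * (d * x * d⁻¹) * k⁻¹ := by group
          _ = _ := by rw [hx]; group

end Cfsg.Agent.Thompson.Pc
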