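import Mathlib
import Cfsg.Agent.Thompson.PieceGood
import Cfsg.Agent.H68.Factor

/-!
A simple factor of a normal subgroup which an elementary abelian 2-subgroup moves lies in every subgroup
containing that subgroup and all its pieces.
-/

set_option autoImplicit false
set_option linter.unusedSectionVars false
set_option linter.style.haveILetI false

namespace Cfsg.Agent.Thompson.Pc

open Subgroup
open scoped commutatorElement Pointwise
open H48 (cj)
open Par (El Inv3)

universe u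

/-- an element of `l`-power order inverted inside `C` gives a piece -/
theorem exists_piece_of_inverted {H : Type u} [Group H] [Finite H] {A B C : Subgroup H} {g a : H}
    {l c k : ℕ} (hgap : Gap l c) (hc : 0 < c) (hB : B ≤ A) (hC : C ≤ A) (hcov : A ≤ B ⊔ C)
    (hdisj : B ⊓ C = ⊥) (hcard : Nat.card C = 2 ^ c) (hcomm : ∀ b ∈ B, g * b = b * g)
    (hg : g ^ l ^ k = 1) (hne : g ≠ 1) (haC : a ∈ C) (hinv : a * g * a⁻¹ = g⁻¹) :
    ∃ P : Piece A, g ∈ P.O := by
  have hsq : g⁻¹ * g⁻¹ ∈ C ⊔ cj g C := by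
    have h1 : a * (g * a⁻¹ * g⁻¹) ∈ C ⊔ cj g C :=
      mul_mem (mem_sup_left haC) (mem_sup_right ⟨a⁻¹, inv_mem haC, rfl⟩)
    rwa [show a * (g * a⁻¹ * g⁻¹) = a * g * a⁻¹ * g⁻¹ by group, hinv] at h1
  have hgm : g ∈ C ⊔ cj g C := by
    obtain ⟨j, hj⟩ : Odd (l ^ k) := (hgap.1.odd_of_ne_two hgap.2.1).pow
    have h2 : g * g ∈ C ⊔ cj g C := by simpa using inv_mem hsq
    have h3 : g = (g * g) ^ (j + 1) := by
      rw [← sq, ← pow_mul, show 2 * (j + 1) = l ^ k + 1 by omega, pow_succ, hg, one_mul]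
    have h4 := pow_mem h2 (j + 1)
    rwa [← h3] at h4
  exact ⟨{ B := B, C := C, g := g, l := l, c := c, gap := hgap, cpos := hc, hB := hB, hC := hC
           cover := hcov, disj := hdisj, card := hcard, comm := hcomm
           mem := mem_lclosure hgm hg
           nontriv := fun h => hne (by
             have h' := mem_lclosure hgm hg (l := l)
             rwa [h, mem_bot] at h') }, mem_lclosure hgm hg⟩

variable {Q : Type u} [Group Q] [Finite Q]

theorem cj_eq_h68 (g : Q) (T : Subgroup Q) : H68.cj g T = cj g T := rfl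

/-- distinct conjugates of a factor commute -/
theorem cj_commute {N T : Subgroup Q} (hF : H68.IsFactor N T) {g h : Q} (hne : cj g T ≠ cj h T) {x y : Q}
    (hx : x ∈ cj g T) (hy : y ∈ cj h T) : x * y = y * x := by
  have h1 : H68.cj (g⁻¹ * h) T ≠ T := fun he => hne (by
    conv_lhs => rw [← he, cj_eq_h68, H48.cj_cj, mul_inv_cancel_left])
  obtain ⟨t, ht, rfl⟩ := hx
  obtain ⟨u, hu, rfl⟩ := hy
  have h2 := hF.comm t ht (g⁻¹ * h * u * (g⁻¹ * h)⁻¹) (H68.cj_le_others h1 ⟨u, hu, rfl⟩)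
  have h3 := congrArg (fun z => g * z * g⁻¹) h2
  simp only [MulEquiv.coe_toMonoidHom, MulAut.conj_apply]
  calc g * t * g⁻¹ * (h * u * h⁻¹) = g * (t * (g⁻¹ * h * u * (g⁻¹ * h)⁻¹)) * g⁻¹ := by group
    _ = g * (g⁻¹ * h * u * (g⁻¹ * h)⁻¹ * t) * g⁻¹ := h3
    _ = _ := by group

/-- the join of the conjugates of `T` under `W` -/
def conjJoin (T W : Subgroup Q) : Subgroup Q := ⨆ w : W, cj (w : Q) T

theorem mem_conjJoin {T W : Subgroup Q} {w x : Q} (hw : w ∈ W) (hx : x ∈ cj w T) : x ∈ conjJoin T W :=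
  le_iSup (fun w : W => cj (w : Q) T) ⟨w, hw⟩ hx

theorem mem_sup_zpowers {A W : Subgroup Q} (hA : El A) (hW : W ≤ A) {r : Q} (hr : r ∈ A) {x : Q}
    (hx : x ∈ W ⊔ zpowers r) : x ∈ W ∨ x * r ∈ W := by
  let K : Subgroup Q :=
    { carrier := {x | x ∈ A ∧ (x ∈ W ∨ x * r ∈ W)}
      one_mem' := ⟨one_mem _, Or.inl (one_mem _)⟩
      mul_mem' := fun {a b} ha hb => by
        refine ⟨mul_mem ha.1 hb.1, ?_⟩
        rcases ha.2 with h | h <;> rcases hb.2 with h' | h'
        · exact Or.inl (mul_mem h h')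
        · exact Or.inr (by rw [mul_assoc]; exact mul_mem h h')
        · exact Or.inr (by
            rw [mul_assoc, hA.comm hb.1 hr, ← mul_assoc]
            exact mul_mem h h')
        · refine Or.inl ?_
          have h1 := mul_mem h h'
          rwa [show a * r * (b * r) = a * (r * b) * r by simp only [mul_assoc], hA.comm hr hb.1,
            show a * (b * r) * r = a * b * (r * r) by simp only [mul_assoc], hA r hr, mul_one] at h1
      inv_mem' := fun {a} ha => by rw [hA.inv_eq ha.1]; exact ha }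
  have hle : W ⊔ zpowers r ≤ K := sup_le (fun w hw => ⟨hW hw, Or.inl hw⟩)
    (zpowers_le.mpr ⟨hr, Or.inr (by rw [hA r hr]; exact one_mem _)⟩)
  exact (hle hx).2

theorem exists_mul_of_mem_sup {A U V : Subgroup Q} (hA : El A) (hU : U ≤ A) (hV : V ≤ A) {x : Q}
    (hx : x ∈ U ⊔ V) : ∃ u ∈ U, ∃ v ∈ V, u * v = x := by
  have hn : V ≤ normalizer (U : Set Q) := fun v hv => mem_normalizer_of_map_conj (eq_of_le_of_card_ge (by
      rintro _ ⟨z, hz, rfl⟩
      show v * z * v⁻¹ ∈ U
      rw [hA.comm (hV hv) (hU hz), mul_inv_cancel_right]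
      exact hz) (H48.card_cj v U).ge)
  have h : x ∈ ((U : Set Q) * (V : Set Q)) := by
    rw [← Subgroup.coe_mul_of_right_le_normalizer_left U V hn]; exact hx
  obtain ⟨u, hu, v, hv, he⟩ := h
  exact ⟨u, hu, v, hv, he⟩

theorem zpowers_el {A : Subgroup Q} (hA : El A) {r : Q} (hr : r ∈ A) {x : Q} (hx : x ∈ zpowers r) :
    x = 1 ∨ x = r := by
  rcases mem_sup_zpowers hA (bot_le : (⊥ : Subgroup Q) ≤ A) hr (mem_sup_right hx) with h | h
  · exact Or.inl (mem_bot.mp h)
  · exact Or.inr ((eq_inv_of_mul_eq_one_left (mem_bot.mp h)).trans (hA.inv_eq hr))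

theorem exists_el_compl {A B : Subgroup Q} (hA : El A) (hBA : B ≤ A) :
    ∃ C ≤ A, B ⊓ C = ⊥ ∧ A ≤ B ⊔ C := by
  obtain ⟨C, ⟨hCA, hBC⟩, hmax⟩ := Set.exists_max_image {C : Subgroup Q | C ≤ A ∧ B ⊓ C = ⊥}
    (fun C => Nat.card C) (Set.toFinite _) ⟨⊥, bot_le, inf_bot_eq _⟩
  refine ⟨C, hCA, hBC, fun a ha => ?_⟩
  by_contra hne
  have hlt : C < C ⊔ zpowers a := lt_of_le_of_ne le_sup_left fun h => hne (mem_sup_right (h ▸
    mem_sup_right (mem_zpowers a)))
  have hbot : B ⊓ (C ⊔ zpowers a) = ⊥ := by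
    refine (eq_bot_iff_forall _).mpr fun x hx => ?_
    rcases mem_sup_zpowers hA hCA ha hx.2 with h | h
    · exact mem_bot.mp (hBC ▸ ⟨hx.1, h⟩)
    · exfalso
      refine hne ?_
      have : a = x⁻¹ * (x * a) := by group
      rw [this]
      exact mul_mem (mem_sup_left (inv_mem hx.1)) (mem_sup_right h)
  have := hmax _ ⟨sup_le hCA (zpowers_le.mpr ha), hbot⟩
  exact hlt.ne (eq_of_le_of_card_ge hlt.le this)

variable {N T : Subgroup Q} {A : Subgroup Q}

/-- a diagonal embedding of `T` over the conjugates under `W` -/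
structure Diag (T A W : Subgroup Q) where
  δ : T →* Q
  inj : Function.Injective δ
  fixW : ∀ w ∈ W, ∀ x, w * δ x = δ x * w
  nat : ∀ a ∈ A ⊓ normalizer (T : Set Q), ∀ (x y : T), (y : Q) = a * x * a⁻¹ → a * δ x * a⁻¹ = δ y
  supp : ∀ x, δ x ∈ conjJoin T W

/-- the trivial diagonal -/
def Diag.bot (T A : Subgroup Q) : Diag T A ⊥ where
  δ := T.subtype
  inj := T.subtype_injective
  fixW := fun w hw x => by rw [mem_bot.mp hw, one_mul, mul_one]
  nat := fun a _ x y h => h.symm
  supp := fun x => mem_conjJoin (one_mem _) ⟨x, x.2, by simp⟩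

theorem notMem_cross (hA : El A) {W : Subgroup Q} (hW : W ≤ A) {s w w' : Q} (hs : s ∈ A)
    (hw : w ∈ W) (hw' : w' ∈ W) (hsn : s ∉ W ⊔ (A ⊓ normalizer (T : Set Q))) :
    cj w T ≠ cj (s * w') T := by
  intro he
  apply hsn
  have hz : w⁻¹ * (s * w') ∈ A ⊓ normalizer (T : Set Q) := by
    refine mem_inf.mpr ⟨A.mul_mem (A.inv_mem (hW hw)) (A.mul_mem hs (hW hw')), mem_normalizer_of_map_conj ?_⟩
    show cj (w⁻¹ * (s * w')) T = T
    rw [← H48.cj_cj, ← he, H48.cj_inv_cj]
  have : s = w * (w⁻¹ * (s * w')) * w'⁻¹ := by group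
  rw [this]
  exact mul_mem (mul_mem (mem_sup_left hw) (mem_sup_right hz)) (mem_sup_left (inv_mem hw'))

theorem conjJoin_commute (hF : H68.IsFactor N T) (hA : El A) {W : Subgroup Q} (hW : W ≤ A) {s : Q}
    (hs : s ∈ A) (hsn : s ∉ W ⊔ (A ⊓ normalizer (T : Set Q))) {x y : Q} (hx : x ∈ conjJoin T W)
    (hy : y ∈ conjJoin T W) : x * (s * y * s⁻¹) = s * y * s⁻¹ * x := by
  have hle : conjJoin T W ≤ centralizer ((cj s (conjJoin T W) : Subgroup Q) : Set Q) := by
    refine iSup_le fun w => ?_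
    rw [le_centralizer_iff, cj, conjJoin, Subgroup.map_iSup]
    refine iSup_le fun w' => ?_
    rintro _ ⟨z, hz, rfl⟩
    refine mem_centralizer_iff.mpr fun u hu => ?_
    refine cj_commute hF (notMem_cross hA hW hs w.2 w'.2 hsn) hu ?_
    rw [← H48.cj_cj]
    exact ⟨z, hz, rfl⟩
  exact (mem_centralizer_iff.mp (hle hx) _ ⟨y, hy, rfl⟩).symm

/-- doubling a diagonal -/
theorem Diag.exists_double (hF : H68.IsFactor N T) (hA : El A) {W : Subgroup Q} (hW : W ≤ A)
    (D : Diag T A W) {s : Q} (hs : s ∈ A) (hsn : s ∉ W ⊔ (A ⊓ normalizer (T : Set Q))) :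
    ∃ D' : Diag T A (W ⊔ zpowers s), ∀ x, D'.δ x = D.δ x * (s * D.δ x * s⁻¹) := by
  have hcomm : ∀ x y, D.δ x * (s * D.δ y * s⁻¹) = s * D.δ y * s⁻¹ * D.δ x :=
    fun x y => conjJoin_commute hF hA hW hs hsn (D.supp x) (D.supp y)
  let δ' : T →* Q :=
    { toFun := fun x => D.δ x * (s * D.δ x * s⁻¹)
      map_one' := by simp
      map_mul' := fun x y => by
        rw [map_mul, show D.δ x * D.δ y * (s * (D.δ x * D.δ y) * s⁻¹) =
          D.δ x * (D.δ y * (s * D.δ x * s⁻¹)) * (s * D.δ y * s⁻¹) by group, hcomm y x]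
        group }
  have hδ' : ∀ x, δ' x = D.δ x * (s * D.δ x * s⁻¹) := fun x => rfl
  have hss : s * s = 1 := hA s hs
  have hsi : s⁻¹ = s := hA.inv_eq hs
  refine ⟨{ δ := δ', inj := ?_, fixW := ?_, nat := ?_, supp := ?_ }, hδ'⟩
  · refine (injective_iff_map_eq_one δ').mpr fun x hx => ?_
    rw [hδ'] at hx
    have h1 : D.δ x = (s * D.δ x * s⁻¹)⁻¹ := eq_inv_of_mul_eq_one_left hx
    have h2 : ∀ y : T, y * x = x * y := fun y => D.inj (by
      rw [map_mul, map_mul, h1]
      exact (Commute.inv_right (show Commute (D.δ y) (s * D.δ x * s⁻¹) from hcomm y x)).eq)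
    exact Subtype.ext (hF.center_eq_bot x.2 fun t ht => congrArg Subtype.val (h2 ⟨t, ht⟩))
  · intro w hw x
    rw [hδ']
    have key : ∀ v ∈ W, v * (D.δ x * (s * D.δ x * s⁻¹)) = D.δ x * (s * D.δ x * s⁻¹) * v := by
      intro v hv
      have e1 := D.fixW v hv x
      have e2 : v * s = s * v := hA.comm (hW hv) hs
      calc v * (D.δ x * (s * D.δ x * s⁻¹)) = v * D.δ x * s * D.δ x * s⁻¹ := by group
        _ = D.δ x * (v * s) * D.δ x * s⁻¹ := by rw [e1]; simp only [mul_assoc]
        _ = D.δ x * s * (v * D.δ x) * s⁻¹ := by rw [e2]; simp only [mul_assoc]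
        _ = D.δ x * s * D.δ x * (v * s⁻¹) := by rw [e1]; simp only [mul_assoc]
        _ = D.δ x * s * D.δ x * (s⁻¹ * v) := by rw [hsi, e2]
        _ = _ := by simp only [mul_assoc]
    have keys : s * (D.δ x * (s * D.δ x * s⁻¹)) = D.δ x * (s * D.δ x * s⁻¹) * s := by
      calc s * (D.δ x * (s * D.δ x * s⁻¹)) = (s * D.δ x * s⁻¹) * D.δ x * s⁻¹ * (s * s) := by
            rw [hsi]
            simp only [mul_assoc, hss, mul_one]
        _ = _ := by rw [← hcomm x x, hss, mul_one, hsi]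
    have hle : W ⊔ zpowers s ≤ centralizer ({D.δ x * (s * D.δ x * s⁻¹)} : Set Q) :=
      sup_le (fun v hv => mem_centralizer_iff.mpr fun u hu => by
          rw [Set.mem_singleton_iff.mp hu]; exact (key v hv).symm)
        (zpowers_le.mpr (mem_centralizer_iff.mpr fun u hu => by
          rw [Set.mem_singleton_iff.mp hu]; exact keys.symm))
    exact (mem_centralizer_iff.mp (hle hw) _ rfl).symm
  · intro a ha x y hy
    rw [hδ', hδ']
    have e1 := D.nat a ha x y hy
    have e2 : a * s = s * a := hA.comm ha.1 hs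
    calc a * (D.δ x * (s * D.δ x * s⁻¹)) * a⁻¹
        = (a * D.δ x * a⁻¹) * ((a * s) * D.δ x * (a * s)⁻¹) := by group
      _ = (a * D.δ x * a⁻¹) * (s * (a * D.δ x * a⁻¹) * s⁻¹) := by rw [e2]; group
      _ = _ := by rw [e1]
  · intro x
    rw [hδ']
    refine mul_mem ?_ ?_
    · exact (show conjJoin T W ≤ conjJoin T (W ⊔ zpowers s) from iSup_le fun w =>
        le_iSup (fun w : ↥(W ⊔ zpowers s) => cj (w : Q) T) ⟨w, mem_sup_left w.2⟩) (D.supp x)
    · have h1 : cj s (conjJoin T W) ≤ conjJoin T (W ⊔ zpowers s) := by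
        rw [cj, conjJoin, Subgroup.map_iSup]
        refine iSup_le fun w => ?_
        rw [show (cj (w : Q) T).map (MulAut.conj s).toMonoidHom = cj (s * w) T from H48.cj_cj s w T]
        exact le_iSup (fun v : ↥(W ⊔ zpowers s) => cj (v : Q) T)
          ⟨s * w, mul_mem (mem_sup_right (mem_zpowers s)) (mem_sup_left w.2)⟩
      exact h1 ⟨D.δ x, D.supp x, rfl⟩

/-- a subgroup meeting `T` in a nontrivial subgroup normalised by generators contains the image -/
theorem eq_top_of_closed [IsSimpleGroup T] {δ : T →* Q} {Φ : Subgroup Q} {S : Set T} (hS : closure S = ⊤)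
    {z : T} (hz : z ≠ 1) (hzΦ : δ z ∈ Φ) (hn : ∀ y ∈ S, ∀ u, δ u ∈ Φ → δ (y * u * y⁻¹) ∈ Φ)
    (x : T) : δ x ∈ Φ := by
  set Z := Φ.comap δ with hZ
  have hle : closure S ≤ normalizer (Z : Set T) := by
    rw [closure_le]
    intro y hy
    refine mem_normalizer_of_map_conj (eq_of_le_of_card_ge ?_ ?_)
    · rintro _ ⟨u, hu, rfl⟩
      exact mem_comap.mpr (hn y hy u hu)
    · exact (H48.card_cj y Z).ge
  rw [hS, top_le_iff, normalizer_eq_top_iff] at hle
  have htop : Z = ⊤ := hle.eq_bot_or_eq_top.resolve_left fun h => hz (by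
    have h1 : z ∈ Z := hzΦ
    rwa [h, mem_bot] at h1)
  exact mem_comap.mp (show x ∈ Z by rw [htop]; exact mem_top x)

theorem exists_inner (hT : GoodT T) (hinv : ¬ Inv3 Q) {a : Q} (ha : a ∈ normalizer (T : Set Q))
    (haa : a * a = 1) : ∃ t : T, ∀ x : T, a * (x : Q) * a⁻¹ = t * x * t⁻¹ := by
  have hi : a⁻¹ = a := inv_eq_of_mul_eq_one_left haa
  have hmem : ∀ x : T, a * (x : Q) * a⁻¹ ∈ T := fun x => (mem_normalizer_iff.mp ha x).mp x.2
  have h2 : ∀ z : Q, a * (a * z * a⁻¹) * a⁻¹ = z := fun z => by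
    rw [hi, show a * (a * z * a) * a = (a * a) * z * (a * a) by simp only [mul_assoc], haa, one_mul, mul_one]
  let α : MulAut T :=
    { toFun := fun x => ⟨a * x * a⁻¹, hmem x⟩
      invFun := fun x => ⟨a * x * a⁻¹, hmem x⟩
      left_inv := fun x => Subtype.ext (h2 x)
      right_inv := fun x => Subtype.ext (h2 x)
      map_mul' := fun x y => Subtype.ext (by
        show a * ((x : Q) * y) * a⁻¹ = a * x * a⁻¹ * (a * y * a⁻¹)
        group) }
  rcases hT.inner α (MulEquiv.ext fun x => Subtype.ext (h2 x)) with ⟨t, ht⟩ | ⟨x, hx, hxi⟩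
  · exact ⟨t, fun x => congrArg Subtype.val (ht x)⟩
  · exact absurd ⟨(x : Q), a, by rw [Subgroup.orderOf_coe, hx], congrArg Subtype.val hxi⟩ hinv

theorem perfect (hT : GoodT T) : commutator T = ⊤ := by
  haveI := hT.simple
  refine ((inferInstance : (commutator T).Normal).eq_bot_or_eq_top).resolve_left fun h => hT.noncomm ?_
  exact ⟨⟨fun a b => commutatorElement_eq_one_iff_mul_comm.mp (mem_bot.mp (h ▸
    commutator_mem_commutator (mem_top a) (mem_top b) : ⁅a, b⁆ ∈ (⊥ : Subgroup T)))⟩⟩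

theorem commutator_step {p q r s : Q} (hpb : q * r = r * q) (hps : q * s = s * q)
    (hs1 : s * p = p * s) :
    p * q * (r * s) * (p * q)⁻¹ * (r * s)⁻¹ = p * r * p⁻¹ * r⁻¹ := by
  calc p * q * (r * s) * (p * q)⁻¹ * (r * s)⁻¹
      = p * ((q * r) * s) * q⁻¹ * p⁻¹ * s⁻¹ * r⁻¹ := by group
    _ = p * r * (q * s) * q⁻¹ * p⁻¹ * s⁻¹ * r⁻¹ := by rw [hpb]; group
    _ = p * r * s * (p⁻¹ * s⁻¹) * r⁻¹ := by rw [hps]; group
    _ = _ := by rw [← mul_inv_rev, hs1, mul_inv_rev]; group

/-- the factor lies in `Φ` -/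
theorem layer_cover (hinv : ¬ Inv3 Q) (hF : H68.IsFactor N T) (hT : GoodT T) {Φ : Subgroup Q}
    (hA : El A) (hAΦ : A ≤ Φ) (hP : ∀ P : Piece A, P.O ≤ Φ)
    (hmove : ∃ a ∈ A, ∃ x ∈ T, a * x * a⁻¹ ≠ x) : T ≤ Φ := by
  haveI := hT.simple
  set NA := A ⊓ normalizer (T : Set Q) with hNA
  suffices main : ∀ k : ℕ, ∀ W : Subgroup Q, W ≤ A → W ⊓ NA = ⊥ → Nat.card A ≤ Nat.card W + k →
      ((∃ a ∈ NA, ∃ x ∈ T, a * x * a⁻¹ ≠ x) ∨ ¬ A ≤ W ⊔ NA) → ∀ D : Diag T A W, ∀ x, D.δ x ∈ Φ by
    intro x hx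
    refine main (Nat.card A) ⊥ bot_le (bot_inf_eq _) (Nat.le_add_left _ _) ?_ (Diag.bot T A) ⟨x, hx⟩
    by_cases h : A ≤ ⊥ ⊔ NA
    · obtain ⟨a, ha, y, hy, hne⟩ := hmove
      exact Or.inl ⟨a, (bot_sup_eq NA).le (h ha), y, hy, hne⟩
    · exact Or.inr h
  intro k
  induction k using Nat.strong_induction_on with
  | _ k ih =>
  intro W hW hWN hk hcase D
  have ext : ∀ s ∈ A, s ∉ W ⊔ NA →
      ((∃ a ∈ NA, ∃ x ∈ T, a * x * a⁻¹ ≠ x) ∨ ¬ A ≤ W ⊔ zpowers s ⊔ NA) →
      ∀ D' : Diag T A (W ⊔ zpowers s), ∀ x, D'.δ x ∈ Φ := by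
    intro s hs hsn hcs
    have hlt : W < W ⊔ zpowers s := lt_of_le_of_ne le_sup_left fun h => hsn (mem_sup_left (h ▸
      mem_sup_right (mem_zpowers s)))
    have hdis : (W ⊔ zpowers s) ⊓ NA = ⊥ := by
      refine (eq_bot_iff_forall _).mpr fun x hx => ?_
      rcases mem_sup_zpowers hA hW hs hx.1 with h | h
      · exact mem_bot.mp (hWN ▸ ⟨h, hx.2⟩)
      · exfalso
        refine hsn ?_
        rw [show s = x⁻¹ * (x * s) by group]
        exact mul_mem (mem_sup_right (inv_mem hx.2)) (mem_sup_left h)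
    have hc : Nat.card W < Nat.card ↥(W ⊔ zpowers s) := by
      by_contra hge
      exact hlt.ne (eq_of_le_of_card_ge hlt.le (not_lt.mp hge))
    have hle := Subgroup.card_le_of_le (sup_le hW (zpowers_le.mpr hs) : W ⊔ zpowers s ≤ A)
    exact ih (Nat.card A - Nat.card ↥(W ⊔ zpowers s)) (by omega) _
      (sup_le hW (zpowers_le.mpr hs)) hdis (by omega) hcs
  have hWc : ∀ w ∈ W, ∀ x, w * D.δ x = D.δ x * w := D.fixW
  by_cases hr : ∃ r ∈ A, r ∉ W ⊔ NA
  · obtain ⟨r, hrA, hrn⟩ := hr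
    obtain ⟨DU, hDU⟩ := D.exists_double hF hA hW hrA hrn
    by_cases hs : ∃ s ∈ A, s ∉ W ⊔ zpowers r ⊔ NA
    · -- two different extensions
      obtain ⟨s, hsA, hsn'⟩ := hs
      have hsn : s ∉ W ⊔ NA := fun h => hsn' ((sup_le_sup_right le_sup_left NA) h)
      obtain ⟨DU2, hDU2⟩ := D.exists_double hF hA hW hsA hsn
      have hPU := ext r hrA hrn (Or.inr fun h => hsn' (h hsA))
      have hPU2 := ext s hsA hsn (Or.inr fun h => hsn' (by
        obtain ⟨u, hu, v, hv, huv⟩ :=
          exists_mul_of_mem_sup hA (sup_le hW (zpowers_le.mpr hsA)) inf_le_left (h hrA)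
        rcases mem_sup_zpowers hA hW hsA hu with hu' | hu'
        · exact absurd (huv ▸ mul_mem (mem_sup_left hu') (mem_sup_right hv)) hrn
        · rw [show s = u⁻¹ * (u * s) by group]
          refine mul_mem (inv_mem ?_) (mem_sup_left (mem_sup_left hu'))
          rw [show u = r * v⁻¹ by rw [← huv]; group]
          exact mul_mem (mem_sup_left (mem_sup_right (mem_zpowers r))) (mem_sup_right (inv_mem hv))))
      have hrsn : r * s ∉ W ⊔ NA := fun h => hsn' (by
        rw [show s = r⁻¹ * (r * s) by group]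
        exact mul_mem (mem_sup_left (mem_sup_right (inv_mem (mem_zpowers r))))
          ((sup_le_sup_right le_sup_left NA) h))
      have c1 : ∀ x y, r * D.δ x * r⁻¹ * D.δ y = D.δ y * (r * D.δ x * r⁻¹) :=
        fun x y => (conjJoin_commute hF hA hW hrA hrn (D.supp y) (D.supp x)).symm
      have c2 : ∀ x y, D.δ x * (s * D.δ y * s⁻¹) = s * D.δ y * s⁻¹ * D.δ x :=
        fun x y => conjJoin_commute hF hA hW hsA hsn (D.supp x) (D.supp y)
      have c3 : ∀ x y, r * D.δ x * r⁻¹ * (s * D.δ y * s⁻¹) = s * D.δ y * s⁻¹ * (r * D.δ x * r⁻¹) := by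
        intro x y
        have h := conjJoin_commute hF hA hW (mul_mem hrA hsA) hrsn (D.supp x) (D.supp y)
        have h' := congrArg (fun z => r * z * r⁻¹) h
        have e : r * (r * s * D.δ y * (r * s)⁻¹) * r⁻¹ = s * D.δ y * s⁻¹ := by
          rw [show r * (r * s * D.δ y * (r * s)⁻¹) * r⁻¹ = (r * r) * (s * D.δ y * s⁻¹) * (r * r)⁻¹ by group,
            hA r hrA, inv_one, one_mul, mul_one]
        calc r * D.δ x * r⁻¹ * (s * D.δ y * s⁻¹)
            = r * (D.δ x * (r * s * D.δ y * (r * s)⁻¹)) * r⁻¹ := by rw [← e]; group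
          _ = r * (r * s * D.δ y * (r * s)⁻¹ * D.δ x) * r⁻¹ := h'
          _ = _ := by rw [← e]; group
      have hcomm : ∀ x y : T, D.δ ⁅x, y⁆ ∈ Φ := fun x y => by
        have h : D.δ x * (r * D.δ x * r⁻¹) * (D.δ y * (s * D.δ y * s⁻¹)) *
            (D.δ x * (r * D.δ x * r⁻¹))⁻¹ * (D.δ y * (s * D.δ y * s⁻¹))⁻¹ ∈ Φ := by
          rw [← hDU, ← hDU2]
          exact mul_mem (mul_mem (mul_mem (hPU DU x) (hPU2 DU2 y)) (inv_mem (hPU DU x))) (inv_mem (hPU2 DU2 y))
        rw [commutator_step (c1 x y) (c3 x y) (c2 x y).symm] at h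
        rw [commutatorElement_def, map_mul, map_mul, map_mul, map_inv, map_inv]
        exact h
      intro x
      have hle : commutator T ≤ Φ.comap D.δ := by
        rw [_root_.commutator_def, commutator_le]
        exact fun g _ g' _ => mem_comap.mpr (hcomm g g')
      rw [perfect hT] at hle
      exact mem_comap.mp (hle (mem_top x))
    · push Not at hs
      have hcov : A ≤ W ⊔ zpowers r ⊔ NA := hs
      by_cases hI : ∃ a ∈ NA, ∃ x ∈ T, a * x * a⁻¹ ≠ x
      · -- a twist
        obtain ⟨a, haNA, x0, hx0, hne⟩ := hI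
        have hran : r * a ∉ W ⊔ NA := fun h => hrn (by
          rw [show r = r * a * a⁻¹ by group]
          exact mul_mem h (mem_sup_right (inv_mem haNA)))
        obtain ⟨DU', hDU'⟩ := D.exists_double hF hA hW (mul_mem hrA haNA.1) hran
        have hI : ∃ a ∈ NA, ∃ x ∈ T, a * x * a⁻¹ ≠ x := ⟨a, haNA, x0, hx0, hne⟩
        have hPU := ext r hrA hrn (Or.inl hI)
        have hPU' := ext (r * a) (mul_mem hrA haNA.1) hran (Or.inl hI)
        let z0 : T := ⟨x0, hx0⟩
        let z1 : T := ⟨a * x0 * a⁻¹, (mem_normalizer_iff.mp haNA.2 x0).mp hx0⟩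
        have h1 : (DU.δ z0)⁻¹ * DU'.δ z0 ∈ Φ := mul_mem (inv_mem (hPU DU z0)) (hPU' DU' z0)
        rw [hDU, hDU', show r * a * D.δ z0 * (r * a)⁻¹ = r * (a * D.δ z0 * a⁻¹) * r⁻¹ by group,
          D.nat a haNA z0 z1 rfl] at h1
        have h2 : D.δ (z0⁻¹ * z1) ∈ Φ := by
          rw [map_mul, map_inv, show (D.δ z0)⁻¹ * D.δ z1 = r⁻¹ * ((D.δ z0 * (r * D.δ z0 * r⁻¹))⁻¹ *
            (D.δ z0 * (r * D.δ z1 * r⁻¹))) * r by group]
          exact mul_mem (mul_mem (inv_mem (hAΦ hrA)) h1) (hAΦ hrA)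
        refine eq_top_of_closed (S := (Set.univ : Set T)) closure_univ
          (z := z0⁻¹ * z1) (fun h => hne (congrArg Subtype.val (inv_mul_eq_one.mp h)).symm) h2 ?_
        intro y _ u hu
        have h := mul_mem (mul_mem (hPU DU y) hu) (inv_mem (hPU DU y))
        rw [hDU] at h
        have e : D.δ y * (r * D.δ y * r⁻¹) * D.δ u * (D.δ y * (r * D.δ y * r⁻¹))⁻¹ =
            D.δ (y * u * y⁻¹) := by
          have c := (conjJoin_commute hF hA hW hrA hrn (D.supp u) (D.supp y)).symm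
          calc D.δ y * (r * D.δ y * r⁻¹) * D.δ u * (D.δ y * (r * D.δ y * r⁻¹))⁻¹
              = D.δ y * ((r * D.δ y * r⁻¹) * D.δ u) * (r * D.δ y * r⁻¹)⁻¹ * (D.δ y)⁻¹ := by group
            _ = D.δ y * D.δ u * (D.δ y)⁻¹ := by rw [c]; group
            _ = _ := by rw [map_mul, map_mul, map_inv]
        rwa [e] at h
      · -- the dihedral pieces
        push Not at hI
        obtain ⟨d, hd⟩ := hT.even
        obtain ⟨l, hgap, hgen⟩ := hT.gen d hd 1 one_pos
          ⟨zpowers d, fun y hy => by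
            obtain ⟨j, rfl⟩ := mem_zpowers_iff.mp hy
            have hdd : d * d = 1 := by
              have := pow_orderOf_eq_one d
              rwa [hd, sq] at this
            rw [← (Commute.refl d).mul_zpow, hdd, one_zpow],
           by rw [Nat.card_zpowers, hd, pow_one]⟩
        set X := {e : T | ∃ k, e ^ l ^ k = 1} with hX
        have hXtop : closure X = ⊤ := top_le_iff.mp (hgen ▸ closure_mono fun e he => he.1)
        have hrr : r * r = 1 := hA r hrA
        have hri : r⁻¹ = r := hA.inv_eq hrA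
        have cr : ∀ x y, D.δ x * (r * D.δ y * r⁻¹) = r * D.δ y * r⁻¹ * D.δ x :=
          fun x y => conjJoin_commute hF hA hW hrA hrn (D.supp x) (D.supp y)
        have hγ : ∀ e ∈ X, D.δ e * (r * D.δ e⁻¹ * r⁻¹) ∈ Φ := by
          rintro e ⟨j, hj⟩
          by_cases he1 : e = 1
          · subst he1; simp
          set g := D.δ e * (r * D.δ e⁻¹ * r⁻¹) with hg
          have hgne : g ≠ 1 := by
            intro h
            rw [hg] at h
            have h1 : D.δ e = (r * D.δ e⁻¹ * r⁻¹)⁻¹ := eq_inv_of_mul_eq_one_left h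
            refine he1 (Subtype.ext (hF.center_eq_bot e.2 fun t ht => congrArg Subtype.val
              (D.inj ?_ : (⟨t, ht⟩ : T) * e = e * ⟨t, ht⟩)))
            rw [map_mul, map_mul, h1]
            exact (Commute.inv_right (show Commute (D.δ ⟨t, ht⟩) (r * D.δ e⁻¹ * r⁻¹) from cr _ _)).eq
          have hgl : g ^ l ^ j = 1 := by
            rw [hg, (show Commute (D.δ e) (r * D.δ e⁻¹ * r⁻¹) from cr _ _).mul_pow, conj_pow, ← map_pow,
              ← map_pow, inv_pow, hj, inv_one, map_one]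
            simp
          have hrg : r * g * r⁻¹ = g⁻¹ := by
            rw [hg, hri, map_inv]
            simp only [mul_inv_rev, inv_inv, hri]
            have e2 : r * (r * (D.δ e)⁻¹ * r) * r = (D.δ e)⁻¹ := by
              rw [show r * (r * (D.δ e)⁻¹ * r) * r = (r * r) * (D.δ e)⁻¹ * (r * r) by simp only [mul_assoc],
                hrr, one_mul, mul_one]
            calc r * (D.δ e * (r * (D.δ e)⁻¹ * r)) * r
                = (r * D.δ e * r) * (r * (r * (D.δ e)⁻¹ * r) * r) := by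
                  simp only [mul_assoc]
                  rw [← mul_assoc r r (r * _), hrr, one_mul]
              _ = _ := by rw [e2]; simp only [mul_assoc]
          have hgB : ∀ b ∈ NA ⊔ W, g * b = b * g := by
            intro b hb
            have hle : NA ⊔ W ≤ centralizer ({g} : Set Q) := by
              refine sup_le (fun v hv => ?_) (fun v hv => ?_) <;>
                refine mem_centralizer_iff.mpr fun u hu => ?_ <;> rw [Set.mem_singleton_iff.mp hu, hg]
              · have hv' : ∀ z : T, v * D.δ z = D.δ z * v := fun z => by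
                  have := D.nat v hv z z (hI v hv z z.2).symm
                  exact mul_inv_eq_iff_eq_mul.mp this
                have e2 : v * r = r * v := hA.comm hv.1 hrA
                rw [hri]
                simp only [mul_assoc]
                rw [← e2]
                simp only [← mul_assoc]
                rw [hv' e, mul_assoc (D.δ e) v r, e2]
                simp only [mul_assoc]
                rw [← mul_assoc v (D.δ e⁻¹), hv' e⁻¹, mul_assoc, e2]
              · have e2 : v * r = r * v := hA.comm (hW hv) hrA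
                rw [hri]
                simp only [mul_assoc]
                rw [← e2]
                simp only [← mul_assoc]
                rw [hWc v hv e, mul_assoc (D.δ e) v r, e2]
                simp only [mul_assoc]
                rw [← mul_assoc v (D.δ e⁻¹), hWc v hv e⁻¹, mul_assoc, e2]
            exact mem_centralizer_iff.mp (hle hb) g rfl
          obtain ⟨P, hgP⟩ := exists_piece_of_inverted (A := A) (B := NA ⊔ W) (C := zpowers r) (g := g)
            (a := r) (c := 1) hgap one_pos (sup_le inf_le_left hW) (zpowers_le.mpr hrA)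
            (by intro y hy; have := hcov hy; rwa [sup_comm NA W, sup_right_comm])
            ((eq_bot_iff_forall _).mpr fun y hy => (zpowers_el hA hrA hy.2).resolve_right fun h => hrn (by
              rw [sup_comm, ← h]; exact hy.1))
            (by rw [Nat.card_zpowers, pow_one]; exact (orderOf_eq_prime (p := 2) (hp := ⟨Nat.prime_two⟩)
              (by rw [sq, hrr]) (fun h => hrn (by rw [h]; exact one_mem _))))
            hgB hgl hgne (mem_zpowers r) hrg
          exact hP P hgP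
        have hkey : ∀ x ∈ X, ∀ y ∈ X, D.δ (y⁻¹ * x⁻¹ * y * (y * x * y⁻¹)) ∈ Φ := by
          intro x hx y hy
          have hyx : y * x * y⁻¹ ∈ X := by
            obtain ⟨j, hj⟩ := hx
            exact ⟨j, by rw [conj_pow, hj, mul_one, mul_inv_cancel]⟩
          have h := mul_mem (mul_mem (mul_mem (hγ y hy) (hγ x hx)) (inv_mem (hγ y hy))) (inv_mem (hγ _ hyx))
          set z := y * x * y⁻¹ with hz
          set w := y⁻¹ * x⁻¹ * y with hw
          have eγ : D.δ y * (r * D.δ y⁻¹ * r⁻¹) * (D.δ x * (r * D.δ x⁻¹ * r⁻¹)) *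
              (D.δ y * (r * D.δ y⁻¹ * r⁻¹))⁻¹ * (D.δ z * (r * D.δ z⁻¹ * r⁻¹))⁻¹ =
                r * D.δ (w * z) * r⁻¹ := by
            set R : Q →* Q := (MulAut.conj r).toMonoidHom with hR
            have hRapp : ∀ q, r * q * r⁻¹ = R q := fun q => rfl
            simp only [hRapp]
            have hc' : ∀ a b : T, Commute (D.δ a) (R (D.δ b)) := fun a b => cr a b
            let Ψ : T × T →* Q :=
              { toFun := fun p => D.δ p.1 * R (D.δ p.2)
                map_one' := by simp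
                map_mul' := fun p q => by
                  simp only [Prod.fst_mul, Prod.snd_mul, map_mul]
                  exact Commute.mul_mul_mul_comm (hc' q.1 p.2).symm _ _ |>.symm }
            have hΨ : ∀ a b, D.δ a * R (D.δ b) = Ψ (a, b) := fun a b => rfl
            rw [hΨ, hΨ, hΨ, ← map_inv, ← map_inv, ← map_mul, ← map_mul, ← map_mul,
              show (y, y⁻¹) * (x, x⁻¹) * (y, y⁻¹)⁻¹ * (z, z⁻¹)⁻¹ = ((1 : T), w * z) by
                simp [hz, hw, mul_assoc]]
            show D.δ 1 * R (D.δ (w * z)) = _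
            rw [map_one, one_mul]
          rw [eγ] at h
          have h1 := mul_mem (mul_mem (inv_mem (hAΦ hrA)) h) (hAΦ hrA)
          rwa [show r⁻¹ * (r * D.δ (w * z) * r⁻¹) * r = D.δ (w * z) by group] at h1
        by_cases hz : ∃ x ∈ X, ∃ y ∈ X, y⁻¹ * x⁻¹ * y * (y * x * y⁻¹) ≠ 1
        · obtain ⟨x, hx, y, hy, hne⟩ := hz
          refine eq_top_of_closed hXtop hne (hkey x hx y hy) fun v hv u hu => ?_
          have h := mul_mem (mul_mem (hγ v hv) hu) (inv_mem (hγ v hv))
          have e : D.δ v * (r * D.δ v⁻¹ * r⁻¹) * D.δ u * (D.δ v * (r * D.δ v⁻¹ * r⁻¹))⁻¹ =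
              D.δ (v * u * v⁻¹) := by
            calc D.δ v * (r * D.δ v⁻¹ * r⁻¹) * D.δ u * (D.δ v * (r * D.δ v⁻¹ * r⁻¹))⁻¹
                = D.δ v * ((r * D.δ v⁻¹ * r⁻¹) * D.δ u) * (r * D.δ v⁻¹ * r⁻¹)⁻¹ * (D.δ v)⁻¹ := by group
              _ = D.δ v * D.δ u * (D.δ v)⁻¹ := by rw [← cr u v⁻¹]; group
              _ = _ := by rw [map_mul, map_mul, map_inv]
          rwa [e] at h
        · exfalso
          push Not at hz
          refine hT.noncomm ?_
          have hc : ∀ x ∈ X, ∀ y ∈ X, x * y = y * x := by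
            intro x hx y hy
            have h1 := hz x hx y hy
            have h2 : Commute (y * y) x := by
              have h3 : x⁻¹ * ((y * y) * x) * (y * y)⁻¹ = 1 := by
                rw [show x⁻¹ * ((y * y) * x) * (y * y)⁻¹ =
                  y * (y⁻¹ * x⁻¹ * y * (y * x * y⁻¹)) * y⁻¹ by group, h1, mul_one, mul_inv_cancel]
              exact (inv_mul_eq_iff_eq_mul.mp (mul_inv_eq_one.mp h3) : y * y * x = x * (y * y))
            obtain ⟨j, hj⟩ := hy
            obtain ⟨i, hi⟩ : Odd (l ^ j) := (hgap.1.odd_of_ne_two hgap.2.1).pow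
            have h4 : y = (y * y) ^ (i + 1) := by
              rw [← sq, ← pow_mul, show 2 * (i + 1) = l ^ j + 1 by omega, pow_succ, hj, one_mul]
            rw [h4]
            exact (h2.pow_left _).eq.symm
          have := Subgroup.isMulCommutative_closure hc
          rw [hXtop] at this
          exact ⟨⟨fun a b => by
            have := this.is_comm.comm (⟨a, mem_top a⟩ : (⊤ : Subgroup T)) ⟨b, mem_top b⟩
            exact congrArg Subtype.val this⟩⟩
  · -- a complement: the pieces of the diagonal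
    push Not at hr
    have hcov : A ≤ W ⊔ NA := hr
    have hI : ∃ a ∈ NA, ∃ x ∈ T, a * x * a⁻¹ ≠ x := hcase.resolve_right (fun h => h hcov)
    set B0 := A ⊓ normalizer (T : Set Q) ⊓ centralizer (T : Set Q) with hB0
    obtain ⟨C, hCNA, hBC, hcovC⟩ := exists_el_compl (hA.mono (inf_le_left : NA ≤ A)) (inf_le_left : B0 ≤ NA)
    have hcent : ∀ t : T, (∀ y : T, y * t = t * y) → t = 1 := fun t h => Subtype.ext
      (hF.center_eq_bot t.2 fun y hy => congrArg Subtype.val (h ⟨y, hy⟩))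
    have hinn : ∀ c : C, ∃ t : T, ∀ x : T, (c : Q) * (x : Q) * (c : Q)⁻¹ = (t : Q) * x * (t : Q)⁻¹ := fun c =>
      exists_inner hT hinv (hCNA c.2).2 (hA _ (hCNA c.2).1)
    choose f hf using hinn
    have huniq : ∀ t t' : T, (∀ x : T, (t : Q) * x * (t : Q)⁻¹ = t' * x * (t' : Q)⁻¹) → t = t' := by
      intro t t' h
      refine inv_mul_eq_one.mp (hcent _ fun y => ?_)
      have h1 : t * y * t⁻¹ = t' * y * t'⁻¹ := Subtype.ext (h y)
      calc y * (t⁻¹ * t') = t⁻¹ * (t * y * t⁻¹) * t' := by group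
        _ = t⁻¹ * (t' * y * t'⁻¹) * t' := by rw [h1]
        _ = _ := by group
    let fh : C →* T := MonoidHom.mk' f fun a b => huniq _ _ fun x => by
      rw [← hf (a * b) x, Subgroup.coe_mul, show (a : Q) * b * x * ((a : Q) * b)⁻¹ =
        a * (b * x * (b : Q)⁻¹) * (a : Q)⁻¹ by group, hf b x]
      have := hf a (f b * x * (f b)⁻¹)
      simp only [Subgroup.coe_mul, Subgroup.coe_inv] at this ⊢
      rw [this]; group
    have hfinj : Function.Injective fh := by
      refine (injective_iff_map_eq_one fh).mpr fun c hc => Subtype.ext ?_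
      refine mem_bot.mp (hBC ▸ ⟨⟨hCNA c.2, mem_centralizer_iff.mpr fun x hx => ?_⟩, c.2⟩)
      have h1 := hf c ⟨x, hx⟩
      rw [show f c = 1 from hc] at h1
      simp only [OneMemClass.coe_one, one_mul, inv_one, mul_one] at h1
      exact (mul_inv_eq_iff_eq_mul.mp h1).symm
    have hDel : El fh.range := by
      rintro _ ⟨c, rfl⟩
      rw [← map_mul, show c * c = 1 from Subtype.ext (hA _ (hCNA c.2).1), map_one]
    haveI : Fact (Nat.Prime 2) := ⟨Nat.prime_two⟩
    obtain ⟨c, hc⟩ := IsPGroup.iff_card.mp (hA.mono (hCNA.trans inf_le_left)).isPGroup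
    have hC1 : C ≠ ⊥ := by
      rintro rfl
      obtain ⟨a, ha, x, hx, hne⟩ := hI
      have h1 : a ∈ B0 := (sup_bot_eq B0).le (hcovC ha)
      exact hne (by rw [← mem_centralizer_iff.mp h1.2 x hx, mul_inv_cancel_right])
    have hcpos : 0 < c := by
      by_contra h
      rw [Nat.eq_zero_of_not_pos h, pow_zero] at hc
      exact hC1 (Subgroup.card_eq_one.mp hc)
    obtain ⟨c0, hc0⟩ := ne_bot_iff_exists_ne_one.mp hC1
    have hd : orderOf (fh c0) = 2 := orderOf_eq_prime
      (by rw [← map_pow, sq, show c0 * c0 = 1 from Subtype.ext (hA _ (hCNA c0.2).1), map_one])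
      (fun h => hc0 (hfinj (h.trans (map_one fh).symm)))
    obtain ⟨l, hgap, hgen⟩ := hT.gen (fh c0) hd c hcpos ⟨fh.range, hDel,
      (Nat.card_congr (MonoidHom.ofInjective hfinj).toEquiv).symm.trans hc⟩
    have hle : invSet l (fh c0) ⊆ (Φ.comap D.δ : Subgroup T) := by
      rintro e ⟨⟨j, hj⟩, he⟩
      by_cases he1 : e = 1
      · subst he1; exact one_mem _
      have hmodB : ∀ y ∈ (B0 ⊔ W : Subgroup Q), y ∈ NA → y ∈ B0 := by
        intro y hy hyN
        obtain ⟨u, hu, v, hv, rfl⟩ := exists_mul_of_mem_sup hA (inf_le_left.trans inf_le_left) hW hy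
        have hvN : v ∈ NA := by
          rw [show v = u⁻¹ * (u * v) by group]
          exact mul_mem (inv_mem hu.1) hyN
        rw [mem_bot.mp (hWN ▸ ⟨hv, hvN⟩ : v ∈ (⊥ : Subgroup Q)), mul_one]
        exact hu
      have hcd : (c0 : Q) * D.δ e * (c0 : Q)⁻¹ = (D.δ e)⁻¹ := by
        have hmem : (c0 : Q) * (e : Q) * (c0 : Q)⁻¹ ∈ T := (mem_normalizer_iff.mp (hCNA c0.2).2 e).mp e.2
        rw [D.nat c0 (hCNA c0.2) e ⟨_, hmem⟩ rfl,
          show (⟨_, hmem⟩ : T) = fh c0 * e * (fh c0)⁻¹ from Subtype.ext (hf c0 e), he, map_inv]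
      have hgB : ∀ b ∈ B0 ⊔ W, D.δ e * b = b * D.δ e := by
        intro b hb
        have hle : B0 ⊔ W ≤ centralizer ({D.δ e} : Set Q) := by
          refine sup_le (fun v hv => ?_) (fun v hv => ?_) <;>
            refine mem_centralizer_iff.mpr fun u hu => ?_ <;> rw [Set.mem_singleton_iff.mp hu]
          · have := D.nat v hv.1 e e (by rw [← mem_centralizer_iff.mp hv.2 e e.2, mul_inv_cancel_right])
            exact (mul_inv_eq_iff_eq_mul.mp this).symm
          · exact (hWc v hv e).symm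
        exact mem_centralizer_iff.mp (hle hb) _ rfl
      obtain ⟨P, hgP⟩ := exists_piece_of_inverted (A := A) (B := B0 ⊔ W) (C := C) (g := D.δ e)
        (a := (c0 : Q)) (c := c) hgap hcpos (sup_le (inf_le_left.trans inf_le_left) hW)
        (hCNA.trans inf_le_left)
        (hcov.trans (sup_le (le_sup_right.trans le_sup_left)
          (hcovC.trans (sup_le (le_sup_left.trans le_sup_left) le_sup_right))))
        ((eq_bot_iff_forall _).mpr fun y hy => mem_bot.mp (hBC ▸ ⟨hmodB y hy.1 (hCNA hy.2), hy.2⟩))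
        hc hgB (by rw [← map_pow, hj, map_one])
        (fun h => he1 (D.inj (h.trans (map_one D.δ).symm))) c0.2 hcd
      exact mem_comap.mpr (hP P hgP)
    intro x
    have h2 : x ∈ closure (invSet l (fh c0)) := by rw [hgen]; exact mem_top x
    exact mem_comap.mp ((closure_le _).mpr hle h2)

end Cfsg.Agent.Thompson.Pc
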