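import Mathlib
import Cfsg.Agent.Thompson.PieceLayer
import Cfsg.Agent.Coprime.Generation

/-!
The commutator of an elementary abelian 2-subgroup with a normal subgroup of odd order lies in every
subgroup containing that subgroup and all its pieces, when no involution inverts an element of order three.
-/

set_option autoImplicit false
set_option linter.unusedSectionVars false
set_option linter.style.haveILetI false

namespace Cfsg.Agent.Thompson.Pc

open Subgroup
open scoped commutatorElement
open Par (El Inv3)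

universe u

variable {H : Type u} [Group H] [Finite H]

/-- an element lies in a subgroup containing its elements of prime power order -/
theorem mem_of_prime_parts {Φ : Subgroup H} {y : H}
    (h : ∀ z ∈ zpowers y, ∀ p k : ℕ, p.Prime → orderOf z = p ^ k → 0 < k → z ∈ Φ) : y ∈ Φ := by
  set K := zpowers y ⊓ Φ
  have hdvd : orderOf y ∣ Nat.card K := by
    refine (Nat.dvd_iff_prime_pow_dvd_dvd _ _).mpr fun p k hp hpk => ?_
    rcases Nat.eq_zero_or_pos k with rfl | hk
    · simp
    set z := y ^ (orderOf y / p ^ k)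
    have hz : orderOf z = p ^ k := by
      rw [orderOf_pow' y (Nat.div_pos (Nat.le_of_dvd (orderOf_pos y) hpk) (pow_pos hp.pos k)).ne',
        Nat.gcd_eq_right (Nat.div_dvd_of_dvd hpk), Nat.div_div_self hpk (orderOf_pos y).ne']
    have hmem : z ∈ zpowers y := pow_mem (mem_zpowers y) _
    have := orderOf_dvd_natCard (⟨z, hmem, h z hmem p k hp hz hk⟩ : K)
    rwa [← Subgroup.orderOf_coe, hz] at this
  have heq : K = zpowers y := eq_of_le_of_card_ge inf_le_left (by
    rw [Nat.card_zpowers]; exact Nat.le_of_dvd Nat.card_pos hdvd)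
  exact (heq.ge (mem_zpowers y)).2

theorem odd_cover (hinv : ¬ Inv3 H) {F : Subgroup H} (hF : F.Normal) (hodd : ¬ 2 ∣ Nat.card F)
    {A Φ : Subgroup H} (hA : El A) (hAΦ : A ≤ Φ) (hP : ∀ P : Piece A, P.O ≤ Φ) : ⁅F, A⁆ ≤ Φ := by
  haveI : IsMulCommutative A := ⟨⟨fun a b => Subtype.ext (hA.comm a.2 b.2)⟩⟩
  have hAF : A ≤ normalizer (F : Set H) := fun a _ => by
    haveI := hF
    rw [normalizer_eq_top]
    exact mem_top a
  have hcop : (Nat.card A).Coprime (Nat.card F) := by
    haveI : Fact (Nat.Prime 2) := ⟨Nat.prime_two⟩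
    obtain ⟨n, hn⟩ := IsPGroup.iff_card.mp hA.isPGroup
    rw [hn]
    exact Nat.Coprime.pow_left n (Nat.prime_two.coprime_iff_not_dvd.mpr hodd)
  rw [← Coprime.iSup_commutator_cyclic_quotient hAF hcop]
  refine iSup₂_le fun B hB => ?_
  obtain ⟨hBA, a, ha, hBa⟩ := hB
  rw [commutator_le]
  intro x hx a' ha'
  have hxc : ∀ b ∈ B, b * x = x * b := fun b hb => mem_centralizer_iff.mp hx.2 b hb
  have hai : a⁻¹ = a := hA.inv_eq ha
  have hkey : ⁅x, a⁆ ∈ Φ := by
    by_cases haB : a ∈ B
    · rw [commutatorElement_eq_one_iff_mul_comm.mpr (hxc a haB).symm]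
      exact one_mem _
    set y := ⁅x, a⁆ with hy
    have hinvy : a * y * a⁻¹ = y⁻¹ := by
      rw [hy, commutatorElement_def, hai]
      simp only [mul_inv_rev, inv_inv, hai]
      simp only [mul_assoc, hA a ha, mul_one]
    have hyF : y ∈ F := by
      rw [hy, commutatorElement_def, show x * a * x⁻¹ * a⁻¹ = x * (a * x⁻¹ * a⁻¹) by group]
      exact mul_mem hx.1 (hF.conj_mem _ (inv_mem hx.1) a)
    have hyB : ∀ b ∈ B, Commute y b := fun b hb => by
      have h1 : Commute x b := (hxc b hb).symm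
      have h2 : Commute a b := hA.comm ha (hBA hb)
      rw [hy, commutatorElement_def]
      exact ((h1.mul_left h2).mul_left h1.inv_left).mul_left h2.inv_left
    refine mem_of_prime_parts fun z hz p k hp hzo hk => ?_
    have hzF : z ∈ F := (zpowers_le.mpr hyF) hz
    have hp2 : p ≠ 2 := by
      rintro rfl
      refine hodd (dvd_trans (dvd_pow_self 2 hk.ne') ?_)
      have h1 := orderOf_dvd_natCard (⟨z, hzF⟩ : F)
      rwa [← Subgroup.orderOf_coe, hzo] at h1
    obtain ⟨i, rfl⟩ := mem_zpowers_iff.mp hz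
    have hzi : a * y ^ i * a⁻¹ = (y ^ i)⁻¹ := by rw [← conj_zpow, hinvy, inv_zpow]
    have hp3 : p ≠ 3 := by
      rintro rfl
      obtain ⟨j, rfl⟩ := Nat.exists_eq_succ_of_ne_zero hk.ne'
      refine hinv ⟨(y ^ i) ^ 3 ^ j, a, ?_, ?_⟩
      · rw [orderOf_pow' _ (by positivity), hzo, Nat.gcd_eq_right (pow_dvd_pow 3 j.le_succ), pow_succ,
          Nat.mul_div_cancel_left _ (by positivity)]
      · rw [← conj_pow, hzi, inv_pow]
    have hgap : Gap p 1 := by
      refine ⟨hp, hp2, fun j hj hj2 hd => ?_⟩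
      obtain rfl | rfl : j = 1 ∨ j = 2 := by omega
      · exact hp.ne_one (Nat.dvd_one.mp (by simpa using hd))
      · exact hp3 ((Nat.prime_dvd_prime_iff_eq hp Nat.prime_three).mp (by simpa using hd))
    have hane : a ≠ 1 := fun h => haB (h ▸ one_mem _)
    obtain ⟨P, hgP⟩ := exists_piece_of_inverted (A := A) (B := B) (C := zpowers a) (g := y ^ i) (a := a)
      (c := 1) (k := k) hgap one_pos hBA (zpowers_le.mpr ha) hBa.ge
      ((eq_bot_iff_forall _).mpr fun b hb => (zpowers_el hA ha hb.2).resolve_right fun h => haB (h ▸ hb.1))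
      (by rw [Nat.card_zpowers, pow_one]; exact (orderOf_eq_prime (p := 2) (hp := ⟨Nat.prime_two⟩)
        (by rw [sq, hA a ha]) hane))
      (fun b hb => ((hyB b hb).zpow_left i).eq)
      (by rw [← hzo]; exact pow_orderOf_eq_one _)
      (fun h => by
        rw [h, orderOf_one] at hzo
        exact (Nat.one_lt_pow hk.ne' hp.one_lt).ne hzo)
      (mem_zpowers a) hzi
    exact hP P hgP
  rw [← hBa] at ha'
  rcases mem_sup_zpowers hA hBA ha ha' with h | h
  · rw [commutatorElement_eq_one_iff_mul_comm.mpr (hxc a' h).symm]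
    exact one_mem _
  · obtain ⟨b, hb, rfl⟩ : ∃ b ∈ B, b * a = a' := ⟨a' * a, h, by rw [mul_assoc, hA a ha, mul_one]⟩
    have h1 : Commute x b := (hxc b hb).symm
    have h2 : Commute a b := hA.comm ha (hBA hb)
    rw [show ⁅x, b * a⁆ = ⁅x, a⁆ from ?_]
    · exact hkey
    · rw [commutatorElement_def, commutatorElement_def]
      calc x * (b * a) * x⁻¹ * (b * a)⁻¹ = x * b * (a * x⁻¹ * a⁻¹) * b⁻¹ := by group
        _ = b * (x * a * x⁻¹ * a⁻¹) * b⁻¹ := by rw [h1.eq]; group
        _ = _ := by
          have h3 : Commute (x * a * x⁻¹ * a⁻¹) b :=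
            ((h1.mul_left h2).mul_left h1.inv_left).mul_left h2.inv_left
          rw [← h3.eq, mul_inv_cancel_right]

end Cfsg.Agent.Thompson.Pc
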