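import Mathlib
import Cfsg.Agent.Thompson.PieceGood
import Cfsg.Agent.H56.OutPSL
import Cfsg.Agent.Linear.TwoSL
import Cfsg.Agent.Linear.Order
import Cfsg.Agent.Linear.Simple
import Cfsg.Agent.Arith.LargePrimDiv
import Cfsg.Agent.S0144

/-!
The groups `PSL₂` over fields with an odd power of three elements have the property needed for pieces.
-/

set_option autoImplicit false
set_option linter.unusedSectionVars false
set_option linter.style.haveILetI false

namespace Cfsg.Agent.Thompson.Pc

open Subgroup Matrix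
open Par (El)
open H56 (toP toP_surjective toP_eq_iff semiAut)

variable {F : Type} [Field F] [Fintype F]

local notation "M2" => Matrix (Fin 2) (Fin 2) F
local notation "S2" => Matrix.SpecialLinearGroup (Fin 2) F
local notation "P2" => H56.PSLn 2 F
local notation "T01" => Matrix.SpecialLinearGroup.transvection (zero_ne_one (α := Fin 2))

theorem toP_eq_cases {s t : S2} : (toP s : P2) = toP t ↔ t = s ∨ t = -s := by
  rw [toP_eq_iff]
  constructor
  · rintro ⟨c, hc, he⟩
    rcases sq_eq_one_iff.mp hc with rfl | rfl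
    · exact Or.inl (Subtype.ext (by rw [he, one_smul]))
    · refine Or.inr (Subtype.ext ?_)
      rw [Matrix.SpecialLinearGroup.coe_neg, he, neg_one_smul]
  · rintro (rfl | rfl)
    · exact ⟨1, one_pow _, (one_smul _ _).symm⟩
    · exact ⟨-1, by ring, by rw [Matrix.SpecialLinearGroup.coe_neg, neg_one_smul]⟩

variable {n : ℕ}

theorem three_eq_zero (hF : Fintype.card F = 3 ^ (2 * n + 1)) : (3 : F) = 0 := by
  have h : ((Fintype.card F : ℕ) : F) = 0 := Nat.cast_card_eq_zero F
  rw [hF, Nat.cast_pow] at h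
  exact_mod_cast eq_zero_of_pow_eq_zero h

theorem two_ne_zero' (hF : Fintype.card F = 3 ^ (2 * n + 1)) : (2 : F) ≠ 0 := fun h => by
  have h3 := three_eq_zero hF
  exact one_ne_zero (α := F) (by linear_combination h3 - h)

theorem card_mod_eight (n : ℕ) : 3 ^ (2 * n + 1) % 8 = 3 := by
  rw [pow_add, pow_mul, pow_one, Nat.mul_mod, Nat.pow_mod]
  norm_num

theorem not_square_neg_one (hF : Fintype.card F = 3 ^ (2 * n + 1)) : ¬ IsSquare (-1 : F) := by
  intro h
  rw [FiniteField.isSquare_neg_one_iff, hF] at h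
  have := card_mod_eight n
  omega

theorem square_or_neg_square (hF : Fintype.card F = 3 ^ (2 * n + 1)) {r : F} (hr : r ≠ 0) :
    ∃ μ : F, μ ≠ 0 ∧ (μ ^ 2 * r = 1 ∨ μ ^ 2 * r = -1) := by
  have hring : ringChar F ≠ 2 := fun h => two_ne_zero' hF (by
    haveI : CharP F 2 := h ▸ ringChar.charP F
    exact CharTwo.two_eq_zero)
  by_cases hsq : IsSquare r
  · obtain ⟨a, rfl⟩ := hsq
    refine ⟨a⁻¹, inv_ne_zero fun h => hr (by rw [h, zero_mul]), Or.inl ?_⟩
    have ha : a ≠ 0 := fun h => hr (by rw [h, zero_mul])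
    field_simp
  · obtain ⟨a, ha⟩ : IsSquare (-r) := by
      classical
      have h1 := (quadraticChar_neg_one_iff_not_isSquare (F := F)).mpr (not_square_neg_one hF)
      have h2 := (quadraticChar_neg_one_iff_not_isSquare (F := F)).mpr hsq
      refine (quadraticChar_one_iff_isSquare (neg_ne_zero.mpr hr)).mp ?_
      rw [show -r = (-1 : F) * r by ring, map_mul, h1, h2]
      rfl
    have ha0 : a ≠ 0 := fun h => hr (neg_eq_zero.mp (by rw [ha, h, zero_mul]))
    refine ⟨a⁻¹, inv_ne_zero ha0, Or.inr ?_⟩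
    rw [show r = -(a * a) by rw [← ha, neg_neg]]
    field_simp

theorem psl_el_bound (hF : Fintype.card F = 3 ^ (2 * n + 1)) {c : ℕ} {D : Subgroup P2}
    (hc : Nat.card D = 2 ^ c) : c ≤ 2 := by
  have h1 := Linear.card_center_mul_card_PSL (ι := Fin 2) (F := F)
  have h2 : 2 ^ c ∣ Nat.card P2 := hc ▸ Subgroup.card_subgroup_dvd_card D
  have hcen : Nat.card (Subgroup.center S2) = 2 := by
    rw [Linear.card_center_SL, Fintype.card_fin, hF]
    have hmod := card_mod_eight n
    exact Nat.gcd_eq_left (by omega)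
  rw [hcen, Linear.card_SL_two, hF] at h1
  have hd : 2 ^ (c + 1) ∣ 3 ^ (2 * n + 1) * ((3 ^ (2 * n + 1)) ^ 2 - 1) := by
    rw [← h1, pow_succ, mul_comm]
    exact Nat.mul_dvd_mul_left 2 h2
  obtain ⟨t, ht⟩ : ∃ t, 3 ^ (2 * n + 1) = 8 * t + 3 :=
    ⟨3 ^ (2 * n + 1) / 8, by have := card_mod_eight n; omega⟩
  rw [ht, show (8 * t + 3) ^ 2 - 1 = 8 * ((4 * t + 1) * (2 * t + 1)) from Nat.sub_eq_of_eq_add (by ring)] at hd
  by_contra hlt
  have h16 : 16 ∣ (8 * t + 3) * (8 * ((4 * t + 1) * (2 * t + 1))) :=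
    (show 16 ∣ 2 ^ (c + 1) from (show (16 : ℕ) = 2 ^ 4 by norm_num) ▸ pow_dvd_pow 2 (by omega)).trans hd
  rw [show (8 * t + 3) * (8 * ((4 * t + 1) * (2 * t + 1))) =
    16 * (32 * t ^ 3 + 36 * t ^ 2 + 13 * t + 1) + 8 by ring] at h16
  omega

/-- the involution -/
def wMat : S2 := ⟨!![0, -1; 1, 0], by simp [Matrix.det_fin_two_of]⟩

theorem wMat_sq : (wMat : S2) * wMat = -1 := by
  refine Linear.SL_ext_two ?_ ?_ ?_ ?_ <;> rw [Linear.SL_mul_entries] <;> simp [wMat]

theorem toP_wMat_sq : (toP (wMat : S2) : P2) * toP wMat = 1 := by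
  rw [← map_mul, wMat_sq, ← map_one (toP (F := F) (n := 2)), toP_eq_cases]
  exact Or.inr (neg_neg _).symm

theorem psl_involution_conj (hF : Fintype.card F = 3 ^ (2 * n + 1)) {d : P2} (hd : orderOf d = 2) :
    ∃ k, k * toP wMat * k⁻¹ = d := by
  have h2 := two_ne_zero' hF
  obtain ⟨g, rfl⟩ := toP_surjective d
  have hgg : toP (g * g) = (1 : P2) := by
    rw [map_mul, ← sq]
    have := pow_orderOf_eq_one (toP g : P2)
    rwa [hd] at this
  have hne : (toP g : P2) ≠ 1 := fun h => by rw [h, orderOf_one] at hd; norm_num at hd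
  rw [← map_one (toP (F := F) (n := 2)), toP_eq_cases] at hgg
  have hg2 : g * g = -1 := by
    rcases hgg with h | h
    · exfalso
      rcases Linear.eq_one_or_neg_one_of_sq h2 h.symm with rfl | rfl
      · exact hne (map_one _)
      · refine hne ?_
        rw [← map_one (toP (F := F) (n := 2)), toP_eq_cases]
        exact Or.inr (neg_neg _).symm
    · rw [h, neg_neg]
  have hns : ¬ Linear.IsScalarTwo (g : M2) := by
    intro hs
    rcases Linear.isScalarTwo_SL_iff.mp hs with rfl | rfl
    · exact hne (map_one _)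
    · refine hne ?_
      rw [← map_one (toP (F := F) (n := 2)), toP_eq_cases]
      exact Or.inr (neg_neg _).symm
  have ht : (g : M2).trace = 0 := by
    have h00 := congrArg (fun x : S2 => (x : M2) 0 0) hg2
    have h01 := congrArg (fun x : S2 => (x : M2) 0 1) hg2
    have h10 := congrArg (fun x : S2 => (x : M2) 1 0) hg2
    have h11 := congrArg (fun x : S2 => (x : M2) 1 1) hg2
    simp [Linear.SL_mul_entries] at h00 h01 h10 h11
    have hd := Linear.SL_det_two g
    rw [Matrix.trace_fin_two]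
    have key : ((g : M2) 0 0 + (g : M2) 1 1) ^ 2 = 0 := by linear_combination h00 + h11 + 2 * hd
    exact eq_zero_of_pow_eq_zero key
  have hws : ¬ Linear.IsScalarTwo ((wMat : S2) : M2) := fun h => one_ne_zero (α := F) (by
    simpa [wMat] using h.2.1)
  obtain ⟨c, hc⟩ := isConj_iff.mp (Linear.isConj_of_trace_eq hws hns
    (by rw [ht, Matrix.trace_fin_two]; simp [wMat]) (Or.inr (by
      rw [Matrix.trace_fin_two]
      simp [wMat]
      intro h
      exact mul_ne_zero h2 h2 (by linear_combination -h))))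
  exact ⟨toP c, by rw [← map_inv, ← map_mul, ← map_mul, hc]⟩

theorem mem_inv_wMat {x : S2} (h : x * wMat = wMat * x ∨ x * wMat = -(wMat * x)) :
    toP x ∈ centralizer ({(toP wMat : P2)} : Set P2) := by
  refine mem_centralizer_iff.mpr fun y hy => ?_
  rw [Set.mem_singleton_iff.mp hy, ← map_mul, ← map_mul, toP_eq_cases]
  exact h

/-- a matrix of determinant one by its entries -/
def sl (a b c d : F) (h : a * d - b * c = 1) : S2 :=
  ⟨!![a, b; c, d], by rw [Matrix.det_fin_two_of]; exact h⟩

@[simp] theorem sl_00 {a b c d : F} (h : a * d - b * c = 1) : (sl a b c d h : M2) 0 0 = a := rfl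

@[simp] theorem sl_01 {a b c d : F} (h : a * d - b * c = 1) : (sl a b c d h : M2) 0 1 = b := rfl

@[simp] theorem sl_10 {a b c d : F} (h : a * d - b * c = 1) : (sl a b c d h : M2) 1 0 = c := rfl

@[simp] theorem sl_11 {a b c d : F} (h : a * d - b * c = 1) : (sl a b c d h : M2) 1 1 = d := rfl

@[simp] theorem wMat_00 : ((wMat : S2) : M2) 0 0 = 0 := rfl

@[simp] theorem wMat_01 : ((wMat : S2) : M2) 0 1 = -1 := rfl

@[simp] theorem wMat_10 : ((wMat : S2) : M2) 1 0 = 1 := rfl

@[simp] theorem wMat_11 : ((wMat : S2) : M2) 1 1 = 0 := rfl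

theorem rot_comm (a b : F) (h : a * a - b * -b = 1) :
    sl a b (-b) a h * wMat = wMat * sl a b (-b) a h := by
  refine Linear.SL_ext_two ?_ ?_ ?_ ?_ <;>
    simp only [Matrix.SpecialLinearGroup.coe_neg, Matrix.neg_apply, Linear.SL_mul_entries] <;> simp

theorem refl_anti (a b : F) (h : a * -a - b * b = 1) :
    sl a b b (-a) h * wMat = -(wMat * sl a b b (-a) h) := by
  refine Linear.SL_ext_two ?_ ?_ ?_ ?_ <;>
    simp only [Matrix.SpecialLinearGroup.coe_neg, Matrix.neg_apply, Linear.SL_mul_entries] <;> simp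

theorem psl_gen_core (hF : Fintype.card F = 3 ^ (2 * n + 1)) (hn : 1 ≤ n) {l : ℕ} (hl : l.Prime)
    (hl2 : l ≠ 2) (hlq : l ∣ 3 ^ (2 * n + 1) - 1)
    (hprim : ∀ k, 0 < k → k < 2 * n + 1 → ¬ l ∣ 3 ^ k - 1) :
    closure (invSet l (toP wMat : P2)) = ⊤ := by
  haveI : Fact l.Prime := ⟨hl⟩
  have h3 := three_eq_zero hF
  obtain ⟨s, hs⟩ := exists_prime_orderOf_dvd_card' (G := Fˣ) l (by rw [Linear.card_units', hF]; exact hlq)
  have hspow : ∀ k : ℕ, (s : F) ^ k = 1 → l ∣ k := fun k hk =>
    hs ▸ orderOf_dvd_of_pow_eq_one (Units.ext (by simpa using hk))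
  have hs0 : (s : F) ≠ 0 := s.ne_zero
  have hs2 : (s : F) ^ 2 ≠ 1 := fun h =>
    hl2 ((Nat.prime_dvd_prime_iff_eq hl Nat.prime_two).mp (hspow 2 h))
  have hs4 : (s : F) ^ 4 ≠ 1 := fun h =>
    hl2 ((Nat.prime_dvd_prime_iff_eq hl Nat.prime_two).mp (hl.dvd_of_dvd_pow (n := 2) (hspow 4 h)))
  set e : S2 := sl (s : F) 0 0 (s : F)⁻¹ (by simp) with hedef
  have hsl : (s : F) ^ l = 1 := by rw [← Units.val_pow_eq_pow_val, ← hs, pow_orderOf_eq_one, Units.val_one]
  have hel : e ^ l = 1 := by
    refine Subtype.ext ?_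
    have hd : (e : M2) = Matrix.diagonal ![(s : F), (s : F)⁻¹] := by
      ext i j; fin_cases i <;> fin_cases j <;> simp [e, sl]
    rw [Matrix.SpecialLinearGroup.coe_pow, hd, Matrix.diagonal_pow, Matrix.SpecialLinearGroup.coe_one,
      ← Matrix.diagonal_one]
    congr 1
    funext i
    fin_cases i <;> simp [inv_pow, hsl]
  have hwe : (wMat : S2) * e * (wMat)⁻¹ = e⁻¹ := by
    rw [mul_inv_eq_iff_eq_mul]
    obtain ⟨i00, i11, i01, i10⟩ := Linear.SL_inv_entries e
    refine Linear.SL_ext_two ?_ ?_ ?_ ?_ <;> simp only [Linear.SL_mul_entries, i00, i11, i01, i10] <;> simp [hedef]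
  have heset : (toP e : P2) ∈ invSet l (toP (wMat : S2)) :=
    ⟨⟨1, by rw [pow_one, ← map_pow, hel, map_one]⟩, by rw [← map_mul, ← map_inv, ← map_mul, hwe, map_inv]⟩
  have hne : (toP e : P2) ≠ 1 := by
    rw [← map_one (toP (F := F) (n := 2)), ne_eq, toP_eq_cases]
    rintro (h | h)
    · have := congrArg (fun x : S2 => (x : M2) 0 0) h
      simp [hedef] at this
      exact hs2 (by rw [← this, one_pow])
    · have h' := congrArg (fun x : S2 => (x : M2) 0 0) h
      simp [hedef] at h'
      exact hs2 (by linear_combination ((s : F) - 1) * h')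
  set M : Subgroup P2 := closure ((centralizer ({(toP wMat : P2)} : Set P2) : Set P2) ∪ invSet l (toP wMat))
  have hM : M = ⊤ := by
    set G0 := M.comap (toP (F := F) (n := 2)) with hG0
    have hcen : ∀ x : S2, x * wMat = wMat * x ∨ x * wMat = -(wMat * x) → x ∈ G0 := fun x hx =>
      mem_comap.mpr (subset_closure (Or.inl (mem_inv_wMat hx)))
    have he : e ∈ G0 := mem_comap.mpr (subset_closure (Or.inr heset))
    have hw : (wMat : S2) ∈ G0 := hcen _ (Or.inl rfl)
    set R : S2 := sl 1 1 1 (-1) (by linear_combination -h3) with hRdef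
    have hR : R ∈ G0 := hcen _ (Or.inr (refl_anti _ _ _))
    have hr : (s : F) ^ 2 + ((s : F)⁻¹) ^ 2 ≠ 0 := by
      intro h
      refine not_square_neg_one hF ⟨(s : F) ^ 2, ?_⟩
      field_simp at h
      linear_combination -h
    obtain ⟨μ, hμ, hμr⟩ := square_or_neg_square hF hr
    obtain ⟨R', hR', hrow0, hrow1⟩ : ∃ R' : S2, R' ∈ G0 ∧
        ((R' : M2) 0 0 = μ * s ∧ (R' : M2) 0 1 = μ * (s : F)⁻¹) ∧
        ((R' : M2) 1 0 * s + (R' : M2) 1 1 * (s : F)⁻¹ = 0) := by
      rcases hμr with h | h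
      · refine ⟨sl (μ * s) (μ * (s : F)⁻¹) (-(μ * (s : F)⁻¹)) (μ * s) (by linear_combination h),
          hcen _ (Or.inl (rot_comm _ _ _)), ⟨sl_00 _, sl_01 _⟩, ?_⟩
        rw [sl_10, sl_11]; ring
      · refine ⟨sl (μ * s) (μ * (s : F)⁻¹) (μ * (s : F)⁻¹) (-(μ * s)) (by linear_combination -h),
          hcen _ (Or.inr (refl_anti _ _ _)), ⟨sl_00 _, sl_01 _⟩, ?_⟩
        rw [sl_10, sl_11]; ring
    set m := R' * e * R with hm
    have hmG : m ∈ G0 := mul_mem (mul_mem hR' he) hR
    have hm10 : (m : M2) 1 0 = 0 := by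
      rw [hm]; simp only [Linear.SL_mul_entries]; simp [hedef, hRdef]; linear_combination hrow1
    have hm01 : (m : M2) 0 1 ≠ 0 := by
      rw [hm]
      simp only [Linear.SL_mul_entries]
      simp [hedef, hRdef, hrow0.1, hrow0.2]
      intro h
      apply hs4
      field_simp at h
      refine sub_eq_zero.mp ((mul_eq_zero.mp (show μ * ((s : F) ^ 4 - 1) = 0 by linear_combination h)).resolve_left hμ)
    set x := (m : M2) 0 0 with hx
    set y := (m : M2) 0 1 with hy
    have hdet := Linear.SL_det_two m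
    rw [hm10, mul_zero, sub_zero, ← hx] at hdet
    have hx0 : x ≠ 0 := fun h => one_ne_zero (α := F) (by rw [← hdet, h, zero_mul])
    set t0 := x * y * ((s : F) ^ 2 - 1) with ht0
    have hcomm : e * m * e⁻¹ * m⁻¹ = T01 t0 := by
      obtain ⟨i00, i11, i01, i10⟩ := Linear.SL_inv_entries e
      obtain ⟨j00, j11, j01, j10⟩ := Linear.SL_inv_entries m
      refine Linear.SL_ext_two ?_ ?_ ?_ ?_ <;>
        simp only [Linear.SL_mul_entries, i00, i11, i01, i10, j00, j11, j01, j10] <;>
        simp [Matrix.SpecialLinearGroup.transvection_coe, hm10, hedef, ← hx, ← hy, ht0]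
      · field_simp; linear_combination hdet
      · field_simp; ring
      · field_simp; linear_combination hdet
    have ht0W : T01 t0 ∈ G0 := hcomm ▸ mul_mem (mul_mem (mul_mem he hmG) (inv_mem he)) (inv_mem hmG)
    have ht00 : t0 ≠ 0 := mul_ne_zero (mul_ne_zero hx0 hm01) (sub_ne_zero.mpr hs2)
    have hTadd : ∀ a b : F, (T01 (a + b) : S2) = T01 a * T01 b := fun a b => by
      refine Linear.SL_ext_two ?_ ?_ ?_ ?_ <;>
        simp only [Linear.SL_mul_entries] <;>
        simp [Matrix.SpecialLinearGroup.transvection_coe, add_comm]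
    let W : AddSubgroup F :=
      { carrier := {t | T01 t ∈ G0}
        zero_mem' := by
          show T01 (0 : F) ∈ G0
          rw [show (T01 (0 : F) : S2) = 1 from Linear.SL_ext_two
            (by simp [Matrix.SpecialLinearGroup.transvection_coe])
            (by simp [Matrix.SpecialLinearGroup.transvection_coe])
            (by simp [Matrix.SpecialLinearGroup.transvection_coe])
            (by simp [Matrix.SpecialLinearGroup.transvection_coe])]
          exact one_mem _
        add_mem' := fun {a b} ha hb => by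
          show T01 (a + b) ∈ G0
          rw [hTadd]; exact mul_mem ha hb
        neg_mem' := fun {a} ha => by
          show T01 (-a) ∈ G0
          rw [← Matrix.SpecialLinearGroup.transvection_inv]; exact inv_mem ha }
    have hscale : ∀ t ∈ W, (s : F) ^ 2 * t ∈ W := by
      intro t ht
      show T01 ((s : F) ^ 2 * t) ∈ G0
      have : (T01 ((s : F) ^ 2 * t) : S2) = e * T01 t * e⁻¹ := by
        obtain ⟨i00, i11, i01, i10⟩ := Linear.SL_inv_entries e
        refine Linear.SL_ext_two ?_ ?_ ?_ ?_ <;>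
          simp only [Linear.SL_mul_entries, i00, i11, i01, i10] <;>
          simp [Matrix.SpecialLinearGroup.transvection_coe, hedef]
        ring
      rw [this]
      exact mul_mem (mul_mem he ht) (inv_mem he)
    let K : Subring F :=
      { carrier := {a | ∀ t ∈ W, a * t ∈ W}
        mul_mem' := fun {a b} ha hb t ht => by rw [mul_assoc]; exact ha _ (hb _ ht)
        one_mem' := fun t ht => by rwa [one_mul]
        add_mem' := fun {a b} ha hb t ht => by rw [add_mul]; exact add_mem (ha t ht) (hb t ht)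
        zero_mem' := fun t ht => by rw [zero_mul]; exact zero_mem _
        neg_mem' := fun {a} ha t ht => by rw [neg_mul]; exact neg_mem (ha t ht) }
    have hK : ∀ a : F, a ∈ K := by
      classical
      haveI : Fintype K := Fintype.ofFinite K
      letI : Field K := Fintype.fieldOfDomain K
      obtain ⟨k, hk, hcard⟩ : ∃ k ≤ 2 * n + 1, Nat.card K = 3 ^ k := by
        have h := AddSubgroup.card_addSubgroup_dvd_card K.toAddSubgroup
        rw [Nat.card_eq_fintype_card (α := F), hF] at h
        exact (Nat.dvd_prime_pow Nat.prime_three).mp h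
      have hlam : (⟨(s : F) ^ 2, fun t ht => hscale t ht⟩ : K) ≠ 0 := fun h =>
        pow_ne_zero 2 hs0 (congrArg Subtype.val h)
      have hpow := FiniteField.pow_card_sub_one_eq_one (K := K) ⟨(s : F) ^ 2, fun t ht => hscale t ht⟩ (fun h => pow_ne_zero 2 hs0 (congrArg Subtype.val h))
      rw [← Nat.card_eq_fintype_card, hcard] at hpow
      have hpow' : ((s : F) ^ 2) ^ (3 ^ k - 1) = 1 := by simpa using congrArg Subtype.val hpow
      have hdvd : l ∣ 3 ^ k - 1 := by
        rw [← pow_mul] at hpow'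
        exact (hl.dvd_mul.mp (hspow _ hpow')).resolve_left fun h =>
          hl2 ((Nat.prime_dvd_prime_iff_eq hl Nat.prime_two).mp h)
      have hk0 : 0 < k := by
        rcases Nat.eq_zero_or_pos k with rfl | h
        · rw [pow_zero] at hcard
          haveI : Subsingleton K := (Nat.card_eq_one_iff_unique.mp hcard).1
          exact absurd (congrArg Subtype.val (Subsingleton.elim (1 : K) 0)) one_ne_zero
        · exact h
      have hkn : k = 2 * n + 1 := by
        by_contra hne
        exact hprim k hk0 (by omega) hdvd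
      have hK' : K.toAddSubgroup = ⊤ := AddSubgroup.eq_top_of_card_eq _ (by
        rw [Nat.card_eq_fintype_card (α := F), hF, ← hkn, ← hcard]; rfl)
      exact fun a => show a ∈ K.toAddSubgroup by rw [hK']; exact AddSubgroup.mem_top a
    have hW : ∀ t, t ∈ W := fun t => by
      have h := hK (t * t0⁻¹) t0 ht0W
      rwa [mul_assoc, inv_mul_cancel₀ ht00, mul_one] at h
    have hU : Linear.unitriSL 2 F ≤ G0 := by
      intro u hu
      obtain ⟨h10, h00, h11⟩ := Linear.unitriSL_two_eq.mp hu
      have : u = T01 ((u : M2) 0 1) := by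
        refine Linear.SL_ext_two ?_ ?_ ?_ ?_ <;>
          simp [Matrix.SpecialLinearGroup.transvection_coe, h00, h10, h11]
      rw [this]
      exact hW _
    have htop : G0 = ⊤ := by
      rw [eq_top_iff, ← Linear.unitriSL_sup_conj_eq_top (g := (wMat : S2)) (by simp [wMat])]
      refine sup_le hU fun z hz => ?_
      obtain ⟨u, hu, rfl⟩ := hz
      exact mul_mem (mul_mem hw (hU hu)) (inv_mem hw)
    refine eq_top_iff.mpr fun p _ => ?_
    obtain ⟨g, rfl⟩ := toP_surjective p
    exact mem_comap.mp (show g ∈ G0 by rw [htop]; exact mem_top g)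
  haveI : IsSimpleGroup P2 := by
    have h9 : 4 ≤ Nat.card F := by
      rw [Nat.card_eq_fintype_card, hF]
      exact le_trans (by norm_num) (Nat.pow_le_pow_right (by norm_num) (show 3 ≤ 2 * n + 1 by omega))
    exact Linear.isSimpleGroup_PSL_fin le_rfl (fun _ => h9)
  exact closure_invSet_eq_top heset hne hM

theorem psl_inner (hF : Fintype.card F = 3 ^ (2 * n + 1)) (α : MulAut P2) (hα : α * α = 1) :
    (∃ t : P2, ∀ x, α x = t * x * t⁻¹) ∨ ∃ x : P2, orderOf x = 3 ∧ α x = x⁻¹ := by
  obtain ⟨g, σ, h⟩ := H56.exists_decomp le_rfl α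
  rcases h with rfl | ⟨h3, -⟩
  swap
  · omega
  have hσ : σ = RingEquiv.refl F := by
    haveI : Fact (Nat.Prime 3) := ⟨Nat.prime_three⟩
    obtain ⟨e⟩ := H56.ringAut_equiv F (show 1 ≤ 2 * n + 1 by omega) hF
    have h1 : H56.fieldHom le_rfl (semiAut g σ) = σ := H56.fieldHom_semiAut le_rfl g σ
    have h2 : (σ : RingAut F) * σ = 1 := by rw [← h1, ← map_mul, hα, map_one]
    have h4 : Nat.card (RingAut F) = 2 * n + 1 := by
      rw [Nat.card_congr e.toEquiv, Nat.card_congr Multiplicative.toAdd, Nat.card_zmod]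
    haveI : Finite (RingAut F) := Finite.of_equiv _ e.symm.toEquiv
    have h5 : orderOf (σ : RingAut F) ∣ 1 := by
      rw [show 1 = Nat.gcd 2 (2 * n + 1) by rw [Nat.gcd_comm, Nat.gcd_mul_left_add_left]; rfl]
      exact Nat.dvd_gcd (orderOf_dvd_of_pow_eq_one (by rw [sq]; exact h2)) (h4 ▸ orderOf_dvd_natCard _)
    exact orderOf_eq_one_iff.mp (Nat.dvd_one.mp h5)
  subst hσ
  have hμdet : ((g : GL (Fin 2) F) : M2).det ≠ 0 := g.det_ne_zero
  by_cases hsq : IsSquare ((g : GL (Fin 2) F) : M2).det
  · refine Or.inl ?_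
    obtain ⟨c, hc⟩ := hsq
    have hc0 : c ≠ 0 := fun h => hμdet (by rw [hc, h, zero_mul])
    let u : Fˣ := Units.mk0 c⁻¹ (inv_ne_zero hc0)
    have hdet : ((Matrix.GeneralLinearGroup.scalar (Fin 2) u * g : GL (Fin 2) F) : M2).det = 1 := by
      rw [Units.val_mul, Matrix.det_mul, Matrix.GeneralLinearGroup.coe_scalar, hc, Matrix.scalar_apply,
        Matrix.det_diagonal]
      simp [u]
      field_simp
    refine ⟨toP ⟨_, hdet⟩, fun x => ?_⟩
    have h1 := H56.semiAut_eq_conj (n := 2) (F := F) ⟨_, hdet⟩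
    rw [show Matrix.SpecialLinearGroup.toGL ⟨_, hdet⟩ = Matrix.GeneralLinearGroup.scalar (Fin 2) u * g from
      Units.ext rfl] at h1
    have h2 := H56.semiAut_mul (Matrix.GeneralLinearGroup.scalar (Fin 2) u) g (RingEquiv.refl F)
      (RingEquiv.refl F)
    rw [H56.semiAut_scalar, one_mul, show H56.glMap (n := 2) (RingEquiv.refl F) = MonoidHom.id _ from
      MonoidHom.ext fun g => Units.ext (by ext i j; rfl)] at h2
    rw [show semiAut g (RingEquiv.refl F) = MulAut.conj (toP ⟨_, hdet⟩) from h2.trans h1]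
    rfl
  · refine Or.inr ?_
    set A := ((g : GL (Fin 2) F) : M2) with hA
    obtain ⟨-, c, hgg⟩ := H56.eq_of_semiAut_eq_one le_rfl
      (show semiAut (g * g) (RingEquiv.refl F) = 1 by
        rw [← hα, H56.semiAut_mul, show H56.glMap (n := 2) (RingEquiv.refl F) = MonoidHom.id _ from
          MonoidHom.ext fun g => Units.ext (by ext i j; rfl)]
        rfl)
    have hAA : A * A = Matrix.scalar (Fin 2) (c : F) := by
      rw [hA, ← Units.val_mul, hgg, Matrix.GeneralLinearGroup.coe_scalar]
    have h00 := congrFun (congrFun hAA 0) 0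
    have h01 := congrFun (congrFun hAA 0) 1
    have h10 := congrFun (congrFun hAA 1) 0
    have h11 := congrFun (congrFun hAA 1) 1
    simp [Linear.mul_two_apply] at h00 h01 h10 h11
    have htr : A 0 0 + A 1 1 = 0 := by
      by_contra htr
      have hb : A 0 1 = 0 := (mul_eq_zero.mp (show A 0 1 * (A 0 0 + A 1 1) = 0 by
        linear_combination h01)).resolve_right htr
      have hb' : A 1 0 = 0 := (mul_eq_zero.mp (show A 1 0 * (A 0 0 + A 1 1) = 0 by
        linear_combination h10)).resolve_right htr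
      rw [hb, hb'] at h00 h11
      simp at h00 h11
      have hd : A 0 0 = A 1 1 := by
        have := mul_eq_zero.mp (show (A 0 0 - A 1 1) * (A 0 0 + A 1 1) = 0 by linear_combination h00 - h11)
        exact sub_eq_zero.mp (this.resolve_right htr)
      exact hsq ⟨A 0 0, by rw [Matrix.det_fin_two, hb, hd]; ring⟩
    obtain ⟨μ, hμ0, hμ⟩ : ∃ μ : F, μ ≠ 0 ∧ μ * μ = -A.det := by
      obtain ⟨ν, hν, h | h⟩ := square_or_neg_square hF hμdet
      · refine absurd ⟨ν⁻¹, ?_⟩ hsq
        field_simp
        linear_combination h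
      · refine ⟨ν⁻¹, inv_ne_zero hν, ?_⟩
        field_simp
        linear_combination h
    have hAmu : A * A = (μ * μ) • (1 : M2) := by
      rw [hμ, Matrix.det_fin_two]
      refine Linear.ext_two ?_ ?_ ?_ ?_ <;> simp [Linear.mul_two_apply]
      · linear_combination A 0 0 * htr
      · linear_combination A 0 1 * htr
      · linear_combination A 1 0 * htr
      · linear_combination A 1 1 * htr
    set P := A - μ • (1 : M2) with hP
    set Q := A + μ • (1 : M2) with hQ
    have hQP : Q * P = 0 := by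
      rw [hP, hQ, add_mul, mul_sub, mul_sub, Matrix.mul_smul, Matrix.smul_mul, Matrix.smul_mul,
        mul_one, one_mul, one_mul, hAmu, smul_smul]
      abel
    have hP0 : P ≠ 0 := fun h => hsq ⟨μ, by
      rw [sub_eq_zero.mp h, Matrix.det_smul, Matrix.det_one, Fintype.card_fin]; ring⟩
    have hQ0 : Q ≠ 0 := fun h => hsq ⟨μ, by
      rw [add_eq_zero_iff_eq_neg.mp h, Matrix.det_neg, Matrix.det_smul, Matrix.det_one, Fintype.card_fin]
      ring⟩
    obtain ⟨X, hX⟩ : ∃ X : M2, P * X * Q ≠ 0 := by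
      obtain ⟨i, j, hij⟩ : ∃ i j, P i j ≠ 0 := by
        by_contra hcon
        push Not at hcon
        exact hP0 (Matrix.ext hcon)
      obtain ⟨k, r, hkr⟩ : ∃ k r, Q k r ≠ 0 := by
        by_contra hcon
        push Not at hcon
        exact hQ0 (Matrix.ext hcon)
      refine ⟨Matrix.single j k 1, fun h => mul_ne_zero hij hkr ?_⟩
      have := congrFun (congrFun h i) r
      rw [Matrix.mul_assoc, Matrix.mul_apply] at this
      simp [Matrix.single_apply, Matrix.mul_apply] at this
      fin_cases j <;> fin_cases k <;> simpa [mul_eq_zero] using this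
    set N := P * X * Q with hN
    have hNN : N * N = 0 := by
      rw [hN, show P * X * Q * (P * X * Q) = P * X * (Q * P) * (X * Q) by simp only [Matrix.mul_assoc],
        hQP, mul_zero, zero_mul]
    have hAP : A * P = -(μ • P) := by
      rw [hP, mul_sub, Matrix.mul_smul, mul_one, hAmu, smul_sub, smul_smul]; abel
    have hQA : Q * A = μ • Q := by
      rw [hQ, add_mul, Matrix.smul_mul, one_mul, hAmu, smul_add, smul_smul]; abel
    have hAN : A * N = -(N * A) := by
      rw [hN, show A * (P * X * Q) = A * P * X * Q by simp only [Matrix.mul_assoc], hAP,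
        Matrix.mul_assoc (P * X) Q A, hQA]
      simp [Matrix.mul_smul, Matrix.smul_mul]
    have hn00 := congrFun (congrFun hNN 0) 0
    have hn01 := congrFun (congrFun hNN 0) 1
    have hn10 := congrFun (congrFun hNN 1) 0
    have hn11 := congrFun (congrFun hNN 1) 1
    simp [Linear.mul_two_apply] at hn00 hn01 hn10 hn11
    have hntr : N 0 0 + N 1 1 = 0 := by
      by_contra htr
      have hb : N 0 1 = 0 := (mul_eq_zero.mp (show N 0 1 * (N 0 0 + N 1 1) = 0 by
        linear_combination hn01)).resolve_right htr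
      have hb' : N 1 0 = 0 := (mul_eq_zero.mp (show N 1 0 * (N 0 0 + N 1 1) = 0 by
        linear_combination hn10)).resolve_right htr
      rw [hb] at hn00 hn11
      simp at hn00 hn11
      exact htr (by rw [hn00, hn11, add_zero])
    have hxdet : (1 + N).det = 1 := by
      rw [Matrix.det_fin_two]
      simp
      linear_combination (1 + N 0 0) * hntr - hn00
    let x : S2 := ⟨1 + N, hxdet⟩
    have hxinv : ((x⁻¹ : S2) : M2) = 1 - N := by
      have h : x * ⟨1 - N, ?_⟩ = 1 := Subtype.ext (by
        show (1 + N) * (1 - N) = 1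
        rw [add_mul, mul_sub, mul_sub, one_mul, mul_one, one_mul, hNN]; abel)
      · rw [inv_eq_of_mul_eq_one_right h]
      · rw [Matrix.det_fin_two]
        simp
        linear_combination -(1 - N 0 0) * hntr - hn00
    have h3F := three_eq_zero hF
    have hx3 : x ^ 3 = 1 := Subtype.ext (by
      show (1 + N) ^ 3 = 1
      have : (1 + N) ^ 3 = 1 + (3 : F) • N := by
        rw [pow_succ, pow_two]
        simp only [add_mul, mul_add, one_mul, mul_one, hNN, add_zero, zero_mul, mul_zero]
        rw [show (3 : F) = 1 + 1 + 1 by norm_num, add_smul, add_smul, one_smul]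
        abel
      rw [this, h3F, zero_smul, add_zero])
    have hx1 : (toP x : P2) ≠ 1 := by
      rw [← map_one (toP (F := F) (n := 2)), ne_eq, toP_eq_cases]
      rintro (h | h)
      · exact hX (by simpa [x, hN] using (congrArg (fun z : S2 => (z : M2)) h).symm)
      · have h' : (1 : M2) = -(1 + N) := congrArg (fun z : S2 => (z : M2)) h
        have e00 := congrFun (congrFun h' 0) 0
        have e01 := congrFun (congrFun h' 0) 1
        simp at e00 e01
        rw [show N 0 1 = 0 from e01] at hn00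
        have hn0 : N 0 0 = 0 := by simpa using hn00
        rw [hn0] at e00
        exact two_ne_zero' hF (by linear_combination e00)
    refine ⟨toP x, ?_, ?_⟩
    · exact orderOf_eq_prime (hp := ⟨Nat.prime_three⟩) (by rw [← map_pow, hx3, map_one]) hx1
    · rw [H56.semiAut_toP, ← map_inv]
      refine congrArg toP (Subtype.ext ?_)
      show (A * (1 + N).map (RingEquiv.refl F) * ((g⁻¹ : GL (Fin 2) F) : M2)) = _
      rw [hxinv, show (1 + N).map (RingEquiv.refl F) = 1 + N by ext i j; rfl, mul_add, mul_one, hAN,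
        ← sub_eq_add_neg, sub_mul, Matrix.mul_assoc N, hA, ← Units.val_mul, mul_inv_cancel, Units.val_one,
        mul_one]

theorem goodT_psl {T : Type*} [Group T] (hT : IsSimpleGroup T) (hnc : ¬ IsMulCommutative T)
    (hF : Fintype.card F = 3 ^ (2 * n + 1)) (e : T ≃* P2) : GoodT T := by
  haveI := hT
  rcases Nat.eq_zero_or_pos n with rfl | hn
  · exfalso
    haveI : Finite T := Finite.of_equiv _ e.symm.toEquiv
    have h1 := Linear.card_center_mul_card_PSL (ι := Fin 2) (F := F)
    rw [Linear.card_center_SL, Fintype.card_fin, Linear.card_SL_two, hF] at h1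
    have h12 : Nat.card T = 2 ^ 2 * 3 ^ 1 := by
      rw [Nat.card_congr e.toEquiv]
      norm_num at h1 ⊢
      change 2 * Nat.card P2 = _ at h1
      omega
    haveI := S0144.result 2 3 2 1 Nat.prime_two Nat.prime_three h12
    exact hnc ⟨⟨IsSimpleGroup.comm_iff_isSolvable.mpr this⟩⟩
  refine GoodT.of_equiv ?_ e.symm
  refine ⟨MulEquiv.isSimpleGroup e.symm, fun hc => hnc ?_, ⟨toP wMat, orderOf_eq_prime (hp := ⟨Nat.prime_two⟩)
    (by rw [sq, toP_wMat_sq]) (fun h => ?_)⟩, fun α hα => psl_inner hF α hα, fun d hd c hc hD => ?_⟩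
  swap
  · rw [← map_one (toP (F := F) (n := 2)), toP_eq_cases] at h
    rcases h with h | h <;>
    · have h1 := congrArg (fun x : S2 => (x : M2) 1 0) h
      simp at h1
  · constructor
    constructor
    intro a b
    apply e.injective
    rw [map_mul, map_mul]
    exact hc.is_comm.comm _ _
  · obtain ⟨D, hDe, hDc⟩ := hD
    have hc2 := psl_el_bound hF hDc
    obtain ⟨l, hlp, hldvd, hlprim⟩ := Arith.exists_isPPD (a := 3) (n := 2 * n + 1) (by norm_num) (by omega)
      (by rintro ⟨h, -⟩; omega) (by rintro ⟨h, -⟩; omega)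
    have hl2 : l ≠ 2 := by
      rintro rfl
      exact hlprim 1 one_pos (by omega) (by norm_num)
    have hl3 : l ≠ 3 := by
      rintro rfl
      have h1 : 3 ∣ 3 ^ (2 * n + 1) := dvd_pow_self 3 (by omega)
      have h2 : 1 ≤ 3 ^ (2 * n + 1) := Nat.one_le_pow _ _ (by norm_num)
      omega
    refine ⟨l, ⟨hlp, hl2, fun j hj hj2 hdvd => ?_⟩, ?_⟩
    · have hj6 : j ≤ 6 := by omega
      have hl : l = 5 ∨ l = 7 ∨ l = 31 := by
        have hpos : 0 < 2 ^ j - 1 := Nat.sub_pos_of_lt (Nat.one_lt_two_pow (by omega))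
        have hle : l ≤ 2 ^ j - 1 := Nat.le_of_dvd hpos hdvd
        interval_cases j <;> norm_num at hdvd hle hpos <;> interval_cases l <;>
          first | omega | (norm_num at hlp)
      obtain ⟨k, hk⟩ := hldvd
      have hk' : 3 ^ (2 * n + 1) = l * k + 1 := by
        have h2 : 1 ≤ 3 ^ (2 * n + 1) := Nat.one_le_pow _ _ (by norm_num)
        omega
      rcases hl with rfl | rfl | rfl
      · have hm : 3 ^ (2 * n + 1) % 5 = 1 := by omega
        rw [← Nat.div_add_mod (2 * n + 1) 4, pow_add, pow_mul, Nat.mul_mod, Nat.pow_mod] at hm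
        have h4 : (2 * n + 1) % 4 = 1 ∨ (2 * n + 1) % 4 = 3 := by omega
        rcases h4 with h4 | h4 <;> rw [h4] at hm <;> norm_num at hm
      · have hm : 3 ^ (2 * n + 1) % 7 = 1 := by omega
        rw [← Nat.div_add_mod (2 * n + 1) 6, pow_add, pow_mul, Nat.mul_mod, Nat.pow_mod] at hm
        have h4 : (2 * n + 1) % 6 = 1 ∨ (2 * n + 1) % 6 = 3 ∨ (2 * n + 1) % 6 = 5 := by omega
        rcases h4 with h4 | h4 | h4 <;> rw [h4] at hm <;> norm_num at hm
      · have hm : 3 ^ (2 * n + 1) % 31 = 1 := by omega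
        rw [← Nat.div_add_mod (2 * n + 1) 30, pow_add, pow_mul, Nat.mul_mod, Nat.pow_mod] at hm
        have h4 : (2 * n + 1) % 30 % 2 = 1 := by omega
        have h5 : (2 * n + 1) % 30 < 30 := Nat.mod_lt _ (by norm_num)
        generalize (2 * n + 1) % 30 = r at hm h4 h5
        interval_cases r <;> first | omega | norm_num at hm
    · obtain ⟨k, hk⟩ := psl_involution_conj hF hd
      rw [← hk]
      exact closure_invSet_conj k (psl_gen_core hF hn hlp hl2 hldvd hlprim)

/-- a factor in the class of the hypothesis has the property -/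
theorem goodT_of_psl {T : Type*} [Group T] (hT : IsSimpleGroup T) (hnc : ¬ IsMulCommutative T)
    (h : ∃ (F : Type) (_ : Field F) (_ : Fintype F) (n : ℕ), Fintype.card F = 3 ^ (2 * n + 1) ∧
      Nonempty (T ≃* Matrix.ProjectiveSpecialLinearGroup (Fin 2) F)) : GoodT T := by
  obtain ⟨F, iF, iT, n, hF, ⟨e⟩⟩ := h
  exact goodT_psl (F := F) hT hnc hF e

end Cfsg.Agent.Thompson.Pc
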