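import Mathlib
import Cfsg.Agent.Thompson.PieceGood
import Cfsg.Agent.H60.GoodSz
import Cfsg.Agent.Suzuki.Borel
import Cfsg.Agent.Suzuki.Aut
import Cfsg.Agent.Suzuki.Lie
import Cfsg.Agent.Arith.LargePrimDiv
import Cfsg.Prelude.Def_Sz

/-!
The Suzuki groups have the property needed for pieces.
-/

set_option autoImplicit false
set_option linter.unusedSectionVars false
set_option linter.style.haveILetI false

namespace Cfsg.Agent.Thompson.Pc

open Subgroup
open Par (El)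
open Suzuki (SzField oInf oPt)

section

variable {F : Type} [Field F] [Fintype F] (m : ℕ) [SzField F m]

/-- an elementary abelian 2-subgroup has at most `q` elements -/
theorem sz_el_bound {D : Subgroup (Cfsg.Sz F m)} (hD : El D) : Nat.card D ≤ 2 ^ (2 * m + 1) := by
  obtain ⟨P, hP⟩ := hD.isPGroup.exists_le_sylow
  obtain ⟨k, hk⟩ := Suzuki.exists_conj_U m P
  rw [← Suzuki.card_nat (F := F) m, ← H60.card_szZ (F := F) m]
  refine Nat.card_le_card_of_injective
    (fun d : D => (⟨k⁻¹ * d.1 * k, ?_⟩ : (H60.szZ m : Subgroup (Cfsg.Sz F m)))) ?_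
  · have h1 := hP d.2
    rw [hk] at h1
    refine H60.mem_szZ_of_sq m (H60.mem_cj.1 h1) ?_
    rw [show k⁻¹ * d.1 * k * (k⁻¹ * d.1 * k) = k⁻¹ * (d.1 * d.1) * k by group, hD _ d.2]
    group
  · intro a b h
    have h1 : k⁻¹ * a.1 * k = k⁻¹ * b.1 * k := congrArg Subtype.val h
    exact Subtype.ext (by simpa using h1)

/-- involutions are conjugate -/
theorem sz_involution_conj {a b : Cfsg.Sz F m} (ha : a * a = 1) (ha1 : a ≠ 1) (hb : b * b = 1) (hb1 : b ≠ 1) :
    ∃ k, k * a * k⁻¹ = b := by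
  suffices key : ∀ g : Cfsg.Sz F m, g * g = 1 → g ≠ 1 → ∃ k, k * g * k⁻¹ = Suzuki.u m 0 1 by
    obtain ⟨k, hk⟩ := key a ha ha1
    obtain ⟨k', hk'⟩ := key b hb hb1
    refine ⟨k'⁻¹ * k, ?_⟩
    rw [show k'⁻¹ * k * a * (k'⁻¹ * k)⁻¹ = k'⁻¹ * (k * a * k⁻¹) * k' by group, hk, ← hk']
    group
  intro g hg hg1
  obtain ⟨k, hk⟩ := H60.exists_conj_mem_szZ m hg
  obtain ⟨c, hc⟩ := (H60.mem_szZ m).1 (H60.mem_cj.1 hk)
  have hc0 : c ≠ 0 := by
    rintro rfl
    rw [(Suzuki.u_eq_one m).2 ⟨rfl, rfl⟩] at hc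
    apply hg1
    calc g = k * (k⁻¹ * g * k) * k⁻¹ := by group
      _ = 1 := by rw [hc]; group
  obtain ⟨s, hs⟩ := (Suzuki.sq_mul_th_bijective (F := F) m).2 c⁻¹
  have hs0 : s ≠ 0 := by
    rintro rfl
    simp only [ne_eq, OfNat.ofNat_ne_zero, not_false_eq_true, zero_pow, zero_mul] at hs
    exact hc0 (inv_eq_zero.mp hs.symm)
  refine ⟨Suzuki.t m (Units.mk0 s hs0) * k⁻¹, ?_⟩
  rw [show Suzuki.t m (Units.mk0 s hs0) * k⁻¹ * g * (Suzuki.t m (Units.mk0 s hs0) * k⁻¹)⁻¹ =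
      Suzuki.t m (Units.mk0 s hs0) * (k⁻¹ * g * k) * (Suzuki.t m (Units.mk0 s hs0))⁻¹ by group, hc,
    Suzuki.t_u, mul_zero, Units.val_mk0]
  congr 1
  rw [show s ^ 2 * Suzuki.th m s = c⁻¹ from hs, inv_mul_cancel₀ hc0]

/-- a nontrivial element of odd order inverted by the involution at infinity moves it -/
theorem sz_not_mem_B {d e : Cfsg.Sz F m} (hdd : d * d = 1) (hd1 : d ≠ 1) (hdB : d ∈ Suzuki.B m)
    (he1 : e ≠ 1) (hodd : Odd (orderOf e)) (hinv : d * e * d⁻¹ = e⁻¹) : e ∉ Suzuki.B m := by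
  intro hB
  have hU : e ∉ Suzuki.U m := by
    intro hU
    haveI : Fact (Nat.Prime 2) := ⟨Nat.prime_two⟩
    obtain ⟨k, hk⟩ := IsPGroup.iff_orderOf.mp (Suzuki.isPGroup_U (F := F) m) ⟨e, hU⟩
    rw [Subgroup.orderOf_mk] at hk
    rcases k with _ | k
    · exact he1 (orderOf_eq_one_iff.mp (by simpa using hk))
    · rw [hk] at hodd
      exact (Nat.not_odd_iff_even.mpr (Nat.even_pow.mpr ⟨even_two, by omega⟩)) hodd
  obtain ⟨p, hp, hep⟩ := Suzuki.exists_second_fixed m hB hU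
  have heinf : e • oInf m = (oInf m : suzukiOvoid F m) := (Suzuki.mem_B m).mp hB
  have hdinf : d • oInf m = (oInf m : suzukiOvoid F m) := (Suzuki.mem_B m).mp hdB
  have h1 : e • (d • p) = d • p := by
    have h2 : e * d = d * e⁻¹ := by
      rw [← hinv]
      calc e * d = (d * d) * e * d := by rw [hdd, one_mul]
        _ = _ := by rw [inv_eq_of_mul_eq_one_right hdd]; group
    rw [← mul_smul, h2, mul_smul, inv_smul_eq_iff.mpr hep.symm]
  by_cases hdp : d • p = p
  · exact hp (H60.fixed_unique m hdd hd1 hdp hdinf)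
  · refine he1 (Suzuki.eq_one_of_three_fixed m (a := oInf m) (b := p) (c := d • p) hp.symm (Ne.symm hdp) ?_
      heinf hep h1)
    intro h
    refine hp (smul_left_cancel d ?_)
    rw [hdinf, ← h]

theorem goodT_sz : GoodT ↥(Cfsg.Sz F m) := by
  haveI hsimple := Suzuki.isSimpleGroup (F := F) m
  haveI : Finite (Cfsg.Sz F m) := inferInstance
  refine ⟨hsimple, fun hc => ?_, ⟨Suzuki.u m (0 : F) 1, orderOf_eq_prime (hp := ⟨Nat.prime_two⟩)
    (by rw [sq, Suzuki.u_sq]; simp) (fun h => one_ne_zero ((Suzuki.u_eq_one m).mp h).2)⟩,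
    fun α hα => ?_, fun d hd c hc hD => ?_⟩
  · have h1 := Suzuki.commutator_eq_top (F := F) m
    haveI := Suzuki.nontrivial_Sz (F := F) m
    rw [commutator_def, commutator_eq_bot_iff_le_centralizer.mpr
      (fun x _ => mem_centralizer_iff.mpr fun y _ => hc.is_comm.comm y x)] at h1
    exact bot_ne_top h1
  · refine Or.inl ?_
    have hcard := Suzuki.card_out m (MulEquiv.refl ↥(Cfsg.Sz F m))
    set I := (MulAut.conj : Cfsg.Sz F m →* MulAut (Cfsg.Sz F m)).range
    haveI : I.Normal := ⟨fun f hf β => by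
      obtain ⟨k, rfl⟩ := hf
      exact ⟨β k, MulEquiv.ext fun x => by simp [MulAut.mul_apply]⟩⟩
    have h2 : (QuotientGroup.mk α : MulAut (Cfsg.Sz F m) ⧸ I) = 1 := by
      rw [← orderOf_eq_one_iff]
      have ha : orderOf (QuotientGroup.mk α : MulAut (Cfsg.Sz F m) ⧸ I) ∣ 2 := orderOf_dvd_of_pow_eq_one (by
        rw [sq, ← QuotientGroup.mk_mul, hα, QuotientGroup.mk_one])
      have hb : orderOf (QuotientGroup.mk α : MulAut (Cfsg.Sz F m) ⧸ I) ∣ 2 * m + 1 :=
        hcard ▸ orderOf_dvd_natCard _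
      have h3 := Nat.dvd_gcd ha hb
      rw [show Nat.gcd 2 (2 * m + 1) = 1 by
        rw [Nat.gcd_comm, Nat.gcd_mul_left_add_left]; rfl] at h3
      exact Nat.dvd_one.mp h3
    rw [QuotientGroup.eq_one_iff] at h2
    obtain ⟨t, rfl⟩ := h2
    exact ⟨t, fun x => rfl⟩
  · obtain ⟨D, hDe, hDc⟩ := hD
    have hcn : c ≤ 2 * m + 1 := by
      have := sz_el_bound m hDe
      rw [hDc] at this
      exact (Nat.pow_le_pow_iff_right (by norm_num)).mp this
    set n := 2 * m + 1 with hn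
    obtain ⟨l, hl⟩ := Arith.exists_isPPD (a := 2) (n := 4 * n) (by norm_num) (by omega) (by
      rintro ⟨-, h⟩; omega) (by rintro ⟨h, -⟩; omega)
    obtain ⟨hlp, hldvd, hlprim⟩ := hl
    have hl2 : l ≠ 2 := by
      rintro rfl
      have h1 : 2 ∣ 2 ^ (4 * n) := dvd_pow_self 2 (by omega)
      have h2 : 1 ≤ 2 ^ (4 * n) := Nat.one_le_pow _ _ (by norm_num)
      omega
    refine ⟨l, ⟨hlp, hl2, fun j hj hj2 => hlprim j hj (by omega)⟩, ?_⟩
    haveI : Fact l.Prime := ⟨hlp⟩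
    have hlQ : l ∣ Nat.card F ^ 2 + 1 := by
      have h1 : 2 ^ (4 * n) - 1 = (Nat.card F ^ 2 + 1) * (Nat.card F ^ 2 - 1) := by
        rw [Suzuki.card_nat (F := F) m, ← Nat.sq_sub_sq, one_pow, ← pow_mul, ← pow_mul]
        congr 2
        omega
      rw [h1] at hldvd
      refine (hlp.dvd_mul.mp hldvd).resolve_right fun h2 => ?_
      rw [Suzuki.card_nat (F := F) m, ← pow_mul] at h2
      exact hlprim (n * 2) (by omega) (by omega) h2
    obtain ⟨x, hx⟩ := exists_prime_orderOf_dvd_card' (G := Cfsg.Sz F m) l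
      (by rw [Suzuki.card_Sz]; exact dvd_mul_of_dvd_right hlQ _)
    obtain ⟨z, hzz, hzx⟩ := H60.inverted m hl2 hx
    have hx1 : x ≠ 1 := fun h => by
      rw [h, orderOf_one] at hx; exact hlp.ne_one hx.symm
    have hxodd : Odd (orderOf x) := hx ▸ hlp.odd_of_ne_two hl2
    have hz1 : z ≠ 1 := by
      rintro rfl
      rw [one_mul, mul_one] at hzx
      have h2 : orderOf x ∣ 2 := orderOf_dvd_of_pow_eq_one (by
        rw [sq]; nth_rw 2 [hzx]; exact mul_inv_cancel x)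
      rw [hx] at h2
      exact hl2 ((Nat.prime_dvd_prime_iff_eq hlp Nat.prime_two).mp h2)
    have hzinv : z⁻¹ = z := inv_eq_of_mul_eq_one_right hzz
    set d0 := Suzuki.u m (0 : F) 1 with hd0
    have hd00 : d0 * d0 = 1 := by rw [hd0, Suzuki.u_sq]; simp
    have hd01 : d0 ≠ 1 := fun h => one_ne_zero ((Suzuki.u_eq_one m).mp h).2
    obtain ⟨k, hk⟩ := sz_involution_conj m hzz hz1 hd00 hd01
    set e := k * x * k⁻¹ with he
    have heinv : d0 * e * d0⁻¹ = e⁻¹ := by
      rw [← hk, he]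
      calc k * z * k⁻¹ * (k * x * k⁻¹) * (k * z * k⁻¹)⁻¹ = k * (z * x * z⁻¹) * k⁻¹ := by group
        _ = _ := by rw [hzinv, hzx]; group
    have he1 : e ≠ 1 := fun h => hx1 (conj_eq_one_iff.mp h)
    have heset : e ∈ invSet l d0 :=
      ⟨⟨1, by rw [pow_one, he, conj_pow, ← hx, pow_orderOf_eq_one, mul_one, mul_inv_cancel]⟩, heinv⟩
    have hgen : closure (invSet l d0) = ⊤ := by
      refine closure_invSet_eq_top heset he1 ?_
      refine Suzuki.eq_top_of_U_le m (fun g hg => subset_closure (Or.inl ?_)) fun hle => ?_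
      · obtain ⟨a, b, rfl⟩ := (Suzuki.mem_U m).mp hg
        refine mem_centralizer_iff.mpr fun y hy => ?_
        rw [Set.mem_singleton_iff.mp hy, hd0, Suzuki.u_mul, Suzuki.u_mul]
        congr 1
        · ring
        · simp; ring
      · have hodd : Odd (orderOf e) := by
          rwa [he, show orderOf (k * x * k⁻¹) = orderOf x from
            MulEquiv.orderOf_eq (MulAut.conj k) x]
        exact sz_not_mem_B m hd00 hd01 (Suzuki.U_le_B m (Suzuki.u_mem_U m 0 1)) he1 hodd heinv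
          (hle (subset_closure (Or.inr heset)))
    have hdd : d * d = 1 := by rw [← sq, ← hd, pow_orderOf_eq_one]
    have hd1 : d ≠ 1 := fun h => by rw [h, orderOf_one] at hd; norm_num at hd
    obtain ⟨k', hk'⟩ := sz_involution_conj m hd00 hd01 hdd hd1
    rw [← hk']
    exact closure_invSet_conj k' hgen

end

/-- a Suzuki group has the property -/
theorem goodT_isoSuzuki {T : Type*} [Group T] (h : Cfsg.Lie.IsoSuzuki T) : GoodT T := by
  obtain ⟨F, iF, iT, m, hm, hcard, ⟨e⟩⟩ := h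
  haveI : SzField F m := ⟨hcard, hm⟩
  exact (goodT_sz (F := F) m).of_equiv ((Suzuki.lieEquiv m).trans e.symm)

end Cfsg.Agent.Thompson.Pc
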