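import Mathlib
import Cfsg.Agent.Thompson.PieceSuzuki
import Cfsg.Agent.Thompson.PiecePSL
import Cfsg.Prelude.Def_Local
import Cfsg.Prelude.Def_LocalEven

/-!
Groups all of whose nonabelian composition factors have the property needed for pieces or have odd order.
-/

set_option autoImplicit false
set_option linter.unusedSectionVars false
set_option linter.style.haveILetI false

namespace Cfsg.Agent.Thompson.Pc

open Subgroup

universe u

/-- every nonabelian composition factor has the property or has odd order -/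
def GoodFac (H : Type u) [Group H] : Prop :=
  ∀ (K : Subgroup H), K.IsSubnormal → ∀ (T : Type u) [Group T] (φ : K →* T), Function.Surjective φ →
    IsSimpleGroup T → ¬ IsMulCommutative T → GoodT T ∨ ¬ 2 ∣ Nat.card T

variable {H : Type u} [Group H]

theorem goodFac_of_compositionK (h : Cfsg.IsCompositionKGroupWith Cfsg.IsSuzukiOrPSL2OddPowerThree H) :
    GoodFac H := by
  intro K hK T _ φ hφ hs hnc
  let e : K ⧸ φ.ker ≃* T := QuotientGroup.quotientKerEquivOfSurjective φ hφ
  have hs' : IsSimpleGroup (K ⧸ φ.ker) := MulEquiv.isSimpleGroup e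
  have hnc' : ¬ IsMulCommutative (K ⧸ φ.ker) := fun hc => hnc ⟨⟨fun a b => e.symm.injective (by
    rw [map_mul, map_mul]; exact hc.is_comm.comm _ _)⟩⟩
  rcases h K hK φ.ker hs' hnc' with h1 | h1
  · exact Or.inl ((goodT_isoSuzuki h1).of_equiv e)
  · exact Or.inl ((goodT_of_psl hs' hnc' h1).of_equiv e)

/-- subnormal subgroups inherit it -/
theorem GoodFac.subgroup (h : GoodFac H) {L : Subgroup H} (hL : L.IsSubnormal) : GoodFac L := by
  intro K hK T _ φ hφ hs hnc
  let e := K.equivMapOfInjective L.subtype L.subtype_injective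
  exact h _ (hK.trans' hL) T (φ.comp e.symm.toMonoidHom) (hφ.comp e.symm.surjective) hs hnc

/-- images inherit it -/
theorem GoodFac.of_surjective {H' : Type u} [Group H'] (h : GoodFac H) (f : H →* H')
    (hf : Function.Surjective f) : GoodFac H' := by
  intro K hK T _ φ hφ hs hnc
  refine h (K.comap f) (hK.comap f) T (φ.comp ((f.comp (K.comap f).subtype).codRestrict K fun x => x.2)) ?_ hs hnc
  refine hφ.comp fun y => ?_
  obtain ⟨x, hx⟩ := hf y.1
  exact ⟨⟨x, mem_comap.mpr (by rw [hx]; exact y.2)⟩, Subtype.ext hx⟩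

/-- extensions inherit it -/
theorem goodFac_ext (L : Subgroup H) [L.Normal] (h1 : GoodFac L) (h2 : GoodFac (H ⧸ L)) : GoodFac H := by
  intro K hK T _ φ hφ hs hnc
  set L' := L.subgroupOf K with hL'
  rcases ((inferInstance : L'.Normal).map φ hφ).eq_bot_or_eq_top with hb | ht
  · set ψ := (QuotientGroup.mk' L).subgroupMap K with hψ
    have hψs : Function.Surjective ψ := (QuotientGroup.mk' L).subgroupMap_surjective K
    have hker : ψ.ker ≤ φ.ker := by
      intro x hx
      have h3 : QuotientGroup.mk' L x.1 = 1 := congrArg Subtype.val (MonoidHom.mem_ker.mp hx)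
      rw [← MonoidHom.mem_ker, QuotientGroup.ker_mk'] at h3
      have h4 : φ x ∈ L'.map φ := ⟨x, h3, rfl⟩
      rw [hb] at h4
      exact MonoidHom.mem_ker.mpr (mem_bot.mp h4)
    let φ' := ψ.liftOfSurjective hψs ⟨φ, hker⟩
    refine h2 _ hK.quotient T φ' (fun t => ?_) hs hnc
    obtain ⟨x, rfl⟩ := hφ t
    exact ⟨ψ x, ψ.liftOfRightInverse_comp_apply _ _ ⟨φ, hker⟩ x⟩
  · let i : ↥(K.subgroupOf L) →* K :=
      (L.subtype.comp (K.subgroupOf L).subtype).codRestrict K fun x => x.2
    refine h1 (K.subgroupOf L) hK.subgroupOf T (φ.comp i) (fun t => ?_) hs hnc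
    obtain ⟨x, hx, rfl⟩ : t ∈ L'.map φ := ht ▸ mem_top t
    exact ⟨⟨⟨x.1, hx⟩, x.2⟩, rfl⟩

theorem goodFac_of_odd [Finite H] (h : ¬ 2 ∣ Nat.card H) : GoodFac H :=
  fun K _ _ _ φ hφ _ _ => Or.inr fun h2 => h
    ((h2.trans (Subgroup.card_dvd_of_surjective φ hφ)).trans (Subgroup.card_subgroup_dvd_card K))

theorem goodFac_of_isPGroup [Finite H] (h : IsPGroup 2 H) : GoodFac H := by
  intro K _ T _ φ hφ hs hnc
  haveI : Finite T := Finite.of_surjective φ hφ
  haveI : Fact (Nat.Prime 2) := ⟨Nat.prime_two⟩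
  haveI : Group.IsNilpotent T := ((h.to_subgroup K).of_surjective φ hφ).isNilpotent
  haveI : Group.IsSolvable T := inferInstance
  exact absurd ⟨⟨IsSimpleGroup.comm_iff_isSolvable.mpr this⟩⟩ hnc

end Cfsg.Agent.Thompson.Pc
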