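import Mathlib
import Cfsg.Agent.Thompson.PieceSection
import Cfsg.Agent.Thompson.PieceOdd
import Cfsg.Agent.Cores.PCore

/-!
Every nontrivial elementary abelian 2-subgroup has a piece in a group with trivial 2-core in which no
involution inverts an element of order three and all nonabelian composition factors are Suzuki groups,
`PSL₂(3^odd)` or of odd order.
-/

set_option autoImplicit false
set_option linter.unusedSectionVars false
set_option linter.style.haveILetI false

namespace Cfsg.Agent.Thompson.Pc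

open Subgroup
open scoped commutatorElement
open H48 (cj)
open Par (El Inv3)

universe u

variable {Q : Type u} [Group Q] [Finite Q]

/-- a simple factor of a nonabelian minimal normal subgroup of even order has the property -/
theorem goodT_of_factor (hfac : GoodFac Q) {N T : Subgroup Q} [hN : N.Normal] (hF : H68.IsFactor N T)
    (heven : 2 ∣ Nat.card N) (hmin : ∀ X : Subgroup Q, X.Normal → X ≤ N → X = ⊥ ∨ X = N)
    (hnc : ¬ IsMulCommutative N) : GoodT T := by
  have hsub : T.IsSubnormal := by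
    refine IsSubnormal.step T N hF.le hN.isSubnormal ?_
    refine ⟨fun t ht n => ?_⟩
    exact mem_subgroupOf.mpr (hF.normalized n n.2 t ht)
  refine (hfac T hsub T (MonoidHom.id T) Function.surjective_id hF.simple hF.noncomm).resolve_right fun hodd => ?_
  obtain ⟨⟨x, hxN⟩, hx⟩ := exists_prime_orderOf_dvd_card' (G := N) 2 heven
  rw [Subgroup.orderOf_mk] at hx
  have hx1 : x ≠ 1 := fun h => by rw [h, orderOf_one] at hx; norm_num at hx
  -- involutions of `N` centralise `T`
  have hcomm : ∀ y ∈ N, y * y = 1 → ∀ t ∈ T, t * y = y * t := by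
    intro y hy hy2 t ht
    obtain ⟨s, hs, u, hu, rfl⟩ := hF.exists_mul y hy
    have h1 := hF.comm s hs u hu
    have h2 : s * s * (u * u) = 1 * 1 := by
      rw [one_mul, ← hy2, show s * u * (s * u) = s * (u * s) * u by group, ← h1]
      group
    have h3 := (hF.mul_inj (mul_mem hs hs) (one_mem _) (mul_mem hu hu) (one_mem _) h2).1
    have hs1 : s = 1 := by
      rw [← orderOf_eq_one_iff]
      have h4 : orderOf s ∣ 2 := orderOf_dvd_of_pow_eq_one (by rw [sq, h3])
      have h5 : orderOf s ∣ Nat.card T := by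
        have := orderOf_dvd_natCard (⟨s, hs⟩ : T)
        rwa [← Subgroup.orderOf_coe] at this
      exact ((Nat.dvd_prime Nat.prime_two).mp h4).resolve_right fun h => hodd (h ▸ h5)
    subst hs1
    rw [one_mul]
    exact hF.comm t ht u hu
  have hcent : ∀ g, cj g T ≤ centralizer ({x} : Set Q) := by
    rintro g _ ⟨t, ht, rfl⟩
    refine mem_centralizer_iff.mpr fun v hv => ?_
    rw [Set.mem_singleton_iff.mp hv]
    have hxx : x * x = 1 := by rw [← sq, ← hx, pow_orderOf_eq_one]
    have h := hcomm (g⁻¹ * x * g) (by simpa using hN.conj_mem x hxN g⁻¹)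
      (by rw [show g⁻¹ * x * g * (g⁻¹ * x * g) = g⁻¹ * (x * x) * g by group, hxx]; group) t ht
    show x * (g * t * g⁻¹) = g * t * g⁻¹ * x
    calc x * (g * t * g⁻¹) = g * (g⁻¹ * x * g * t) * g⁻¹ := by group
      _ = g * (t * (g⁻¹ * x * g)) * g⁻¹ := by rw [h]
      _ = _ := by group
  have hxc : N ≤ centralizer ({x} : Set Q) := by
    intro n hn
    obtain ⟨s, hs, u, hu, rfl⟩ := hF.exists_mul n hn
    refine mul_mem ?_ ((iSup_le fun k => hcent k.1 : H68.others T ≤ centralizer ({x} : Set Q)) hu)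
    have := hcent 1
    rw [H48.cj_one] at this
    exact this hs
  set Z := (center N).map N.subtype with hZ
  haveI : Z.Normal := inferInstance
  rcases hmin Z inferInstance (map_subtype_le _) with h | h
  · refine hx1 ?_
    have hmem : x ∈ Z := ⟨⟨x, hxN⟩, mem_center_iff.mpr fun n => Subtype.ext
      (mem_centralizer_iff.mp (hxc n.2) x rfl).symm, rfl⟩
    rwa [h, mem_bot] at hmem
  · refine hnc ⟨⟨fun p q => ?_⟩⟩
    obtain ⟨⟨z, hzc⟩, hzz, hze⟩ : (p : Q) ∈ Z := by rw [h]; exact p.2
    have : p = ⟨z, hzc⟩ := Subtype.ext hze.symm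
    rw [this]
    exact (mem_center_iff.mp hzz q).symm

/-- every nontrivial elementary abelian 2-subgroup has a piece -/
theorem exists_piece (hcore : pCore 2 Q = ⊥) (hinv : ¬ Inv3 Q) (hfac : GoodFac Q) {A : Subgroup Q}
    (hA : El A) (hne : A ≠ ⊥) : Nonempty (Piece A) := by
  by_contra hno
  haveI : Fact (Nat.Prime 2) := ⟨Nat.prime_two⟩
  have hvac : ∀ P : Piece A, P.O ≤ A := fun P => absurd ⟨P⟩ hno
  set F := Cfsg.oddCore Q with hFdef
  haveI hFn : F.Normal := inferInstance
  have hFodd : ¬ 2 ∣ Nat.card F := fun hd =>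
    Nat.not_even_iff_odd.mpr (Cores.odd_card_oddCore (G := Q)) (even_iff_two_dvd.mpr hd)
  have hAF : A ≤ centralizer (F : Set Q) := by
    rw [le_centralizer_iff, ← commutator_eq_bot_iff_le_centralizer, eq_bot_iff]
    refine le_trans (le_inf (odd_cover hinv hFn hFodd hA le_rfl hvac) (commutator_le_left F A)) ?_
    intro a ha
    rw [mem_bot, ← orderOf_eq_one_iff]
    have h2 : orderOf a ∣ 2 := orderOf_dvd_of_pow_eq_one (by rw [sq]; exact hA a ha.1)
    have h3 : orderOf a ∣ Nat.card F := by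
      have := orderOf_dvd_natCard (⟨a, ha.2⟩ : F)
      rwa [← Subgroup.orderOf_coe] at this
    exact ((Nat.dvd_prime Nat.prime_two).mp h2).resolve_right fun h => hFodd (h ▸ h3)
  set H1 := centralizer (F : Set Q) with hH1
  haveI hH1n : H1.Normal := inferInstance
  set Z := F.subgroupOf H1 with hZ
  haveI hZn : Z.Normal := inferInstance
  have hZodd : ¬ 2 ∣ Nat.card Z := fun h => hFodd (h.trans (by
    rw [hZ, Nat.card_congr (MulEquiv.toEquiv (Subgroup.equivMapOfInjective (F.subgroupOf H1) H1.subtype H1.subtype_injective)),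
      subgroupOf_map_subtype]
    exact card_dvd_of_le inf_le_left))
  have hZc : ∀ z ∈ Z, ∀ x : H1, x * z = z * x := fun z hz x =>
    Subtype.ext (mem_centralizer_iff.mp x.2 z.1 hz).symm
  set f := QuotientGroup.mk' Z with hf
  have hfker : f.ker = Z := QuotientGroup.ker_mk' Z
  set A1 := A.subgroupOf H1 with hA1
  have hA1el : El A1 := fun a ha => Subtype.ext (hA a.1 ha)
  set A2 := A1.map f with hA2
  have hno2 : ¬ Nonempty (Piece A2) := by
    rintro ⟨P⟩
    obtain ⟨P1, -, -⟩ := exists_piece_lift f (QuotientGroup.mk'_surjective Z) (by rwa [hfker]) hA1el P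
    obtain ⟨P0, -, -⟩ := exists_piece_map H1.subtype H1.subtype_injective P1
    apply hno
    rw [hA1, subgroupOf_map_subtype, inf_of_le_left hAF] at P0
    exact ⟨P0⟩
  have hA2ne : A2 ≠ ⊥ := by
    intro h
    refine hne ((eq_bot_iff_forall _).mpr fun a ha => ?_)
    have h1 : f ⟨a, hAF ha⟩ ∈ A2 := ⟨⟨a, hAF ha⟩, ha, rfl⟩
    rw [h, mem_bot, ← MonoidHom.mem_ker, hfker] at h1
    have h2 : orderOf a ∣ 2 := orderOf_dvd_of_pow_eq_one (by rw [sq]; exact hA a ha)
    have h3 : orderOf a ∣ Nat.card F := by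
      have := orderOf_dvd_natCard (⟨a, h1⟩ : F)
      rwa [← Subgroup.orderOf_coe] at this
    exact orderOf_eq_one_iff.mp (((Nat.dvd_prime Nat.prime_two).mp h2).resolve_right fun h => hFodd (h ▸ h3))
  have hinv2 : ¬ Inv3 (H1 ⧸ Z) := fun h => hinv (Inv3.of_subgroup (Inv3.of_quotient Z h))
  have hfac2 : GoodFac (H1 ⧸ Z) :=
    (hfac.subgroup hH1n.isSubnormal).of_surjective f (QuotientGroup.mk'_surjective Z)
  -- no normal subgroup of odd order
  have hodd2 : ∀ N : Subgroup (H1 ⧸ Z), N.Normal → ¬ 2 ∣ Nat.card N → N = ⊥ := by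
    intro N hN hNodd
    haveI := hN
    haveI : (N.comap f).Normal := hN.comap f
    have hcard : Nat.card f.ker * Nat.card ((N.comap f).map f) = Nat.card (N.comap f) :=
      card_ker_mul_map f (fun x hx => mem_comap.mpr (by rw [MonoidHom.mem_ker.mp hx]; exact one_mem _))
    rw [map_comap_eq_self_of_surjective (QuotientGroup.mk'_surjective Z), hfker] at hcard
    have hodd : Odd (Nat.card (N.comap f)) := by
      rw [← Nat.not_even_iff_odd, even_iff_two_dvd, ← hcard]
      exact fun h => (Nat.prime_two.dvd_mul.mp h).elim hZodd hNodd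
    have h1 : N.comap f ≤ Z := by
      intro x hx
      exact Cores.map_pPrimeCore_le_of_normal (p := 2) H1 ⟨x, Cores.le_oddCore hodd hx, rfl⟩
    rw [← map_comap_eq_self_of_surjective (QuotientGroup.mk'_surjective Z) N, eq_bot_iff]
    rintro _ ⟨x, hx, rfl⟩
    rw [mem_bot, ← MonoidHom.mem_ker, hfker]
    exact h1 hx
  -- no normal 2-subgroup
  have htwo2 : ∀ N : Subgroup (H1 ⧸ Z), N.Normal → IsPGroup 2 N → N = ⊥ := by
    intro N hN hNp
    refine hodd2 N hN fun h2 => ?_
    set K := N.comap f with hK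
    haveI : K.Normal := hN.comap f
    obtain ⟨S⟩ : Nonempty (Sylow 2 K) := inferInstance
    let g : K →* N := (f.comp K.subtype).codRestrict N fun x => x.2
    have hg : Function.Surjective g := fun y => by
      obtain ⟨x, hx⟩ := QuotientGroup.mk'_surjective Z y.1
      exact ⟨⟨x, mem_comap.mpr (by rw [hf, hx]; exact y.2)⟩, Subtype.ext hx⟩
    have hStop : (S : Subgroup K).map g = ⊤ := by
      refine eq_top_of_card_eq _ (le_antisymm (Subgroup.card_le_card_group _) ?_)
      have hS := (S.mapSurjective hg).3 (show IsPGroup 2 (⊤ : Subgroup N) from hNp.to_subgroup ⊤) le_top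
      rw [Sylow.coe_mapSurjective] at hS
      rw [← hS, Subgroup.card_top]
    have hSn : (S : Subgroup K).Normal := by
      refine ⟨fun s hs k => ?_⟩
      obtain ⟨t, ht, hte⟩ : g k ∈ (S : Subgroup K).map g := hStop ▸ mem_top _
      have hz : ((t⁻¹ * k : K) : H1) ∈ Z := by
        rw [← hfker, MonoidHom.mem_ker]
        have h3 : g (t⁻¹ * k) = 1 := by rw [map_mul, map_inv, hte, inv_mul_cancel]
        exact congrArg Subtype.val h3
      have hc : (t⁻¹ * k) * s = s * (t⁻¹ * k) := Subtype.ext (hZc _ hz s.1).symm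
      rw [show k * s * k⁻¹ = t * ((t⁻¹ * k) * s) * (t⁻¹ * k)⁻¹ * t⁻¹ by group, hc,
        show t * (s * (t⁻¹ * k)) * (t⁻¹ * k)⁻¹ * t⁻¹ = t * s * t⁻¹ by group]
      exact mul_mem (mul_mem ht hs) (inv_mem ht)
    have hSbot : ((S : Subgroup K).map K.subtype).map H1.subtype = ⊥ := by
      rw [eq_bot_iff, ← hcore]
      refine le_trans (map_mono ?_) (Cores.map_pCore_le_of_normal (p := 2) H1)
      exact Cores.le_pCore_of_isSubnormal (hSn.isSubnormal.trans' (‹K.Normal›).isSubnormal)
        (S.isPGroup'.map K.subtype)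
    rw [map_map, map_eq_bot_iff_of_injective (f := H1.subtype.comp K.subtype) _
      (H1.subtype_injective.comp K.subtype_injective)] at hSbot
    rw [hSbot, Subgroup.map_bot] at hStop
    have h1 : Nat.card (⊤ : Subgroup N) = 1 := by rw [← hStop, card_bot]
    rw [Subgroup.card_top] at h1
    rw [h1] at h2
    norm_num at h2
  -- a minimal normal subgroup which is moved
  obtain ⟨a, ha, ha1⟩ : ∃ a ∈ A2, a ≠ 1 := by
    by_contra h
    push Not at h
    exact hA2ne ((eq_bot_iff_forall _).mpr h)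
  have hmin : ∀ M : Subgroup (H1 ⧸ Z), M.Normal → M ≠ ⊥ →
      (∀ X : Subgroup (H1 ⧸ Z), X.Normal → X ≤ M → X = ⊥ ∨ X = M) → ¬ IsMulCommutative M := by
    intro M hM hM1 hMmin hc
    obtain ⟨p, hp, hpd⟩ := Nat.exists_prime_and_dvd (n := Nat.card M) (by
      rw [ne_eq, Subgroup.card_eq_one]; exact hM1)
    haveI : Fact p.Prime := ⟨hp⟩
    haveI := hM
    haveI := hc
    have hle : (pCore p M).map M.subtype ≤ M := map_subtype_le _
    haveI hPn : ((pCore p M).map M.subtype).Normal := inferInstance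
    have hne' : (pCore p M).map M.subtype ≠ ⊥ := by
      rw [ne_eq, map_eq_bot_iff_of_injective _ M.subtype_injective]
      intro h
      obtain ⟨x, hx⟩ := exists_prime_orderOf_dvd_card' (G := M) p hpd
      haveI : (zpowers x).Normal := ⟨fun y hy g => by
        rw [hc.is_comm.comm g y, mul_inv_cancel_right]; exact hy⟩
      have : zpowers x ≤ pCore p M := Cores.le_pCore (IsPGroup.of_card (n := 1) (by
        rw [Nat.card_zpowers, hx, pow_one]))
      have h3 : x ∈ (⊥ : Subgroup M) := h ▸ this (mem_zpowers x)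
      rw [mem_bot] at h3
      rw [h3, orderOf_one] at hx
      exact hp.ne_one hx.symm
    have heq := (hMmin _ hPn hle).resolve_left hne'
    have hMp : IsPGroup p M := heq ▸ (Cores.pCore_isPGroup (p := p)).map M.subtype
    by_cases hp2 : p = 2
    · subst hp2; exact hM1 (htwo2 M hM hMp)
    · refine hM1 (hodd2 M hM fun h2 => ?_)
      obtain ⟨n, hn⟩ := IsPGroup.iff_card.mp hMp
      rw [hn] at h2
      exact hp2 ((Nat.prime_dvd_prime_iff_eq Nat.prime_two hp).mp (Nat.prime_two.dvd_of_dvd_pow h2)).symm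
  obtain ⟨N, hN, hN1, hNmin, hmoves⟩ : ∃ N : Subgroup (H1 ⧸ Z), N.Normal ∧ N ≠ ⊥ ∧
      (∀ X : Subgroup (H1 ⧸ Z), X.Normal → X ≤ N → X = ⊥ ∨ X = N) ∧ ¬ A2 ≤ centralizer (N : Set (H1 ⧸ Z)) := by
    by_contra hcon
    push Not at hcon
    set C : Subgroup (H1 ⧸ Z) := normalClosure (A2 : Set (H1 ⧸ Z)) with hC
    obtain ⟨M, hMle, hMm⟩ := Finite.exists_le_minimal
      (p := fun X : Subgroup (H1 ⧸ Z) => X.Normal ∧ X ≠ ⊥ ∧ X ≤ C) (a := C)
      ⟨inferInstance, fun h => ha1 (mem_bot.mp (h ▸ subset_normalClosure ha)), le_rfl⟩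
    obtain ⟨hMn, hM1, hMC⟩ := hMm.prop
    have hMmin : ∀ X : Subgroup (H1 ⧸ Z), X.Normal → X ≤ M → X = ⊥ ∨ X = M := fun X hX hXM => by
      by_cases h : X = ⊥
      · exact Or.inl h
      · exact Or.inr (le_antisymm hXM (hMm.le_of_le ⟨hX, h, hXM.trans hMC⟩ hXM))
    refine hmin M hMn hM1 hMmin (le_centralizer_iff_isMulCommutative.mp (hMle.trans ?_))
    haveI := hMn
    haveI : (centralizer (M : Set (H1 ⧸ Z))).Normal := inferInstance
    exact normalClosure_le_normal (hcon M hMn hM1 hMmin)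
  haveI := hN
  obtain ⟨T, hT⟩ := H68.exists_factor N hN1 hNmin (hmin N hN hN1 hNmin)
  have heven : 2 ∣ Nat.card N := by
    by_contra h
    exact hN1 (hodd2 N hN h)
  have hgood := goodT_of_factor hfac2 hT heven hNmin (hmin N hN hN1 hNmin)
  obtain ⟨g, x, hx, b, hb, hmv⟩ : ∃ g, ∃ x ∈ cj g T, ∃ b ∈ A2, b * x * b⁻¹ ≠ x := by
    by_contra hcon
    push Not at hcon
    refine hmoves fun b hb => mem_centralizer_iff.mpr fun n hn => ?_
    have hall : ∀ g, cj g T ≤ centralizer ({b} : Set (H1 ⧸ Z)) := fun g y hy =>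
      mem_centralizer_iff.mpr fun u hu => by
        rw [Set.mem_singleton_iff.mp hu]
        exact (mul_inv_eq_iff_eq_mul.mp (hcon g y hy b hb))
    obtain ⟨t, ht, u, hu, rfl⟩ := hT.exists_mul n hn
    have h1 : T ≤ centralizer ({b} : Set (H1 ⧸ Z)) := by
      have := hall 1
      rwa [H48.cj_one] at this
    have h2 : H68.others T ≤ centralizer ({b} : Set (H1 ⧸ Z)) := iSup_le fun k => hall k.1
    exact (mem_centralizer_iff.mp (mul_mem (h1 ht) (h2 hu)) b rfl).symm
  set A3 := cj g⁻¹ A2 with hA3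
  have hA3el : El A3 := (hA1el.map f).map _
  have hTle : T ≤ A3 := by
    refine layer_cover hinv2 hT hgood hA3el le_rfl (fun P => ?_) ⟨g⁻¹ * b * g, ?_, g⁻¹ * x * g, ?_, ?_⟩
    · exfalso
      obtain ⟨P', -, -⟩ := exists_piece_map (MulAut.conj g).toMonoidHom (MulAut.conj g).injective P
      apply hno2
      have he : A3.map (MulAut.conj g).toMonoidHom = A2 := H48.cj_cj_inv g A2
      rw [he] at P'
      exact ⟨P'⟩
    · exact ⟨b, hb, by simp⟩
    · exact H48.mem_cj.mp hx
    · intro h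
      apply hmv
      calc b * x * b⁻¹ = g * (g⁻¹ * b * g * (g⁻¹ * x * g) * (g⁻¹ * b * g)⁻¹) * g⁻¹ := by group
        _ = x := by rw [h]; group
  exact hgood.noncomm ⟨⟨fun p q => Subtype.ext (hA3el.comm (hTle p.2) (hTle q.2))⟩⟩

end Cfsg.Agent.Thompson.Pc
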