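import Mathlib
import Cfsg.Agent.Thompson.PieceExists
import Cfsg.Agent.PGroups.Burnside

/-!
A core-free subgroup containing a family of elementary abelian 2-subgroups which generate the group as a
normal subgroup does not contain all pieces of the members.
-/

set_option autoImplicit false
set_option linter.unusedSectionVars false
set_option linter.style.haveILetI false

namespace Cfsg.Agent.Thompson.FourFree

open Subgroup
open scoped commutatorElement
open H48 (cj)
open Par (Inv3 El)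
open Pc (GoodFac Piece)

universe u

variable {H : Type u} [Group H] [Finite H]

theorem cj_mul_le {Φ K : Subgroup H} {φ n : H} (hφ : φ ∈ Φ) (h : cj n K ≤ Φ) : cj (φ * n) K ≤ Φ := by
  rw [← H48.cj_cj]
  exact H48.cj_le.mpr fun x hx => Φ.mul_mem (Φ.mul_mem hφ (h hx)) (Φ.inv_mem hφ)

/-- a core-free subgroup supplementing a normal subgroup which moves `K` inside it -/
theorem eq_bot_of_supplement {N Φ K : Subgroup H} [N.Normal] (hNΦ : N ⊔ Φ = ⊤) (hK : K ≤ Φ)
    (hconj : ∀ n ∈ N, cj n K ≤ Φ) (hcf : ∀ M : Subgroup H, M.Normal → M ≤ Φ → M = ⊥)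
    (hgen : normalClosure (K : Set H) = ⊤) : K = ⊥ := by
  set Γ := ⨆ φ : Φ, ⁅N, cj (φ : H) K⁆ with hΓ
  have hΓle : Γ ≤ Φ := iSup_le fun φ => by
    rw [commutator_le]
    intro n hn x hx
    obtain ⟨k, hk, rfl⟩ := hx
    have h1 : (φ : H)⁻¹ * n * φ ∈ N := by simpa using (inferInstance : N.Normal).conj_mem n hn (φ : H)⁻¹
    have h2 := hconj _ h1 (H48.conj_mem_cj hk)
    rw [show ⁅n, (MulAut.conj (φ : H)).toMonoidHom k⁆ =
      φ * (((φ : H)⁻¹ * n * φ) * k * ((φ : H)⁻¹ * n * φ)⁻¹ * k⁻¹) * (φ : H)⁻¹ by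
        simp only [commutatorElement_def, MulEquiv.coe_toMonoidHom, MulAut.conj_apply]; group]
    exact Φ.mul_mem (Φ.mul_mem φ.2 (Φ.mul_mem h2 (Φ.inv_mem (hK hk)))) (Φ.inv_mem φ.2)
  haveI hΓn : Γ.Normal := by
    have hN : ∀ n ∈ N, cj n Γ ≤ Γ := by
      intro n hn
      rw [H48.cj, Subgroup.map_iSup]
      refine iSup_le fun φ => le_trans ?_ (le_iSup (fun φ : Φ => ⁅N, cj (φ : H) K⁆) φ)
      rw [map_le_iff_le_comap, commutator_le]
      intro m hm x hx
      rw [mem_comap, MulEquiv.coe_toMonoidHom, MulAut.conj_apply]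
      rw [show n * ⁅m, x⁆ * n⁻¹ = ⁅n * m, x⁆ * ⁅n, x⁆⁻¹ by simp only [commutatorElement_def]; group]
      exact mul_mem (commutator_mem_commutator (N.mul_mem hn hm) hx)
        (inv_mem (commutator_mem_commutator hn hx))
    have hΦ : ∀ ψ ∈ Φ, cj ψ Γ ≤ Γ := by
      intro ψ hψ
      rw [H48.cj, Subgroup.map_iSup]
      refine iSup_le fun φ => ?_
      rw [show (⁅N, cj (φ : H) K⁆).map (MulAut.conj ψ).toMonoidHom = cj ψ ⁅N, cj (φ : H) K⁆ from rfl,
        H48.cj_commutator, H48.cj_cj,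
        show cj ψ N = N from H48.cj_eq_of_mem_normalizer (by rw [normalizer_eq_top]; exact mem_top ψ)]
      exact le_iSup (fun φ : Φ => ⁅N, cj (φ : H) K⁆) ⟨ψ * φ, mul_mem hψ φ.2⟩
    refine ⟨fun x hx g => ?_⟩
    obtain ⟨n, hn, ψ, hψ, rfl⟩ := mem_sup_of_normal_left.mp (hNΦ.ge (mem_top g))
    have h1 := hN n hn (H48.conj_mem_cj (hΦ ψ hψ (H48.conj_mem_cj hx)))
    simpa [mul_assoc] using h1
  have hΓbot := hcf Γ hΓn hΓle
  have hall : normalClosure (K : Set H) ≤ Φ := by
    refine (closure_le _).mpr fun y hy => ?_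
    obtain ⟨k, hk, hky⟩ := Group.mem_conjugatesOfSet_iff.mp hy
    obtain ⟨g, rfl⟩ := isConj_iff.mp hky
    obtain ⟨φ, hφ, n, hn, rfl⟩ := mem_sup_of_normal_right.mp ((sup_comm N Φ ▸ hNΦ).ge (mem_top g))
    have h1 : ⁅n, k⁆ ∈ Γ := le_iSup (fun φ : Φ => ⁅N, cj (φ : H) K⁆) ⟨1, one_mem _⟩
      (commutator_mem_commutator hn (by simpa using (show k ∈ cj (1 : H) K by rw [H48.cj_one]; exact hk)))
    rw [hΓbot, mem_bot, commutatorElement_eq_one_iff_mul_comm] at h1
    rw [SetLike.mem_coe, show φ * n * k * (φ * n)⁻¹ = φ * (n * k * n⁻¹) * φ⁻¹ by group, h1, mul_inv_cancel_right]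
    exact Φ.mul_mem (Φ.mul_mem hφ (hK hk)) (Φ.inv_mem hφ)
  rw [hgen] at hall
  have htop : (⊤ : Subgroup H) = ⊥ := hcf ⊤ inferInstance hall
  exact eq_bot_iff.mpr (htop ▸ le_top)

/-- in a 2-group only the whole group has everything as normal closure -/
theorem eq_top_of_normalClosure (hH : IsPGroup 2 H) {K : Subgroup H} (h : normalClosure (K : Set H) = ⊤) :
    K = ⊤ := by
  haveI : Fact (Nat.Prime 2) := ⟨Nat.prime_two⟩
  haveI : (K ⊔ frattini H).Normal := PGroups.normal_closure_sup_frattini hH K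
  refine frattini_nongenerating (top_le_iff.mp ?_)
  rw [← h]
  exact normalClosure_le_normal (SetLike.coe_subset_coe.mpr le_sup_left)

/-- a normal subgroup supplemented by a 2-group is supplemented by `K` -/
theorem sup_eq_top_of_normalClosure {M S K : Subgroup H} [M.Normal] (hS : IsPGroup 2 S) (hMS : M ⊔ S = ⊤)
    (h : normalClosure (K : Set H) = ⊤) : M ⊔ K = ⊤ := by
  set f := QuotientGroup.mk' M
  have hf : Function.Surjective f := QuotientGroup.mk'_surjective M
  have hp : IsPGroup 2 (H ⧸ M) := by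
    have h1 : S.map f = ⊤ := by
      rw [← map_top_of_surjective f hf, ← hMS, Subgroup.map_sup,
        show M.map f = ⊥ from QuotientGroup.map_mk'_self M, bot_sup_eq]
    exact (h1 ▸ hS.map f).of_equiv topEquiv
  have h2 := eq_top_of_normalClosure hp (K := K.map f) (by
    rw [coe_map, ← map_normalClosure _ f hf, h, map_top_of_surjective f hf])
  have h3 := congrArg (comap f) h2
  rwa [comap_map_eq, comap_top, QuotientGroup.ker_mk', sup_comm] at h3

theorem move_or_centralizes {M T Φ : Subgroup H} [M.Normal] (hinv : ¬ Inv3 H) (hF : H68.IsFactor M T)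
    (hT : Pc.GoodT T) (𝒜 : Set (Subgroup H)) (hel : ∀ A ∈ 𝒜, El A) (hΦ : sSup 𝒜 ≤ Φ)
    (hP : ∀ A ∈ 𝒜, ∀ P : Piece A, P.O ≤ Φ) (hMK : M ⊔ sSup 𝒜 = ⊤) :
    M ≤ Φ ∨ M ≤ centralizer ((sSup 𝒜 : Subgroup H) : Set H) := by
  by_cases hmove : ∃ A ∈ 𝒜, ∃ g : H, ∃ a ∈ A, ∃ x ∈ T, a * (g * x * g⁻¹) * a⁻¹ ≠ g * x * g⁻¹
  · refine Or.inl ?_
    obtain ⟨A, hA, g, a, ha, x, hx, hne⟩ := hmove
    have hTg : cj g T ≤ Φ := by
      have h1 := Pc.layer_cover hinv hF hT (A := cj g⁻¹ A) (Φ := cj g⁻¹ Φ) ((hel A hA).map _)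
        (H48.cj_mono ((le_sSup hA).trans hΦ))
        (fun P => by
          obtain ⟨Q, hQ, -⟩ := Pc.exists_piece_map (MulAut.conj g).toMonoidHom (MulAut.conj g).injective P
          have e : (cj g⁻¹ A).map (MulAut.conj g).toMonoidHom = A := H48.cj_cj_inv g A
          have key : ∀ (A' : Subgroup H) (Q : Piece A'), A' = A → Q.O ≤ Φ := fun A' Q e' =>
            hP A' (e' ▸ hA) Q
          have h1 := key _ Q e
          rw [hQ] at h1
          have h2 := H48.cj_mono (g := g⁻¹) h1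
          rwa [show P.O.map (MulAut.conj g).toMonoidHom = cj g P.O from rfl, H48.cj_inv_cj] at h2)
        ⟨g⁻¹ * a * g, ⟨a, ha, by simp⟩, x, hx, fun he => hne (by
          calc a * (g * x * g⁻¹) * a⁻¹ = g * (g⁻¹ * a * g * x * (g⁻¹ * a * g)⁻¹) * g⁻¹ := by group
            _ = _ := by rw [he])⟩
      have h2 := H48.cj_mono (g := g) h1
      rwa [H48.cj_cj_inv] at h2
    have hall : ∀ h : H, cj h T ≤ Φ := by
      intro h
      obtain ⟨φ, hφ, m, hm, he⟩ := mem_sup_of_normal_right.mp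
        ((sup_comm M (sSup 𝒜) ▸ hMK).ge (mem_top (h * g⁻¹)))
      rw [show h = φ * (m * g) by rw [← mul_assoc, he, inv_mul_cancel_right]]
      refine cj_mul_le (hΦ hφ) (le_trans ?_ hTg)
      rw [show m * g = g * (g⁻¹ * m * g) by group, ← H48.cj_cj]
      exact H48.cj_mono (H48.cj_le.mpr fun t ht => hF.normalized _
        (by simpa using (inferInstance : M.Normal).conj_mem m hm g⁻¹) t ht)
    intro n hn
    obtain ⟨t, ht, u, hu, rfl⟩ := hF.exists_mul n hn
    refine Φ.mul_mem ?_ ((iSup_le fun k => hall k.1 : H68.others T ≤ Φ) hu)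
    exact hall 1 (by rw [H48.cj_one]; exact ht)
  · refine Or.inr ?_
    push Not at hmove
    rw [le_centralizer_iff]
    refine sSup_le fun A hA a ha => mem_centralizer_iff.mpr fun n hn => ?_
    have hfix : ∀ g : H, cj g T ≤ centralizer ({a} : Set H) := by
      rintro g _ ⟨t, ht, rfl⟩
      exact mem_centralizer_singleton_iff.mpr (mul_inv_eq_iff_eq_mul.mp (hmove A hA g a ha t ht)).symm
    obtain ⟨t, ht, u, hu, rfl⟩ := hF.exists_mul n hn
    refine mem_centralizer_singleton_iff.mp ((centralizer ({a} : Set H)).mul_mem ?_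
      ((iSup_le fun k => hfix k.1 : H68.others T ≤ centralizer ({a} : Set H)) hu))
    exact hfix 1 (by rw [H48.cj_one]; exact ht)

/-- some member has a piece outside -/
theorem exists_piece_not_le (hinv : ¬ Inv3 H) (hfac : GoodFac H) {Φ S : Subgroup H} (hS : IsPGroup 2 S)
    (𝒜 : Set (Subgroup H)) (hel : ∀ A ∈ 𝒜, El A) (hΦ : sSup 𝒜 ≤ Φ)
    (hcf : ∀ M : Subgroup H, M.Normal → M ≤ Φ → M = ⊥)
    (hgen : normalClosure ((sSup 𝒜 : Subgroup H) : Set H) = ⊤)
    (hcl : ∀ N : Subgroup H, N.Normal → 2 ∣ Nat.card N → N ⊔ S = ⊤) (hne : sSup 𝒜 ≠ ⊥) :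
    ∃ A ∈ 𝒜, ∃ P : Piece A, ¬ P.O ≤ Φ := by
  classical
  haveI : Fact (Nat.Prime 2) := ⟨Nat.prime_two⟩
  by_contra hcon
  push Not at hcon
  set F := Cfsg.oddCore H with hFdef
  haveI hFn : F.Normal := inferInstance
  have hFodd : ¬ 2 ∣ Nat.card F := fun hd =>
    Nat.not_even_iff_odd.mpr (Cores.odd_card_oddCore (G := H)) (even_iff_two_dvd.mpr hd)
  have hcomm : ∀ n ∈ F, cj n (sSup 𝒜) ≤ Φ := by
    intro n hn
    rw [map_le_iff_le_comap]
    refine sSup_le fun A hA a ha => ?_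
    have h1 : ⁅n, a⁆ ∈ Φ := Pc.odd_cover hinv hFn hFodd (hel A hA) ((le_sSup hA).trans hΦ) (hcon A hA)
      (commutator_mem_commutator hn ha)
    have h2 : a ∈ Φ := hΦ (le_sSup hA ha)
    show n * a * n⁻¹ ∈ Φ
    rw [show n * a * n⁻¹ = ⁅n, a⁆ * a by simp only [commutatorElement_def]; group]
    exact Φ.mul_mem h1 h2
  refine hne (eq_bot_of_supplement ?_ hΦ hcomm hcf hgen)
  -- the quotient by the odd core
  set f := QuotientGroup.mk' F with hf
  have hfs : Function.Surjective f := QuotientGroup.mk'_surjective F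
  suffices htop : Φ.map f = ⊤ by
    have h := congrArg (comap f) htop
    rwa [comap_map_eq, comap_top, QuotientGroup.ker_mk', sup_comm] at h
  set Φ2 := Φ.map f
  set 𝒜2 := (Subgroup.map f) '' 𝒜
  set K2 := sSup 𝒜2 with hK2
  have hK2eq : (sSup 𝒜).map f = K2 := by
    rw [hK2, sSup_image, sSup_eq_iSup, Subgroup.map_iSup]
    simp_rw [Subgroup.map_iSup]
  have hΦ2 : K2 ≤ Φ2 := hK2eq ▸ map_mono hΦ
  have hgen2 : normalClosure (K2 : Set (H ⧸ F)) = ⊤ := by
    rw [← hK2eq, coe_map, ← map_normalClosure _ f hfs, hgen, map_top_of_surjective f hfs]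
  have hel2 : ∀ A ∈ 𝒜2, El A := by
    rintro _ ⟨A, hA, rfl⟩
    exact (hel A hA).map f
  have hP2 : ∀ A ∈ 𝒜2, ∀ P : Piece A, P.O ≤ Φ2 := by
    rintro _ ⟨A, hA, rfl⟩ P
    obtain ⟨Q, hQ, -⟩ := Pc.exists_piece_lift f hfs (by rwa [hf, QuotientGroup.ker_mk']) (hel A hA) P
    exact hQ.trans (map_mono (hcon A hA Q))
  by_cases hbot : (⊤ : Subgroup (H ⧸ F)) = ⊥
  · exact top_le_iff.mp (hbot ▸ bot_le)
  obtain ⟨M, ⟨hMn, hMne⟩, hMmin⟩ := Set.exists_min_image
    {X : Subgroup (H ⧸ F) | X.Normal ∧ X ≠ ⊥} (fun X => Nat.card X) (Set.toFinite _)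
    ⟨⊤, inferInstance, hbot⟩
  haveI := hMn
  have hmin : ∀ X : Subgroup (H ⧸ F), X.Normal → X ≤ M → X = ⊥ ∨ X = M := fun X hX hXM =>
    or_iff_not_imp_left.mpr fun hX0 => eq_of_le_of_card_ge hXM (hMmin X ⟨hX, hX0⟩)
  have hMeven : 2 ∣ Nat.card M := by
    by_contra hodd
    refine hMne (le_bot_iff.mp ?_)
    haveI : (M.comap f).Normal := hMn.comap f
    have hcard := Pc.card_ker_mul_map f (K := M.comap f)
      (fun x hx => mem_comap.mpr (by rw [MonoidHom.mem_ker.mp hx]; exact one_mem _))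
    rw [map_comap_eq_self_of_surjective hfs, hf, QuotientGroup.ker_mk'] at hcard
    have hodd' : Odd (Nat.card (M.comap f)) := by
      rw [← Nat.not_even_iff_odd, even_iff_two_dvd, hf, ← hcard]
      exact fun h => (Nat.prime_two.dvd_mul.mp h).elim hFodd hodd
    have h1 : M.comap f ≤ F := Cores.le_oddCore hodd'
    rw [← map_comap_eq_self_of_surjective hfs M]
    exact (map_mono h1).trans (QuotientGroup.map_mk'_self F).le
  have hMS : M ⊔ S.map f = ⊤ := by
    haveI : (M.comap f).Normal := hMn.comap f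
    have h1 := hcl (M.comap f) inferInstance (hMeven.trans (by
      have hcard := Pc.card_ker_mul_map f (K := M.comap f)
        (fun x hx => mem_comap.mpr (by rw [MonoidHom.mem_ker.mp hx]; exact one_mem _))
      rw [map_comap_eq_self_of_surjective hfs] at hcard
      exact Dvd.intro_left _ hcard))
    have h2 := congrArg (Subgroup.map f) h1
    rwa [Subgroup.map_sup, map_comap_eq_self_of_surjective hfs, map_top_of_surjective f hfs] at h2
  have hMK : M ⊔ K2 = ⊤ := sup_eq_top_of_normalClosure (hS.map f) hMS hgen2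
  by_cases hMp : IsPGroup 2 M
  · have hp : IsPGroup 2 (H ⧸ F) := by
      have h1 : IsPGroup 2 ↥(M ⊔ S.map f) := hMp.to_sup_of_normal_left (hS.map f)
      rw [hMS] at h1
      exact h1.of_equiv topEquiv
    exact top_le_iff.mp ((eq_top_of_normalClosure hp hgen2).symm.le.trans hΦ2)
  have hnc : ¬ IsMulCommutative M := by
    intro hc
    obtain ⟨P⟩ : Nonempty (Sylow 2 M) := inferInstance
    haveI := hc
    have hPn : (P : Subgroup M).Normal := ⟨fun x hx g => by
      rwa [hc.is_comm.comm g x, mul_assoc, mul_inv_cancel, mul_one]⟩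
    have hPc : (P : Subgroup M) ≤ pCore 2 M := Cores.le_pCore P.isPGroup'
    haveI hXn : ((pCore 2 M).map M.subtype).Normal := inferInstance
    rcases hmin _ hXn (map_subtype_le _) with h | h
    · rw [map_eq_bot_iff_of_injective _ M.subtype_injective] at h
      rw [h, le_bot_iff] at hPc
      have := P.dvd_card_of_dvd_card hMeven
      rw [hPc, card_bot] at this
      omega
    · exact hMp (h ▸ (Cores.pCore_isPGroup (p := 2) (G := M)).map M.subtype)
  obtain ⟨T, hT⟩ := H68.exists_factor M hMne hmin hnc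
  have hinv2 : ¬ Inv3 (H ⧸ F) := fun h => hinv (Inv3.of_quotient F h)
  have hgood := Pc.goodT_of_factor (hfac.of_surjective f hfs) hT hMeven hmin hnc
  rcases move_or_centralizes hinv2 hT hgood 𝒜2 hel2 hΦ2 hP2 hMK with h | h
  · exact top_le_iff.mp (hMK ▸ sup_le h hΦ2)
  · have hn : K2.Normal := normalizer_eq_top_iff.mp (top_le_iff.mp (hMK ▸
      sup_le (h.trans (centralizer_le_normalizer _)) le_normalizer))
    haveI := hn
    rw [normalClosure_eq_self K2] at hgen2
    exact top_le_iff.mp (hgen2.symm.le.trans hΦ2)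

end Cfsg.Agent.Thompson.FourFree
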