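import Mathlib
import Cfsg.Agent.Thompson.PieceBasic

/-!
The final step of the factorization in four-free groups: the generating element of a piece, lifted to the
normalizer of a Sylow subgroup of the preimage, cannot move the module generated by the conjugates of a
normal subgroup satisfying the inequality of an E-group.
-/

set_option autoImplicit false
set_option linter.unusedSectionVars false
set_option linter.style.haveILetI false

namespace Cfsg.Agent.Thompson.FourFree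

open Subgroup
open H48 (cj)
open Par (El)
open Pc (Gap lclosure mem_lclosure)
open Off (fixV act_mul act_one act_inv_act act_act_inv)
open GenOff (lg card_eq_two_pow lg_sup_inf lg_mono)

universe u v

variable {H : Type u} [Group H] {W : Type v} [AddCommGroup W] (ρ : H →* AddMonoid.End W)

/-- the elements preserving a subgroup -/
def presV (D : AddSubgroup W) : Subgroup H where
  carrier := {x | ∀ w, ρ x w ∈ D ↔ w ∈ D}
  one_mem' := fun w => by rw [act_one]
  mul_mem' := fun {a b} ha hb w => by rw [act_mul, ha, hb]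
  inv_mem' := fun {a} ha w => by rw [← ha, act_act_inv]

theorem le_presV {D : AddSubgroup W} {A : Subgroup H} (h : ∀ a ∈ A, ∀ w ∈ D, ρ a w ∈ D) :
    A ≤ presV ρ D := fun a ha w =>
  ⟨fun hw => by simpa [act_inv_act] using h _ (inv_mem ha) _ hw, h a ha w⟩

/-- the restriction to an invariant subgroup -/
def subRep (X : Subgroup H) (D : AddSubgroup W) (h : ∀ x ∈ X, ∀ w ∈ D, ρ x w ∈ D) :
    X →* AddMonoid.End D where
  toFun x :=
    { toFun := fun w => ⟨ρ x w.1, h x x.2 w.1 w.2⟩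
      map_zero' := Subtype.ext (map_zero _)
      map_add' := fun a b => Subtype.ext (map_add _ a.1 b.1) }
  map_one' := AddMonoidHom.ext fun w => Subtype.ext (act_one w.1)
  map_mul' a b := AddMonoidHom.ext fun w => Subtype.ext (act_mul (a : H) b w.1)

/-- the action on the quotient by an invariant subgroup -/
def quotRep (X : Subgroup H) (D : AddSubgroup W) (h : ∀ x ∈ X, ∀ w ∈ D, ρ x w ∈ D) :
    X →* AddMonoid.End (W ⧸ D) where
  toFun x := QuotientAddGroup.map D D (ρ x) (fun w hw => h x x.2 w hw)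
  map_one' := AddMonoidHom.ext fun q => by
    obtain ⟨w, rfl⟩ := QuotientAddGroup.mk'_surjective D q
    exact congrArg QuotientAddGroup.mk (act_one (ρ := ρ) w)
  map_mul' a b := AddMonoidHom.ext fun q => by
    obtain ⟨w, rfl⟩ := QuotientAddGroup.mk'_surjective D q
    exact congrArg QuotientAddGroup.mk (act_mul (ρ := ρ) (a : H) b w)

theorem quotRep_mk (X : Subgroup H) (D : AddSubgroup W) (h : ∀ x ∈ X, ∀ w ∈ D, ρ x w ∈ D) (x : X) (w : W) :
    quotRep ρ X D h x (w : W ⧸ D) = ((ρ x w : W) : W ⧸ D) := rfl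

/-- the action on endomorphisms by conjugation -/
def conjEnd : H →* AddMonoid.End (W →+ W) where
  toFun h :=
    { toFun := fun φ => (ρ h : W →+ W).comp (φ.comp (ρ h⁻¹ : W →+ W))
      map_zero' := AddMonoidHom.ext fun w => map_zero (ρ h)
      map_add' := fun φ ψ => AddMonoidHom.ext fun w => map_add (ρ h) _ _ }
  map_one' := AddMonoidHom.ext fun φ => AddMonoidHom.ext fun w => by
    show ρ 1 (φ (ρ 1⁻¹ w)) = φ w
    rw [inv_one, act_one, act_one]
  map_mul' a b := AddMonoidHom.ext fun φ => AddMonoidHom.ext fun w => by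
    show ρ (a * b) (φ (ρ (a * b)⁻¹ w)) = ρ a (ρ b (φ (ρ b⁻¹ (ρ a⁻¹ w))))
    rw [mul_inv_rev, act_mul, act_mul]

theorem conjEnd_apply (h : H) (φ : W →+ W) (w : W) : conjEnd ρ h φ w = ρ h (φ (ρ h⁻¹ w)) := rfl

variable [Finite H] [Finite W] {ρ}

/-- an element of odd order commuting in the action with a 2-group and trivial on its fixed points is trivial -/
theorem fix_of_fix_fixV_act (hV : ∀ w : W, w + w = 0) {x : H} {n : ℕ} (hn : ¬ 2 ∣ n) (hx : x ^ n = 1)
    {P : Subgroup H} (hP : IsPGroup 2 P) (hc : ∀ b ∈ P, ∀ w, ρ b (ρ x w) = ρ x (ρ b w))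
    (hfix : ∀ w ∈ fixV ρ P, ρ x w = w) (w : W) : ρ x w = w := by
  let D : AddSubgroup W :=
    { carrier := {w | ρ x w = w}
      zero_mem' := map_zero _
      add_mem' := fun {a b} ha hb => by
        show ρ x (a + b) = a + b
        rw [map_add, show ρ x a = a from ha, show ρ x b = b from hb]
      neg_mem' := fun {a} ha => by
        show ρ x (-a) = -a
        rw [map_neg, show ρ x a = a from ha] }
  have hD : ∀ b ∈ P, ∀ w ∈ D, ρ b w ∈ D := fun b hb w (hw : ρ x w = w) => by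
    show ρ x (ρ b w) = ρ b w
    rw [← hc b hb, hw]
  by_contra hne
  obtain ⟨v, hv, hvP⟩ := Pc.exists_fixed_mod hV hP hD (fun h => hne (h ▸ AddSubgroup.mem_top w : w ∈ D))
  refine hv (Pc.fix_of_sub_mem hV hn hx (hfix _ fun b hb => ?_))
  have h1 : ρ x (ρ b v - v) = ρ b v - v := hvP b hb
  rw [map_sub, ← hc b hb, sub_eq_sub_iff_sub_eq_sub, ← map_sub] at h1
  exact h1

/-- no such configuration -/
theorem lift_false (hW : ∀ w : W, w + w = 0) {l c : ℕ} (hgap : Gap l c) (hc : 0 < c)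
    (A A0 RB K : Subgroup H) (g : H) (hA : El A) (hA0 : A0 ≤ A) (hA0R : A0 ≤ RB) (hA0K : A0 ≤ K)
    (hRB : IsPGroup 2 RB) (hAR : A ≤ normalizer (RB : Set H)) (hgR : g ∈ normalizer (RB : Set H))
    (hg : g ∈ lclosure l (A ⊔ cj g A)) (hXK : A ⊔ cj g A ≤ normalizer (K : Set H))
    (hK : ∀ k ∈ K, ∃ r ∈ RB, ρ r = ρ k) (V0 : AddSubgroup W) (hV0 : V0 ≤ fixV ρ A)
    (hgen : ∀ N : AddSubgroup W, V0 ≤ N → (∀ o ∈ lclosure l (A ⊔ cj g A), ∀ w ∈ V0, ρ o w - w ∈ N) → N = ⊤)
    (hmove : ∃ o ∈ lclosure l (A ⊔ cj g A), ∃ w, ρ o w ≠ w)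
    {a0 : ℕ} (ha0 : ρ.ker.relIndex A0 = 2 ^ a0)
    (hmax : lg (⊤ : AddSubgroup W) ≤ lg (fixV ρ A) + (c + a0))
    (hgood : ∀ R ≤ RB, (∀ p ∈ R, ∀ q ∈ R, ρ (p * q) = ρ (q * p)) → (∀ p ∈ R, ρ (p * p) = 1) →
      ∀ r, ρ.ker.relIndex R = 2 ^ r → 0 < r → 3 * r + 2 * lg (fixV ρ R) < 2 * lg (⊤ : AddSubgroup W)) :
    False := by
  classical
  haveI : Fact (Nat.Prime 2) := ⟨Nat.prime_two⟩
  have hodd : ∀ k, ¬ 2 ∣ l ^ k := fun k h =>
    hgap.2.1 ((Nat.prime_dvd_prime_iff_eq Nat.prime_two hgap.1).mp (Nat.prime_two.dvd_of_dvd_pow h)).symm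
  set X := A ⊔ cj g A with hXdef
  set O := lclosure l X with hOdef
  have hOX : O ≤ X := Pc.lclosure_le l X
  have hgen' : ∀ y ∈ X, ∀ k, y ^ l ^ k = 1 → y ∈ O := fun y hy k hk => mem_lclosure hy hk
  have hOn : ∀ x ∈ X, ∀ o ∈ O, x * o * x⁻¹ ∈ O := by
    intro x hx
    have : O ≤ O.comap (MulAut.conj x).toMonoidHom := by
      refine (closure_le _).mpr ?_
      rintro y ⟨hy, k, hk⟩
      exact hgen' _ (mul_mem (mul_mem hx hy) (inv_mem hx)) k (by
        show (x * y * x⁻¹) ^ l ^ k = 1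
        rw [conj_pow, hk, mul_one, mul_inv_cancel])
    exact fun o ho => this ho
  have hXAO : X ≤ A ⊔ O := sup_le le_sup_left (H48.cj_le.mpr fun a ha =>
    mul_mem (mul_mem (mem_sup_right hg) (mem_sup_left ha)) (inv_mem (mem_sup_right hg)))
  have hXR : X ≤ normalizer (RB : Set H) := sup_le hAR (H48.cj_le.mpr fun a ha =>
    mul_mem (mul_mem hgR (hAR ha)) (inv_mem hgR))
  have hgX : g ∈ X := hOX hg
  have hAX : A ≤ X := le_sup_left
  -- the fixed points of `O`
  set U1 := fixV ρ O with hU1def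
  have hU1inv : ∀ x ∈ X, ∀ u ∈ U1, ρ x u ∈ U1 := by
    intro x hx u hu o ho
    have h1 : x⁻¹ * o * x ∈ O := by simpa using hOn x⁻¹ (inv_mem hx) o ho
    have h2 := congrArg (ρ x) (hu _ h1)
    rwa [← act_mul, show x * (x⁻¹ * o * x) = o * x by group, act_mul] at h2
  have hfixU : fixV ρ A ⊓ fixV ρ (cj g A) ≤ U1 := fun u hu o ho =>
    Pc.sup_le_stabV hu.1 hu.2 (hOX ho)
  have hU1 : lg (⊤ : AddSubgroup W) ≤ lg U1 + 2 * (c + a0) := by
    have h1 := lg_sup_inf hW (fixV ρ A) (fixV ρ (cj g A))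
    have h2 := lg_mono hW (le_top : fixV ρ A ⊔ fixV ρ (cj g A) ≤ ⊤)
    have h3 := lg_mono hW hfixU
    have h4 : lg (fixV ρ (cj g A)) = lg (fixV ρ A) := congrArg (Nat.log 2) (Off.card_fix_cjg g A)
    omega
  obtain ⟨o0, ho0, w0, hw0⟩ := hmove
  have ha0c : c ≤ a0 := by
    have h1 := Pc.gap_bound hW hgap (A := A) (g := g) (D := ⊤) (fun _ _ _ _ => trivial)
      (fun _ _ => trivial) ho0 (w := w0) trivial hw0
    rw [inf_top_eq] at h1
    omega
  have hA0good : 3 * a0 + 2 * lg (fixV ρ A0) < 2 * lg (⊤ : AddSubgroup W) :=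
    hgood A0 hA0R (fun p hp q hq => by rw [hA.comm (hA0 hp) (hA0 hq)])
      (fun p hp => by rw [hA p (hA0 hp), map_one]) a0 ha0 (by omega)
  have hfA0 : fixV ρ A ≤ fixV ρ A0 := fun u hu b hb => hu b (hA0 hb)
  have ha0lt : a0 < 2 * c := by
    have := lg_mono hW hfA0
    omega
  -- a minimal invariant subgroup above the fixed points
  have hUne : U1 ≠ ⊤ := fun h => hw0 ((h ▸ AddSubgroup.mem_top w0 : w0 ∈ U1) o0 ho0)
  obtain ⟨N1, ⟨hUN, hN1inv⟩, hN1min⟩ := Set.exists_min_image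
    {N : AddSubgroup W | U1 < N ∧ ∀ x ∈ X, ∀ w ∈ N, ρ x w ∈ N} (fun N => Nat.card N) (Set.toFinite _)
    ⟨⊤, lt_top_iff_ne_top.mpr hUne, fun _ _ _ _ => trivial⟩
  obtain ⟨n0, hn0, hn0'⟩ := SetLike.exists_of_lt hUN
  have hN1big : lg U1 + (4 * c - 1) ≤ lg N1 := by
    obtain ⟨o, ho, hon⟩ : ∃ o ∈ O, ρ o n0 ≠ n0 := by
      by_contra h
      push Not at h
      exact hn0' h
    obtain ⟨y, hy, ⟨k, hk⟩, hyn⟩ := Pc.exists_moving_gen (K := X) ho hon
    exact Pc.card_fix_le hW hgap hk (D := N1) (fun w hw => hN1inv y hy w hw) hn0 hyn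
      (fun u hu => hu y (hgen' y hy k hk)) hUN.le
  have hON : ∀ o ∈ O, ∀ w, ρ o w - w ∈ N1 := by
    by_contra hcon
    push Not at hcon
    obtain ⟨o, ho, w, hw⟩ := hcon
    obtain ⟨y, ⟨hy, k, hk⟩, v, hv⟩ : ∃ y ∈ {x | x ∈ X ∧ ∃ k, x ^ l ^ k = 1}, ∃ v, ρ y v - v ∉ N1 := by
      by_contra hcon
      push Not at hcon
      let T : Subgroup H :=
        { carrier := {x | x ∈ X ∧ ∀ w, ρ x w - w ∈ N1}
          one_mem' := ⟨one_mem _, fun w => by rw [act_one, sub_self]; exact zero_mem _⟩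
          mul_mem' := fun {a b} ha hb => ⟨mul_mem ha.1 hb.1, fun w => by
            rw [act_mul, show ρ a (ρ b w) - w = (ρ a (ρ b w) - ρ b w) + (ρ b w - w) by abel]
            exact add_mem (ha.2 _) (hb.2 _)⟩
          inv_mem' := fun {a} ha => ⟨inv_mem ha.1, fun w => by
            have := ha.2 (ρ a⁻¹ w)
            rw [act_act_inv] at this
            rw [← neg_sub]
            exact neg_mem this⟩ }
      exact hw ((((closure_le T).mpr fun x hx => ⟨hx.1, hcon x hx⟩) ho).2 w)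
    have hq2 : ∀ q : W ⧸ N1, q + q = 0 := fun q => by
      obtain ⟨u, rfl⟩ := QuotientAddGroup.mk'_surjective N1 q
      rw [← map_add, hW, map_zero]
    have h1 := Pc.card_fix_le hq2 hgap (ρ := quotRep ρ X N1 hN1inv) (x := ⟨y, hy⟩) (k := k)
      (Subtype.ext hk) (D := ⊤) (U := ⊥) (fun _ _ => trivial) (w := (v : W ⧸ N1)) trivial
      (fun h => hv (QuotientAddGroup.eq_iff_sub_mem.mp h))
      (fun u hu => by rw [AddSubgroup.mem_bot.mp hu, map_zero]) bot_le
    have h2 : Nat.card (W ⧸ N1) * Nat.card N1 = Nat.card W :=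
      (AddSubgroup.card_eq_card_quotient_mul_card_addSubgroup N1).symm
    rw [← AddSubgroup.card_top (G := W ⧸ N1), ← AddSubgroup.card_top (G := W), card_eq_two_pow hq2,
      card_eq_two_pow hW, card_eq_two_pow hW, ← pow_add] at h2
    have h3 := Nat.pow_right_injective le_rfl h2
    rw [GenOff.lg_bot] at h1
    omega
  have htop : V0 ⊔ N1 = ⊤ := hgen _ le_sup_left fun o ho w _ => AddSubgroup.mem_sup_right (hON o ho w)
  -- the action of `K` between `U1` and `N1`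
  let P' : Subgroup H :=
    { carrier := {r | r ∈ RB ∧ ∃ k ∈ K ⊓ X, ρ r = ρ k}
      one_mem' := ⟨one_mem _, 1, one_mem _, rfl⟩
      mul_mem' := fun {a b} ha hb => by
        obtain ⟨ha1, k, hk, hak⟩ := ha
        obtain ⟨hb1, k', hk', hbk⟩ := hb
        exact ⟨mul_mem ha1 hb1, k * k', mul_mem hk hk', by rw [map_mul, map_mul, hak, hbk]⟩
      inv_mem' := fun {a} ha => by
        obtain ⟨ha1, k, hk, hak⟩ := ha
        refine ⟨inv_mem ha1, k⁻¹, inv_mem hk, ?_⟩
        calc ρ a⁻¹ = ρ a⁻¹ * (ρ k * ρ k⁻¹) := by rw [← map_mul ρ k, mul_inv_cancel, map_one, mul_one]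
          _ = ρ k⁻¹ := by rw [← hak, ← mul_assoc, ← map_mul, inv_mul_cancel, map_one, one_mul] }
  have hP'N : ∀ r ∈ P', ∀ w ∈ N1, ρ r w ∈ N1 := by
    rintro r ⟨-, k, hk, he⟩ w hw
    rw [he]
    exact hN1inv k hk.2 w hw
  have hK1 : ∀ k ∈ K ⊓ X, ∀ w ∈ N1, ρ k w - w ∈ U1 := by
    let N2 : AddSubgroup W :=
      { carrier := {w | w ∈ N1 ∧ ∀ k ∈ K ⊓ X, ρ k w - w ∈ U1}
        zero_mem' := ⟨zero_mem _, fun k _ => by rw [map_zero, sub_zero]; exact zero_mem _⟩
        add_mem' := fun {a b} ha hb => ⟨add_mem ha.1 hb.1, fun k hk => by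
          rw [map_add, add_sub_add_comm]; exact add_mem (ha.2 k hk) (hb.2 k hk)⟩
        neg_mem' := fun {a} ha => ⟨neg_mem ha.1, fun k hk => by
          rw [map_neg, ← neg_sub', ]; exact neg_mem (ha.2 k hk)⟩ }
    have hUN2 : U1 ≤ N2 := fun u hu => ⟨hUN.le hu, fun k hk => sub_mem (hU1inv k hk.2 u hu) hu⟩
    have hN2inv : ∀ x ∈ X, ∀ w ∈ N2, ρ x w ∈ N2 := by
      intro x hx w hw
      refine ⟨hN1inv x hx w hw.1, fun k hk => ?_⟩
      have hxX : x⁻¹ ∈ X := X.inv_mem hx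
      have hkK : k ∈ K := (Subgroup.mem_inf.mp hk).1
      have hkX : k ∈ X := (Subgroup.mem_inf.mp hk).2
      have hk1 : x⁻¹ * k * x⁻¹⁻¹ ∈ K := (Subgroup.mem_normalizer_iff.mp (hXK hxX) k).mp hkK
      rw [inv_inv] at hk1
      have h1 : x⁻¹ * k * x ∈ K ⊓ X := Subgroup.mem_inf.mpr ⟨hk1, X.mul_mem (X.mul_mem hxX hkX) hx⟩
      have h2 := hU1inv x hx _ (hw.2 _ h1)
      rwa [map_sub, ← act_mul, show x * (x⁻¹ * k * x) = k * x by group, act_mul] at h2
    have hlt : U1 < N2 := by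
      refine lt_of_le_of_ne hUN2 fun hne => ?_
      obtain ⟨w, hw, hwP⟩ := Pc.exists_fixed_mod (ρ := subRep ρ P' N1 hP'N)
        (fun w => Subtype.ext (hW w.1)) (P := ⊤) ((hRB.to_le fun r hr => hr.1 : IsPGroup 2 P').to_subgroup ⊤)
        (W := U1.addSubgroupOf N1) (fun r _ u hu => by
          obtain ⟨k, hk, he⟩ := r.2.2
          show ρ (r : H) u.1 ∈ U1
          rw [he]
          exact hU1inv k hk.2 u.1 hu)
        (fun h => hn0' (show (⟨n0, hn0⟩ : N1) ∈ U1.addSubgroupOf N1 by rw [h]; trivial))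
      refine hw (show w.1 ∈ U1 from hne ▸ ⟨w.2, fun k hk => ?_⟩)
      obtain ⟨r, hr, he⟩ := hK k hk.1
      rw [← he]
      exact hwP ⟨r, hr, k, hk, he⟩ (mem_top _)
    intro k hk w hw
    have heq : N2 = N1 := AddSubgroup.eq_of_le_of_card_ge (fun _ h => h.1) (hN1min N2 ⟨hlt, hN2inv⟩)
    exact (heq.ge hw).2 k hk
  have hA0U : ∀ a ∈ A0, ∀ w, ρ a w - w ∈ U1 := by
    intro a ha w
    obtain ⟨v, hv, n, hn, rfl⟩ := AddSubgroup.mem_sup.mp (htop.ge (AddSubgroup.mem_top w))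
    rw [map_add, hV0 hv a (hA0 ha), add_sub_add_left_eq_sub]
    exact hK1 a ⟨hA0K ha, hAX (hA0 ha)⟩ n hn
  -- elements trivial on `U1` and on the quotient by it
  let Pm : Subgroup H :=
    { carrier := {p | p ∈ RB ∧ (∀ u ∈ U1, ρ p u = u) ∧ ∀ w, ρ p w - w ∈ U1}
      one_mem' := ⟨one_mem _, fun u _ => act_one u, fun w => by rw [act_one, sub_self]; exact zero_mem _⟩
      mul_mem' := fun {a b} ha hb => ⟨mul_mem ha.1 hb.1,
        fun u hu => by rw [act_mul, hb.2.1 u hu, ha.2.1 u hu],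
        fun w => by
          rw [act_mul, show ρ a (ρ b w) - w = (ρ a (ρ b w) - ρ b w) + (ρ b w - w) by abel]
          exact add_mem (ha.2.2 _) (hb.2.2 _)⟩
      inv_mem' := fun {a} ha => ⟨inv_mem ha.1,
        fun u hu => by
          conv_lhs => rw [← ha.2.1 u hu]
          exact act_inv_act a u,
        fun w => by
          have := ha.2.2 (ρ a⁻¹ w)
          rw [act_act_inv] at this
          rw [← neg_sub]
          exact neg_mem this⟩ }
  have hPmul : ∀ p ∈ Pm, ∀ q ∈ Pm, ∀ w, ρ (p * q) w - w = (ρ p w - w) + (ρ q w - w) := by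
    intro p hp q hq w
    have h1 := hp.2.1 _ (hq.2.2 w)
    rw [map_sub] at h1
    rw [act_mul, show ρ p (ρ q w) = (ρ p (ρ q w) - ρ p w) + ρ p w by abel, h1]
    abel
  have hPcomm : ∀ p ∈ Pm, ∀ q ∈ Pm, ρ (p * q) = ρ (q * p) := fun p hp q hq => AddMonoidHom.ext fun w => by
    have h1 := hPmul p hp q hq w
    have h2 := hPmul q hq p hp w
    exact sub_left_inj.mp (h1.trans (add_comm _ _) |>.trans h2.symm)
  have hPsq : ∀ p ∈ Pm, ρ (p * p) = 1 := fun p hp => AddMonoidHom.ext fun w => by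
    have h1 := hPmul p hp p hp w
    rw [hW] at h1
    exact sub_eq_zero.mp h1
  have hPconj : ∀ o ∈ O, ∀ p ∈ Pm, o * p * o⁻¹ ∈ Pm := by
    intro o ho p hp
    refine ⟨(mem_normalizer_iff.mp (hXR (hOX ho)) p).mp hp.1, fun u hu => ?_, fun w => ?_⟩
    · rw [act_mul, act_mul, hu _ (inv_mem ho), hp.2.1 u hu, hu o ho]
    · have h1 := hU1inv o (hOX ho) _ (hp.2.2 (ρ o⁻¹ w))
      rwa [map_sub, act_act_inv, ← act_mul, ← act_mul] at h1
  have hD : ∀ a ∈ A0, ∀ o ∈ O, a⁻¹ * (o * a * o⁻¹) ∈ Pm := by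
    intro a ha o ho
    refine ⟨mul_mem (inv_mem (hA0R ha)) ((mem_normalizer_iff.mp (hXR (hOX ho)) a).mp (hA0R ha)),
      fun u hu => ?_, fun w => ?_⟩
    · rw [act_mul, act_mul, act_mul, hu _ (inv_mem ho), hU1inv a (hAX (hA0 ha)) u hu o ho, act_inv_act]
    · have e1 : ∀ v, ρ (o * a * o⁻¹) v - v ∈ U1 := by
        intro v
        have h1 := hU1inv o (hOX ho) _ (hA0U a ha (ρ o⁻¹ v))
        rwa [map_sub, act_act_inv, ← act_mul, ← act_mul] at h1
      have e2 := hA0U _ (inv_mem ha) (ρ (o * a * o⁻¹) w)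
      rw [act_mul, show ρ a⁻¹ (ρ (o * a * o⁻¹) w) - w =
        (ρ a⁻¹ (ρ (o * a * o⁻¹) w) - ρ (o * a * o⁻¹) w) + (ρ (o * a * o⁻¹) w - w) by abel]
      exact add_mem e2 (e1 w)
  by_cases hcen : ∀ o ∈ O, ∀ p ∈ Pm, ρ (o * p * o⁻¹) = ρ p
  · -- `O` commutes with `A0` in the action
    have hd : ∀ a ∈ A0, ∀ o ∈ O, ρ (a⁻¹ * (o * a * o⁻¹)) = 1 := by
      intro a ha o ho
      have hstep : ∀ p ∈ O, ∀ q ∈ O, ρ (a⁻¹ * ((p * q) * a * (p * q)⁻¹)) =
          ρ (a⁻¹ * (p * a * p⁻¹)) * ρ (a⁻¹ * (q * a * q⁻¹)) := by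
        intro p hp q hq
        rw [← hcen p hp _ (hD a ha q hq), ← map_mul]
        congr 1
        group
      suffices h : ∀ x ∈ lclosure l X, x ∈ O ∧ ρ (a⁻¹ * (x * a * x⁻¹)) = 1 from (h o ho).2
      intro x hx
      induction hx using closure_induction with
      | mem y hy =>
        obtain ⟨hyX, k, hk⟩ := hy
        have hyO := hgen' y hyX k hk
        refine ⟨hyO, ?_⟩
        have hn : ∀ n : ℕ, ρ (a⁻¹ * (y ^ n * a * (y ^ n)⁻¹)) = ρ (a⁻¹ * (y * a * y⁻¹)) ^ n := by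
          intro n
          induction n with
          | zero => rw [pow_zero, pow_zero, one_mul, inv_one, mul_one, inv_mul_cancel, map_one]
          | succ n ih => rw [pow_succ, hstep _ (pow_mem hyO n) _ hyO, ih, ← pow_succ]
        have h1 := hn (l ^ k)
        rw [hk, one_mul, inv_one, mul_one, inv_mul_cancel, map_one] at h1
        have h2 : ρ (a⁻¹ * (y * a * y⁻¹)) ^ 2 = 1 := by rw [sq, ← map_mul]; exact hPsq _ (hD a ha y hyO)
        obtain ⟨j, hj⟩ := Nat.odd_iff.mpr (Nat.two_dvd_ne_zero.mp (hodd k))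
        rw [hj, pow_succ, pow_mul, h2, one_pow, one_mul] at h1
        exact h1.symm
      | one => exact ⟨one_mem _, by rw [one_mul, inv_one, mul_one, inv_mul_cancel, map_one]⟩
      | mul p q _ _ hp hq => exact ⟨mul_mem hp.1 hq.1, by rw [hstep p hp.1 q hq.1, hp.2, hq.2, one_mul]⟩
      | inv p _ hp =>
        refine ⟨inv_mem hp.1, ?_⟩
        have h1 := hstep p hp.1 p⁻¹ (inv_mem hp.1)
        rw [hp.2, one_mul, mul_inv_cancel, one_mul, inv_one, mul_one, inv_mul_cancel, map_one] at h1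
        exact h1.symm
    have hcomm : ∀ a ∈ A0, ∀ o ∈ O, ∀ w, ρ a (ρ o w) = ρ o (ρ a w) := by
      intro a ha o ho w
      have h1 : ρ (a * (a⁻¹ * (o * a * o⁻¹))) = ρ a := by rw [map_mul, hd a ha o ho, mul_one]
      rw [mul_inv_cancel_left] at h1
      have h2 : ρ (o * a * o⁻¹) (ρ o w) = ρ a (ρ o w) := by rw [h1]
      rw [← h2, ← act_mul, inv_mul_cancel_right, act_mul]
    set D := fixV ρ A0 with hDdef
    have hXD : X ≤ presV ρ D := hXAO.trans (sup_le
      (le_presV ρ fun b hb w hw a ha => by rw [← act_mul, hA.comm (hA0 ha) hb, act_mul, hw a ha])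
      (le_presV ρ fun o ho w hw a ha => by rw [hcomm a ha o ho, hw a ha]))
    obtain ⟨y, hy, ⟨k, hk⟩, hyw⟩ := Pc.exists_moving_gen (K := X) ho0 hw0
    obtain ⟨v, hv, hyv⟩ : ∃ v ∈ D, ρ y v ≠ v := by
      by_contra h
      push Not at h
      exact hyw (fix_of_fix_fixV_act hW (hodd k) hk (hA.mono hA0).isPGroup
        (fun a ha w => hcomm a ha y (hgen' y hy k hk) w) h w0)
    have h1 := Pc.gap_bound hW hgap (A := A) (g := g) (D := D) (fun x hx w hw => (hXD hx w).mpr hw)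
      (fun w hw => (hXD hgX w).mpr hw) (hgen' y hy k hk) hv hyv
    rw [inf_eq_left.mpr hfA0] at h1
    omega
  · push Not at hcen
    obtain ⟨o, ho, p, hp, hne⟩ := hcen
    have hW2 : ∀ φ : W →+ W, φ + φ = 0 := fun φ => AddMonoidHom.ext fun w => hW (φ w)
    haveI : Finite (W →+ W) := Finite.of_injective (fun f : W →+ W => (f : W → W)) DFunLike.coe_injective
    let D2 : AddSubgroup (W →+ W) :=
      { carrier := {φ | ∃ p ∈ Pm, ∀ w, φ w = ρ p w - w}
        zero_mem' := ⟨1, one_mem _, fun w => by rw [act_one, sub_self]; rfl⟩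
        add_mem' := fun {φ ψ} hφ hψ => by
          obtain ⟨p, hp, h1⟩ := hφ
          obtain ⟨q, hq, h2⟩ := hψ
          exact ⟨p * q, mul_mem hp hq, fun w => by rw [hPmul p hp q hq, AddMonoidHom.add_apply, h1, h2]⟩
        neg_mem' := fun {φ} hφ => by
          rw [neg_eq_of_add_eq_zero_left (hW2 φ)]; exact hφ }
    let e : H → (W →+ W) := fun q => @HSub.hSub (W →+ W) (W →+ W) (W →+ W) _ (ρ q) (AddMonoidHom.id W)
    have hσ : ∀ h q w, conjEnd ρ h (e q) w = ρ (h * q * h⁻¹) w - w := by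
      intro h q w
      show ρ h (ρ q (ρ h⁻¹ w) - ρ h⁻¹ w) = _
      rw [map_sub, act_act_inv, act_mul, act_mul]
    obtain ⟨y, hy, ⟨k, hk⟩, hye⟩ := Pc.exists_moving_gen (ρ := conjEnd ρ) (K := X) ho (w := e p) fun h =>
      hne (AddMonoidHom.ext fun w => sub_left_inj.mp ((hσ o p w).symm.trans (DFunLike.congr_fun h w)))
    have hyO := hgen' y hy k hk
    have h1 := Pc.card_fix_le hW2 hgap hk (ρ := conjEnd ρ) (D := D2) (U := ⊥)
      (fun φ hφ => by
        obtain ⟨q, hq, h2⟩ := hφ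
        refine ⟨y * q * y⁻¹, hPconj y hyO q hq, fun w => ?_⟩
        rw [conjEnd_apply, h2, map_sub, act_act_inv, act_mul, act_mul])
      (w := e p) ⟨p, hp, fun w => rfl⟩ hye (fun u hu => by rw [AddSubgroup.mem_bot.mp hu, map_zero]) bot_le
    rw [GenOff.lg_bot] at h1
    let ψ : Pm →* Multiplicative D2 :=
      { toFun := fun q => Multiplicative.ofAdd ⟨e q.1, q.1, q.2, fun w => rfl⟩
        map_one' := congrArg Multiplicative.ofAdd (Subtype.ext (AddMonoidHom.ext fun w => by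
          show ρ (1 : H) w - w = 0
          rw [act_one, sub_self]))
        map_mul' := fun a b => congrArg Multiplicative.ofAdd (Subtype.ext (AddMonoidHom.ext fun w =>
          hPmul a.1 a.2 b.1 b.2 w)) }
    have hsurj : Function.Surjective ψ := by
      intro z
      obtain ⟨⟨φ, q, hq, h2⟩, rfl⟩ := Multiplicative.ofAdd.surjective z
      exact ⟨⟨q, hq⟩, congrArg Multiplicative.ofAdd (Subtype.ext (AddMonoidHom.ext fun w => (h2 w).symm))⟩
    have hker : ψ.ker = ρ.ker.subgroupOf Pm := by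
      ext q
      rw [MonoidHom.mem_ker, mem_subgroupOf, MonoidHom.mem_ker]
      constructor
      · intro h
        refine AddMonoidHom.ext fun w => sub_eq_zero.mp ?_
        exact congrArg (fun z : Multiplicative D2 => ((Multiplicative.toAdd z : D2) : W →+ W) w) h
      · intro h
        refine congrArg Multiplicative.ofAdd (Subtype.ext (AddMonoidHom.ext fun w => ?_))
        show ρ (q : H) w - w = 0
        rw [h]
        exact sub_self w
    have hr : ρ.ker.relIndex Pm = 2 ^ lg D2 := by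
      rw [Subgroup.relIndex, ← hker, Subgroup.index_ker, MonoidHom.range_eq_top.mpr hsurj, Subgroup.card_top,
        Nat.card_congr Multiplicative.toAdd, card_eq_two_pow hW2]
    have h2 := hgood Pm (fun q hq => hq.1) hPcomm hPsq (lg D2) hr (by omega)
    have h3 : lg U1 ≤ lg (fixV ρ Pm) := lg_mono hW fun u hu q hq => hq.2.1 u hu
    omega

end Cfsg.Agent.Thompson.FourFree
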