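import Mathlib
import Cfsg.Agent.Thompson.PieceExists
import Cfsg.Agent.H58.Involve
import Cfsg.Agent.H47.FourFreeTools

/-!
The codimension of the fixed points of an elementary abelian 2-subgroup is at least twice its rank, as is
the rank of the commutator, when every such subgroup has a piece.
-/

set_option autoImplicit false
set_option linter.unusedSectionVars false
set_option linter.style.haveILetI false

namespace Cfsg.Agent.Thompson.Pc

open Subgroup
open Par (El Inv3)
open Off (fixV act_mul act_one act_inv_act act_act_inv end_ext)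
open GenOff (lg card_eq_two_pow lg_sup_inf lg_mono)

universe u v

variable {H : Type u} [Group H] [Finite H]

theorem card_eq_mul {A B C : Subgroup H} (hA : El A) (hB : B ≤ A) (hC : C ≤ A) (hcov : A ≤ B ⊔ C)
    (hdisj : B ⊓ C = ⊥) : Nat.card A = Nat.card B * Nat.card C := by
  rw [← Nat.card_prod]
  refine Nat.card_congr (Equiv.ofBijective
    (fun p : B × C => (⟨p.1.1 * p.2.1, mul_mem (hB p.1.2) (hC p.2.2)⟩ : A)) ⟨fun p q h => ?_, fun a => ?_⟩).symm
  · have h1 : p.1.1 * p.2.1 = q.1.1 * q.2.1 := congrArg Subtype.val h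
    have h2 : q.1.1⁻¹ * p.1.1 = q.2.1 * p.2.1⁻¹ := by
      calc q.1.1⁻¹ * p.1.1 = q.1.1⁻¹ * (p.1.1 * p.2.1) * p.2.1⁻¹ := by group
        _ = _ := by rw [h1]; group
    have h4 : q.1.1⁻¹ * p.1.1 ∈ B ⊓ C := mem_inf.mpr
      ⟨B.mul_mem (B.inv_mem q.1.2) p.1.2, h2 ▸ C.mul_mem q.2.2 (C.inv_mem p.2.2)⟩
    have h3 : q.1.1⁻¹ * p.1.1 = 1 := mem_bot.mp (hdisj ▸ h4)
    refine Prod.ext (Subtype.ext (inv_mul_eq_one.mp h3).symm) (Subtype.ext ?_)
    rw [h3] at h2
    exact (mul_inv_eq_one.mp h2.symm).symm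
  · obtain ⟨b, hb, c, hc, he⟩ := exists_mul_of_mem_sup hA hB hC (hcov a.2)
    exact ⟨(⟨b, hb⟩, ⟨c, hc⟩), Subtype.ext he⟩

variable {V : Type v} [AddCommGroup V] [Finite V] {ρ : H →* AddMonoid.End V}

/-- the codimension of the fixed points is twice the rank at least -/
theorem codim_two (hV : ∀ w : V, w + w = 0) (hρ : Function.Injective ρ)
    (hex : ∀ B : Subgroup H, El B → B ≠ ⊥ → Nonempty (Piece B)) :
    ∀ (A : Subgroup H), El A → ∀ a : ℕ, Nat.card A = 2 ^ a →
      lg (fixV ρ A) + 2 * a ≤ lg (⊤ : AddSubgroup V) := by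
  haveI : Fact (Nat.Prime 2) := ⟨Nat.prime_two⟩
  intro A hA a
  induction a using Nat.strong_induction_on generalizing A with
  | _ a ih =>
  intro ha
  by_cases hne : A = ⊥
  · rw [hne, card_bot] at ha
    have : a = 0 := (Nat.pow_eq_one.mp ha.symm).resolve_left (by norm_num)
    have := lg_mono hV (le_top : fixV ρ A ≤ ⊤)
    omega
  obtain ⟨P⟩ := hex A hA hne
  obtain ⟨b, hb⟩ := IsPGroup.iff_card.mp (hA.mono P.hB).isPGroup
  have hab : a = b + P.c := by
    have h := card_eq_mul hA P.hB P.hC P.cover P.disj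
    rw [ha, hb, P.card, ← pow_add] at h
    exact Nat.pow_right_injective le_rfl h
  have hcp := P.cpos
  obtain ⟨x, hx, hx1⟩ : ∃ x ∈ P.O, x ≠ 1 := by
    by_contra h
    push Not at h
    exact P.O_ne_bot ((eq_bot_iff_forall _).mpr h)
  obtain ⟨w, hw⟩ : ∃ w, ρ x w ≠ w := by
    by_contra h
    push Not at h
    exact hx1 (end_ext hρ fun w => by rw [h, act_one])
  have h1 := P.bound hV hA hx hw
  have h2 := ih b (by omega) P.B (hA.mono P.hB) hb
  omega

/-- the contragredient action on functionals -/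
def dualRep (ρ : H →* AddMonoid.End V) : H →* AddMonoid.End (V →+ ZMod 2) where
  toFun h :=
    { toFun := fun f => f.comp (ρ h⁻¹)
      map_zero' := rfl
      map_add' := fun f g => rfl }
  map_one' := AddMonoidHom.ext fun f => AddMonoidHom.ext fun w => by
    show f (ρ 1⁻¹ w) = f w
    rw [inv_one, act_one]
  map_mul' a b := AddMonoidHom.ext fun f => AddMonoidHom.ext fun w => by
    show f (ρ (a * b)⁻¹ w) = f (ρ b⁻¹ (ρ a⁻¹ w))
    rw [mul_inv_rev, act_mul]

/-- the rank of the commutator is twice the rank at least -/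
theorem comm_two (hV : ∀ w : V, w + w = 0) (hρ : Function.Injective ρ)
    (hex : ∀ B : Subgroup H, El B → B ≠ ⊥ → Nonempty (Piece B)) {A : Subgroup H} (hA : El A) {a : ℕ}
    (ha : Nat.card A = 2 ^ a) : 2 * a ≤ lg (comV ρ A) := by
  have hW : ∀ f : V →+ ZMod 2, f + f = 0 := fun f => AddMonoidHom.ext fun w => by
    rw [AddMonoidHom.add_apply, ← map_add, hV, map_zero, AddMonoidHom.zero_apply]
  haveI : Finite (V →+ ZMod 2) := Finite.of_injective (fun f : V →+ ZMod 2 => (f : V → ZMod 2)) DFunLike.coe_injective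
  have hσ : Function.Injective (dualRep ρ) := by
    intro g g' h
    have key : ∀ w, ρ g⁻¹ w = ρ g'⁻¹ w := by
      intro w
      by_contra hne
      obtain ⟨χ, hχ⟩ := GenOff.exists_functional hV (sub_ne_zero.mpr hne)
      refine hχ ?_
      have h1 := congrArg (fun e : AddMonoid.End (V →+ ZMod 2) => e χ w) h
      rw [map_sub, sub_eq_zero]
      exact h1
    exact inv_injective (end_ext hρ key)
  have h1 := codim_two hW hσ hex A hA a ha
  set D := comV ρ A with hD
  -- the fixed functionals are those vanishing on the commutator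
  have hq2 : ∀ q : V ⧸ D, q + q = 0 := fun q => by
    obtain ⟨w, rfl⟩ := QuotientAddGroup.mk'_surjective D q
    rw [← map_add, hV, map_zero]
  have h2 : Nat.card (fixV (dualRep ρ) A) = Nat.card (V ⧸ D) := by
    rw [← GenOff.card_dual hq2]
    refine Nat.card_congr
      { toFun := fun f => QuotientAddGroup.lift D f.1 ?_
        invFun := fun g => ⟨g.comp (QuotientAddGroup.mk' D), ?_⟩
        left_inv := fun f => rfl
        right_inv := fun g => AddMonoidHom.ext fun q => by
          obtain ⟨w, rfl⟩ := QuotientAddGroup.mk'_surjective D q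
          rfl }
    · refine (AddSubgroup.closure_le _).mpr ?_
      rintro v ⟨x, hx, w, rfl⟩
      have h3 : f.1 (ρ x⁻¹ w) = f.1 w := congrArg (fun e : V →+ ZMod 2 => e w) (f.2 x hx)
      rw [hA.inv_eq hx] at h3
      show f.1 (ρ x w - w) = 0
      rw [map_sub, h3, sub_self]
    · intro x hx
      refine AddMonoidHom.ext fun w => ?_
      show g ((ρ x⁻¹ w : V) : V ⧸ D) = g (w : V ⧸ D)
      rw [QuotientAddGroup.eq_iff_sub_mem.mpr (sub_mem_comV (inv_mem hx) w)]
  have h4 : Nat.card (V ⧸ D) * Nat.card D = Nat.card V := (AddSubgroup.card_eq_card_quotient_mul_card_addSubgroup D).symm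
  have h5 : Nat.card (V →+ ZMod 2) = Nat.card V := GenOff.card_dual hV
  rw [← h2, card_eq_two_pow hW, card_eq_two_pow hV, ← pow_add,
    ← h5, ← AddSubgroup.card_top (G := V →+ ZMod 2), card_eq_two_pow hW] at h4
  have := Nat.pow_right_injective le_rfl h4
  omega

/-- a dihedral section of order six from an inverted element of order three -/
theorem involves_of_inv3 (h : Inv3 H) : Cfsg.Involves (Equiv.Perm (Fin 3)) H := by
  obtain ⟨b, t, hb, ht⟩ := h
  obtain ⟨k, m, hm, he⟩ := Nat.exists_eq_pow_mul_and_not_dvd (orderOf_pos t).ne' 2 (by norm_num)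
  haveI : Fact (Nat.Prime 3) := ⟨Nat.prime_three⟩
  have hb1 : b ≠ 1 := fun h => by rw [h, orderOf_one] at hb; norm_num at hb
  have hm0 : m ≠ 0 := fun h => by rw [h, mul_zero] at he; exact (orderOf_pos t).ne' he
  refine H47.FF.involves_perm_of_dihedral (H58.Inv.involves_dihedral (p := 3) (x := t ^ m) (y := b)
    (by norm_num) ⟨k, ?_⟩ ⟨1, by rw [hb, pow_one]⟩ hb1 ?_)
  · rw [orderOf_pow' _ hm0, he, Nat.gcd_eq_right (dvd_mul_left m _), Nat.mul_div_cancel _ (by omega)]
  · obtain ⟨j, rfl⟩ : ∃ j, m = 2 * j + 1 := ⟨m / 2, by omega⟩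
    have h2 : ∀ z : H, t * (t * z * t⁻¹) * t⁻¹ = (t * t) * z * (t * t)⁻¹ := fun z => by group
    have h3 : Commute (t * t) b := by
      have := h2 b
      rw [ht, ← inv_inj, conj_inv] at this
      rw [show (t * b⁻¹⁻¹ * t⁻¹) = b⁻¹ by rw [inv_inv, ht]] at this
      exact (mul_inv_eq_iff_eq_mul.mp (inv_injective this).symm)
    rw [pow_succ, pow_mul, sq, show (t * t) ^ j * t * b * ((t * t) ^ j * t)⁻¹ =
      (t * t) ^ j * (t * b * t⁻¹) * ((t * t) ^ j)⁻¹ by group, ht,
      ((h3.pow_left j).inv_right).eq, mul_inv_cancel_right]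

end Cfsg.Agent.Thompson.Pc
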