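import Mathlib
import Cfsg.Agent.Thompson.OffenderPairs

/-!
Conjugation by a subgroup on an elementary abelian 2-subgroup it normalises, as a module.
-/

set_option autoImplicit false
set_option linter.unusedSectionVars false

namespace Cfsg.Agent.Thompson.Pc

open Subgroup

universe u

variable {L : Type u} [Group L]

/-- an elementary abelian 2-subgroup written additively -/
def Mod2 (M : Subgroup L) (_hM : ∀ x ∈ M, x * x = 1) : Type u := Additive M

variable {M : Subgroup L} {hM : ∀ x ∈ M, x * x = 1}

theorem comm_of_sq {x y : L} (hx : x ∈ M) (hy : y ∈ M) (hM : ∀ x ∈ M, x * x = 1) : x * y = y * x := by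
  have h1 := hM _ (mul_mem hx hy)
  calc x * y = (y * x)⁻¹ * ((y * x) * (x * y)) := by group
    _ = (y * x)⁻¹ * (y * (x * x) * y) := by group
    _ = (y * x)⁻¹ := by rw [hM x hx, mul_one, hM y hy, mul_one]
    _ = y * x := inv_eq_of_mul_eq_one_right (hM _ (mul_mem hy hx))

instance : AddCommGroup (Mod2 M hM) :=
  { (inferInstance : AddGroup (Additive M)) with
    add_comm := fun a b => Additive.toMul.injective (Subtype.ext
      (comm_of_sq (Additive.toMul a : M).2 (Additive.toMul b : M).2 hM)) }

/-- the element of `L` -/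
def Mod2.val (w : Mod2 M hM) : L := ((Additive.toMul w : M) : L)

/-- the element of the module -/
def Mod2.mk (x : L) (hx : x ∈ M) : Mod2 M hM := Additive.ofMul ⟨x, hx⟩

theorem Mod2.val_mem (w : Mod2 M hM) : w.val ∈ M := (Additive.toMul w : M).2

theorem Mod2.val_mk (x : L) (hx : x ∈ M) : (Mod2.mk (hM := hM) x hx).val = x := rfl

theorem Mod2.val_injective : Function.Injective (Mod2.val : Mod2 M hM → L) := fun _ _ h =>
  Additive.toMul.injective (Subtype.ext h)

theorem Mod2.val_zero : (0 : Mod2 M hM).val = 1 := rfl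

theorem Mod2.val_add (a b : Mod2 M hM) : (a + b).val = a.val * b.val := rfl

theorem Mod2.val_neg (a : Mod2 M hM) : (-a).val = a.val⁻¹ := rfl

theorem Mod2.val_sub (a b : Mod2 M hM) : (a - b).val = a.val * b.val⁻¹ := by
  rw [sub_eq_add_neg, Mod2.val_add, Mod2.val_neg]

theorem Mod2.add_self (w : Mod2 M hM) : w + w = 0 := Mod2.val_injective (hM _ w.val_mem)

instance [Finite L] : Finite (Mod2 M hM) := Finite.of_injective _ Mod2.val_injective

theorem card_mod2 : Nat.card (Mod2 M hM) = Nat.card M := Nat.card_congr (Additive.toMul (α := M))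

/-- the conjugation action -/
def modRep (G M : Subgroup L) (hM : ∀ x ∈ M, x * x = 1) (hG : G ≤ normalizer (M : Set L)) :
    G →* AddMonoid.End (Mod2 M hM) where
  toFun g :=
    { toFun := fun w => Mod2.mk ((g : L) * w.val * (g : L)⁻¹) ((mem_normalizer_iff.mp (hG g.2) _).mp w.val_mem)
      map_zero' := Mod2.val_injective (by
        show (g : L) * 1 * (g : L)⁻¹ = 1
        group)
      map_add' := fun a b => Mod2.val_injective (by
        show (g : L) * (a.val * b.val) * (g : L)⁻¹ = (g : L) * a.val * (g : L)⁻¹ * ((g : L) * b.val * (g : L)⁻¹)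
        group) }
  map_one' := AddMonoidHom.ext fun w => Mod2.val_injective (by
    show ((1 : G) : L) * w.val * ((1 : G) : L)⁻¹ = w.val
    simp)
  map_mul' a b := AddMonoidHom.ext fun w => Mod2.val_injective (by
    show ((a * b : G) : L) * w.val * ((a * b : G) : L)⁻¹ = (a : L) * ((b : L) * w.val * (b : L)⁻¹) * (a : L)⁻¹
    rw [Subgroup.coe_mul]
    group)

theorem val_modRep (G M : Subgroup L) (hM : ∀ x ∈ M, x * x = 1) (hG : G ≤ normalizer (M : Set L)) (g : G)
    (w : Mod2 M hM) : (modRep G M hM hG g w).val = (g : L) * w.val * (g : L)⁻¹ := rfl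

end Cfsg.Agent.Thompson.Pc
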