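import Mathlib
import Cfsg.Agent.Thompson.PieceBasic

/-!
The inequality defining E-groups: for every subgroup acting as a nontrivial elementary abelian group on an
elementary abelian subgroup, the index of the fixed points exceeds the power three halves of the order.
-/

set_option autoImplicit false
set_option linter.unusedSectionVars false

namespace Cfsg.Agent.Thompson.FourFree

open Subgroup
open scoped commutatorElement
open H48 (cj)
open Par (El)

universe u v

variable {G : Type u} [Group G] [Finite G]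

/-- the inequality -/
def Good (V X : Subgroup G) : Prop :=
  ∀ R ≤ X, ⁅R, R⁆ ≤ centralizer (V : Set G) → (∀ r ∈ R, r ^ 2 ∈ centralizer (V : Set G)) →
    ¬ R ≤ centralizer (V : Set G) →
      ((centralizer (V : Set G)).relIndex R) ^ 3 < ((centralizer (R : Set G)).relIndex V) ^ 2

omit [Finite G] in
theorem card_inf_mul_relIndex (H R : Subgroup G) : Nat.card ↥(R ⊓ H) * H.relIndex R = Nat.card R := by
  have h := relIndex_mul_relIndex (⊥ : Subgroup G) (R ⊓ H) R bot_le inf_le_left
  rwa [relIndex_bot_left, relIndex_bot_left, inf_comm, inf_relIndex_right, inf_comm] at h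

theorem relIndex_pos (H R : Subgroup G) : 0 < H.relIndex R := Nat.pos_of_ne_zero fun h => by
  have := card_inf_mul_relIndex H R
  rw [h, mul_zero] at this
  exact Nat.card_pos.ne this

theorem relIndex_two_pow {R : Subgroup G} (hR : IsPGroup 2 R) (H : Subgroup G) :
    ∃ k, H.relIndex R = 2 ^ k := by
  haveI : Fact (Nat.Prime 2) := ⟨Nat.prime_two⟩
  obtain ⟨n, hn⟩ := IsPGroup.iff_card.mp hR
  have h : H.relIndex R ∣ 2 ^ n := hn ▸ Dvd.intro_left _ (card_inf_mul_relIndex H R)
  obtain ⟨k, -, hk⟩ := (Nat.dvd_prime_pow Nat.prime_two).mp h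
  exact ⟨k, hk⟩

omit [Finite G] in
theorem centralizer_sup (Y Z : Subgroup G) :
    centralizer ((Y ⊔ Z : Subgroup G) : Set G) = centralizer (Y : Set G) ⊓ centralizer (Z : Set G) := by
  refine le_antisymm (le_inf (centralizer_le (SetLike.coe_subset_coe.mpr le_sup_left))
    (centralizer_le (SetLike.coe_subset_coe.mpr le_sup_right))) ?_
  rw [le_centralizer_iff]
  exact sup_le (le_centralizer_iff.mp inf_le_left) (le_centralizer_iff.mp inf_le_right)

theorem Good.mono {V X X' : Subgroup G} (h : Good V X) (hle : X' ≤ X) : Good V X' :=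
  fun R hR => h R (hR.trans hle)

/-- the inequality for an elementary abelian subgroup -/
theorem Good.of_el {V X R : Subgroup G} (h : Good V X) (hR : R ≤ X) (hel : El R)
    (hne : ¬ R ≤ centralizer (V : Set G)) :
    ((centralizer (V : Set G)).relIndex R) ^ 3 < ((centralizer (R : Set G)).relIndex V) ^ 2 := by
  refine h R hR ?_ (fun r hr => ?_) hne
  · rw [commutator_le]
    intro a ha b hb
    rw [commutatorElement_eq_one_iff_mul_comm.mpr (hel.comm ha hb)]
    exact one_mem _
  · rw [sq, hel r hr]
    exact one_mem _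

/-- the inequality in exponents -/
theorem Good.bound {V X R : Subgroup G} (h : Good V X) (hR : R ≤ X) (hel : El R) {r d : ℕ}
    (hr : (centralizer (V : Set G)).relIndex R = 2 ^ r) (hd : (centralizer (R : Set G)).relIndex V = 2 ^ d)
    (hr0 : 0 < r) : 3 * r < 2 * d := by
  have hne : ¬ R ≤ centralizer (V : Set G) := fun hle => by
    rw [← relIndex_eq_one, hr] at hle
    exact (Nat.one_lt_two_pow hr0.ne').ne' hle
  have h1 := h.of_el hR hel hne
  rw [hr, hd, ← pow_mul, ← pow_mul, Nat.pow_lt_pow_iff_right (by norm_num)] at h1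
  omega

theorem Good.conj {V X : Subgroup G} (h : Good V X) (g : G) : Good (cj g V) (cj g X) := by
  intro R hR h1 h2 h3
  have hcent : ∀ Y : Subgroup G, centralizer ((cj g Y : Subgroup G) : Set G) = cj g (centralizer (Y : Set G)) := by
    intro Y
    ext x
    rw [H48.mem_cj, mem_centralizer_iff, mem_centralizer_iff]
    constructor
    · intro hx y hy
      have := hx (g * y * g⁻¹) ⟨y, hy, rfl⟩
      calc y * (g⁻¹ * x * g) = g⁻¹ * (g * y * g⁻¹ * x) * g := by group
        _ = g⁻¹ * (x * (g * y * g⁻¹)) * g := by rw [this]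
        _ = _ := by group
    · rintro hx _ ⟨y, hy, rfl⟩
      show g * y * g⁻¹ * x = x * (g * y * g⁻¹)
      calc g * y * g⁻¹ * x = g * (y * (g⁻¹ * x * g)) * g⁻¹ := by group
        _ = g * (g⁻¹ * x * g * y) * g⁻¹ := by rw [hx y hy]
        _ = _ := by group
  set R' := cj g⁻¹ R
  have hRR : cj g R' = R := H48.cj_cj_inv g R
  have hiff : ∀ Y Z : Subgroup G, cj g Y ≤ cj g Z ↔ Y ≤ Z := fun Y Z =>
    map_le_map_iff_of_injective (MulAut.conj g).injective
  have h' := h R' (by rw [← hiff, hRR]; exact hR)
    (by rw [← hiff, H48.cj_commutator, hRR, ← hcent]; exact h1)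
    (fun r hr => by
      have hr' : g * r * g⁻¹ ∈ R := hRR ▸ (⟨r, hr, rfl⟩ : g * r * g⁻¹ ∈ cj g R')
      have h4 := h2 _ hr'
      rw [hcent, H48.mem_cj, conj_pow] at h4
      simpa [mul_assoc] using h4)
    (fun hle => h3 (by rw [hcent, ← hRR]; exact (hiff _ _).mpr hle))
  rw [hcent, ← hRR, hcent]
  have e : ∀ Y Z : Subgroup G, (cj g Y).relIndex (cj g Z) = Y.relIndex Z := fun Y Z =>
    relIndex_map_map_of_injective Y Z (MulAut.conj g).injective
  rw [e, e]
  exact h'

/-- the inequality passes to joins -/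
theorem Good.sup {Y Z X : Subgroup G} (hY : Good Y X) (hZ : Good Z X) : Good (Y ⊔ Z) X := by
  intro R hR h1 h2 h3
  rw [centralizer_sup] at h1 h2 h3 ⊢
  set C1 := R ⊓ centralizer (Y : Set G) with hC1
  have hsplit : (centralizer (Y : Set G) ⊓ centralizer (Z : Set G)).relIndex R =
      (centralizer (Y : Set G)).relIndex R * (centralizer (Z : Set G)).relIndex C1 := by
    have h := relIndex_mul_relIndex (C1 ⊓ centralizer (Z : Set G)) C1 R inf_le_left inf_le_left
    rw [inf_comm C1, inf_relIndex_right] at h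
    rw [← inf_relIndex_right _ R, mul_comm]
    conv_rhs => arg 2; rw [← inf_relIndex_right (centralizer (Y : Set G)) R, inf_comm]
    rw [← hC1, h, show centralizer (Z : Set G) ⊓ C1 =
      centralizer (Y : Set G) ⊓ centralizer (Z : Set G) ⊓ R by rw [hC1]; ac_rfl]
  set W := Y ⊔ Z
  set F := W ⊓ centralizer (R : Set G)
  set FC := W ⊓ centralizer (C1 : Set G)
  have hFFC : F ≤ FC := inf_le_inf_left _ (centralizer_le inf_le_left)
  have hYFC : Y ≤ FC := le_inf le_sup_left (le_centralizer_iff.mp inf_le_right)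
  have e1 : (centralizer (R : Set G)).relIndex Y ≤ F.relIndex FC := by
    refine le_trans (le_of_eq ?_) (relIndex_le_of_le_right hYFC (relIndex_pos F FC).ne')
    rw [← inf_relIndex_right (W ⊓ centralizer (R : Set G)) Y, ← inf_relIndex_right (centralizer (R : Set G)) Y,
      inf_assoc, inf_eq_right.mpr (inf_le_right.trans le_sup_left)]
  have e2 : (centralizer (C1 : Set G)).relIndex Z ≤ FC.relIndex W := by
    refine le_trans (le_of_eq ?_) (relIndex_le_of_le_right le_sup_right (relIndex_pos FC W).ne')
    rw [← inf_relIndex_right (W ⊓ centralizer (C1 : Set G)) Z, ← inf_relIndex_right (centralizer (C1 : Set G)) Z,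
      inf_assoc, inf_eq_right.mpr (inf_le_right.trans le_sup_right)]
  have e3 : (centralizer (R : Set G)).relIndex W = F.relIndex FC * FC.relIndex W := by
    rw [relIndex_mul_relIndex F FC W hFFC inf_le_left, show F = centralizer (R : Set G) ⊓ W from inf_comm _ _,
      inf_relIndex_right]
  have hA : R ≤ centralizer (Y : Set G) ∨ ((centralizer (Y : Set G)).relIndex R) ^ 3 <
      ((centralizer (R : Set G)).relIndex Y) ^ 2 := or_iff_not_imp_left.mpr fun hne =>
    hY R hR (h1.trans inf_le_left) (fun r hr => (h2 r hr).1) hne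
  have hB : C1 ≤ centralizer (Z : Set G) ∨ ((centralizer (Z : Set G)).relIndex C1) ^ 3 <
      ((centralizer (C1 : Set G)).relIndex Z) ^ 2 := or_iff_not_imp_left.mpr fun hne =>
    hZ C1 (inf_le_left.trans hR) ((commutator_mono inf_le_left inf_le_left).trans (h1.trans inf_le_right))
      (fun r hr => (h2 r hr.1).2) hne
  rw [hsplit, e3, mul_pow, mul_pow]
  have pR := relIndex_pos (centralizer (R : Set G)) Y
  have pC := relIndex_pos (centralizer (C1 : Set G)) Z
  have k1 : ((centralizer (R : Set G)).relIndex Y) ^ 2 ≤ (F.relIndex FC) ^ 2 := Nat.pow_le_pow_left e1 2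
  have k2 : ((centralizer (C1 : Set G)).relIndex Z) ^ 2 ≤ (FC.relIndex W) ^ 2 := Nat.pow_le_pow_left e2 2
  rcases hA with hA | hA
  · rw [relIndex_eq_one.mpr hA, one_pow, one_mul]
    rcases hB with hB | hB
    · exact absurd (le_inf hA ((le_inf le_rfl hA).trans hB)) h3
    · calc _ < _ := hB
        _ ≤ 1 * (FC.relIndex W) ^ 2 := by rw [one_mul]; exact k2
        _ ≤ _ := Nat.mul_le_mul_right _ (le_trans (Nat.one_le_pow _ _ pR) k1)
  · rcases hB with hB | hB
    · rw [relIndex_eq_one.mpr hB, one_pow, mul_one]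
      calc _ < _ := hA
        _ ≤ (F.relIndex FC) ^ 2 * 1 := by rw [mul_one]; exact k1
        _ ≤ _ := Nat.mul_le_mul_left _ (le_trans (Nat.one_le_pow _ _ pC) k2)
    · exact (Nat.mul_lt_mul_of_lt_of_lt hA hB).trans_le (Nat.mul_le_mul k1 k2)

theorem good_bot (X : Subgroup G) : Good (⊥ : Subgroup G) X := by
  intro R _ _ _ h
  exact absurd (fun r _ => mem_centralizer_iff.mpr fun y hy => by rw [mem_bot.mp hy, one_mul, mul_one]) h

/-- the inequality passes to joins of families -/
theorem good_sSup {X : Subgroup G} {S : Set (Subgroup G)} (h : ∀ Y ∈ S, Good Y X) : Good (sSup S) X := by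
  revert h
  refine (Set.toFinite S).induction_on (motive := fun s _ => (∀ Y ∈ s, Good Y X) → Good (sSup s) X) _ ?_ ?_
  · intro _
    rw [sSup_empty]
    exact good_bot X
  · intro Y s _ _ ih h
    rw [sSup_insert]
    exact (h Y (Set.mem_insert _ _)).sup (ih fun Z hZ => h Z (Set.mem_insert_of_mem _ hZ))

/-- transport along an injective homomorphism -/
theorem Good.of_map {H : Type v} [Group H] [Finite H] {f : H →* G} (hf : Function.Injective f)
    {V X : Subgroup H} (h : Good (V.map f) (X.map f)) : Good V X := by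
  intro R hR h1 h2 h3
  have hle : ∀ Y : Subgroup H, (centralizer (Y : Set H)).map f ≤ centralizer ((Y.map f : Subgroup G) : Set G) := by
    rintro Y _ ⟨x, hx, rfl⟩
    refine mem_centralizer_iff.mpr ?_
    rintro _ ⟨y, hy, rfl⟩
    rw [← map_mul, ← map_mul, mem_centralizer_iff.mp hx y hy]
  have hcom : ∀ Y : Subgroup H, (centralizer ((Y.map f : Subgroup G) : Set G)).comap f = centralizer (Y : Set H) := by
    intro Y
    refine le_antisymm (fun x hx => mem_centralizer_iff.mpr fun y hy => hf ?_) (map_le_iff_le_comap.mp (hle Y))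
    rw [map_mul, map_mul]
    exact mem_centralizer_iff.mp hx (f y) ⟨y, hy, rfl⟩
  have h' := h (R.map f) (map_mono hR) (by rw [← map_commutator]; exact (map_mono h1).trans (hle V))
    (by rintro _ ⟨r, hr, rfl⟩; exact hle V ⟨r ^ 2, h2 r hr, map_pow f r 2⟩)
    (fun hh => h3 (by rw [← hcom V]; exact map_le_iff_le_comap.mp hh))
  rwa [← relIndex_comap, ← relIndex_comap, hcom, hcom] at h'

/-- transport along an injective homomorphism -/
theorem Good.map {H : Type v} [Group H] [Finite H] {f : G →* H} (hf : Function.Injective f)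
    {V X : Subgroup G} (h : Good V X) : Good (V.map f) (X.map f) := by
  intro R hR h1 h2 h3
  set R' := R.comap f
  have hRe : R'.map f = R := map_comap_eq_self (hR.trans (f.range_eq_map ▸ map_mono le_top))
  have hcom : ∀ Y : Subgroup G, (centralizer ((Y.map f : Subgroup H) : Set H)).comap f = centralizer (Y : Set G) := by
    intro Y
    ext x
    rw [mem_comap, mem_centralizer_iff, mem_centralizer_iff]
    constructor
    · intro hx y hy
      exact hf (by rw [map_mul, map_mul]; exact hx (f y) ⟨y, hy, rfl⟩)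
    · rintro hx _ ⟨y, hy, rfl⟩
      rw [← map_mul, ← map_mul, hx y hy]
  have hRX : R' ≤ X := fun x hx => by
    obtain ⟨y, hy, he⟩ := hR hx
    rwa [← hf he]
  have h' := h R' hRX (by
      rw [← hcom]
      refine map_le_iff_le_comap.mp ?_
      rw [map_commutator, hRe]
      exact h1)
    (fun r hr => by
      rw [← hcom, mem_comap, map_pow]
      exact h2 _ hr)
    (fun hh => h3 (by rw [← hRe]; exact map_le_iff_le_comap.mpr (by rw [hcom]; exact hh)))
  rw [← hRe, ← relIndex_comap, ← relIndex_comap, hcom, hcom]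
  exact h'

end Cfsg.Agent.Thompson.FourFree
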