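import Mathlib
import Cfsg.Agent.Thompson.SfourGood
import Cfsg.Agent.Thompson.SfourFactor
import Cfsg.Agent.Thompson.PieceExists
import Cfsg.Agent.Thompson.PieceConj
import Cfsg.Agent.Thompson.Section
import Cfsg.Agent.Coprime.Centralize
import Cfsg.Agent.H61.CharP
import Cfsg.Agent.PGroups.Basic

/-!
Subgroups and elementary abelian sections of a constrained four-free group.
-/

set_option autoImplicit false
set_option linter.unusedSectionVars false
set_option linter.style.haveILetI false

namespace Cfsg.Agent.Thompson.FourFree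

open Subgroup
open Par (Inv3 El)
open Pc (Mod2 modRep GoodFac)

universe u v

variable {G : Type u} [Group G] {G' : Type v} [Group G']

theorem sfour_free_subgroup (h : ¬ Involves (Equiv.Perm (Fin 4)) G) (X : Subgroup G) :
    ¬ Involves (Equiv.Perm (Fin 4)) X := fun hs =>
  h (hasSection_iff.mp ((hasSection_iff.mpr hs).of_injective X.subtype_injective))

theorem sfour_free_image (h : ¬ Involves (Equiv.Perm (Fin 4)) G) {f : G →* G'}
    (hf : Function.Surjective f) : ¬ Involves (Equiv.Perm (Fin 4)) G' := fun hs =>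
  h (hasSection_iff.mp ((hasSection_iff.mpr hs).of_surjective hf))

/-- the action on a normal elementary abelian subgroup of a second group -/
def secRep (π : G →* G') (V : Subgroup G') [V.Normal] (hV : ∀ x ∈ V, x * x = 1) :
    G →* AddMonoid.End (Mod2 V hV) :=
  (modRep ⊤ V hV (by rw [normalizer_eq_top])).comp (topEquiv.symm.toMonoidHom.comp π)

theorem val_secRep (π : G →* G') (V : Subgroup G') [V.Normal] (hV : ∀ x ∈ V, x * x = 1) (g : G)
    (w : Mod2 V hV) : (secRep π V hV g w).val = π g * w.val * (π g)⁻¹ := rfl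

theorem mem_ker_secRep {π : G →* G'} {V : Subgroup G'} [V.Normal] {hV : ∀ x ∈ V, x * x = 1} {g : G} :
    g ∈ (secRep π V hV).ker ↔ π g ∈ centralizer (V : Set G') := by
  rw [MonoidHom.mem_ker, mem_centralizer_iff]
  constructor
  · intro h v hv
    have h1 := congrArg (fun e : AddMonoid.End (Mod2 V hV) => (e (Mod2.mk v hv)).val) h
    exact (mul_inv_eq_iff_eq_mul.mp (h1 : π g * v * (π g)⁻¹ = v)).symm
  · intro h
    refine AddMonoidHom.ext fun w => Mod2.val_injective ?_
    show π g * w.val * (π g)⁻¹ = w.val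
    rw [mul_inv_eq_iff_eq_mul]
    exact (h w.val w.val_mem).symm

/-- a representation with a given kernel on the quotient -/
theorem lift_injective {M : Type*} [Monoid M] {ρ : G →* M} {N : Subgroup G} [N.Normal] (h : ρ.ker = N) :
    Function.Injective (QuotientGroup.lift N ρ h.ge) := fun e e' he => by
  obtain ⟨e, rfl⟩ := QuotientGroup.mk'_surjective N e
  obtain ⟨e', rfl⟩ := QuotientGroup.mk'_surjective N e'
  refine QuotientGroup.eq.mpr (h ▸ ?_)
  rw [MonoidHom.mem_ker, map_mul, show ρ e' = ρ e from he.symm, ← map_mul, inv_mul_cancel, map_one]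

variable [Finite G] [Finite G']

/-- no involution of the induced group inverts an element of order three -/
theorem not_inv3_secRep (hfree : ¬ Involves (Equiv.Perm (Fin 4)) G') (π : G →* G') (V : Subgroup G')
    [V.Normal] (hV : ∀ x ∈ V, x * x = 1) (N : Subgroup G) [N.Normal] (hN : (secRep π V hV).ker = N) :
    ¬ Inv3 (G ⧸ N) := by
  intro h
  set ρ := QuotientGroup.lift N (secRep π V hV) hN.ge with hρ
  have hap : ∀ (e : G) (w : Mod2 V hV), (ρ e w).val = π e * w.val * (π e)⁻¹ := fun _ _ => rfl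
  obtain ⟨e, e', a, b, ha, h1, h2, h3, h4⟩ :=
    sixPair_of_inv3 (lift_injective hN) Mod2.add_self h
  obtain ⟨e, rfl⟩ := QuotientGroup.mk'_surjective N e
  obtain ⟨e', rfl⟩ := QuotientGroup.mk'_surjective N e'
  refine hfree (involves_of_pair V hV (fun v hv w hw => Pc.comm_of_sq hv hw hV) (x := π e) (y := π e')
    a.val_mem b.val_mem (fun h => ha (Mod2.val_injective h)) ?_ ?_ ?_ ?_)
  · rw [← hap]; exact congrArg Mod2.val h1
  · rw [← hap]; exact congrArg Mod2.val h2
  · rw [← hap]; exact congrArg Mod2.val h3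
  · rw [← hap]; exact congrArg Mod2.val h4

section Frattini

/-- the Frattini subgroup of the 2-core -/
def coreFrat (G : Type u) [Group G] : Subgroup G := (frattini (pCore 2 G)).map (pCore 2 G).subtype

instance coreFrat_normal : (coreFrat G).Normal := by
  haveI : (frattini (pCore 2 G)).Characteristic := frattini_characteristic
  haveI : (pCore 2 G).Normal := pCore_normal 2 G
  unfold coreFrat
  infer_instance

/-- the Frattini quotient of the 2-core -/
def coreTop (G : Type u) [Group G] [Finite G] : Subgroup (G ⧸ coreFrat G) :=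
  (pCore 2 G).map (QuotientGroup.mk' (coreFrat G))

instance coreTop_normal : (coreTop G).Normal :=
  (pCore_normal 2 G).map _ (QuotientGroup.mk'_surjective _)

theorem coreTop_el : ∀ x ∈ coreTop G, x * x = 1 := by
  haveI : Fact (Nat.Prime 2) := ⟨Nat.prime_two⟩
  rintro _ ⟨x, hx, rfl⟩
  rw [← map_mul, QuotientGroup.mk'_apply, QuotientGroup.eq_one_iff, ← sq]
  exact ⟨_, PGroups.pow_mem_frattini (Cores.pCore_isPGroup (p := 2)) (⟨x, hx⟩ : pCore 2 G), rfl⟩

theorem mk_mem_centralizer_coreTop {g : G}
    (h : ∀ k ∈ pCore 2 G, g * k * g⁻¹ * k⁻¹ ∈ coreFrat G) :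
    QuotientGroup.mk' (coreFrat G) g ∈ centralizer (coreTop G : Set (G ⧸ coreFrat G)) := by
  refine mem_centralizer_iff.mpr ?_
  rintro _ ⟨k, hk, rfl⟩
  rw [← map_mul, ← map_mul, QuotientGroup.mk'_apply, QuotientGroup.mk'_apply, QuotientGroup.eq]
  have h1 := (coreFrat_normal (G := G)).conj_mem _ (h k hk) (k * g)⁻¹
  rwa [show (k * g)⁻¹ * (g * k * g⁻¹ * k⁻¹) * (k * g)⁻¹⁻¹ = (k * g)⁻¹ * (g * k) by group] at h1

/-- the Frattini quotient of the 2-core of a constrained group is a faithful module modulo it -/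
theorem ker_coreTop (hc : centralizer (pCore 2 G : Set G) ≤ pCore 2 G) :
    (secRep (QuotientGroup.mk' (coreFrat G)) (coreTop G) coreTop_el).ker = pCore 2 G := by
  haveI : Fact (Nat.Prime 2) := ⟨Nat.prime_two⟩
  set Q := pCore 2 G
  haveI hQn : Q.Normal := pCore_normal 2 G
  set π := QuotientGroup.mk' (coreFrat G)
  refine le_antisymm ?_ fun g hg => mem_ker_secRep.mpr (mk_mem_centralizer_coreTop fun k hk => ?_)
  · refine Cores.le_pCore (H61.isPGroup_of_forall_coprime fun g hg hco => ?_)
    have hg' := mem_ker_secRep.mp hg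
    have htriv : ∀ a ∈ zpowers g, ∀ k ∈ Q, a * k * a⁻¹ * k⁻¹ ∈ (frattini Q).map Q.subtype := by
      intro a ha k hk
      have hac : π a ∈ centralizer (coreTop G : Set (G ⧸ coreFrat G)) := by
        have hle : zpowers g ≤ (centralizer (coreTop G : Set (G ⧸ coreFrat G))).comap π :=
          zpowers_le.mpr hg'
        exact hle ha
      refine (QuotientGroup.eq_one_iff _).mp ?_
      show π (a * k * a⁻¹ * k⁻¹) = 1
      rw [map_mul, map_mul, map_mul, map_inv, map_inv,
        ← mem_centralizer_iff.mp hac (π k) ⟨k, hk, rfl⟩, mul_inv_cancel_right, mul_inv_cancel]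
    have hcop : (Nat.card (zpowers g)).Coprime (Nat.card (frattini Q)) := by
      obtain ⟨n, hn⟩ := IsPGroup.iff_card.mp ((Cores.pCore_isPGroup (p := 2) (G := G)).to_subgroup (frattini Q))
      rw [hn, Nat.card_zpowers]
      exact Nat.Coprime.pow_right n hco
    have h1 := Coprime.le_centralizer_of_frattini (K := Q)
      (fun a _ => by rw [normalizer_eq_top]; exact mem_top a) hcop htriv (mem_zpowers g)
    exact H61.eq_one_of_mem_pGroup (Cores.pCore_isPGroup (p := 2)) (hc h1) hco
  · refine ⟨_, PGroups.commutator_le_frattini (Cores.pCore_isPGroup (p := 2))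
      (commutator_mem_commutator (mem_top (⟨g, hg⟩ : Q)) (mem_top (⟨k, hk⟩ : Q))), ?_⟩
    rfl

theorem not_inv3_coreTop (hc : centralizer (pCore 2 G : Set G) ≤ pCore 2 G)
    (hfree : ¬ Involves (Equiv.Perm (Fin 4)) G) : ¬ Inv3 (G ⧸ pCore 2 G) :=
  not_inv3_secRep (sfour_free_image hfree (QuotientGroup.mk'_surjective _)) _ (coreTop G) coreTop_el
    (pCore 2 G) (ker_coreTop hc)

end Frattini

/-- a subgroup supplementing a normal subgroup whose Sylow subgroup it normalises inherits the property of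
the factors -/
theorem goodFac_of_sup (hfac : GoodFac G) (S : Sylow 2 G) (K : Subgroup G) [K.Normal] (X : Subgroup G)
    (hgen : X ⊔ K = ⊤) (hle : (S : Subgroup G) ⊓ K ≤ X)
    (hn : X ≤ normalizer (((S : Subgroup G) ⊓ K : Subgroup G) : Set G)) : GoodFac X := by
  haveI : Fact (Nat.Prime 2) := ⟨Nat.prime_two⟩
  set φ : X →* G ⧸ K := (QuotientGroup.mk' K).comp X.subtype with hφ
  have hs : Function.Surjective φ := by
    intro y
    obtain ⟨g, rfl⟩ := QuotientGroup.mk'_surjective K y
    obtain ⟨x, hx, k, hk, rfl⟩ := mem_sup_of_normal_right.mp (hgen.ge (mem_top g))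
    exact ⟨⟨x, hx⟩, by simp [hφ, (QuotientGroup.eq_one_iff k).mpr hk]⟩
  refine Pc.goodFac_ext φ.ker ?_ ((hfac.of_surjective _ (QuotientGroup.mk'_surjective K)).of_surjective
    (QuotientGroup.quotientKerEquivOfSurjective φ hs).symm.toMonoidHom
    (QuotientGroup.quotientKerEquivOfSurjective φ hs).symm.surjective)
  set R := (((S : Subgroup G) ⊓ K).subgroupOf X).subgroupOf φ.ker with hR
  haveI : (((S : Subgroup G) ⊓ K).subgroupOf X).Normal := normal_subgroupOf_of_le_normalizer hn
  haveI hRn : R.Normal := inferInstance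
  refine Pc.goodFac_ext R (Pc.goodFac_of_isPGroup ?_) (Pc.goodFac_of_odd ?_)
  · exact ((S.isPGroup'.to_le (inf_le_left : (S : Subgroup G) ⊓ K ≤ S)).comap_subtype).comap_subtype
  · rw [← Subgroup.index_eq_card]
    obtain ⟨P, hP⟩ := exists_sylow_inf_normal S K
    have h1 := (H48.isSylowIn_map K P).ndvd
    rw [hP] at h1
    have hker : φ.ker.map X.subtype = X ⊓ K := by
      ext x
      constructor
      · rintro ⟨⟨y, hy⟩, hk, rfl⟩
        exact ⟨hy, (QuotientGroup.eq_one_iff y).mp hk⟩
      · exact fun ⟨hx, hk⟩ => ⟨⟨x, hx⟩, (QuotientGroup.eq_one_iff x).mpr hk, rfl⟩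
    intro hdvd
    refine h1 (hdvd.trans ?_)
    rw [hR, ← Subgroup.relIndex, ← relIndex_mul_relIndex ((S : Subgroup G) ⊓ K) (X ⊓ K) K
      (le_inf hle inf_le_right) inf_le_right, ← hker, ← relIndex_comap]
    exact Dvd.intro _ rfl

/-- subgroups normalised by the 2-core are constrained -/
theorem constrained_sub (hc : centralizer (pCore 2 G : Set G) ≤ pCore 2 G) (X : Subgroup G)
    (hn : pCore 2 G ≤ normalizer (X : Set G)) :
    centralizer (pCore 2 X : Set X) ≤ pCore 2 X :=
  haveI : Fact (Nat.Prime 2) := ⟨Nat.prime_two⟩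
  H61.charP_of_injective hc X.subtype X.subtype_injective (by rwa [range_subtype])

end Cfsg.Agent.Thompson.FourFree
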