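import Mathlib
import Cfsg.Agent.Thompson.SfourSub
import Cfsg.Agent.Thompson.PieceRatio
import Cfsg.Agent.H31.FFPlane

/-!
An elementary abelian subgroup normal in a Sylow subgroup satisfying the inequality of an E-group lies in
every elementary abelian subgroup of largest order and in the 2-core of a constrained four-free group, and
its normal closure is elementary abelian.
-/

set_option autoImplicit false
set_option linter.unusedSectionVars false
set_option linter.style.haveILetI false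

namespace Cfsg.Agent.Thompson.FourFree

open Subgroup
open H48 (cj)
open Par (Inv3 El)
open Pc (Mod2 GoodFac Piece lclosure comV)
open Off (fixV act_one end_ext)
open GenOff (lg card_eq_two_pow lg_sup_inf lg_mono)

universe u

variable {G : Type u} [Group G] [Finite G]

/-- the subgroups of largest order contain it and centralise it -/
theorem le_maxIn_of_good {P V A : Subgroup G} (hV : El V) (hVP : V ≤ P) (hA : A ∈ maxIn 2 P)
    (hgood : Good V A) : V ≤ A ∧ A ≤ centralizer (V : Set G) := by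
  have hAel : El A := fun a ha => by rw [← sq]; exact hA.2.1.2 a ha
  set A0 := A ⊓ centralizer (V : Set G) with hA0
  have hE : El (A0 ⊔ V) := Par.el_sup (hAel.mono inf_le_left) hV
    fun a ha v hv => (mem_centralizer_iff.mp ha.2 v hv).symm
  have hexp : IsAbExp 2 (A0 ⊔ V) := ⟨isMulCommutative_iff_forall.mpr fun c hc d hd => hE.comm hc hd,
    fun c hc => by rw [sq]; exact hE c hc⟩
  have hle := hA.2.2 _ (sup_le (inf_le_left.trans hA.1) hVP) hexp
  have hAC : A ≤ centralizer (V : Set G) := by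
    by_contra hne
    have h1 := hgood.of_el le_rfl hAel hne
    have h2 : Nat.card ↥(A0 ⊔ V) * Nat.card ↥(A0 ⊓ V) = Nat.card A0 * Nat.card V := by
      have h := H31.FF.card_sup_mul_card_inf (A := A0) (B := V) (le_trans (le_centralizer_iff.mp inf_le_right)
        (centralizer_le_normalizer _))
      exact h
    have h3 : Nat.card ↥(A0 ⊓ V) ≤ Nat.card ↥(V ⊓ centralizer (A : Set G)) :=
      Subgroup.card_le_of_le (le_inf inf_le_right fun x hx => mem_centralizer_iff.mpr fun a ha =>
        hAel.comm ha hx.1.1)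
    have h4 := card_inf_mul_relIndex (centralizer (A : Set G)) V
    have h5 := card_inf_mul_relIndex (centralizer (V : Set G)) A
    rw [← hA0] at h5
    set d := (centralizer (A : Set G)).relIndex V
    set r := (centralizer (V : Set G)).relIndex A
    have h6 : Nat.card A0 * Nat.card ↥(V ⊓ centralizer (A : Set G)) * d ≤
        Nat.card A0 * Nat.card ↥(V ⊓ centralizer (A : Set G)) * r := by
      calc _ = Nat.card A0 * Nat.card V := by rw [mul_assoc, h4]
        _ = Nat.card ↥(A0 ⊔ V) * Nat.card ↥(A0 ⊓ V) := h2.symm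
        _ ≤ Nat.card A * Nat.card ↥(V ⊓ centralizer (A : Set G)) := Nat.mul_le_mul hle h3
        _ = _ := by rw [← h5]; ring
    have h7 : d ≤ r := Nat.le_of_mul_le_mul_left h6 (Nat.mul_pos Nat.card_pos Nat.card_pos)
    have h8 : d ^ 2 ≤ r ^ 2 := Nat.pow_le_pow_left h7 2
    have h9 : r ^ 2 ≤ r ^ 3 := Nat.pow_le_pow_right (relIndex_pos _ _) (by norm_num)
    exact absurd h1 (by omega)
  refine ⟨?_, hAC⟩
  rw [inf_eq_left.mpr hAC] at hle
  exact sup_eq_left.mp (eq_of_le_of_card_ge le_sup_left hle).symm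

/-- the commutators with a subgroup in the Frattini quotient of the 2-core -/
theorem comV_bound (hc : centralizer (pCore 2 G : Set G) ≤ pCore 2 G) {U X V' : Subgroup G}
    (hUQ : pCore 2 G ≤ normalizer (U : Set G)) (hX : U ⊓ pCore 2 G ≤ X) {r : ℕ}
    (hr : (centralizer (V' : Set G)).relIndex X = 2 ^ r) :
    lg (comV (QuotientGroup.lift (pCore 2 G) _ (ker_coreTop hc).ge) (U.map (QuotientGroup.mk' (pCore 2 G)))) ≤
      lg (comV (QuotientGroup.lift (pCore 2 G) _ (ker_coreTop hc).ge) (U.map (QuotientGroup.mk' (pCore 2 G))) ⊓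
        fixV (QuotientGroup.lift (pCore 2 G) _ (ker_coreTop hc).ge)
          (V'.map (QuotientGroup.mk' (pCore 2 G)))) + r := by
  haveI : Fact (Nat.Prime 2) := ⟨Nat.prime_two⟩
  set Q := pCore 2 G with hQ
  set π := QuotientGroup.mk' Q with hπ
  set ρ := QuotientGroup.lift Q _ (ker_coreTop hc).ge with hρ
  set φ := QuotientGroup.mk' (coreFrat G) with hφ
  have hW : ∀ w : Mod2 (coreTop G) coreTop_el, w + w = 0 := Mod2.add_self
  set T := U ⊓ Q with hT
  let θ : T →* Multiplicative (Mod2 (coreTop G) coreTop_el) :=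
    { toFun := fun t => Multiplicative.ofAdd (Mod2.mk (φ t.1) ⟨t.1, t.2.2, rfl⟩)
      map_one' := congrArg Multiplicative.ofAdd (Mod2.val_injective (map_one φ))
      map_mul' := fun a b => congrArg Multiplicative.ofAdd (Mod2.val_injective (map_mul φ _ _)) }
  let Rg : AddSubgroup (Mod2 (coreTop G) coreTop_el) :=
    { carrier := {w | ∃ t ∈ T, w.val = φ t}
      zero_mem' := ⟨1, one_mem _, (map_one φ).symm⟩
      add_mem' := fun {a b} ha hb => by
        obtain ⟨t, ht, h1⟩ := ha
        obtain ⟨t', ht', h2⟩ := hb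
        exact ⟨t * t', mul_mem ht ht', by rw [Mod2.val_add, h1, h2, map_mul]⟩
      neg_mem' := fun {a} ha => by
        obtain ⟨t, ht, h1⟩ := ha
        exact ⟨t⁻¹, inv_mem ht, by rw [Mod2.val_neg, h1, map_inv]⟩ }
  set D := comV ρ (U.map π) with hD
  set F := fixV ρ (V'.map π) with hF
  have hDR : D ≤ Rg := by
    refine (AddSubgroup.closure_le _).mpr ?_
    rintro v ⟨_, ⟨m, hm, rfl⟩, w, rfl⟩
    obtain ⟨k, hk, hkw⟩ : ∃ k ∈ Q, φ k = w.val := w.val_mem
    refine ⟨m * k * m⁻¹ * k⁻¹, Subgroup.mem_inf.mpr ⟨?_, ?_⟩, ?_⟩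
    · have h1 := (mem_normalizer_iff.mp (hUQ hk) m⁻¹).mp (U.inv_mem hm)
      rw [show m * k * m⁻¹ * k⁻¹ = m * (k * m⁻¹ * k⁻¹) by group]
      exact U.mul_mem hm h1
    · exact Q.mul_mem ((pCore_normal 2 G).conj_mem k hk m) (Q.inv_mem hk)
    · rw [Mod2.val_sub]
      show φ m * w.val * (φ m)⁻¹ * w.val⁻¹ = _
      rw [← hkw, map_mul, map_mul, map_mul, map_inv, map_inv]
  -- the index of the fixed points in the commutator is at most that in the image of `T`
  have h1 : lg D + lg (Rg ⊓ F) ≤ lg Rg + lg (D ⊓ F) := by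
    have e1 := lg_sup_inf hW D (Rg ⊓ F)
    have e2 := lg_mono hW (sup_le hDR (inf_le_left : Rg ⊓ F ≤ Rg))
    rw [show D ⊓ (Rg ⊓ F) = D ⊓ F by rw [← inf_assoc, inf_eq_left.mpr hDR]] at e1
    omega
  have h2 : lg Rg ≤ lg (Rg ⊓ F) + r := by
    set S0 := (centralizer (V' : Set G)).subgroupOf T with hS0
    have hi : S0.index ≤ 2 ^ r := by
      refine le_trans (le_of_eq ?_) (hr ▸ relIndex_le_of_le_right hX (relIndex_pos _ X).ne')
      rfl
    have h3 := Subgroup.index_map_dvd (H := S0) (f := θ.rangeRestrict) θ.rangeRestrict_surjective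
    have h4 := Subgroup.card_mul_index (S0.map θ.rangeRestrict)
    have h5 : Nat.card θ.range = Nat.card Rg := Nat.card_congr
      { toFun := fun z => ⟨Multiplicative.toAdd z.1, by
          obtain ⟨t, ht⟩ := z.2
          exact ⟨t.1, t.2, by rw [← ht]; rfl⟩⟩
        invFun := fun w => ⟨Multiplicative.ofAdd w.1, by
          obtain ⟨t, ht, he⟩ := w.2
          exact ⟨⟨t, ht⟩, congrArg Multiplicative.ofAdd (Mod2.val_injective he.symm)⟩⟩
        left_inv := fun z => rfl
        right_inv := fun w => rfl }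
    have h6 : Nat.card (S0.map θ.rangeRestrict) ≤ Nat.card (Rg ⊓ F : AddSubgroup _) := by
      refine Nat.card_le_card_of_injective (fun z => ⟨Multiplicative.toAdd z.1.1, ?_, ?_⟩) fun a b h =>
        Subtype.ext (Subtype.ext (by
          have h' := congrArg Subtype.val h
          exact h'))
      · obtain ⟨t, -, ht⟩ := z.2
        exact ⟨t.1, t.2, by rw [← ht]; rfl⟩
      · obtain ⟨t, htS, ht⟩ := z.2
        rw [← ht]
        rintro _ ⟨v, hv, rfl⟩
        refine Mod2.val_injective ?_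
        show φ v * φ t.1 * (φ v)⁻¹ = φ t.1
        rw [← map_mul, (show v * t.1 = t.1 * v from mem_centralizer_iff.mp htS v hv), map_mul, mul_inv_cancel_right]
    have h7 : Nat.card Rg ≤ Nat.card (Rg ⊓ F : AddSubgroup _) * 2 ^ r := by
      rw [← h5, ← h4]
      exact Nat.mul_le_mul h6 ((Nat.le_of_dvd (Nat.pos_of_ne_zero Subgroup.index_ne_zero_of_finite) h3).trans hi)
    rw [card_eq_two_pow hW, card_eq_two_pow hW, ← pow_add] at h7
    exact (Nat.pow_le_pow_iff_right (by norm_num)).mp h7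
  omega

/-- it lies in the 2-core -/
theorem le_pCore_of_good (hc : centralizer (pCore 2 G : Set G) ≤ pCore 2 G)
    (hfree : ¬ Involves (Equiv.Perm (Fin 4)) G) (hfac : GoodFac G) (S : Sylow 2 G) {V : Subgroup G}
    (hV : El V) (hVS : V ≤ (S : Subgroup G)) (hn : (S : Subgroup G) ≤ normalizer (V : Set G))
    (hgood : Good V (S : Subgroup G)) : V ≤ pCore 2 G := by
  classical
  haveI : Fact (Nat.Prime 2) := ⟨Nat.prime_two⟩
  set Q := pCore 2 G with hQ
  have hQn : Q.Normal := pCore_normal 2 G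
  have hQS : Q ≤ (S : Subgroup G) := Cores.pCore_le_sylow S
  set π := QuotientGroup.mk' Q with hπ
  set A := V.map π with hA
  by_contra hne
  have hAne : A ≠ ⊥ := fun h => hne ((Subgroup.map_eq_bot_iff V).mp h |>.trans_eq (QuotientGroup.ker_mk' Q))
  have hAel : El A := hV.map π
  obtain ⟨P⟩ := Pc.exists_piece Cores.pCore_quotient_pCore (not_inv3_coreTop hc hfree)
    (hfac.of_surjective π (QuotientGroup.mk'_surjective Q)) hAel hAne
  set ρ := QuotientGroup.lift Q _ (ker_coreTop hc).ge with hρdef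
  have hρ : Function.Injective ρ := lift_injective (ker_coreTop hc)
  set φ := QuotientGroup.mk' (coreFrat G) with hφ
  set R := P.B.comap π with hR
  have hQR : Q ≤ R := fun x hx => mem_comap.mpr (by
    rw [hπ, QuotientGroup.mk'_apply, (QuotientGroup.eq_one_iff x).mpr hx]; exact one_mem _)
  have hRS : R ≤ (S : Subgroup G) := by
    intro x hx
    obtain ⟨v, hv, hvx⟩ := P.hB hx
    have h1 : v⁻¹ * x ∈ Q := QuotientGroup.eq.mp (by simpa [hπ] using hvx)
    have h2 := (S : Subgroup G).mul_mem (hVS hv) (hQS h1)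
    rwa [mul_inv_cancel_left] at h2
  obtain ⟨n, hng⟩ := QuotientGroup.mk'_surjective Q P.g
  have hnR : cj n R = R := H48.cj_eq_self_of_le (H48.cj_le.mpr fun x hx => mem_comap.mpr (by
    rw [map_mul, map_mul, map_inv, show π n = P.g from hng, P.comm _ hx, mul_inv_cancel_right]
    exact hx))
  set Vn := cj n V with hVn
  have hAg : Vn.map π = cj P.g A := by
    show (V.map (MulAut.conj n).toMonoidHom).map π = (V.map π).map (MulAut.conj P.g).toMonoidHom
    rw [map_map, map_map, ← hng]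
    congr 1
  set R' := R ⊓ V with hR'
  set R2 := cj n R' with hR2
  have hR2R : R2 ≤ R := (H48.cj_mono inf_le_left).trans hnR.le
  have hR2V : R2 ≤ Vn := H48.cj_mono inf_le_right
  have hidx : R.relIndex V = 2 ^ P.c := by
    rw [hR, relIndex_comap]
    have h1 := Pc.card_eq_mul hAel P.hB P.hC P.cover P.disj
    rw [P.card] at h1
    have h2 := card_inf_mul_relIndex P.B (V.map π)
    rw [inf_eq_right.mpr P.hB, ← hA, h1] at h2
    exact Nat.eq_of_mul_eq_mul_left Nat.card_pos h2
  have hp2 : ∀ {Y : Subgroup G}, El Y → IsPGroup 2 Y := fun h => h.isPGroup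
  have hR'el : El R' := hV.mono inf_le_right
  obtain ⟨r, hr⟩ := relIndex_two_pow (hp2 (hR'el.map (MulAut.conj n).toMonoidHom)) (centralizer (V : Set G))
  obtain ⟨r', hr'⟩ := relIndex_two_pow (hp2 hR'el) (centralizer (Vn : Set G))
  obtain ⟨d, hd⟩ := relIndex_two_pow (hp2 hV) (centralizer (R2 : Set G))
  obtain ⟨d', hd'⟩ := relIndex_two_pow (hp2 (hV.map (MulAut.conj n).toMonoidHom)) (centralizer (R' : Set G))
  have hdle : d ≤ P.c + r' := by
    have h1 : (centralizer (R2 : Set G)).relIndex V ≤ (centralizer (Vn : Set G) ⊓ R').relIndex V :=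
      relIndex_le_of_le_left (inf_le_left.trans (centralizer_le (SetLike.coe_subset_coe.mpr hR2V)))
        (relIndex_pos _ V).ne'
    have h2 := relIndex_mul_relIndex (centralizer (Vn : Set G) ⊓ R') R' V inf_le_right inf_le_right
    rw [inf_relIndex_right, hr', hR', inf_relIndex_right, hidx, ← pow_add] at h2
    rw [← h2, hd, add_comm] at h1
    exact (Nat.pow_le_pow_iff_right (by norm_num)).mp h1
  have hdle' : d' ≤ P.c + r := by
    have h1 : (centralizer (R' : Set G)).relIndex Vn ≤ (centralizer (V : Set G) ⊓ R2).relIndex Vn :=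
      relIndex_le_of_le_left (inf_le_left.trans (centralizer_le (SetLike.coe_subset_coe.mpr inf_le_right)))
        (relIndex_pos _ Vn).ne'
    have h2 := relIndex_mul_relIndex (centralizer (V : Set G) ⊓ R2) R2 Vn inf_le_right hR2V
    rw [inf_relIndex_right, show (centralizer (V : Set G)).relIndex R2 = 2 ^ r from hr, hR2, hVn, H48.cj,
      H48.cj, relIndex_map_map_of_injective _ _ (MulAut.conj n).injective, hR', inf_relIndex_right, hidx,
      ← pow_add] at h2
    rw [hR2, hVn, H48.cj, H48.cj] at h1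
    rw [← h2, add_comm] at h1
    exact (Nat.pow_le_pow_iff_right (a := 2) (by norm_num)).mp (hd'.symm.le.trans h1)
  have hb : 0 < r → 3 * r < 2 * d := hgood.bound (hR2R.trans hRS) (hR'el.map _) hr hd
  have hb' : 0 < r' → 3 * r' < 2 * d' := (hgood.conj n).bound
    (inf_le_left.trans (hnR.ge.trans (H48.cj_mono hRS))) hR'el hr' hd'
  -- the quadratic bound
  have hW : ∀ w : Mod2 (coreTop G) coreTop_el, w + w = 0 := Mod2.add_self
  have hq : ∀ a ∈ A, ∀ b ∈ A, ∀ w, ρ a (ρ b w - w) = ρ b w - w := by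
    rintro _ ⟨v, hv, rfl⟩ _ ⟨m, hm, rfl⟩ w
    obtain ⟨k, hk, hkw⟩ : ∃ k ∈ Q, φ k = w.val := w.val_mem
    refine Mod2.val_injective ?_
    show φ v * (ρ (π m) w - w).val * (φ v)⁻¹ = (ρ (π m) w - w).val
    rw [Mod2.val_sub]
    show φ v * (φ m * w.val * (φ m)⁻¹ * w.val⁻¹) * (φ v)⁻¹ = φ m * w.val * (φ m)⁻¹ * w.val⁻¹
    have h1 : m * k * m⁻¹ * k⁻¹ ∈ V := by
      rw [show m * k * m⁻¹ * k⁻¹ = m * (k * m⁻¹ * k⁻¹) by group]
      exact V.mul_mem hm ((mem_normalizer_iff.mp (hn (hQS hk)) m⁻¹).mp (V.inv_mem hm))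
    rw [← hkw, mul_inv_eq_iff_eq_mul]
    simp only [← map_mul, ← map_inv]
    rw [hV.comm hv h1]
  obtain ⟨x, hx, hx1⟩ : ∃ x ∈ P.O, x ≠ 1 := by
    by_contra h
    push Not at h
    exact P.O_ne_bot ((eq_bot_iff_forall _).mpr h)
  obtain ⟨w, hw⟩ : ∃ w, ρ x w ≠ w := by
    by_contra h
    push Not at h
    exact hx1 (end_ext hρ fun w => by rw [h, act_one])
  have hxO : x ∈ lclosure P.l (A ⊔ cj P.g A) :=
    Pc.lclosure_mono (sup_le_sup P.hC (H48.cj_mono P.hC)) hx
  have h3 := Pc.quad_bound hW P.gap hq hxO hw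
  have e1 := comV_bound hc (U := Vn) (X := R2) (V' := V)
    (fun q hq => by
      rw [hVn, ← H48.cj_normalizer]
      exact H48.cj_mono hn (H48.mem_cj.mpr (hQS (by simpa using hQn.conj_mem q hq n⁻¹))))
    (fun t ht => by
      refine H48.mem_cj.mpr (Subgroup.mem_inf.mpr ⟨hQR ?_, H48.mem_cj.mp ht.1⟩)
      simpa using hQn.conj_mem t ht.2 n⁻¹) hr
  have e2 := comV_bound hc (U := V) (X := R') (V' := Vn) (hQS.trans hn)
    (fun t ht => Subgroup.mem_inf.mpr ⟨hQR ht.2, ht.1⟩) hr'
  rw [hAg] at e1 e2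
  rw [← hA] at e1 e2
  rw [← hρdef] at e1 e2
  have hcpos := P.cpos
  rcases Nat.eq_zero_or_pos r with h0 | h0 <;> rcases Nat.eq_zero_or_pos r' with h0' | h0'
  · omega
  · have := hb' h0'; omega
  · have := hb h0; omega
  · have := hb h0; have := hb' h0'; omega

/-- the conjugates commute -/
theorem cj_le_centralizer_of_good (S : Sylow 2 G) {V : Subgroup G} (hV : El V) (hVQ : V ≤ pCore 2 G)
    (hgood : Good V (S : Subgroup G)) (g : G) : cj g V ≤ centralizer (V : Set G) := by
  haveI : Fact (Nat.Prime 2) := ⟨Nat.prime_two⟩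
  have hQn : (pCore 2 G).Normal := pCore_normal 2 G
  have hQS : pCore 2 G ≤ (S : Subgroup G) := Cores.pCore_le_sylow S
  have hgQ : cj g V ≤ pCore 2 G := (H48.cj_mono hVQ).trans (H48.cj_le.mpr fun x hx => hQn.conj_mem x hx g)
  have hVg : V ≤ cj g (S : Subgroup G) := fun v hv => H48.mem_cj.mpr
    (hQS (by simpa using hQn.conj_mem v (hVQ hv) g⁻¹))
  obtain ⟨r, hr⟩ := relIndex_two_pow (hV.map (MulAut.conj g).toMonoidHom).isPGroup (centralizer (V : Set G))
  obtain ⟨r', hr'⟩ := relIndex_two_pow hV.isPGroup (centralizer ((cj g V : Subgroup G) : Set G))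
  have hb : 0 < r → 3 * r < 2 * r' := hgood.bound (hgQ.trans hQS) (hV.map _) hr hr'
  have hb' : 0 < r' → 3 * r' < 2 * r := (hgood.conj g).bound hVg hV hr' hr
  refine relIndex_eq_one.mp ?_
  show (centralizer (V : Set G)).relIndex (V.map (MulAut.conj g).toMonoidHom) = 1
  rcases Nat.eq_zero_or_pos r with h0 | h0
  · rw [hr, h0, pow_zero]
  · have := hb h0
    rcases Nat.eq_zero_or_pos r' with h0' | h0'
    · omega
    · have := hb' h0'; omega

/-- the normal closure -/
theorem normalClosure_good (S : Sylow 2 G) {V : Subgroup G} (hV : El V) (hVQ : V ≤ pCore 2 G)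
    (hgood : Good V (S : Subgroup G)) :
    El (normalClosure (V : Set G)) ∧ Good (normalClosure (V : Set G)) (pCore 2 G) := by
  have hQn : (pCore 2 G).Normal := pCore_normal 2 G
  have hQS : pCore 2 G ≤ (S : Subgroup G) := Cores.pCore_le_sylow S
  set Y := sSup (Set.range fun g => cj g V) with hY
  haveI hYn : Y.Normal := by
    refine ⟨fun x hx g => ?_⟩
    have hle : Y ≤ Y.comap (MulAut.conj g).toMonoidHom := sSup_le (by
      rintro _ ⟨h, rfl⟩
      rw [← Subgroup.map_le_iff_le_comap]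
      exact le_sSup ⟨g * h, (H48.cj_cj g h V).symm⟩)
    exact hle hx
  have hYeq : normalClosure (V : Set G) = Y := by
    refine le_antisymm (normalClosure_le_normal fun v hv => ?_) (sSup_le ?_)
    · exact (le_sSup (⟨1, H48.cj_one V⟩ : V ∈ Set.range fun g => cj g V) : V ≤ Y) hv
    · rintro _ ⟨g, rfl⟩
      exact H48.cj_le.mpr fun v hv => normalClosure_normal.conj_mem v (subset_normalClosure hv) g
  rw [hYeq]
  have hcc : ∀ g h, cj g V ≤ centralizer ((cj h V : Subgroup G) : Set G) := by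
    intro g h x hx
    refine mem_centralizer_iff.mpr fun y hy => ?_
    have h1 : h⁻¹ * x * h ∈ cj (h⁻¹ * g) V := by
      rw [← H48.cj_cj, H48.mem_cj]
      simpa [mul_assoc] using hx
    have h2 := mem_centralizer_iff.mp (cj_le_centralizer_of_good S hV hVQ hgood (h⁻¹ * g) h1) _
      (H48.mem_cj.mp hy)
    calc y * x = h * (h⁻¹ * y * h * (h⁻¹ * x * h)) * h⁻¹ := by group
      _ = h * (h⁻¹ * x * h * (h⁻¹ * y * h)) * h⁻¹ := by rw [h2]
      _ = x * y := by group
  have hYY : Y ≤ centralizer (Y : Set G) := by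
    refine le_centralizer_iff.mpr (sSup_le ?_)
    rintro _ ⟨g, rfl⟩
    refine le_centralizer_iff.mpr (sSup_le ?_)
    rintro _ ⟨h, rfl⟩
    exact hcc h g
  refine ⟨?_, good_sSup ?_⟩
  · intro y hy
    let T : Subgroup G :=
      { carrier := {x | x ∈ Y ∧ x * x = 1}
        one_mem' := ⟨one_mem _, one_mul 1⟩
        mul_mem' := fun {a b} ha hb => ⟨mul_mem ha.1 hb.1, by
          have e := mem_centralizer_iff.mp (hYY ha.1) b hb.1
          calc a * b * (a * b) = a * (b * a) * b := by group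
            _ = a * a * (b * b) := by rw [e]; group
            _ = 1 := by rw [ha.2, hb.2, one_mul]⟩
        inv_mem' := fun {a} ha => ⟨inv_mem ha.1, by rw [← mul_inv_rev, ha.2, inv_one]⟩ }
    have hle : Y ≤ T := by
      refine sSup_le ?_
      rintro _ ⟨g, rfl⟩ x hx
      exact ⟨(le_sSup (⟨g, rfl⟩ : cj g V ∈ Set.range fun g => cj g V) : cj g V ≤ Y) hx, hV.map _ x hx⟩
    exact (hle hy).2
  · rintro _ ⟨g, rfl⟩
    refine (hgood.conj g).mono fun q hq => H48.mem_cj.mpr (hQS ?_)
    simpa using hQn.conj_mem q hq g⁻¹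

end Cfsg.Agent.Thompson.FourFree
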