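import Mathlib
import Cfsg.Agent.Thompson.SfourVQ
import Cfsg.Agent.Thompson.SfourLift

/-!
No piece of the image of an elementary abelian subgroup of largest order lies outside the image of the
centraliser of a normal subgroup of a Sylow subgroup with the inequality of an E-group.
-/

set_option autoImplicit false
set_option linter.unusedSectionVars false
set_option linter.style.haveILetI false

namespace Cfsg.Agent.Thompson.FourFree

open Subgroup
open H48 (cj)
open Par (El)
open Pc (Mod2 modRep Piece lclosure)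
open Off (fixV)
open GenOff (lg card_eq_two_pow)

universe u

variable {G : Type u} [Group G]

theorem ker_modRep (N M : Subgroup G) (hM : ∀ x ∈ M, x * x = 1) (hN : N ≤ normalizer (M : Set G)) :
    (modRep N M hM hN).ker = (centralizer (M : Set G)).subgroupOf N := by
  ext g
  rw [MonoidHom.mem_ker, mem_subgroupOf, mem_centralizer_iff]
  constructor
  · intro h v hv
    have h1 := congrArg (fun e : AddMonoid.End (Mod2 M hM) => (e (Mod2.mk v hv)).val) h
    exact (mul_inv_eq_iff_eq_mul.mp (h1 : (g : G) * v * (g : G)⁻¹ = v)).symm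
  · intro h
    refine AddMonoidHom.ext fun w => Mod2.val_injective ?_
    show (g : G) * w.val * (g : G)⁻¹ = w.val
    rw [mul_inv_eq_iff_eq_mul]
    exact (h w.val w.val_mem).symm

theorem card_fixV_modRep (N M : Subgroup G) (hM : ∀ x ∈ M, x * x = 1) (hN : N ≤ normalizer (M : Set G))
    (R : Subgroup N) : Nat.card (fixV (modRep N M hM hN) R) =
      Nat.card ↥(M ⊓ centralizer ((R.map N.subtype : Subgroup G) : Set G)) := by
  refine Nat.card_congr
    { toFun := fun w => ⟨w.1.val, w.1.val_mem, mem_centralizer_iff.mpr ?_⟩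
      invFun := fun x => ⟨Mod2.mk x.1 x.2.1, fun g hg => Mod2.val_injective ?_⟩
      left_inv := fun w => rfl
      right_inv := fun x => rfl }
  · rintro _ ⟨g, hg, rfl⟩
    exact mul_inv_eq_iff_eq_mul.mp (congrArg Mod2.val (w.2 g hg) : (g : G) * w.1.val * (g : G)⁻¹ = w.1.val)
  · show (g : G) * x.1 * (g : G)⁻¹ = x.1
    rw [mul_inv_eq_iff_eq_mul]
    exact mem_centralizer_iff.mp x.2.2 g.1 ⟨g, hg, rfl⟩

variable [Finite G]

/-- no piece outside the image of the centraliser -/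
theorem piece_le_of_good {H : Type u} [Group H] [Finite H] (f : G →* H) (hfs : Function.Surjective f) (S : Sylow 2 G)
    {V Y : Subgroup G} [Y.Normal] (hY : El Y) (hVY : V ≤ Y)
    (hYS : Y ≤ (S : Subgroup G)) (hSV : (S : Subgroup G) ≤ normalizer (V : Set G))
    (hgood : Good V (S : Subgroup G)) (hCL : centralizer (Y : Set G) ≤ f.ker)
    (hL : ∀ x ∈ f.ker, ∃ c ∈ centralizer (Y : Set G), ∃ q ∈ (S : Subgroup G) ⊓ f.ker, x = c * q)
    {A : Subgroup G} (hA : A ∈ maxIn 2 (S : Subgroup G)) (hAV : A ≤ centralizer (V : Set G))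
    (P : Piece (A.map f)) :
    P.O ≤ (centralizer (V : Set G)).map f := by
  classical
  by_contra hPO
  haveI : Fact (Nat.Prime 2) := ⟨Nat.prime_two⟩
  set L := f.ker with hLdef
  set C' := centralizer (Y : Set G) with hC'
  haveI : C'.Normal := inferInstance
  have hAel : El A := fun a ha => by rw [← sq]; exact hA.2.1.2 a ha
  set KB := P.B.comap f with hKB
  set RB := (S : Subgroup G) ⊓ KB with hRB
  set A0 := A ⊓ KB with hA0
  have hLKB : L ≤ KB := fun x hx => mem_comap.mpr (by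
    rw [MonoidHom.mem_ker.mp hx]; exact one_mem _)
  have hKBdec : ∀ x ∈ KB, ∃ c ∈ C', ∃ r ∈ RB, x = c * r := by
    intro x hx
    obtain ⟨a, ha, hax⟩ := P.hB hx
    have hl : x * a⁻¹ ∈ L := by
      rw [hLdef, MonoidHom.mem_ker, map_mul, map_inv, hax, mul_inv_cancel]
    obtain ⟨c, hc, q, hq, he⟩ := hL _ hl
    have haK : a ∈ KB := mem_comap.mpr (hax ▸ hx)
    refine ⟨c, hc, q * a, Subgroup.mem_inf.mpr ⟨(S : Subgroup G).mul_mem hq.1 (hA.1 ha),
      KB.mul_mem (hLKB hq.2) haK⟩, ?_⟩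
    rw [← mul_assoc, ← he, inv_mul_cancel_right]
  have hfKB : ∀ y : G, (∀ b ∈ P.B, f y * b = b * f y) → y ∈ normalizer (KB : Set G) := fun y hy =>
    H48.mem_normalizer_of_cj_eq (H48.cj_eq_self_of_le (H48.cj_le.mpr fun x hx => mem_comap.mpr (by
      rw [map_mul, map_mul, map_inv, hy _ hx, mul_inv_cancel_right]; exact hx)))
  have hAelf : El (A.map f) := hAel.map f
  have hAKB : A ≤ normalizer (KB : Set G) := fun a ha => hfKB a fun b hb =>
    hAelf.comm ⟨a, ha, rfl⟩ (P.hB hb)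
  have hART : A ≤ normalizer (RB : Set G) := fun a ha => H48.mem_normalizer_of_cj_eq (by
    rw [hRB, H48.cj_inf, H48.cj_eq_of_mem_normalizer ((le_normalizer (H := (S : Subgroup G))) (hA.1 ha)),
      H48.cj_eq_of_mem_normalizer (hAKB ha)])
  -- a lift normalising `RB`
  have hRBp : IsPGroup 2 RB := S.isPGroup'.to_le inf_le_left
  have hCKB : C' ≤ KB := hCL.trans hLKB
  have hsylow : H48.IsSylowIn 2 RB KB := by
    refine ⟨inf_le_right, hRBp, ?_⟩
    obtain ⟨T, hT⟩ := exists_sylow_inf_normal S C'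
    have h1 := (H48.isSylowIn_map C' T).ndvd
    rw [hT] at h1
    have hsup : RB ⊔ C' = KB := le_antisymm (sup_le inf_le_right hCKB) fun x hx => by
      obtain ⟨c, hc, r, hr, rfl⟩ := hKBdec x hx
      exact mul_mem (mem_sup_right hc) (mem_sup_left hr)
    have h2 := Cores.card_sup_mul_card_inf RB C'
    rw [hsup, show RB ⊓ C' = (S : Subgroup G) ⊓ C' by rw [hRB, inf_assoc, inf_eq_right.mpr hCKB]] at h2
    have h3 := card_inf_mul_relIndex RB KB
    rw [inf_eq_right.mpr (inf_le_right : RB ≤ KB)] at h3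
    have h4 := card_inf_mul_relIndex ((S : Subgroup G) ⊓ C') C'
    rw [inf_eq_right.mpr (inf_le_right : (S : Subgroup G) ⊓ C' ≤ C')] at h4
    have h5 : RB.relIndex KB = ((S : Subgroup G) ⊓ C').relIndex C' := by
      have h6 : Nat.card RB * Nat.card ↥((S : Subgroup G) ⊓ C') * RB.relIndex KB =
          Nat.card RB * Nat.card ↥((S : Subgroup G) ⊓ C') * ((S : Subgroup G) ⊓ C').relIndex C' := by
        rw [mul_assoc _ _ (((S : Subgroup G) ⊓ C').relIndex C'), h4, mul_right_comm, h3, h2]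
      exact Nat.eq_of_mul_eq_mul_left (Nat.mul_pos Nat.card_pos Nat.card_pos) h6
    rwa [h5]
  obtain ⟨g1, hg1⟩ := hfs P.g
  have hg1K : g1 ∈ normalizer (KB : Set G) := hfKB g1 fun b hb => by rw [hg1]; exact P.comm b hb
  obtain ⟨x, hx, hxle⟩ := hsylow.exists_cj_le (H48.isPGroup_cj (g := g1) hRBp)
    ((H48.cj_mono inf_le_right).trans (H48.cj_eq_of_mem_normalizer hg1K).le)
  have hg2 : ∃ g : G, g ∈ normalizer (RB : Set G) ∧ f g = P.g := by
    have hxe : cj x (cj g1 RB) = RB :=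
      H48.eq_of_le_of_card_le hxle (by rw [H48.card_cj, H48.card_cj])
    obtain ⟨c, hc, r, hr, he⟩ := hKBdec x hx
    refine ⟨r⁻¹ * c * r * g1, H48.mem_normalizer_of_cj_eq ?_, ?_⟩
    · rw [show r⁻¹ * c * r * g1 = r⁻¹ * (x * g1) by rw [he]; group, ← H48.cj_cj, ← H48.cj_cj x, hxe]
      exact H48.cj_eq_of_mem_normalizer (le_normalizer (RB.inv_mem hr))
    · have h1 : r⁻¹ * c * r ∈ L := hCL (by simpa using (inferInstance : C'.Normal).conj_mem c hc r⁻¹)
      rw [map_mul, hg1, show f (r⁻¹ * c * r) = 1 from MonoidHom.mem_ker.mp h1, one_mul]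
  obtain ⟨g, ⟨hgR, hgf⟩, hgmin⟩ := Set.exists_min_image {g | g ∈ normalizer (RB : Set G) ∧ f g = P.g}
    (fun g => Nat.card ↥(A ⊔ cj g A)) (Set.toFinite _) hg2
  have hXR : A ⊔ cj g A ≤ normalizer (RB : Set G) := sup_le hART (H48.cj_le.mpr fun a ha =>
    mul_mem (mul_mem hgR (hART ha)) (inv_mem hgR))
  have hXf : (A ⊔ cj g A).map f = A.map f ⊔ cj P.g (A.map f) := by
    rw [Subgroup.map_sup]
    congr 1
    show (A.map (MulAut.conj g).toMonoidHom).map f = (A.map f).map (MulAut.conj P.g).toMonoidHom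
    rw [map_map, map_map, ← hgf]
    congr 1
    ext y
    simp
  have hOf : P.O ≤ (lclosure P.l (A ⊔ cj g A)).map f := by
    rw [← Pc.lclosure_map P.gap.1, hXf]
    exact Pc.lclosure_mono (sup_le_sup P.hC (H48.cj_mono P.hC))
  obtain ⟨o, ho, hof⟩ := hOf P.g_mem
  have hoX : o ∈ A ⊔ cj g A := Pc.lclosure_le _ _ ho
  have hXeq : A ⊔ cj o A = A ⊔ cj g A := eq_of_le_of_card_ge
    (sup_le le_sup_left (H48.cj_le.mpr fun a ha => mul_mem (mul_mem hoX (mem_sup_left ha)) (inv_mem hoX)))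
    (hgmin o ⟨hXR hoX, hof⟩)
  rw [← hXeq] at hOf ho hXR
  clear hgmin hgR hgf hXf hoX hXeq
  set X := A ⊔ cj o A with hX
  set O := lclosure P.l X with hO
  have hOX : O ≤ X := Pc.lclosure_le _ _
  have hOnotV : ¬ O ≤ centralizer (V : Set G) := fun h => hPO (hOf.trans (map_mono h))
  -- the module
  set M := ⨆ x : O, cj (x : G) V with hM
  have hMY : M ≤ Y := iSup_le fun x => H48.cj_le.mpr fun v hv =>
    (inferInstance : Y.Normal).conj_mem v (hVY hv) x
  have hMel : ∀ v ∈ M, v * v = 1 := fun v hv => hY v (hMY hv)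
  have hVM : V ≤ M := le_trans (by rw [OneMemClass.coe_one, H48.cj_one])
    (le_iSup (fun x : O => cj (x : G) V) 1)
  have hMinv : ∀ y : G, (∀ x ∈ O, ∃ x' ∈ O, cj (y * x) V = cj x' V) → cj y M ≤ M := by
    intro y hy
    rw [hM, H48.cj, Subgroup.map_iSup]
    refine iSup_le fun x => ?_
    obtain ⟨x', hx', he⟩ := hy x x.2
    rw [show (cj (x : G) V).map (MulAut.conj y).toMonoidHom = cj x' V by
      rw [← he, ← H48.cj_cj]]
    exact le_iSup (fun x : O => cj (x : G) V) ⟨x', hx'⟩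
  have hOn : ∀ a ∈ X, ∀ x ∈ O, a * x * a⁻¹ ∈ O := by
    intro a ha
    have : O ≤ O.comap (MulAut.conj a).toMonoidHom := by
      refine (closure_le _).mpr ?_
      rintro y ⟨hy, k, hk⟩
      exact Pc.mem_lclosure (k := k) (X.mul_mem (X.mul_mem ha hy) (X.inv_mem ha)) (by
        show (a * y * a⁻¹) ^ P.l ^ k = 1
        rw [conj_pow, hk, mul_one, mul_inv_cancel])
    exact fun x hx => this hx
  have hON : O ≤ normalizer (M : Set G) := fun y hy =>
    H48.mem_normalizer_of_cj_eq (H48.cj_eq_self_of_le (hMinv y fun x hx => ⟨y * x, O.mul_mem hy hx, rfl⟩))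
  have hAN : A ≤ normalizer (M : Set G) := fun a ha =>
    H48.mem_normalizer_of_cj_eq (H48.cj_eq_self_of_le (hMinv a fun x hx =>
      ⟨a * x * a⁻¹, hOn a (mem_sup_left ha) x hx, by
        conv_rhs => rw [← H48.cj_eq_of_mem_normalizer (hSV (hA.1 ha)), H48.cj_cj, inv_mul_cancel_right]⟩))
  have hRN : RB ≤ normalizer (M : Set G) := fun r hr =>
    H48.mem_normalizer_of_cj_eq (H48.cj_eq_self_of_le (hMinv r fun x hx => ⟨x, hx, by
      have h1 : x⁻¹ * r * x ∈ RB := by
        simpa using (mem_normalizer_iff.mp (hXR (X.inv_mem (hOX hx))) r).mp hr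
      rw [show r * x = x * (x⁻¹ * r * x) by group, ← H48.cj_cj,
        H48.cj_eq_of_mem_normalizer (hSV h1.1)]⟩))
  have hCN : C' ≤ normalizer (M : Set G) :=
    (centralizer_le (SetLike.coe_subset_coe.mpr hMY)).trans (centralizer_le_normalizer _)
  set NM := normalizer (M : Set G) with hNM
  have hKN : KB ≤ NM := fun x hx => by
    obtain ⟨c, hc, r, hr, rfl⟩ := hKBdec x hx
    exact NM.mul_mem (hCN hc) (hRN hr)
  have hoN : o ∈ NM := hON ho
  -- the data inside the normalizer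
  set ρ := modRep NM M hMel le_rfl with hρ
  set A' := A.subgroupOf NM with hA'
  set g' : NM := ⟨o, hoN⟩ with hg'
  set X' := A' ⊔ cj g' A' with hX'
  have hA'm : A'.map NM.subtype = A := by rw [hA', subgroupOf_map_subtype, inf_eq_left.mpr hAN]
  have hX'm : X'.map NM.subtype = X := by
    rw [hX', Subgroup.map_sup, hA'm]
    congr 1
    conv_rhs => rw [← hA'm]
    show (A'.map (MulAut.conj g').toMonoidHom).map NM.subtype = _
    rw [H48.cj, map_map, map_map]
    congr 1
  have hO'm : (lclosure P.l X').map NM.subtype = O := by rw [← Pc.lclosure_map P.gap.1, hX'm]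
  have hmemO : ∀ z : NM, (z : G) ∈ O → z ∈ lclosure P.l X' := fun z hz => by
    rw [← hO'm] at hz
    obtain ⟨z', hz', he⟩ := hz
    rwa [NM.subtype_injective he] at hz'
  have hker : ρ.ker = (centralizer (M : Set G)).subgroupOf NM := ker_modRep NM M hMel le_rfl
  have hidx : ∀ R : Subgroup NM, ρ.ker.relIndex R = (centralizer (M : Set G)).relIndex (R.map NM.subtype) :=
    fun R => by rw [hker, subgroupOf, relIndex_comap]
  obtain ⟨a0, ha0⟩ := relIndex_two_pow (hAel.mono (inf_le_left : A0 ≤ A)).isPGroup (centralizer (M : Set G))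
  have hA0N : A0 ≤ NM := inf_le_left.trans hAN
  have hA0'm : (A0.subgroupOf NM).map NM.subtype = A0 := by
    rw [subgroupOf_map_subtype, inf_eq_left.mpr hA0N]
  have hgoodM : Good M RB := by
    rw [hM, ← sSup_range]
    refine good_sSup ?_
    rintro _ ⟨x, rfl⟩
    refine (hgood.conj (x : G)).mono fun r hr => H48.mem_cj.mpr ?_
    have h1 : (x : G)⁻¹ * r * x ∈ RB := by
      simpa using (mem_normalizer_iff.mp (hXR (X.inv_mem (hOX x.2))) r).mp hr
    exact h1.1
  have hWM : ∀ w : Mod2 M hMel, w + w = 0 := Mod2.add_self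
  let V0 : AddSubgroup (Mod2 M hMel) :=
    { carrier := {w | w.val ∈ V}
      zero_mem' := one_mem V
      add_mem' := fun {a b} ha hb => V.mul_mem ha hb
      neg_mem' := fun {a} ha => V.inv_mem ha }
  obtain ⟨z, hzO, v, hv, hzv⟩ : ∃ z ∈ O, ∃ v ∈ V, z * v * z⁻¹ ≠ v := by
    by_contra h
    push Not at h
    exact hOnotV fun z hz => mem_centralizer_iff.mpr fun v hv => (mul_inv_eq_iff_eq_mul.mp (h z hz v hv)).symm
  refine lift_false (ρ := ρ) hWM P.gap P.cpos A' (A0.subgroupOf NM) (RB.subgroupOf NM) (KB.subgroupOf NM) g'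
    (fun a ha => Subtype.ext (hAel a.1 ha)) (fun a ha => ha.1)
    (fun a ha => Subgroup.mem_inf.mpr ⟨hA.1 ha.1, ha.2⟩) (fun a ha => ha.2) hRBp.comap_subtype
    ?_ ?_ (hmemO g' ho) ?_ ?_ V0 ?_ ?_ ⟨⟨z, hON hzO⟩, hmemO _ hzO, Mod2.mk v (hVM hv), ?_⟩
    (a0 := a0) (by rw [hidx, hA0'm]; exact ha0) ?_ ?_
  · intro a ha
    exact mem_normalizer_iff.mpr fun r => mem_normalizer_iff.mp (hART ha) (r : G)
  · exact mem_normalizer_iff.mpr fun r => mem_normalizer_iff.mp (hXR (hOX ho)) (r : G)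
  · intro x hx
    have hxX : (x : G) ∈ X := hX'm ▸ (⟨x, hx, rfl⟩ : (x : G) ∈ X'.map NM.subtype)
    have hofm : o ∈ normalizer (KB : Set G) := hfKB o fun b hb => by rw [hof]; exact P.comm b hb
    have hXK : X ≤ normalizer (KB : Set G) := sup_le hAKB (H48.cj_le.mpr fun a ha =>
      mul_mem (mul_mem hofm (hAKB ha)) (inv_mem hofm))
    exact mem_normalizer_iff.mpr fun r => mem_normalizer_iff.mp (hXK hxX) (r : G)
  · intro k hk
    obtain ⟨c, hc, r, hr, he⟩ := hKBdec k.1 hk
    refine ⟨⟨r, hRN hr⟩, hr, ?_⟩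
    have hc1 : ρ ⟨c, hCN hc⟩ = 1 := by
      rw [← MonoidHom.mem_ker, hker]
      exact centralizer_le (SetLike.coe_subset_coe.mpr hMY) hc
    rw [show k = ⟨c, hCN hc⟩ * ⟨r, hRN hr⟩ from Subtype.ext he, map_mul, hc1, one_mul]
  · intro w hw a ha
    refine Mod2.val_injective ?_
    show (a : G) * w.val * (a : G)⁻¹ = w.val
    rw [mul_inv_eq_iff_eq_mul]
    exact (mem_centralizer_iff.mp (hAV ha) w.val hw).symm
  · intro N hVN hN
    let M' : Subgroup G :=
      { carrier := {y | ∃ w ∈ N, w.val = y}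
        one_mem' := ⟨0, zero_mem _, rfl⟩
        mul_mem' := fun {a b} ha hb => by
          obtain ⟨w, hw, rfl⟩ := ha
          obtain ⟨w', hw', rfl⟩ := hb
          exact ⟨w + w', add_mem hw hw', rfl⟩
        inv_mem' := fun {a} ha => by
          obtain ⟨w, hw, rfl⟩ := ha
          exact ⟨-w, neg_mem hw, rfl⟩ }
    have hle : M ≤ M' := iSup_le fun x => H48.cj_le.mpr fun v hv => by
      have h1 := hVN (x := Mod2.mk v (hVM hv)) hv
      have h2 := hN ⟨x.1, hON x.2⟩ (hmemO _ x.2) (Mod2.mk v (hVM hv)) hv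
      have h3 := add_mem h2 h1
      rw [sub_add_cancel] at h3
      exact ⟨_, h3, rfl⟩
    refine (AddSubgroup.eq_top_iff' _).mpr fun w => ?_
    obtain ⟨w', hw', he⟩ := hle w.val_mem
    exact Mod2.val_injective he ▸ hw'
  · intro h
    exact hzv (congrArg Mod2.val h)
  · -- maximality
    set C0 := A0 ⊓ centralizer (M : Set G) with hC0
    have hE : El (C0 ⊔ M) := Par.el_sup ((hAel.mono inf_le_left).mono inf_le_left) hMel
      fun a ha m hm => (mem_centralizer_iff.mp ha.2 m hm).symm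
    have hexp : IsAbExp 2 (C0 ⊔ M) := ⟨isMulCommutative_iff_forall.mpr fun c hc d hd => hE.comm hc hd,
      fun c hc => by rw [sq]; exact hE c hc⟩
    have hle := hA.2.2 _ (sup_le (inf_le_left.trans (inf_le_left.trans hA.1)) (hMY.trans hYS)) hexp
    have h2 : Nat.card ↥(C0 ⊔ M) * Nat.card ↥(C0 ⊓ M) = Nat.card C0 * Nat.card M :=
      H31.FF.card_sup_mul_card_inf ((le_centralizer_iff.mp (inf_le_right : C0 ≤ _)).trans
        (centralizer_le_normalizer _))
    have h3 : Nat.card ↥(C0 ⊓ M) ≤ Nat.card ↥(M ⊓ centralizer (A : Set G)) :=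
      Subgroup.card_le_of_le (le_inf inf_le_right fun y hy => mem_centralizer_iff.mpr fun a ha =>
        hAel.comm ha hy.1.1.1)
    have h4 := card_inf_mul_relIndex (centralizer (M : Set G)) A0
    rw [← hC0, ha0] at h4
    have h5 := card_inf_mul_relIndex KB A
    have h6 : KB.relIndex A = 2 ^ P.c := by
      rw [hKB, relIndex_comap]
      have e1 := Pc.card_eq_mul hAelf P.hB P.hC P.cover P.disj
      rw [P.card] at e1
      have e2 := card_inf_mul_relIndex P.B (A.map f)
      rw [inf_eq_right.mpr P.hB, e1] at e2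
      exact Nat.eq_of_mul_eq_mul_left Nat.card_pos e2
    rw [h6, ← hA0] at h5
    have hfix := card_fixV_modRep NM M hMel le_rfl A'
    rw [hA'm, ← hρ, card_eq_two_pow hWM] at hfix
    have hcardM : Nat.card M = 2 ^ lg (⊤ : AddSubgroup (Mod2 M hMel)) := by
      rw [← card_eq_two_pow hWM, AddSubgroup.card_top, Pc.card_mod2]
    have key : Nat.card C0 * Nat.card M ≤
        Nat.card C0 * (2 ^ (P.c + a0) * Nat.card ↥(M ⊓ centralizer (A : Set G))) := by
      calc _ = Nat.card ↥(C0 ⊔ M) * Nat.card ↥(C0 ⊓ M) := h2.symm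
        _ ≤ Nat.card A * Nat.card ↥(M ⊓ centralizer (A : Set G)) := Nat.mul_le_mul hle h3
        _ = _ := by rw [← h5, ← h4, pow_add]; ring
    have key' := Nat.le_of_mul_le_mul_left key Nat.card_pos
    rw [hcardM, ← hfix, ← pow_add] at key'
    have := (Nat.pow_le_pow_iff_right (by norm_num : 1 < 2)).mp key'
    omega
  · intro R hR hcomm hsq r hr hr0
    set R0 := R.map NM.subtype with hR0
    have hR0le : R0 ≤ RB := by
      rintro _ ⟨p, hp, rfl⟩
      exact hR hp
    have hmemC : ∀ p : NM, ρ p = 1 → (p : G) ∈ centralizer (M : Set G) := fun p hp => by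
      rw [← MonoidHom.mem_ker, hker] at hp
      exact hp
    have h1 : ⁅R0, R0⁆ ≤ centralizer (M : Set G) := by
      rw [commutator_le]
      rintro _ ⟨p, hp, rfl⟩ _ ⟨q, hq, rfl⟩
      have e : ρ (p * q * p⁻¹ * q⁻¹) = 1 := by
        rw [show p * q * p⁻¹ * q⁻¹ = p * q * (p⁻¹ * q⁻¹) by group, map_mul, hcomm p hp q hq, ← map_mul,
          show q * p * (p⁻¹ * q⁻¹) = 1 by group, map_one]
      exact hmemC _ e
    have h2 : ∀ p ∈ R0, p ^ 2 ∈ centralizer (M : Set G) := by
      rintro _ ⟨p, hp, rfl⟩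
      rw [sq]
      exact hmemC _ (hsq p hp)
    rw [hidx, ← hR0] at hr
    have h3 : ¬ R0 ≤ centralizer (M : Set G) := fun h => by
      rw [← relIndex_eq_one, hr] at h
      exact (Nat.one_lt_two_pow hr0.ne').ne' h
    have h4 := hgoodM R0 hR0le h1 h2 h3
    have hfix := card_fixV_modRep NM M hMel le_rfl R
    rw [← hρ, card_eq_two_pow hWM, ← hR0] at hfix
    have hcardM : Nat.card M = 2 ^ lg (⊤ : AddSubgroup (Mod2 M hMel)) := by
      rw [← card_eq_two_pow hWM, AddSubgroup.card_top, Pc.card_mod2]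
    have h5 := card_inf_mul_relIndex (centralizer (R0 : Set G)) M
    rw [← hfix, hcardM] at h5
    have h6 := congrArg (· ^ 2) h5
    rw [hr] at h4
    have h7 : 2 ^ (3 * r + 2 * lg (fixV ρ R)) < 2 ^ (2 * lg (⊤ : AddSubgroup (Mod2 M hMel))) := by
      calc 2 ^ (3 * r + 2 * lg (fixV ρ R)) = (2 ^ r) ^ 3 * (2 ^ lg (fixV ρ R)) ^ 2 := by
            rw [pow_add, ← pow_mul, ← pow_mul]; congr 2 <;> ring
        _ < ((centralizer (R0 : Set G)).relIndex M) ^ 2 * (2 ^ lg (fixV ρ R)) ^ 2 :=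
            Nat.mul_lt_mul_of_pos_right h4 (by positivity)
        _ = _ := by
            rw [← mul_pow, mul_comm, h5, ← pow_mul, mul_comm]
    exact (Nat.pow_lt_pow_iff_right (by norm_num : 1 < 2)).mp h7

end Cfsg.Agent.Thompson.FourFree
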