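import Mathlib
import Cfsg.Agent.Thompson.SfourHbar
import Cfsg.Agent.Thompson.SfourPiece

/-!
In a constrained four-free group the normal closure of the Thompson subgroup centralises every elementary
abelian subgroup of a Sylow subgroup which satisfies the inequality of an E-group and is normalised by the
Sylow subgroup of that normal closure.
-/

set_option autoImplicit false
set_option linter.unusedSectionVars false
set_option linter.style.haveILetI false

namespace Cfsg.Agent.Thompson.FourFree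

open Subgroup
open H48 (cj)
open Par (Inv3 El)
open Pc (GoodFac Piece)

universe u

/-- the Sylow subgroup of the normal closure of the Thompson subgroup -/
def jayTop {G : Type u} [Group G] (S : Subgroup G) : Subgroup G :=
  S ⊓ normalClosure (jay 2 S : Set G)

/-- the statement for groups of order at most `n` -/
def EStep (n : ℕ) : Prop :=
  ∀ (G : Type u) [Group G] [Finite G], Nat.card G ≤ n →
    centralizer (pCore 2 G : Set G) ≤ pCore 2 G → ¬ Involves (Equiv.Perm (Fin 4)) G → GoodFac G →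
    ∀ (S : Sylow 2 G) (V : Subgroup G), El V → V ≤ (S : Subgroup G) →
      jayTop (S : Subgroup G) ≤ normalizer (V : Set G) → Good V (jayTop (S : Subgroup G)) →
      ∀ x : G, cj x (jay 2 (S : Subgroup G)) ≤ centralizer (V : Set G)

section

variable {G : Type u} [Group G] [Finite G]

theorem jay_le_jayTop (S : Subgroup G) : jay 2 S ≤ jayTop S :=
  le_inf jay_le (subset_normalClosure)

/-- application to a proper subgroup -/
theorem EStep.sub {n : ℕ} (ih : EStep.{u} n) (hn : Nat.card G ≤ n + 1)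
    (hfree : ¬ Involves (Equiv.Perm (Fin 4)) G) (X : Subgroup G) (hX : X ≠ ⊤)
    (hc : centralizer (pCore 2 X : Set X) ≤ pCore 2 X) (hf : GoodFac X) (S : Sylow 2 G)
    (hSX : H48.IsSylowIn 2 ((S : Subgroup G) ⊓ X) X) (hJX : jay 2 (S : Subgroup G) ≤ X)
    {V : Subgroup G} (hVX : V ≤ X) (hV : El V) (hVS : V ≤ (S : Subgroup G))
    (hnorm : jayTop (S : Subgroup G) ≤ normalizer (V : Set G))
    (hgood : Good V (jayTop (S : Subgroup G))) :
    ∀ x ∈ X, cj x (jay 2 (S : Subgroup G)) ≤ centralizer (V : Set G) := by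
  haveI : Fact (Nat.Prime 2) := ⟨Nat.prime_two⟩
  intro x hx
  set J := jay 2 (S : Subgroup G)
  set S' : Sylow 2 X := hSX.toSylow
  have hS' : (S' : Subgroup X).map X.subtype = (S : Subgroup G) ⊓ X := by
    rw [H48.IsSylowIn.coe_toSylow, subgroupOf_map_subtype, inf_eq_left.mpr inf_le_right]
  have hJ' : (jay 2 (S' : Subgroup X)).map X.subtype = J := by
    rw [← jay_map _ X.subtype_injective, hS', jay_eq_of_le (le_inf jay_le hJX) inf_le_left]
  set V' := V.subgroupOf X
  have hV'm : V'.map X.subtype = V := by rw [subgroupOf_map_subtype, inf_eq_left.mpr hVX]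
  have hU : (jayTop (S' : Subgroup X)).map X.subtype ≤ jayTop (S : Subgroup G) := by
    refine le_inf ((map_mono inf_le_left).trans (hS'.le.trans inf_le_left)) ?_
    rw [map_le_iff_le_comap]
    refine inf_le_right.trans (normalClosure_le_normal fun y hy => mem_comap.mpr ?_)
    exact subset_normalClosure (show (y : G) ∈ J from hJ' ▸ ⟨y, hy, rfl⟩)
  have hlt : Nat.card X ≤ n := by
    have : Nat.card X < Nat.card G := (Subgroup.card_le_card_group X).lt_of_ne fun h =>
      hX (eq_top_of_card_eq X h)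
    omega
  have h := ih X hlt hc (sfour_free_subgroup hfree X) hf S' V' (fun v hv => Subtype.ext (hV v.1 hv))
    (fun v hv => by
      obtain ⟨y, hy, he⟩ : (v : G) ∈ (S' : Subgroup X).map X.subtype :=
        hS' ▸ Subgroup.mem_inf.mpr ⟨hVS hv, v.2⟩
      exact X.subtype_injective he ▸ hy)
    (fun u hu => mem_normalizer_iff.mpr fun v =>
      mem_normalizer_iff.mp (hnorm (hU ⟨u, hu, rfl⟩)) (v : G))
    (Good.of_map X.subtype_injective (by rw [hV'm]; exact hgood.mono hU)) ⟨x, hx⟩
  refine H48.cj_le.mpr fun j hj => mem_centralizer_iff.mpr fun v hv => ?_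
  obtain ⟨j', hj', rfl⟩ : j ∈ (jay 2 (S' : Subgroup X)).map X.subtype := hJ' ▸ hj
  exact congrArg Subtype.val (mem_centralizer_iff.mp (h (H48.conj_mem_cj hj')) ⟨v, hVX hv⟩ hv)

theorem isSylowIn_of_le (S : Sylow 2 G) {X : Subgroup G} (h : (S : Subgroup G) ≤ X) :
    H48.IsSylowIn 2 ((S : Subgroup G) ⊓ X) X := by
  haveI : Fact (Nat.Prime 2) := ⟨Nat.prime_two⟩
  rw [inf_eq_left.mpr h]
  exact ⟨h, S.isPGroup', fun hd => S.not_dvd_index (hd.trans (Dvd.intro _ (relIndex_mul_index h)))⟩

theorem isSylowIn_of_normal (S : Sylow 2 G) (X : Subgroup G) [X.Normal] :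
    H48.IsSylowIn 2 ((S : Subgroup G) ⊓ X) X := by
  haveI : Fact (Nat.Prime 2) := ⟨Nat.prime_two⟩
  obtain ⟨T, hT⟩ := exists_sylow_inf_normal S X
  exact hT ▸ H48.isSylowIn_map X T

/-- the join of a normal subgroup and a 2-group -/
theorem goodFac_normal_sup (hfac : GoodFac G) (N : Subgroup G) [N.Normal] {S : Subgroup G} (hS : IsPGroup 2 S) :
    GoodFac ↥(N ⊔ S) := by
  refine Pc.goodFac_ext (N.subgroupOf (N ⊔ S))
    ((hfac.subgroup (inferInstance : N.Normal).isSubnormal).of_surjective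
      (subgroupOfEquivOfLe (le_sup_left : N ≤ N ⊔ S)).symm.toMonoidHom
      (subgroupOfEquivOfLe (le_sup_left : N ≤ N ⊔ S)).symm.surjective) ?_
  refine Pc.goodFac_of_isPGroup fun q => ?_
  obtain ⟨⟨x, hx⟩, rfl⟩ := QuotientGroup.mk'_surjective _ q
  obtain ⟨n, hn, s, hs, rfl⟩ := mem_sup_of_normal_left.mp hx
  obtain ⟨k, hk⟩ := hS ⟨s, hs⟩
  refine ⟨k, ?_⟩
  have hs1 : s ^ 2 ^ k = 1 := congrArg Subtype.val hk
  have he : QuotientGroup.mk' (N.subgroupOf (N ⊔ S)) ⟨n * s, hx⟩ =
      QuotientGroup.mk' (N.subgroupOf (N ⊔ S)) ⟨s, mem_sup_right hs⟩ := by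
    rw [QuotientGroup.mk'_apply, QuotientGroup.mk'_apply, QuotientGroup.eq, mem_subgroupOf]
    show (n * s)⁻¹ * s ∈ N
    rw [show (n * s)⁻¹ * s = s⁻¹ * n⁻¹ * s by group]
    simpa using (inferInstance : N.Normal).conj_mem _ (inv_mem hn) s⁻¹
  rw [he, ← map_pow, show (⟨s, mem_sup_right hs⟩ : ↥(N ⊔ S)) ^ 2 ^ k = 1 from Subtype.ext hs1, map_one]

/-- the quotient by the preimage of a 2-core -/
theorem quotient_preimage_pCore (C : Subgroup G) [C.Normal] :
    pCore 2 (G ⧸ (pCore 2 (G ⧸ C)).comap (QuotientGroup.mk' C)) = ⊥ ∧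
      (¬ Inv3 (G ⧸ C) → ¬ Inv3 (G ⧸ (pCore 2 (G ⧸ C)).comap (QuotientGroup.mk' C))) := by
  haveI : Fact (Nat.Prime 2) := ⟨Nat.prime_two⟩
  set L := (pCore 2 (G ⧸ C)).comap (QuotientGroup.mk' C) with hL
  have hCL : C ≤ L := fun x hx => mem_comap.mpr (by
    rw [QuotientGroup.mk'_apply, (QuotientGroup.eq_one_iff x).mpr hx]; exact one_mem _)
  set φ := QuotientGroup.map C L (MonoidHom.id G) hCL with hφ
  have hφs : Function.Surjective φ := by
    intro y
    obtain ⟨x, rfl⟩ := QuotientGroup.mk'_surjective L y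
    exact ⟨QuotientGroup.mk' C x, rfl⟩
  have hker : φ.ker = pCore 2 (G ⧸ C) := by
    ext y
    obtain ⟨x, rfl⟩ := QuotientGroup.mk'_surjective C y
    rw [MonoidHom.mem_ker]
    exact (QuotientGroup.eq_one_iff (N := L) x)
  refine ⟨?_, fun h hh => h ?_⟩
  · haveI : ((pCore 2 (G ⧸ L)).comap φ).Normal := (pCore_normal 2 _).comap φ
    have hp : IsPGroup 2 ((pCore 2 (G ⧸ L)).comap φ) :=
      Cores.pCore_isPGroup.comap_of_ker_isPGroup φ (by rw [hker]; exact Cores.pCore_isPGroup)
    have h1 := Subgroup.map_mono (f := φ) (Cores.le_pCore hp)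
    rw [map_comap_eq_self_of_surjective hφs] at h1
    exact le_bot_iff.mp (h1.trans ((Subgroup.map_eq_bot_iff _).mpr hker.ge).le)
  · obtain ⟨b, t, hb, ht⟩ := hh
    set e := QuotientGroup.quotientKerEquivOfSurjective φ hφs
    exact Inv3.of_quotient φ.ker ⟨e.symm b, e.symm t, by rw [MulEquiv.orderOf_eq, hb], by
      rw [← map_inv, ← map_mul, ← map_mul, ht, map_inv]⟩

/-- the image of the centraliser contains no nontrivial normal subgroup -/
theorem coreFree_image {V Y L : Subgroup G} [Y.Normal] [L.Normal] (hYV : Y ≤ normalClosure (V : Set G))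
    (hCL : centralizer (Y : Set G) ≤ L) (hCV : centralizer (Y : Set G) ≤ centralizer (V : Set G))
    {Q : Subgroup G} (hQ : IsPGroup 2 Q) (hQV : Q ≤ normalizer (centralizer (V : Set G) : Set G))
    (hL : L ≤ centralizer (Y : Set G) ⊔ Q) (hcore : pCore 2 (G ⧸ L) = ⊥) :
    ∀ M : Subgroup (G ⧸ L), M.Normal → M ≤ (centralizer (V : Set G)).map (QuotientGroup.mk' L) → M = ⊥ := by
  haveI : Fact (Nat.Prime 2) := ⟨Nat.prime_two⟩
  intro M hM hle
  haveI := hM
  set f := QuotientGroup.mk' L
  set CV := centralizer (V : Set G)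
  haveI : (M.comap f).Normal := hM.comap f
  have hMZ : M.comap f ≤ CV ⊔ Q := by
    refine (comap_mono hle).trans ?_
    rw [comap_map_eq, QuotientGroup.ker_mk']
    exact sup_le le_sup_left (hL.trans (sup_le_sup_right hCV Q))
  have hodd : ∀ z ∈ M.comap f, (orderOf z).Coprime 2 → z ∈ CV := by
    intro z hz ho
    have hZn : CV ⊔ Q ≤ normalizer (CV : Set G) := sup_le le_normalizer hQV
    haveI : (CV.subgroupOf (CV ⊔ Q)).Normal := normal_subgroupOf_of_le_normalizer hZn
    have h2 := H31.FF.card_sup_mul_card_inf (A := CV) (B := Q) hQV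
    have h3 := card_inf_mul_relIndex CV (CV ⊔ Q)
    rw [inf_eq_right.mpr le_sup_left] at h3
    have h4 : CV.relIndex (CV ⊔ Q) ∣ Nat.card Q := by
      refine Dvd.intro_left (Nat.card ↥(CV ⊓ Q)) (Nat.eq_of_mul_eq_mul_left (Nat.card_pos (α := CV)) ?_)
      rw [← h2, ← h3]; ring
    have h5 : z ^ CV.relIndex (CV ⊔ Q) ∈ CV := by
      have h := pow_index_mem (CV.subgroupOf (CV ⊔ Q)) ⟨z, hMZ hz⟩
      exact h
    obtain ⟨k, hk⟩ := IsPGroup.iff_card.mp hQ
    obtain ⟨j, -, hj⟩ := (Nat.dvd_prime_pow Nat.prime_two).mp (hk ▸ h4)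
    rw [hj] at h5
    obtain ⟨t, ht⟩ := exists_pow_eq_self_of_coprime (Nat.Coprime.pow_left j ho.symm)
    exact ht ▸ CV.pow_mem h5 t
  have hin : ∀ z ∈ M.comap f, (orderOf z).Coprime 2 → z ∈ centralizer (Y : Set G) := by
    intro z hz ho
    refine centralizer_le (SetLike.coe_subset_coe.mpr hYV) ?_
    rw [← zpowers_le, le_centralizer_iff]
    refine (closure_le _).mpr fun y hy => ?_
    obtain ⟨v, hv, hvy⟩ := Group.mem_conjugatesOfSet_iff.mp hy
    obtain ⟨g, rfl⟩ := isConj_iff.mp hvy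
    have hz' : g⁻¹ * z * g ∈ M.comap f := by
      simpa using (inferInstance : (M.comap f).Normal).conj_mem z hz g⁻¹
    have ho' : (orderOf (g⁻¹ * z * g)).Coprime 2 := by
      have e : g⁻¹ * z * g = MulAut.conj g⁻¹ z := by simp
      rw [e, MulEquiv.orderOf_eq]
      exact ho
    have h1 := mem_centralizer_iff.mp (hodd _ hz' ho') v hv
    refine SetLike.mem_coe.mpr (mem_centralizer_iff.mpr ?_)
    rintro _ ⟨i, rfl⟩
    have h2 : Commute z (g * v * g⁻¹) := by
      show z * (g * v * g⁻¹) = g * v * g⁻¹ * z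
      calc z * (g * v * g⁻¹) = g * (g⁻¹ * z * g * v) * g⁻¹ := by group
        _ = g * (v * (g⁻¹ * z * g)) * g⁻¹ := by rw [h1]
        _ = _ := by group
    exact (h2.zpow_left i).eq
  refine le_bot_iff.mp (hcore ▸ Cores.le_pCore (H61.isPGroup_of_forall_coprime fun y hy hco => ?_))
  obtain ⟨x, rfl⟩ := QuotientGroup.mk'_surjective L y
  obtain ⟨a, m, hm, he⟩ := Nat.exists_eq_pow_mul_and_not_dvd (orderOf_pos x).ne' 2 (by norm_num)
  have hx' : x ^ 2 ^ a ∈ centralizer (Y : Set G) := by
    refine hin _ (pow_mem (show x ∈ M.comap f from hy) _) ?_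
    rw [orderOf_pow' x (by positivity), he, Nat.gcd_eq_right (Dvd.intro m rfl),
      Nat.mul_div_cancel_left _ (by positivity)]
    exact ((Nat.prime_two.coprime_iff_not_dvd).mpr hm).symm
  have h1 : f x ^ 2 ^ a = 1 := by
    rw [← map_pow]
    exact (QuotientGroup.eq_one_iff _).mpr (hCL hx')
  rw [← orderOf_eq_one_iff]
  obtain ⟨j, -, hj⟩ := (Nat.dvd_prime_pow Nat.prime_two).mp (orderOf_dvd_of_pow_eq_one h1)
  exact Nat.eq_one_of_dvd_coprimes hco dvd_rfl (by
    rw [hj] at hco ⊢
    rcases Nat.eq_zero_or_pos j with rfl | hjp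
    · exact one_dvd _
    · exact absurd (Nat.eq_one_of_dvd_coprimes hco (dvd_pow_self 2 hjp.ne') dvd_rfl) (by norm_num))

end

theorem eStep_succ {n : ℕ} (ih : EStep.{u} n) : EStep.{u} (n + 1) := by
  intro G _ _ hn hc hfree hfac S V hV hVS hnorm hgood
  classical
  haveI : Fact (Nat.Prime 2) := ⟨Nat.prime_two⟩
  set J := jay 2 (S : Subgroup G) with hJ
  set G1 := normalClosure (J : Set G) with hG1
  have hone : ∀ A ∈ maxIn 2 (S : Subgroup G), V ≤ A ∧ A ≤ centralizer (V : Set G) := fun A hA =>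
    le_maxIn_of_good hV hVS hA (hgood.mono ((le_jay hA).trans (jay_le_jayTop _)))
  have hJV : J ≤ centralizer (V : Set G) := sSup_le fun A hA => (hone A hA).2
  have hVJ : V ≤ J := by
    obtain ⟨A, hA⟩ := maxIn_nonempty 2 (S : Subgroup G)
    exact (hone A hA).1.trans (le_jay hA)
  have hQS : pCore 2 G ≤ (S : Subgroup G) := Cores.pCore_le_sylow S
  by_cases htop : G1 ≠ ⊤
  · have hG1n : G1.Normal := normalClosure_normal
    have h1 := ih.sub hn hfree G1 htop
      (constrained_sub hc G1 (by rw [normalizer_eq_top]; exact le_top)) (hfac.subgroup hG1n.isSubnormal) S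
      (isSylowIn_of_normal S G1) subset_normalClosure (hVJ.trans subset_normalClosure) hV hVS hnorm hgood
    intro x
    obtain ⟨k, hk, b, hb, rfl⟩ : ∃ k ∈ G1, ∃ b ∈ normalizer (((S : Subgroup G) ⊓ G1 : Subgroup G) : Set G),
        k * b = x := by
      have h := (frattini_inf S G1).ge (mem_top x)
      rw [sup_comm, mem_sup_of_normal_left] at h
      exact h
    have hbJ : b ∈ normalizer (J : Set G) := by
      rw [hJ, ← jay_eq_of_le (le_inf jay_le subset_normalClosure : jay 2 (S : Subgroup G) ≤ (S : Subgroup G) ⊓ G1)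
        inf_le_left]
      exact normalizer_le_normalizer_jay 2 _ hb
    rw [← H48.cj_cj, H48.cj_eq_of_mem_normalizer hbJ]
    exact h1 k hk
  push Not at htop
  have hjT : jayTop (S : Subgroup G) = (S : Subgroup G) := by
    rw [jayTop, ← hJ, ← hG1, htop, inf_top_eq]
  rw [hjT] at hnorm hgood
  have hVQ := le_pCore_of_good hc hfree hfac S hV hVS hnorm hgood
  obtain ⟨hYel, hYgood⟩ := normalClosure_good S hV hVQ hgood
  set Y := normalClosure (V : Set G) with hY
  have hYQ : Y ≤ pCore 2 G := by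
    haveI : (pCore 2 G).Normal := pCore_normal 2 G
    exact normalClosure_le_normal hVQ
  set C' := centralizer (Y : Set G) with hC'
  haveI : C'.Normal := inferInstance
  have hCV : C' ≤ centralizer (V : Set G) := centralizer_le subset_normalClosure
  set f1 := QuotientGroup.mk' C' with hf1
  set L := (pCore 2 (G ⧸ C')).comap f1 with hL
  haveI : L.Normal := (pCore_normal 2 _).comap f1
  have hCL : C' ≤ L := fun x hx => mem_comap.mpr (by
    rw [hf1, QuotientGroup.mk'_apply, (QuotientGroup.eq_one_iff x).mpr hx]; exact one_mem _)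
  set R := (S : Subgroup G) ⊓ L with hR
  have hLdec : ∀ x ∈ L, ∃ c ∈ C', ∃ q ∈ R, x = c * q := by
    intro x hx
    obtain ⟨s, hs, hsx⟩ :=
      Cores.pCore_le_sylow (S.mapSurjective (QuotientGroup.mk'_surjective C')) (mem_comap.mp hx)
    have hxs : x * s⁻¹ ∈ C' := by
      rw [← QuotientGroup.eq_one_iff, ← QuotientGroup.mk'_apply, ← hf1, map_mul, map_inv,
        show f1 s = f1 x from hsx, mul_inv_cancel]
    have hsL : s ∈ L := by
      have := L.mul_mem (L.inv_mem (hCL hxs)) hx
      rwa [show (x * s⁻¹)⁻¹ * x = s by group] at this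
    exact ⟨x * s⁻¹, hxs, s, Subgroup.mem_inf.mpr ⟨hs, hsL⟩, by group⟩
  have hSR : (S : Subgroup G) ≤ normalizer (R : Set G) := fun s hs => H48.mem_normalizer_of_cj_eq (by
    rw [hR, H48.cj_inf, H48.cj_eq_of_mem_normalizer ((le_normalizer (H := (S : Subgroup G))) hs),
      H48.cj_eq_of_mem_normalizer (by rw [normalizer_eq_top]; exact mem_top s : s ∈ normalizer (L : Set G))])
  by_cases hRn : ¬ R.Normal
  · set X := normalizer (R : Set G) with hX
    have hXtop : X ≠ ⊤ := fun h => hRn (normalizer_eq_top_iff.mp h)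
    have h1 := ih.sub hn hfree X hXtop (constrained_sub hc X ((hQS.trans hSR).trans le_normalizer))
      (goodFac_of_sup hfac S L X (frattini_inf S L) (le_normalizer) le_rfl) S (isSylowIn_of_le S hSR)
      (jay_le.trans hSR) (hVS.trans hSR) hV hVS (hjT.symm ▸ hnorm) (hjT.symm ▸ hgood)
    intro x
    obtain ⟨l, hl, y, hy, rfl⟩ : ∃ l ∈ L, ∃ y ∈ X, l * y = x := by
      have h := (frattini_inf S L).ge (mem_top x)
      rw [sup_comm, mem_sup_of_normal_left] at h
      exact h
    obtain ⟨c, hcc, r, hr, rfl⟩ := hLdec l hl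
    rw [mul_assoc, ← H48.cj_cj]
    refine (H48.cj_mono (h1 (r * y) (X.mul_mem (le_normalizer hr) hy))).trans (H48.cj_le.mpr fun z hz => ?_)
    exact (centralizer (V : Set G)).mul_mem ((centralizer (V : Set G)).mul_mem (hCV hcc) hz)
      ((centralizer (V : Set G)).inv_mem (hCV hcc))
  push Not at hRn
  haveI := hRn
  have hQn : (pCore 2 G).Normal := pCore_normal 2 G
  have hRQ : R = pCore 2 G := by
    refine le_antisymm (Cores.le_pCore (S.isPGroup'.to_le inf_le_left)) (le_inf hQS ?_)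
    rw [hL, ← map_le_iff_le_comap]
    haveI : ((pCore 2 G).map f1).Normal := hQn.map f1 (QuotientGroup.mk'_surjective C')
    exact Cores.le_pCore (Cores.pCore_isPGroup.map f1)
  obtain ⟨hcore, hinvL⟩ := quotient_preimage_pCore (G := G) C'
  have hinv : ¬ Inv3 (G ⧸ L) := hinvL (not_inv3_secRep hfree (MonoidHom.id G) Y hYel C'
    (Subgroup.ext fun z => mem_ker_secRep))
  set f := QuotientGroup.mk' L with hf
  have hfs : Function.Surjective f := QuotientGroup.mk'_surjective L
  have hfk : f.ker = L := QuotientGroup.ker_mk' L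
  set Φ := (centralizer (V : Set G)).map f with hΦ
  have hcf : ∀ M : Subgroup (G ⧸ L), M.Normal → M ≤ Φ → M = ⊥ :=
    coreFree_image (V := V) (Y := Y) le_rfl hCL hCV (Q := pCore 2 G) Cores.pCore_isPGroup
      (fun q hq => by
        have h1 := hnorm (hQS hq)
        exact H48.mem_normalizer_of_cj_eq (H48.cj_eq_self_of_le (H48.cj_le.mpr fun z hz =>
          mem_centralizer_iff.mpr fun v hv => by
            have h2 : q⁻¹ * v * q ∈ V := by
              simpa using (mem_normalizer_iff.mp ((normalizer (V : Set G)).inv_mem h1) v).mp hv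
            calc v * (q * z * q⁻¹) = q * (q⁻¹ * v * q * z) * q⁻¹ := by group
              _ = q * (z * (q⁻¹ * v * q)) * q⁻¹ := by rw [mem_centralizer_iff.mp hz _ h2]
              _ = _ := by group)))
      (fun x hx => by
        obtain ⟨c, hcc, q, hq, rfl⟩ := hLdec x hx
        exact mul_mem (mem_sup_left hcc) (mem_sup_right (hRQ ▸ hq))) hcore
  -- the Thompson subgroup lies in `L`
  suffices hJL : J ≤ L by
    intro x
    have hJQ : J ≤ pCore 2 G := hRQ ▸ le_inf jay_le hJL
    have hbJ : x ∈ normalizer (J : Set G) := by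
      rw [hJ, ← jay_eq_of_le hJQ hQS]
      exact normalizer_le_normalizer_jay 2 _ (by rw [normalizer_eq_top]; exact mem_top x)
    rw [H48.cj_eq_of_mem_normalizer hbJ]
    exact hJV
  set 𝒜 := (Subgroup.map f) '' maxIn 2 (S : Subgroup G) with h𝒜
  have hK : sSup 𝒜 = J.map f := by
    rw [hJ, jay, h𝒜, sSup_image, sSup_eq_iSup, Subgroup.map_iSup]
    simp_rw [Subgroup.map_iSup]
  by_contra hJL
  have hne : sSup 𝒜 ≠ ⊥ := fun h => hJL (by
    rw [hK] at h
    exact ((Subgroup.map_eq_bot_iff J).mp h).trans hfk.le)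
  have hgen : normalClosure ((sSup 𝒜 : Subgroup (G ⧸ L)) : Set (G ⧸ L)) = ⊤ := by
    rw [hK, coe_map, ← map_normalClosure _ f hfs, show normalClosure (J : Set G) = ⊤ from htop,
      map_top_of_surjective f hfs]
  have hΦle : sSup 𝒜 ≤ Φ := hK ▸ map_mono hJV
  have hcl : ∀ N : Subgroup (G ⧸ L), N.Normal → 2 ∣ Nat.card N → N ⊔ (S : Subgroup G).map f = ⊤ := by
    intro N hN hNe
    haveI := hN
    set N' := N.comap f with hN'
    haveI : N'.Normal := hN.comap f
    by_contra hne1
    have hX1 : N' ⊔ (S : Subgroup G) ≠ ⊤ := fun h => hne1 (by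
      rw [← map_comap_eq_self_of_surjective hfs N, ← Subgroup.map_sup, ← hN', h, map_top_of_surjective f hfs])
    have hSX1 : (S : Subgroup G) ≤ N' ⊔ (S : Subgroup G) := le_sup_right
    have h1 := ih.sub hn hfree _ hX1 (constrained_sub hc _ ((hQS.trans hSX1).trans le_normalizer))
      (goodFac_normal_sup hfac N' S.isPGroup') S (isSylowIn_of_le S hSX1) (jay_le.trans hSX1)
      (hVS.trans hSX1) hV hVS (hjT.symm ▸ hnorm) (hjT.symm ▸ hgood)
    set X2 := normalizer (((S : Subgroup G) ⊓ N' : Subgroup G) : Set G) with hX2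
    have hX2top : X2 ≠ ⊤ := by
      intro h
      haveI := normalizer_eq_top_iff.mp h
      have hle : (S : Subgroup G) ⊓ N' ≤ L := by
        have h2 : (S : Subgroup G) ⊓ N' ≤ pCore 2 G := Cores.le_pCore (S.isPGroup'.to_le inf_le_left)
        rw [← hRQ] at h2
        exact h2.trans inf_le_right
      have hLN : L ≤ N' := by
        intro x hx
        rw [hN', mem_comap, show f x = 1 from (QuotientGroup.eq_one_iff x).mpr hx]
        exact one_mem _
      have h3 := relIndex_mul_relIndex ((S : Subgroup G) ⊓ N') L N' hle hLN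
      have h4 : L.relIndex N' = Nat.card N := by
        have e1 := Pc.card_ker_mul_map f (K := N') (hfk.le.trans hLN)
        have e2 := card_inf_mul_relIndex L N'
        rw [hN', map_comap_eq_self_of_surjective hfs, hfk, ← hN'] at e1
        rw [inf_eq_right.mpr hLN] at e2
        exact Nat.eq_of_mul_eq_mul_left Nat.card_pos (e2.trans e1.symm)
      exact (isSylowIn_of_normal S N').ndvd (h3 ▸ (h4.symm ▸ hNe).mul_left _)
    have hSX2 : (S : Subgroup G) ≤ X2 := fun s hs => H48.mem_normalizer_of_cj_eq (by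
      rw [H48.cj_inf, H48.cj_eq_of_mem_normalizer ((le_normalizer (H := (S : Subgroup G))) hs),
        H48.cj_eq_of_mem_normalizer (by rw [normalizer_eq_top]; exact mem_top s : s ∈ normalizer (N' : Set G))])
    have h2 := ih.sub hn hfree X2 hX2top (constrained_sub hc X2 ((hQS.trans hSX2).trans le_normalizer))
      (goodFac_of_sup hfac S N' X2 (frattini_inf S N') le_normalizer le_rfl) S (isSylowIn_of_le S hSX2)
      (jay_le.trans hSX2) (hVS.trans hSX2) hV hVS (hjT.symm ▸ hnorm) (hjT.symm ▸ hgood)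
    have hNΦ : N ⊔ Φ = ⊤ := by
      rw [← top_le_iff, ← map_top_of_surjective f hfs, ← htop, map_le_iff_le_comap]
      refine (closure_le _).mpr fun y hy => ?_
      obtain ⟨j, hj, hjy⟩ := Group.mem_conjugatesOfSet_iff.mp hy
      obtain ⟨g, rfl⟩ := isConj_iff.mp hjy
      obtain ⟨m, hm, y2, hy2, rfl⟩ : ∃ m ∈ N', ∃ y2 ∈ X2, m * y2 = g := by
        have h := (frattini_inf S N').ge (mem_top g)
        rw [sup_comm, mem_sup_of_normal_left] at h
        exact h
      rw [SetLike.mem_coe, mem_comap, show m * y2 * j * (m * y2)⁻¹ = m * (y2 * j * y2⁻¹) * m⁻¹ by group,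
        map_mul, map_mul, map_inv]
      exact mul_mem (mul_mem (mem_sup_left hm) (mem_sup_right ⟨_, h2 y2 hy2 (H48.conj_mem_cj hj), rfl⟩))
        (inv_mem (mem_sup_left hm))
    refine hne (eq_bot_of_supplement hNΦ hΦle (fun n' hn' => ?_) hcf hgen)
    obtain ⟨m, rfl⟩ := hfs n'
    refine H48.cj_le.mpr fun y hy => ?_
    rw [hK] at hy
    obtain ⟨j, hj, rfl⟩ := hy
    rw [← map_inv, ← map_mul, ← map_mul]
    exact ⟨_, h1 m (mem_sup_left hn') (H48.conj_mem_cj hj), rfl⟩
  obtain ⟨A', ⟨A, hA, rfl⟩, P, hP⟩ := exists_piece_not_le hinv (hfac.of_surjective f hfs)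
    (S.isPGroup'.map f) 𝒜 (by
      rintro _ ⟨A, hA, rfl⟩
      exact El.map (fun a ha => by rw [← sq]; exact hA.2.1.2 a ha) f) hΦle hcf hgen hcl hne
  exact hP (piece_le_of_good f hfs S hYel subset_normalClosure (hYQ.trans hQS) hnorm hgood
    (hfk.symm ▸ hCL) (hfk.symm ▸ hLdec) hA (hone A hA).2 P)

theorem eStep : ∀ n, EStep.{u} n := by
  intro n
  induction n with
  | zero => exact fun G _ _ hn => absurd hn (by have := Nat.card_pos (α := G); omega)
  | succ n ih => exact eStep_succ ih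

variable {G : Type u} [Group G] [Finite G]

/-- the normal closure of the Thompson subgroup centralises a good subgroup -/
theorem normalClosure_jay_le_centralizer (hc : centralizer (pCore 2 G : Set G) ≤ pCore 2 G)
    (hfree : ¬ Involves (Equiv.Perm (Fin 4)) G) (hfac : GoodFac G) (S : Sylow 2 G) {V : Subgroup G}
    (hV : El V) (hVS : V ≤ (S : Subgroup G)) (hnorm : jayTop (S : Subgroup G) ≤ normalizer (V : Set G))
    (hgood : Good V (jayTop (S : Subgroup G))) :
    normalClosure (jay 2 (S : Subgroup G) : Set G) ≤ centralizer (V : Set G) := by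
  refine (closure_le _).mpr fun y hy => ?_
  obtain ⟨j, hj, hjy⟩ := Group.mem_conjugatesOfSet_iff.mp hy
  obtain ⟨g, rfl⟩ := isConj_iff.mp hjy
  exact eStep (Nat.card G) G le_rfl hc hfree hfac S V hV hVS hnorm hgood g (H48.conj_mem_cj hj)

end Cfsg.Agent.Thompson.FourFree
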