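import Mathlib
import Cfsg.Agent.Thompson.SfourEGroup
import Cfsg.Prelude.Def_LocalEven

/-!
The factorizations of a constrained four-free group involving the subgroup generated by the E-groups above
the Thompson subgroup.
-/

set_option autoImplicit false
set_option linter.unusedSectionVars false
set_option linter.style.haveILetI false

namespace Cfsg.Agent.Thompson.FourFree

open Subgroup
open H48 (cj)
open Par (Inv3 El)
open Pc (Mod2 GoodFac comV)
open Off (fixV)
open GenOff (lg card_eq_two_pow)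

universe u v

theorem map_centralizer_equiv {T : Type u} {T' : Type v} [Group T] [Group T'] (e : T ≃* T') (V : Subgroup T) :
    (centralizer (V : Set T)).map e.toMonoidHom = centralizer ((V.map e.toMonoidHom : Subgroup T') : Set T') := by
  ext x
  constructor
  · rintro ⟨y, hy, rfl⟩
    refine mem_centralizer_iff.mpr ?_
    rintro _ ⟨v, hv, rfl⟩
    rw [← map_mul, ← map_mul, mem_centralizer_iff.mp hy v hv]
  · intro hx
    refine ⟨e.symm x, mem_centralizer_iff.mpr fun v hv => e.injective ?_, e.apply_symm_apply x⟩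
    rw [map_mul, map_mul, e.apply_symm_apply]
    exact mem_centralizer_iff.mp hx (e v) ⟨v, hv, rfl⟩

/-- being an E-group is invariant under isomorphisms -/
theorem isEGroup_equiv {T : Type u} {T' : Type v} [Group T] [Group T'] (e : T ≃* T') (h : IsEGroup T) :
    IsEGroup T' := by
  intro V' hV'n hV'el hhyp
  set f := e.toMonoidHom with hf
  set V := V'.comap f with hV
  have hfi : Function.Injective f := e.injective
  have hVm : V.map f = V' := map_comap_eq_self_of_surjective (f := f) e.surjective V'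
  have hcard : ∀ X : Subgroup T, Nat.card (X.map f) = Nat.card X := fun X => card_map_of_injective hfi
  have hC : ∀ X : Subgroup T, (centralizer (X : Set T)).map f = centralizer ((X.map f : Subgroup T') : Set T') :=
    map_centralizer_equiv e
  have hel : IsElementaryAbelian 2 V := by
    obtain ⟨h1, h2⟩ := hV'el
    refine ⟨isMulCommutative_iff_forall.mpr fun a ha b hb => hfi ?_, fun a ha => hfi ?_⟩
    · rw [map_mul, map_mul]
      exact isMulCommutative_iff_forall.mp h1 (f a) ha (f b) hb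
    · rw [map_pow, map_one]
      exact h2 (f a) ha
  have hVc := h V (hV'n.comap f) hel fun R hR1 hR2 hR3 => by
    have h1 : ⁅R.map f, R.map f⁆ ≤ centralizer (V' : Set T') := by
      rw [← map_commutator, ← hVm, ← hC]
      exact map_mono hR1
    have h2 : ∀ r ∈ R.map f, r ^ 2 ∈ centralizer (V' : Set T') := by
      rintro _ ⟨r, hr, rfl⟩
      rw [← hVm, ← hC, ← map_pow]
      exact mem_map_of_mem f (hR2 r hr)
    have h3 : ¬ R.map f ≤ centralizer (V' : Set T') := by
      rw [← hVm, ← hC, map_le_map_iff_of_injective hfi]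
      exact hR3
    obtain ⟨e1, e2⟩ := hhyp (R.map f) h1 h2 h3
    rw [← hVm, ← hC, ← hC, ← Subgroup.map_inf _ _ f hfi, ← Subgroup.map_inf _ _ f hfi, hcard, hcard, hcard,
      hcard] at e1
    rw [← hVm, ← hC, ← map_commutator, ← Subgroup.map_inf _ _ f hfi, hcard, hcard, hcard] at e2
    exact ⟨e1, e2⟩
  intro v hv
  refine mem_center_iff.mpr fun x => ?_
  obtain ⟨y, rfl⟩ := e.surjective x
  obtain ⟨w, hw, rfl⟩ : v ∈ V.map f := hVm.symm ▸ hv
  show f y * f w = f w * f y
  rw [← map_mul, ← map_mul, mem_center_iff.mp (hVc hw) y]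

variable {G : Type u} [Group G]

/-- the subgroup generated by the E-groups above the Thompson subgroup -/
def jHatIn (S : Subgroup G) : Subgroup G :=
  sSup {U : Subgroup G | U ≤ S ∧ IsEGroup U ∧ jay 2 S ≤ U}

theorem map_jHat_eq (S : Subgroup G) : (Cfsg.jHat ↥S).map S.subtype = jHatIn S := by
  have hJ : (thompsonSubgroup 2 ↥S).map S.subtype = jay 2 S := thompsonSubgroupOf_eq 2 S
  refine le_antisymm ?_ (sSup_le ?_)
  · rw [Cfsg.jHat, map_le_iff_le_comap]
    refine sSup_le fun U ⟨hE, hU⟩ => ?_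
    rw [← map_le_iff_le_comap]
    exact le_sSup ⟨map_subtype_le U, isEGroup_equiv (U.equivMapOfInjective S.subtype S.subtype_injective) hE,
      hJ.symm.le.trans (map_mono hU)⟩
  · rintro U ⟨hUS, hE, hU⟩
    have hm : (U.subgroupOf S).map S.subtype = U := by rw [subgroupOf_map_subtype, inf_eq_left.mpr hUS]
    rw [← hm]
    refine map_mono (le_sSup ⟨isEGroup_equiv (subgroupOfEquivOfLe hUS).symm hE, ?_⟩)
    rw [← map_le_map_iff_of_injective S.subtype_injective, hJ, hm]
    exact hU

variable [Finite G]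

/-- the bounds for a normal elementary abelian subgroup with core-free group of induced automorphisms -/
theorem two_bounds (hfree : ¬ Involves (Equiv.Perm (Fin 4)) G) (V : Subgroup G) [V.Normal]
    (hfac : GoodFac (G ⧸ centralizer (V : Set G))) (hV : ∀ v ∈ V, v * v = 1) (hcore : pCore 2 (G ⧸ centralizer (V : Set G)) = ⊥) (R : Subgroup G)
    (hsq : ∀ r ∈ R, r ^ 2 ∈ centralizer (V : Set G)) (hne : ¬ R ≤ centralizer (V : Set G)) :
    ((centralizer (V : Set G)).relIndex R) ^ 3 < ((centralizer (R : Set G)).relIndex V) ^ 2 ∧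
      (centralizer (V : Set G)).relIndex R < Nat.card ↥⁅V, R⁆ := by
  classical
  haveI : Fact (Nat.Prime 2) := ⟨Nat.prime_two⟩
  set C := centralizer (V : Set G) with hC
  have hker : (secRep (MonoidHom.id G) V hV).ker = C := Subgroup.ext fun z => mem_ker_secRep
  set ρ := QuotientGroup.lift C _ hker.ge with hρdef
  have hρ : Function.Injective ρ := lift_injective hker
  set π := QuotientGroup.mk' C with hπ
  have hinv := not_inv3_secRep hfree (MonoidHom.id G) V hV C hker
  have hex := fun (B : Subgroup (G ⧸ C)) hB hne =>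
    Pc.exists_piece hcore hinv hfac (A := B) hB hne
  set A := R.map π
  have hA : El A := by
    rintro _ ⟨r, hr, rfl⟩
    rw [← map_mul, ← sq]
    exact (QuotientGroup.eq_one_iff _).mpr (hsq r hr)
  obtain ⟨a, ha⟩ := IsPGroup.iff_card.mp hA.isPGroup
  have hidx : C.relIndex R = 2 ^ a := by
    rw [← ha, ← relIndex_bot_left A, ← relIndex_comap, MonoidHom.comap_bot, hπ, QuotientGroup.ker_mk']
  have ha0 : 0 < a := Nat.pos_of_ne_zero fun h => hne (relIndex_eq_one.mp (by rw [hidx, h, pow_zero]))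
  have hW : ∀ w : Mod2 V hV, w + w = 0 := Mod2.add_self
  have h1 := Pc.codim_two hW hρ hex A hA a ha
  have h2 := Pc.comm_two hW hρ hex hA ha
  have hfix : Nat.card (fixV ρ A) = Nat.card ↥(V ⊓ centralizer (R : Set G)) := by
    refine Nat.card_congr
      { toFun := fun w => ⟨w.1.val, w.1.val_mem, mem_centralizer_iff.mpr fun r hr => ?_⟩
        invFun := fun x => ⟨Mod2.mk x.1 x.2.1, ?_⟩
        left_inv := fun w => rfl
        right_inv := fun x => rfl }
    · exact mul_inv_eq_iff_eq_mul.mp
        (congrArg Mod2.val (w.2 (π r) ⟨r, hr, rfl⟩) : r * w.1.val * r⁻¹ = w.1.val)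
    · rintro _ ⟨r, hr, rfl⟩
      refine Mod2.val_injective ?_
      show r * x.1 * r⁻¹ = x.1
      rw [mul_inv_eq_iff_eq_mul]
      exact mem_centralizer_iff.mp x.2.2 r hr
  have hcardV : Nat.card V = 2 ^ lg (⊤ : AddSubgroup (Mod2 V hV)) := by
    rw [← card_eq_two_pow hW, AddSubgroup.card_top, Pc.card_mod2]
  refine ⟨?_, ?_⟩
  · have h3 := card_inf_mul_relIndex (centralizer (R : Set G)) V
    rw [← hfix, card_eq_two_pow hW, hcardV] at h3
    set d := (centralizer (R : Set G)).relIndex V
    have h4 : 2 ^ (2 * a) ≤ d := by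
      refine Nat.le_of_mul_le_mul_left (?_ : 2 ^ lg (fixV ρ A) * 2 ^ (2 * a) ≤ 2 ^ lg (fixV ρ A) * d)
        (Nat.two_pow_pos _)
      rw [h3, ← pow_add]
      exact Nat.pow_le_pow_right (by norm_num) h1
    rw [hidx]
    calc (2 ^ a) ^ 3 < (2 ^ (2 * a)) ^ 2 := by
          rw [← pow_mul, ← pow_mul]
          exact Nat.pow_lt_pow_right (by norm_num) (by omega)
      _ ≤ d ^ 2 := Nat.pow_le_pow_left h4 2
  · have hmem : ∀ w ∈ comV ρ A, w.val ∈ ⁅V, R⁆ := by
      intro w hw
      induction hw using AddSubgroup.closure_induction with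
      | mem w hw =>
        obtain ⟨_, ⟨r, hr, rfl⟩, u, rfl⟩ := hw
        rw [Mod2.val_sub]
        show r * u.val * r⁻¹ * u.val⁻¹ ∈ _
        rw [Subgroup.commutator_comm]
        exact commutator_mem_commutator hr u.val_mem
      | zero => exact one_mem _
      | add p q _ _ hp hq => exact mul_mem hp hq
      | neg p _ hp => exact inv_mem hp
    rw [hidx]
    calc 2 ^ a < 2 ^ lg (comV ρ A) := Nat.pow_lt_pow_right (by norm_num) (by omega)
      _ = Nat.card (comV ρ A) := (card_eq_two_pow hW _).symm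
      _ ≤ _ := Nat.card_le_card_of_injective (fun w => (⟨w.1.val, hmem w.1 w.2⟩ : (⁅V, R⁆ : Subgroup G)))
          fun p q h => Subtype.ext (Mod2.val_injective (congrArg (fun z : (⁅V, R⁆ : Subgroup G) => (z : G)) h))

/-- a normal elementary abelian subgroup with core-free induced group inside the centre of the Sylow subgroup's
conjugates -/
theorem center_module (hc : centralizer (pCore 2 G : Set G) ≤ pCore 2 G) (S : Sylow 2 G) :
    ∃ V : Subgroup G, ∃ _ : V.Normal, (∀ v ∈ V, v * v = 1) ∧ V ≤ (S : Subgroup G) ∧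
      centralizer (V : Set G) ≤
        centralizer (((S : Subgroup G) ⊓ centralizer ((S : Subgroup G) : Set G) : Subgroup G) : Set G) ∧
      pCore 2 (G ⧸ centralizer (V : Set G)) = ⊥ := by
  classical
  haveI : Fact (Nat.Prime 2) := ⟨Nat.prime_two⟩
  set Q := pCore 2 G
  haveI : Q.Normal := pCore_normal 2 G
  have hQS : Q ≤ (S : Subgroup G) := Cores.pCore_le_sylow S
  set Z : Subgroup G := (S : Subgroup G) ⊓ centralizer ((S : Subgroup G) : Set G)
  have hZC : Z ≤ centralizer (Q : Set G) := fun z hz => mem_centralizer_iff.mpr fun q hq =>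
    mem_centralizer_iff.mp hz.2 q (hQS hq)
  set V1 : Subgroup G := normalClosure (Z : Set G)
  have hV1 : V1 ≤ Q ⊓ centralizer (Q : Set G) := by
    haveI : (Q ⊓ centralizer (Q : Set G)).Normal := Subgroup.normal_inf_normal _ _
    exact normalClosure_le_normal (le_inf (hZC.trans hc) hZC)
  have hV1c : ∀ v ∈ V1, ∀ w ∈ V1, v * w = w * v := fun v hv w hw =>
    mem_centralizer_iff.mp (hV1 hw).2 v (hV1 hv).1
  have hV1p : IsPGroup 2 V1 := Cores.pCore_isPGroup.to_le (hV1.trans inf_le_left)
  let V : Subgroup G :=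
    { carrier := {v | v ∈ V1 ∧ v * v = 1}
      one_mem' := ⟨one_mem _, one_mul 1⟩
      mul_mem' := fun {v w} hv hw => ⟨mul_mem hv.1 hw.1, by
        rw [show v * w * (v * w) = v * (w * v) * w by simp only [mul_assoc], hV1c w hw.1 v hv.1,
          show v * (v * w) * w = (v * v) * (w * w) by simp only [mul_assoc], hv.2, hw.2, mul_one]⟩
      inv_mem' := fun {v} hv => ⟨inv_mem hv.1, by rw [← mul_inv_rev, hv.2, inv_one]⟩ }
  haveI hVn : V.Normal := ⟨fun v hv g => ⟨normalClosure_normal.conj_mem v hv.1 g, by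
    rw [show g * v * g⁻¹ * (g * v * g⁻¹) = g * (v * v) * g⁻¹ by group, hv.2, mul_one, mul_inv_cancel]⟩⟩
  set C := centralizer (V : Set G)
  set f := QuotientGroup.mk' C
  have hf : Function.Surjective f := QuotientGroup.mk'_surjective C
  -- elements of odd order fixing `V` fix `V1`
  have hodd : ∀ z ∈ C, ∀ m, ¬ 2 ∣ m → z ^ m = 1 → z ∈ centralizer (V1 : Set G) := fun z hz m hm hzm =>
    mem_centralizer_iff.mpr fun v hv => (mul_inv_eq_iff_eq_mul.mp (centralizes_of_involutions hV1p hV1c hm hzm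
      (fun v hv => normalClosure_normal.conj_mem v hv _)
      (fun v hv hv2 => by
        rw [← mem_centralizer_iff.mp hz v ⟨hv, hv2⟩, mul_inv_cancel_right]) v hv)).symm
  set C1 := centralizer (V1 : Set G) with hC1
  haveI : C1.Normal := inferInstance
  set f1 := QuotientGroup.mk' C1
  have hcore1 : pCore 2 (G ⧸ C1) = ⊥ := by
    set P := (pCore 2 (G ⧸ C1)).comap f1
    haveI : P.Normal := Subgroup.Normal.comap (pCore_normal 2 _) f1
    have hle : P ≤ C1 ⊔ (S : Subgroup G) := by
      refine (comap_mono (Cores.pCore_le_sylow (S.mapSurjective (QuotientGroup.mk'_surjective C1)))).trans ?_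
      rw [show ((S.mapSurjective (QuotientGroup.mk'_surjective C1) : Sylow 2 _) : Subgroup (G ⧸ C1)) =
        (S : Subgroup G).map f1 from rfl, comap_map_eq, QuotientGroup.ker_mk', sup_comm]
    have hPC : P ≤ C1 := by
      intro p hp
      refine mem_centralizer_iff.mpr fun v hv => ?_
      have hset : V1 ≤ centralizer ({p} : Set G) := by
        refine (Subgroup.closure_le _).mpr fun w hw => ?_
        obtain ⟨z, hz, hzw⟩ := Group.mem_conjugatesOfSet_iff.mp hw
        obtain ⟨g, rfl⟩ := isConj_iff.mp hzw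
        obtain ⟨c, hcC, s, hs, hcs⟩ :=
          mem_sup_of_normal_left.mp (hle ((inferInstance : P.Normal).conj_mem p hp g⁻¹))
        have h1 : c * s * z = z * (c * s) := by
          have e1 : z * c = c * z := mem_centralizer_iff.mp hcC z (subset_normalClosure hz)
          have e2 : s * z = z * s := mem_centralizer_iff.mp hz.2 s hs
          rw [mul_assoc, e2, ← mul_assoc, ← e1, mul_assoc]
        rw [hcs, inv_inv] at h1
        refine mem_centralizer_singleton_iff.mpr ?_
        calc g * z * g⁻¹ * p = g * (z * (g⁻¹ * p * g)) * g⁻¹ := by group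
          _ = g * (g⁻¹ * p * g * z) * g⁻¹ := by rw [h1]
          _ = p * (g * z * g⁻¹) := by group
      exact mem_centralizer_singleton_iff.mp (hset hv)
    refine (eq_bot_iff_forall _).mpr fun y hy => ?_
    obtain ⟨p, rfl⟩ := QuotientGroup.mk'_surjective C1 y
    exact (QuotientGroup.eq_one_iff p).mpr (hPC hy)
  have hCC : C = C1 := by
    refine le_antisymm ?_ (centralizer_le fun v hv => hv.1)
    haveI : (C.map f1).Normal := (inferInstance : C.Normal).map f1 (QuotientGroup.mk'_surjective C1)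
    have hp : IsPGroup 2 (C.map f1) := by
      rintro ⟨_, z, hz, rfl⟩
      obtain ⟨k, m, hm, hkm⟩ := Nat.exists_eq_pow_mul_and_not_dvd (orderOf_pos z).ne' 2 (by norm_num)
      refine ⟨k, Subtype.ext ?_⟩
      show f1 z ^ 2 ^ k = 1
      rw [← map_pow]
      exact (QuotientGroup.eq_one_iff _).mpr
        (hodd _ (pow_mem hz _) m hm (by rw [← pow_mul, ← hkm, pow_orderOf_eq_one]))
    have h := Cores.le_pCore hp
    rw [hcore1, le_bot_iff, Subgroup.map_eq_bot_iff, QuotientGroup.ker_mk'] at h
    exact h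
  refine ⟨V, hVn, fun v hv => hv.2, fun v hv => hQS (hV1 hv.1).1, ?_, ?_⟩
  · rw [show centralizer (V : Set G) = C1 from hCC]
    exact centralizer_le fun z hz => subset_normalClosure hz
  · have e := Cores.pCore_map_mulEquiv (p := 2) (QuotientGroup.quotientMulEquivOfEq hCC)
    rw [hcore1, Subgroup.map_eq_bot_iff_of_injective _
      (QuotientGroup.quotientMulEquivOfEq hCC).injective] at e
    exact e

/-- E-groups containing the module centralise it -/
theorem le_centralizer_of_isEGroup (hfree : ¬ Involves (Equiv.Perm (Fin 4)) G) (V : Subgroup G) [V.Normal]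
    (hfac : GoodFac (G ⧸ centralizer (V : Set G))) (hV : ∀ v ∈ V, v * v = 1)
    (hcore : pCore 2 (G ⧸ centralizer (V : Set G)) = ⊥) {U : Subgroup G} (hE : IsEGroup U) (hVU : V ≤ U) :
    U ≤ centralizer (V : Set G) := by
  set C := centralizer (V : Set G) with hCdef
  set f := U.subtype
  have hfi : Function.Injective f := U.subtype_injective
  have hcardm : ∀ X : Subgroup U, Nat.card (X.map f) = Nat.card X := fun X => card_map_of_injective hfi
  have hVm : (V.subgroupOf U).map f = V := by rw [subgroupOf_map_subtype, inf_eq_left.mpr hVU]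
  have hcomap : centralizer ((V.subgroupOf U : Subgroup U) : Set U) = C.subgroupOf U := by
    ext z
    rw [mem_subgroupOf, hCdef, mem_centralizer_iff, mem_centralizer_iff]
    exact ⟨fun h v hv => congrArg Subtype.val (h ⟨v, hVU hv⟩ hv), fun h v hv => Subtype.ext (h v.1 hv)⟩
  have hcen := hE (V.subgroupOf U) inferInstance
    ⟨isMulCommutative_iff_forall.mpr fun a ha b hb => Subtype.ext
      (Pc.comm_of_sq (M := V) ha hb hV), fun a ha => Subtype.ext (by
        show (a : G) ^ 2 = 1
        rw [sq]; exact hV a.1 ha)⟩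
    (fun R hR1 hR2 hR3 => by
      rw [hcomap] at hR1 hR2 hR3 ⊢
      have hsq : ∀ r ∈ R.map f, r ^ 2 ∈ C := by
        rintro _ ⟨r, hr, rfl⟩
        exact hR2 r hr
      have hne : ¬ R.map f ≤ C := fun h => hR3 fun r hr => h ⟨r, hr, rfl⟩
      obtain ⟨e1, e2⟩ := two_bounds hfree V hfac hV hcore (R.map f) hsq hne
      have h4 := card_inf_mul_relIndex C (R.map f)
      have h5 := card_inf_mul_relIndex (centralizer ((R.map f : Subgroup G) : Set G)) V
      have hI : (R ⊓ C.subgroupOf U).map f = R.map f ⊓ C := by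
        ext z
        constructor
        · rintro ⟨r, ⟨hr, hrC⟩, rfl⟩
          exact ⟨⟨r, hr, rfl⟩, hrC⟩
        · rintro ⟨⟨r, hr, rfl⟩, hrC⟩
          exact ⟨r, ⟨hr, hrC⟩, rfl⟩
      have hI2 : (V.subgroupOf U ⊓ centralizer (R : Set U)).map f =
          V ⊓ centralizer ((R.map f : Subgroup G) : Set G) := by
        ext z
        constructor
        · rintro ⟨v, ⟨hv, hvC⟩, rfl⟩
          refine ⟨hv, mem_centralizer_iff.mpr ?_⟩
          rintro _ ⟨r, hr, rfl⟩
          exact congrArg Subtype.val (mem_centralizer_iff.mp hvC r hr)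
        · rintro ⟨hv, hvC⟩
          exact ⟨⟨z, hVU hv⟩, ⟨hv, mem_centralizer_iff.mpr fun r hr =>
            Subtype.ext (mem_centralizer_iff.mp hvC r.1 ⟨r, hr, rfl⟩)⟩, rfl⟩
      have hI3 : ⁅V.subgroupOf U, R⁆.map f = ⁅V, R.map f⁆ := by rw [map_commutator, hVm]
      rw [← hcardm (V.subgroupOf U), ← hcardm (R ⊓ _), ← hcardm R, ← hcardm (V.subgroupOf U ⊓ _),
        ← hcardm ⁅V.subgroupOf U, R⁆, hVm, hI, hI2, hI3]
      set r := C.relIndex (R.map f)
      set d := (centralizer ((R.map f : Subgroup G) : Set G)).relIndex V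
      set K := Nat.card ↥(R.map f ⊓ C)
      set L := Nat.card ↥(V ⊓ centralizer ((R.map f : Subgroup G) : Set G))
      have hK : 0 < K := Nat.card_pos
      have hL : 0 < L := Nat.card_pos
      rw [← h4, ← h5]
      refine ⟨?_, ?_⟩
      · calc (K * r) ^ 3 * L ^ 2 = r ^ 3 * (K ^ 3 * L ^ 2) := by ring
          _ < d ^ 2 * (K ^ 3 * L ^ 2) := Nat.mul_lt_mul_of_pos_right e1 (by positivity)
          _ = (L * d) ^ 2 * K ^ 3 := by ring
      · calc K * r = r * K := mul_comm _ _
          _ < Nat.card ↥⁅V, R.map f⁆ * K := Nat.mul_lt_mul_of_pos_right e2 hK)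
  intro u hu
  refine mem_centralizer_iff.mpr fun v hv => ?_
  exact (congrArg Subtype.val (mem_center_iff.mp (hcen (show (⟨v, hVU hv⟩ : U) ∈ V.subgroupOf U from hv))
    ⟨u, hu⟩)).symm

/-- the E-groups above the Thompson subgroup centralise the module -/
theorem exists_center_hat_factor (hc : centralizer (pCore 2 G : Set G) ≤ pCore 2 G)
    (hfree : ¬ Involves (Equiv.Perm (Fin 4)) G) (hfac : GoodFac G) (S : Sylow 2 G) (x : G) :
    ∃ a ∈ centralizer (((S : Subgroup G) ⊓ centralizer ((S : Subgroup G) : Set G) : Subgroup G) : Set G),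
      ∃ b ∈ normalizer (jHatIn (S : Subgroup G) : Set G), x = a * b := by
  haveI : Fact (Nat.Prime 2) := ⟨Nat.prime_two⟩
  obtain ⟨V, hVn, hV, hVS, hCZ, hcore⟩ := center_module hc S
  haveI := hVn
  set C := centralizer (V : Set G) with hCdef
  set J := jay 2 (S : Subgroup G)
  have hgood : Good V ⊤ := fun R _ _ h2 h3 =>
    (two_bounds hfree V (hfac.of_surjective _ (QuotientGroup.mk'_surjective _)) hV hcore R h2 h3).1
  have hone : ∀ A ∈ maxIn 2 (S : Subgroup G), V ≤ A ∧ A ≤ C := fun A hA =>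
    le_maxIn_of_good hV hVS hA (hgood.mono le_top)
  have hJC : J ≤ C := sSup_le fun A hA => (hone A hA).2
  have hVJ : V ≤ J := by
    obtain ⟨A, hA⟩ := maxIn_nonempty 2 (S : Subgroup G)
    exact (hone A hA).1.trans (le_jay hA)
  have hUC : ∀ U : Subgroup G, U ≤ (S : Subgroup G) → IsEGroup U → J ≤ U → U ≤ C := fun U _ hE hJU =>
    le_centralizer_of_isEGroup hfree V (hfac.of_surjective _ (QuotientGroup.mk'_surjective _)) hV hcore hE
      (hVJ.trans hJU)
  have hJSC : J ≤ (S : Subgroup G) ⊓ C := le_inf jay_le hJC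
  obtain ⟨a, ha, b, hb, rfl⟩ : ∃ a ∈ C, ∃ b ∈ normalizer ((((S : Subgroup G) ⊓ C : Subgroup G)) : Set G),
      a * b = x := by
    have h := (frattini_inf S C).ge (mem_top x)
    rw [sup_comm, mem_sup_of_normal_left] at h
    exact h
  refine ⟨a, hCZ ha, b, H48.mem_normalizer_of_cj_eq (H48.cj_eq_self_of_le ?_), rfl⟩
  rw [map_le_iff_le_comap]
  refine sSup_le fun U ⟨hUS, hE, hJU⟩ => ?_
  rw [← map_le_iff_le_comap]
  have hbJ : b ∈ normalizer (J : Set G) := by
    rw [show J = jay 2 ((S : Subgroup G) ⊓ C) from (jay_eq_of_le hJSC inf_le_left).symm]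
    exact normalizer_le_normalizer_jay 2 _ hb
  refine le_sSup ⟨?_, isEGroup_equiv (U.equivMapOfInjective _ (MulAut.conj b).injective) hE, ?_⟩
  · exact (H48.cj_mono (le_inf hUS (hUC U hUS hE hJU))).trans
      ((H48.cj_eq_of_mem_normalizer hb).le.trans inf_le_left)
  · exact (H48.cj_eq_of_mem_normalizer hbJ).ge.trans (H48.cj_mono hJU)

/-- the hypothesis in the definition of an E-group gives the inequality -/
theorem good_of_hyp (U : Subgroup G) (V' : Subgroup U)
    (hhyp : ∀ R : Subgroup U, ⁅R, R⁆ ≤ centralizer (V' : Set U) → (∀ r ∈ R, r ^ 2 ∈ centralizer (V' : Set U)) →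
      ¬ R ≤ centralizer (V' : Set U) →
        (Nat.card V') ^ 2 * (Nat.card ↥(R ⊓ centralizer (V' : Set U))) ^ 3 >
            (Nat.card R) ^ 3 * (Nat.card ↥(V' ⊓ centralizer (R : Set U))) ^ 2 ∧
          Nat.card ↥⁅V', R⁆ * Nat.card ↥(R ⊓ centralizer (V' : Set U)) > Nat.card R) :
    Good (V'.map U.subtype) U := by
  set f := U.subtype
  have hcardm : ∀ X : Subgroup U, Nat.card (X.map f) = Nat.card X := fun X =>
    card_map_of_injective U.subtype_injective
  set V := V'.map f with hV
  intro R hR h1 h2 h3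
  set R' := R.subgroupOf U with hR'
  have hRm : R'.map f = R := by rw [hR', subgroupOf_map_subtype, inf_eq_left.mpr hR]
  have hmem : ∀ z : U, z ∈ centralizer (V' : Set U) ↔ (z : G) ∈ centralizer (V : Set G) := by
    intro z
    rw [mem_centralizer_iff, mem_centralizer_iff]
    constructor
    · rintro h _ ⟨v, hv, rfl⟩
      exact congrArg Subtype.val (h v hv)
    · exact fun h v hv => Subtype.ext (h v.1 ⟨v, hv, rfl⟩)
  obtain ⟨e1, -⟩ := hhyp R' (fun z hz => (hmem z).mpr (h1 (by
      have h := mem_map_of_mem f hz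
      rwa [map_commutator, hRm] at h)))
    (fun z hz => (hmem _).mpr (h2 z.1 hz)) (fun h => h3 fun r hr => (hmem ⟨r, hR hr⟩).mp (h hr))
  have hI : (R' ⊓ centralizer (V' : Set U)).map f = R ⊓ centralizer (V : Set G) := by
    ext z
    constructor
    · rintro ⟨r, ⟨hr, hrC⟩, rfl⟩
      exact ⟨hr, (hmem r).mp hrC⟩
    · rintro ⟨hr, hrC⟩
      exact ⟨⟨z, hR hr⟩, ⟨hr, (hmem _).mpr hrC⟩, rfl⟩
  have hI2 : (V' ⊓ centralizer (R' : Set U)).map f = V ⊓ centralizer (R : Set G) := by
    ext z
    constructor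
    · rintro ⟨v, ⟨hv, hvC⟩, rfl⟩
      exact ⟨⟨v, hv, rfl⟩, mem_centralizer_iff.mpr fun r hr =>
        congrArg Subtype.val (mem_centralizer_iff.mp hvC ⟨r, hR hr⟩ hr)⟩
    · rintro ⟨⟨v, hv, rfl⟩, hvC⟩
      exact ⟨v, ⟨hv, mem_centralizer_iff.mpr fun r hr => Subtype.ext (mem_centralizer_iff.mp hvC r.1 hr)⟩, rfl⟩
  rw [← hcardm V', ← hcardm (R' ⊓ _), ← hcardm R', ← hcardm (V' ⊓ _), hI, hI2, hRm, ← hV,
    ← card_inf_mul_relIndex (centralizer (V : Set G)) R,
    ← card_inf_mul_relIndex (centralizer (R : Set G)) V] at e1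
  set r := (centralizer (V : Set G)).relIndex R
  set d := (centralizer (R : Set G)).relIndex V
  set K := Nat.card ↥(R ⊓ centralizer (V : Set G))
  set L := Nat.card ↥(V ⊓ centralizer (R : Set G))
  refine lt_of_mul_lt_mul_right (a := K ^ 3 * L ^ 2) ?_ (Nat.zero_le _)
  calc r ^ 3 * (K ^ 3 * L ^ 2) = (K * r) ^ 3 * L ^ 2 := by ring
    _ < (L * d) ^ 2 * K ^ 3 := e1
    _ = d ^ 2 * (K ^ 3 * L ^ 2) := by ring

/-- the Sylow subgroup of the normal closure of the Thompson subgroup is an E-group -/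
theorem isEGroup_jayTop (hc : centralizer (pCore 2 G : Set G) ≤ pCore 2 G)
    (hfree : ¬ Involves (Equiv.Perm (Fin 4)) G) (hfac : GoodFac G) (S : Sylow 2 G) :
    IsEGroup (jayTop (S : Subgroup G)) := by
  set U := jayTop (S : Subgroup G) with hU
  intro V' hV'n hV'el hhyp
  set f := U.subtype
  have hfi : Function.Injective f := U.subtype_injective
  have hcardm : ∀ X : Subgroup U, Nat.card (X.map f) = Nat.card X := fun X => card_map_of_injective hfi
  set V := V'.map f with hV
  have hVU : V ≤ U := map_subtype_le V'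
  have hVS : V ≤ (S : Subgroup G) := hVU.trans inf_le_left
  have hVel : El V := El.map (fun a ha => by rw [← sq]; exact hV'el.2 a ha) f
  have hnorm : U ≤ normalizer (V : Set G) := by
    intro u hu
    refine H48.mem_normalizer_of_cj_eq (H48.cj_eq_self_of_le (H48.cj_le.mpr ?_))
    rintro _ ⟨v, hv, rfl⟩
    exact ⟨_, hV'n.conj_mem v hv ⟨u, hu⟩, rfl⟩
  have hgood : Good V U := good_of_hyp U V' hhyp
  have h := normalClosure_jay_le_centralizer hc hfree hfac S hVel hVS hnorm hgood
  intro v hv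
  refine mem_center_iff.mpr fun u => Subtype.ext ?_
  exact (mem_centralizer_iff.mp (h (show (u : G) ∈ normalClosure (jay 2 (S : Subgroup G) : Set G) from u.2.2))
    v.1 ⟨v, hv, rfl⟩).symm

/-- the factorization with the centre of `jHatIn S` -/
theorem exists_omega_hat_factor (hc : centralizer (pCore 2 G : Set G) ≤ pCore 2 G)
    (hfree : ¬ Involves (Equiv.Perm (Fin 4)) G) (hfac : GoodFac G) (S : Sylow 2 G) (x : G) :
    ∃ a ∈ centralizer (omegaOne 2 (jHatIn (S : Subgroup G) ⊓
        centralizer (jHatIn (S : Subgroup G) : Set G)) : Set G),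
      ∃ b ∈ normalizer (jay 2 (S : Subgroup G) : Set G), x = a * b := by
  haveI : Fact (Nat.Prime 2) := ⟨Nat.prime_two⟩
  set J := jay 2 (S : Subgroup G) with hJ
  set H := jHatIn (S : Subgroup G) with hH
  set U := jayTop (S : Subgroup G) with hU
  set G1 := normalClosure (J : Set G) with hG1
  set W := omegaOne 2 (H ⊓ centralizer (H : Set G)) with hW
  have hJU : J ≤ U := jay_le_jayTop _
  have hUH : U ≤ H := le_sSup ⟨inf_le_left, isEGroup_jayTop hc hfree hfac S, hJU⟩
  have hHS : H ≤ (S : Subgroup G) := sSup_le fun _ h => h.1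
  have hWH : W ≤ H ⊓ centralizer (H : Set G) := (closure_le _).mpr fun _ h => h.1
  have hWJ : W ≤ J := by
    refine (closure_le _).mpr fun z hz => ?_
    obtain ⟨A, hA⟩ := maxIn_nonempty 2 (S : Subgroup G)
    exact le_jay hA (mem_of_mem_centralizer hA (hHS hz.1.1)
      (centralizer_le ((le_jay hA).trans (hJU.trans hUH)) hz.1.2) hz.2)
  have hWC : W ≤ centralizer (U : Set G) := hWH.trans (inf_le_right.trans (centralizer_le hUH))
  have hJW : J ≤ centralizer (W : Set G) :=
    le_centralizer_iff.mp (hWC.trans (centralizer_le hJU))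
  haveI : G1.Normal := normalClosure_normal
  have hfG1 : GoodFac G1 := hfac.subgroup (inferInstance : G1.Normal).isSubnormal
  have hcG1 := constrained_sub hc G1 (by rw [normalizer_eq_top]; exact le_top)
  set T := (isSylowIn_of_normal S G1).toSylow
  have hT : (T : Subgroup G1).map G1.subtype = U := by
    rw [H48.IsSylowIn.coe_toSylow, subgroupOf_map_subtype, inf_eq_left.mpr inf_le_right]; rfl
  have hJT : (jay 2 (T : Subgroup G1)).map G1.subtype = J := by
    rw [← jay_map _ G1.subtype_injective, hT, hJ]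
    exact jay_eq_of_le hJU inf_le_left
  have hG1W : G1 ≤ centralizer (W : Set G) := by
    refine (closure_le _).mpr fun y hy => ?_
    obtain ⟨j, hj, hjy⟩ := Group.mem_conjugatesOfSet_iff.mp hy
    obtain ⟨g, rfl⟩ := isConj_iff.mp hjy
    obtain ⟨k, hk, b, hb, rfl⟩ : ∃ k ∈ G1, ∃ b ∈ normalizer (((S : Subgroup G) ⊓ G1 : Subgroup G) : Set G),
        k * b = g := by
      have h := (frattini_inf S G1).ge (mem_top g)
      rw [sup_comm, mem_sup_of_normal_left] at h
      exact h
    have hbJ : b ∈ normalizer (J : Set G) := by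
      rw [hJ, ← jay_eq_of_le (hJU : jay 2 (S : Subgroup G) ≤ (S : Subgroup G) ⊓ G1) inf_le_left]
      exact normalizer_le_normalizer_jay 2 _ hb
    obtain ⟨a, ha, c, hc', he⟩ := exists_center_jay_factor (sfour_free_subgroup hfree G1) hcG1 T ⟨k, hk⟩
    have haW : (a : G) ∈ centralizer (W : Set G) := by
      refine mem_centralizer_iff.mpr fun w hw => ?_
      have hwG1 : w ∈ G1 := (hJU (hWJ hw)).2
      have hwT : (⟨w, hwG1⟩ : G1) ∈ (T : Subgroup G1) ⊓ centralizer ((T : Subgroup G1) : Set G1) := by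
        refine ⟨?_, mem_centralizer_iff.mpr fun t ht => Subtype.ext
          (mem_centralizer_iff.mp (hWC hw) t.1 (hT ▸ ⟨t, ht, rfl⟩))⟩
        obtain ⟨t, ht, hte⟩ : w ∈ (T : Subgroup G1).map G1.subtype := hT ▸ hJU (hWJ hw)
        rwa [show (⟨w, hwG1⟩ : G1) = t from Subtype.ext hte.symm]
      exact congrArg Subtype.val (mem_centralizer_iff.mp ha _ hwT)
    have hcJ : (c : G) ∈ normalizer (J : Set G) := by
      refine H48.mem_normalizer_of_cj_eq ?_
      conv_lhs => rw [← hJT]
      conv_rhs => rw [← hJT, ← H48.cj_eq_of_mem_normalizer hc']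
      rw [H48.cj, H48.cj, map_map, map_map]
      congr 1
    have hj' : (c : G) * (b * j * b⁻¹) * (c : G)⁻¹ ∈ J :=
      (mem_normalizer_iff.mp hcJ _).mp ((mem_normalizer_iff.mp hbJ j).mp hj)
    have hk' : k = (a : G) * c := congrArg Subtype.val he
    rw [SetLike.mem_coe, hk', show (a : G) * c * b * j * ((a : G) * c * b)⁻¹ =
      a * ((c : G) * (b * j * b⁻¹) * (c : G)⁻¹) * (a : G)⁻¹ by group]
    exact mul_mem (mul_mem haW (hJW hj')) (inv_mem haW)
  obtain ⟨k, hk, b, hb, rfl⟩ : ∃ k ∈ G1, ∃ b ∈ normalizer (((S : Subgroup G) ⊓ G1 : Subgroup G) : Set G),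
      k * b = x := by
    have h := (frattini_inf S G1).ge (mem_top x)
    rw [sup_comm, mem_sup_of_normal_left] at h
    exact h
  refine ⟨k, hG1W hk, b, ?_, rfl⟩
  rw [hJ, ← jay_eq_of_le (hJU : jay 2 (S : Subgroup G) ≤ (S : Subgroup G) ⊓ G1) inf_le_left]
  exact normalizer_le_normalizer_jay 2 _ hb

end Cfsg.Agent.Thompson.FourFree
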