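import Mathlib
import Cfsg.Agent.Thompson.SfourHat
import Cfsg.Agent.Cores.PCore

/-!
The normalizer of a 2-subgroup acts on it as a quotient of a constrained section, and the module generated
by the conjugates of central elements of a Sylow subgroup has core-free automorphism group.
-/

set_option autoImplicit false
set_option linter.unusedSectionVars false
set_option linter.style.haveILetI false

namespace Cfsg.Agent.Thompson.FourFree

open Subgroup
open scoped commutatorElement
open H48 (cj)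
open Pc (GoodFac)

universe u

variable {G : Type u} [Group G] [Finite G]

/-- the group induced on the normal closure of central elements of a Sylow subgroup has trivial 2-core -/
theorem core_quotient_center (S : Sylow 2 G) {Z : Subgroup G} (hZ : Z ≤ centralizer ((S : Subgroup G) : Set G))
    (V : Subgroup G) [V.Normal] (hVZ : normalClosure (Z : Set G) = V) :
    pCore 2 (G ⧸ centralizer (V : Set G)) = ⊥ := by
  haveI : Fact (Nat.Prime 2) := ⟨Nat.prime_two⟩
  set C := centralizer (V : Set G)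
  set f := QuotientGroup.mk' C
  set P := (pCore 2 (G ⧸ C)).comap f
  haveI : P.Normal := Subgroup.Normal.comap (pCore_normal 2 _) f
  have hle : P ≤ C ⊔ (S : Subgroup G) := by
    refine (comap_mono (Cores.pCore_le_sylow (S.mapSurjective (QuotientGroup.mk'_surjective C)))).trans ?_
    rw [show ((S.mapSurjective (QuotientGroup.mk'_surjective C) : Sylow 2 _) : Subgroup (G ⧸ C)) =
      (S : Subgroup G).map f from rfl, comap_map_eq, QuotientGroup.ker_mk', sup_comm]
  have hZV : Z ≤ V := hVZ ▸ subset_normalClosure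
  have hCS : C ⊔ (S : Subgroup G) ≤ centralizer (Z : Set G) :=
    sup_le (centralizer_le hZV) (le_centralizer_iff.mp hZ)
  haveI : (centralizer (P : Set G)).Normal := inferInstance
  have hV : V ≤ centralizer (P : Set G) :=
    hVZ ▸ normalClosure_le_normal (le_centralizer_iff.mp (hle.trans hCS))
  refine (eq_bot_iff_forall _).mpr fun y hy => ?_
  obtain ⟨p, rfl⟩ := QuotientGroup.mk'_surjective C y
  exact (QuotientGroup.eq_one_iff p).mpr (le_centralizer_iff.mp hV hy)

/-- the normalizer of a 2-subgroup induces on it a quotient of a constrained section -/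
theorem goodFac_normalizer_quotient
    (hsec : ∀ (K R : Subgroup G) [hR : (R.subgroupOf K).Normal],
      centralizer (pCore 2 (K ⧸ R.subgroupOf K) : Set (K ⧸ R.subgroupOf K)) ≤ pCore 2 (K ⧸ R.subgroupOf K) →
        GoodFac (K ⧸ R.subgroupOf K))
    (S : Sylow 2 G) {J : Subgroup G} (hJS : J ≤ (S : Subgroup G))
    {M : Subgroup G} (hM : M = normalizer (J : Set G)) (hSJ : (S : Subgroup G) ≤ M) (C : Subgroup M) [C.Normal]
    (hC : (centralizer (J : Set G)).subgroupOf M ≤ C) : GoodFac (M ⧸ C) := by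
  haveI : Fact (Nat.Prime 2) := ⟨Nat.prime_two⟩
  set CJ := centralizer (J : Set G) with hCJ
  have hCM : CJ ≤ M := hM ▸ centralizer_le_normalizer _
  set P1 := (S : Subgroup G) ⊓ CJ with hP1
  set N1 := M ⊓ normalizer (P1 : Set G) with hN1
  have hP1N : P1 ≤ N1 := le_inf (inf_le_left.trans hSJ) le_normalizer
  have hJN : J ≤ N1 := le_inf (hM ▸ le_normalizer) fun j hj => H48.mem_normalizer_of_cj_eq (H48.cj_eq_self_of_le
    (H48.cj_le.mpr fun x hx => Subgroup.mem_inf.mpr
      ⟨(S : Subgroup G).mul_mem ((S : Subgroup G).mul_mem (hJS hj) hx.1) ((S : Subgroup G).inv_mem (hJS hj)),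
        mem_centralizer_iff.mpr fun y hy => by
          have hy' : j⁻¹ * y * j ∈ J := J.mul_mem (J.mul_mem (J.inv_mem hj) hy) hj
          calc y * (j * x * j⁻¹) = j * (j⁻¹ * y * j * x) * j⁻¹ := by group
            _ = j * (x * (j⁻¹ * y * j)) * j⁻¹ := by rw [mem_centralizer_iff.mp hx.2 _ hy']
            _ = _ := by group⟩))
  -- `P1` is a Sylow subgroup of the centraliser
  set SM := S.subtype hSJ with hSM
  set CM := CJ.subgroupOf M with hCMdef
  haveI hCMn : CM.Normal := by
    refine ⟨fun x hx m => mem_subgroupOf.mpr (mem_centralizer_iff.mpr fun y hy => ?_)⟩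
    have hy' : (m : G)⁻¹ * y * m ∈ J := by
      simpa using (mem_normalizer_iff.mp (hM.le (M.inv_mem m.2)) y).mp hy
    show y * ((m : G) * x * (m : G)⁻¹) = (m : G) * x * (m : G)⁻¹ * y
    calc y * ((m : G) * x * (m : G)⁻¹) = m * ((m : G)⁻¹ * y * m * x) * (m : G)⁻¹ := by group
      _ = m * ((x : G) * ((m : G)⁻¹ * y * m)) * (m : G)⁻¹ := by rw [mem_centralizer_iff.mp (mem_subgroupOf.mp hx) _ hy']
      _ = _ := by group
  have hinfm : ((SM : Subgroup M) ⊓ CM).map M.subtype = P1 := by
    rw [hP1, hSM, Sylow.coe_subtype, hCMdef, Subgroup.map_inf _ _ _ M.subtype_injective, subgroupOf_map_subtype,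
      subgroupOf_map_subtype, inf_eq_left.mpr hCM, inf_eq_left.mpr hSJ]
  have hmax : ∀ D : Subgroup G, IsPGroup 2 D → D ≤ CJ → D ≤ normalizer (P1 : Set G) → D ≤ P1 := by
    intro D hD hDC hDN
    have hp : IsPGroup 2 ↥(P1 ⊔ D) :=
      IsPGroup.to_sup_of_normal_left' (S.isPGroup'.to_le inf_le_left) hD hDN
    have hle : P1 ⊔ D ≤ CJ := sup_le inf_le_right hDC
    obtain ⟨T, hT⟩ := exists_sylow_inf_normal SM CM
    have h1 := (H48.isSylowIn_map CM T).ndvd
    rw [hT] at h1
    have h2 : ((SM : Subgroup M) ⊓ CM).relIndex CM = P1.relIndex CJ := by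
      rw [← relIndex_map_map_of_injective _ _ M.subtype_injective, hinfm, hCMdef, subgroupOf_map_subtype,
        inf_eq_left.mpr hCM]
    rw [h2] at h1
    obtain ⟨k, hk⟩ := relIndex_two_pow hp P1
    have h3 := relIndex_mul_relIndex P1 (P1 ⊔ D) CJ le_sup_left hle
    rcases Nat.eq_zero_or_pos k with rfl | hk0
    · exact le_sup_right.trans (relIndex_eq_one.mp (by rw [hk, pow_zero]))
    · exact absurd (h3 ▸ dvd_mul_of_dvd_left (hk ▸ dvd_pow_self 2 hk0.ne') _) h1
  -- the normal 2-subgroup and its centraliser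
  set P0 := (P1 ⊔ J).subgroupOf N1 with hP0
  have hN1P0 : N1 ≤ normalizer ((P1 ⊔ J : Subgroup G) : Set G) := fun g hg => H48.mem_normalizer_of_cj_eq (by
    rw [H48.cj, Subgroup.map_sup, ← H48.cj, ← H48.cj, H48.cj_eq_of_mem_normalizer hg.2,
      H48.cj_eq_of_mem_normalizer (hM.le hg.1)])
  haveI hP0n : P0.Normal := normal_subgroupOf_of_le_normalizer hN1P0
  have hP0p : IsPGroup 2 P0 :=
    (S.isPGroup'.to_le (sup_le inf_le_left hJS)).comap_subtype
  set Kh := centralizer (P0 : Set N1) with hKh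
  haveI : Kh.Normal := inferInstance
  have hKhG : ∀ x ∈ Kh, (x : G) ∈ CJ ∧ ∀ y ∈ P1, y * (x : G) = x * y := fun x hx =>
    ⟨mem_centralizer_iff.mpr fun y hy => congrArg Subtype.val
      (mem_centralizer_iff.mp hx ⟨y, hJN hy⟩ (show y ∈ P1 ⊔ J from mem_sup_right hy)),
    fun y hy => congrArg Subtype.val
      (mem_centralizer_iff.mp hx ⟨y, hP1N hy⟩ (show y ∈ P1 ⊔ J from mem_sup_left hy))⟩
  set Oh := (Cfsg.oddCore Kh).map Kh.subtype with hOh
  have hOK : Oh ≤ Kh := map_subtype_le _
  obtain ⟨T⟩ : Nonempty (Sylow 2 Kh) := inferInstance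
  have hTP : ∀ t ∈ (T : Subgroup Kh), (t : N1) ∈ P0 := by
    intro t ht
    have hD : ((T : Subgroup Kh).map Kh.subtype).map N1.subtype ≤ P1 := by
      refine hmax _ ((T.isPGroup'.map _).map _) ?_ ?_
      · rintro _ ⟨_, ⟨z, -, rfl⟩, rfl⟩
        exact (hKhG z.1 z.2).1
      · rintro _ ⟨_, ⟨z, -, rfl⟩, rfl⟩
        exact z.1.2.2
    exact mem_subgroupOf.mpr (mem_sup_left (hD ⟨t.1, ⟨t, ht, rfl⟩, rfl⟩))
  have hTc : normalizer ((T : Subgroup Kh) : Set Kh) ≤ centralizer ((T : Subgroup Kh) : Set Kh) :=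
    fun k _ => mem_centralizer_iff.mpr fun t ht =>
      Subtype.ext (mem_centralizer_iff.mp k.2 t.1 (hTP t ht))
  have hKdec : Kh ≤ P0 ⊔ Oh := by
    intro x hx
    have hk : (MonoidHom.transferSylow T hTc).ker ≤ Cfsg.oddCore Kh := Cores.le_oddCore (by
      rw [← Nat.not_even_iff_odd, even_iff_two_dvd]
      exact MonoidHom.not_dvd_card_ker_transferSylow T hTc)
    obtain ⟨⟨o, t⟩, hot⟩ := (MonoidHom.ker_transferSylow_isComplement' T hTc).2 ⟨x, hx⟩
    have hx' : x = (o.1 : Kh).1 * (t.1 : Kh).1 := (congrArg Subtype.val hot).symm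
    rw [hx']
    exact mul_mem (mem_sup_right ⟨o.1, hk o.2, rfl⟩) (mem_sup_left (hTP t.1 t.2))
  -- the section
  set R := Oh.map N1.subtype with hR
  have hReq : R.subgroupOf N1 = Oh := comap_map_eq_self_of_injective N1.subtype_injective Oh
  haveI hRn : (R.subgroupOf N1).Normal := by rw [hReq]; infer_instance
  set π := QuotientGroup.mk' (R.subgroupOf N1) with hπ
  have hπs : Function.Surjective π := QuotientGroup.mk'_surjective _
  have hmemR : ∀ z : N1, π z = 1 ↔ z ∈ Oh := fun z => by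
    rw [hπ, QuotientGroup.mk'_apply, QuotientGroup.eq_one_iff, hReq]
  have hcons : centralizer (pCore 2 (N1 ⧸ R.subgroupOf N1) : Set (N1 ⧸ R.subgroupOf N1)) ≤
      pCore 2 (N1 ⧸ R.subgroupOf N1) := by
    haveI : (P0.map π).Normal := hP0n.map π hπs
    have hPle : P0.map π ≤ pCore 2 _ := Cores.le_pCore (hP0p.map π)
    intro y hy
    obtain ⟨c, rfl⟩ := hπs y
    have hcK : c ∈ Kh := mem_centralizer_iff.mpr fun p hp => by
      have h1 : c * p * c⁻¹ * p⁻¹ ∈ Oh := (hmemR _).mp (by
        rw [map_mul, map_mul, map_mul, map_inv, map_inv,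
          ← mem_centralizer_iff.mp hy (π p) (hPle ⟨p, hp, rfl⟩), mul_inv_cancel_right, mul_inv_cancel])
      have h2 : c * p * c⁻¹ * p⁻¹ ∈ P0 := P0.mul_mem (hP0n.conj_mem p hp c) (P0.inv_mem hp)
      have h3 : c * p * c⁻¹ * p⁻¹ = 1 := by
        obtain ⟨i, hi⟩ := (IsPGroup.iff_orderOf.mp hP0p) ⟨_, h2⟩
        rw [Subgroup.orderOf_mk] at hi
        obtain ⟨z, hz, hze⟩ := h1
        rw [← orderOf_eq_one_iff, hi]
        rcases Nat.eq_zero_or_pos i with rfl | hi0
        · exact pow_zero 2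
        · exfalso
          have h4 : orderOf (⟨z, hz⟩ : Cfsg.oddCore Kh) ∣ Nat.card (Cfsg.oddCore Kh) := orderOf_dvd_natCard _
          rw [Subgroup.orderOf_mk, ← orderOf_injective Kh.subtype Kh.subtype_injective, hze, hi] at h4
          exact Nat.not_even_iff_odd.mpr (Cores.odd_card_oddCore (G := Kh))
            (even_iff_two_dvd.mpr ((dvd_pow_self 2 hi0.ne').trans h4))
      exact (mul_inv_eq_iff_eq_mul.mp (mul_inv_eq_one.mp h3)).symm
    obtain ⟨p, hp, o, ho, rfl⟩ := mem_sup_of_normal_right.mp (hKdec hcK)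
    rw [map_mul, (hmemR o).mpr ho, mul_one]
    exact hPle ⟨p, hp, rfl⟩
  have hfac := hsec N1 R hcons
  -- it maps onto the induced group
  set φ : N1 →* M ⧸ C := (QuotientGroup.mk' C).comp (inclusion (inf_le_left : N1 ≤ M)) with hφ
  have hker : R.subgroupOf N1 ≤ φ.ker := fun z hz => by
    rw [hReq] at hz
    exact (QuotientGroup.eq_one_iff _).mpr (hC (mem_subgroupOf.mpr (hKhG z (hOK hz)).1))
  have hφs : Function.Surjective φ := by
    intro y
    obtain ⟨m, rfl⟩ := QuotientGroup.mk'_surjective C y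
    obtain ⟨n, hn, k, hk, rfl⟩ : ∃ n ∈ normalizer (((SM : Subgroup M) ⊓ CM : Subgroup M) : Set M),
        ∃ k ∈ CM, n * k = m := by
      have h := (frattini_inf SM CM).ge (mem_top m)
      rw [mem_sup_of_normal_right] at h
      exact h
    have hnN : (n : G) ∈ normalizer (P1 : Set G) := by
      rw [← hinfm]
      refine le_normalizer_map M.subtype ?_
      exact ⟨n, hn, rfl⟩
    refine ⟨⟨n, ⟨n.2, hnN⟩⟩, ?_⟩
    rw [map_mul, show QuotientGroup.mk' C k = 1 from (QuotientGroup.eq_one_iff k).mpr (hC hk), mul_one]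
    rfl
  refine hfac.of_surjective (QuotientGroup.lift _ φ hker) fun y => ?_
  obtain ⟨z, rfl⟩ := hφs y
  exact ⟨π z, rfl⟩

end Cfsg.Agent.Thompson.FourFree
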