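import Mathlib
import Cfsg.Agent.Thompson.SfourLocal
import Cfsg.Agent.Thompson.SfourFusion

/-!
The normal closure of the involutions of the centre of a Sylow 2-subgroup in the normalizer of its Thompson
subgroup controls strong fusion in a four-free group.
-/

set_option autoImplicit false
set_option linter.unusedSectionVars false
set_option linter.style.haveILetI false

namespace Cfsg.Agent.Thompson.FourFree

open Subgroup
open H48 (cj)
open Par (El)
open Pc (GoodFac)

universe u v

variable {G : Type u} [Group G]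

/-- the involutions of the centre of the subgroup generated by the E-groups -/
def wIn (S : Subgroup G) : Subgroup G :=
  Cfsg.omegaOne 2 (jHatIn S ⊓ centralizer (jHatIn S : Set G))

/-- the same as a functor -/
def wFun (Q : Type u) [Group Q] : Subgroup Q :=
  Cfsg.omegaOne 2 (Cfsg.jHat Q ⊓ centralizer (Cfsg.jHat Q : Set Q))

theorem omegaOne_center_map {H : Type v} [Group H] (f : G →* H) (hf : Function.Injective f) (K : Subgroup G) :
    (Cfsg.omegaOne 2 (K ⊓ centralizer (K : Set G))).map f =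
      Cfsg.omegaOne 2 (K.map f ⊓ centralizer ((K.map f : Subgroup H) : Set H)) := by
  rw [Cfsg.omegaOne, Cfsg.omegaOne, MonoidHom.map_closure]
  congr 1
  ext y
  constructor
  · rintro ⟨x, ⟨⟨hx, hxc⟩, hx2⟩, rfl⟩
    refine ⟨⟨⟨x, hx, rfl⟩, mem_centralizer_iff.mpr ?_⟩, by rw [← map_pow, hx2, map_one]⟩
    rintro _ ⟨z, hz, rfl⟩
    rw [← map_mul, ← map_mul, mem_centralizer_iff.mp hxc z hz]
  · rintro ⟨⟨⟨x, hx, rfl⟩, hxc⟩, hx2⟩
    refine ⟨x, ⟨⟨hx, mem_centralizer_iff.mpr fun z hz => hf ?_⟩, hf (by rw [map_pow, hx2, map_one])⟩, rfl⟩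
    rw [map_mul, map_mul]
    exact mem_centralizer_iff.mp hxc (f z) ⟨z, hz, rfl⟩

theorem inducedFunctor_wFun (P : Subgroup G) : inducedFunctor wFun P = wIn P := by
  rw [inducedFunctor, wFun, omegaOne_center_map _ P.subtype_injective, map_jHat_eq]
  rfl

theorem jHatIn_map_le {H : Type v} [Group H] (f : G →* H) (hf : Function.Injective f) (S : Subgroup G) :
    (jHatIn S).map f ≤ jHatIn (S.map f) := by
  rw [map_le_iff_le_comap]
  refine sSup_le fun U ⟨hUS, hE, hJU⟩ => map_le_iff_le_comap.mp ?_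
  exact le_sSup ⟨map_mono hUS, isEGroup_equiv (U.equivMapOfInjective f hf) hE,
    (jay_map f hf).le.trans (map_mono hJU)⟩

theorem cj_jHatIn (g : G) (S : Subgroup G) : cj g (jHatIn S) = jHatIn (cj g S) := by
  refine le_antisymm (jHatIn_map_le _ (MulAut.conj g).injective S) ?_
  have h1 : cj g⁻¹ (jHatIn (cj g S)) ≤ jHatIn (cj g⁻¹ (cj g S)) :=
    jHatIn_map_le _ (MulAut.conj g⁻¹).injective (cj g S)
  rw [H48.cj_inv_cj] at h1
  have h2 := H48.cj_mono (g := g) h1
  rwa [H48.cj_cj_inv] at h2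

theorem cj_wIn (g : G) (S : Subgroup G) : cj g (wIn S) = wIn (cj g S) := by
  rw [wIn, H48.cj, omegaOne_center_map _ (MulAut.conj g).injective, ← H48.cj, cj_jHatIn]
  rfl

variable [Finite G]

/-- the Thompson subgroup is an E-group -/
theorem isEGroup_jay (S : Subgroup G) : IsEGroup (jay 2 S) := by
  set J := jay 2 S with hJ
  intro V' _ hV'el hhyp
  have hgood := good_of_hyp J V' hhyp
  set V := V'.map J.subtype with hV
  have hVel : El V := El.map (fun a ha => by rw [← sq]; exact hV'el.2 a ha) J.subtype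
  have hJC : J ≤ centralizer (V : Set G) := sSup_le fun A hA =>
    (le_maxIn_of_good hVel ((map_subtype_le V').trans jay_le) hA (hgood.mono (le_jay hA))).2
  intro v hv
  refine mem_center_iff.mpr fun u => Subtype.ext ?_
  exact (mem_centralizer_iff.mp (hJC u.2) v.1 ⟨v, hv, rfl⟩).symm

theorem jay_le_jHatIn (S : Subgroup G) : jay 2 S ≤ jHatIn S :=
  le_sSup ⟨jay_le, isEGroup_jay S, le_rfl⟩

theorem wIn_le_jay (S : Subgroup G) : wIn S ≤ jay 2 S := by
  refine (closure_le _).mpr fun z hz => ?_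
  obtain ⟨A, hA⟩ := maxIn_nonempty 2 S
  have hHS : jHatIn S ≤ S := sSup_le fun _ h => h.1
  exact le_jay hA (mem_of_mem_centralizer hA (hHS hz.1.1)
    (centralizer_le ((le_jay hA).trans (jay_le_jHatIn S)) hz.1.2) hz.2)

theorem isCharPFunctor_wFun : IsCharPFunctor.{u} 2 wFun := by
  haveI : Fact (Nat.Prime 2) := ⟨Nat.prime_two⟩
  refine ⟨fun Q _ _ hQ _ h => ?_, fun Q R _ _ _ _ φ => ?_⟩
  · set H := Cfsg.jHat Q with hH
    have hJ : jay 2 (⊤ : Subgroup Q) ≤ H := le_sSup ⟨isEGroup_jay _, (thompsonSubgroup_eq 2).le⟩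
    have hne : zjay 2 (⊤ : Subgroup Q) ≠ ⊥ := zjay_ne_bot (hQ.to_subgroup ⊤) top_ne_bot (Or.inr rfl)
    have hH1 : H ≠ ⊥ := fun hb => hne (le_bot_iff.mp (inf_le_left.trans (hJ.trans hb.le)))
    haveI : Nontrivial H := H.nontrivial_iff_ne_bot.mpr hH1
    haveI : Nontrivial (center H) := (hQ.to_subgroup H).center_nontrivial
    obtain ⟨n, hn0, hn⟩ := ((hQ.to_subgroup H).to_subgroup (center H)).nontrivial_iff_card.mp inferInstance
    obtain ⟨y, hy⟩ := exists_prime_orderOf_dvd_card' 2 (G := center H) (hn ▸ dvd_pow_self 2 hn0.ne')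
    have hy2 : y ^ 2 = 1 := hy ▸ pow_orderOf_eq_one y
    have hmem : ((y : H) : Q) ∈ wFun Q := subset_closure
      ⟨⟨(y : H).2, mem_centralizer_iff.mpr fun z hz => congrArg Subtype.val (mem_center_iff.mp y.2 ⟨z, hz⟩)⟩,
        congrArg (fun t : center H => ((t : H) : Q)) hy2⟩
    rw [h, mem_bot] at hmem
    have : y = 1 := Subtype.ext (Subtype.ext hmem)
    rw [this, orderOf_one] at hy
    norm_num at hy
  · have hJ : (jay 2 (⊤ : Subgroup Q)).map φ.toMonoidHom = jay 2 (⊤ : Subgroup R) := by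
      rw [← jay_map φ.toMonoidHom φ.injective, map_top_of_surjective _ φ.surjective]
    have hH : (Cfsg.jHat Q).map φ.toMonoidHom = Cfsg.jHat R := by
      refine le_antisymm ?_ (sSup_le ?_)
      · rw [map_le_iff_le_comap]
        refine sSup_le fun U ⟨hE, hU⟩ => map_le_iff_le_comap.mp (le_sSup
          ⟨isEGroup_equiv (U.equivMapOfInjective _ φ.injective) hE, ?_⟩)
        rw [thompsonSubgroup_eq, ← hJ]
        exact map_mono ((thompsonSubgroup_eq 2).ge.trans hU)
      · rintro U ⟨hE, hU⟩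
        rw [← map_comap_eq_self_of_surjective (f := φ.toMonoidHom) φ.surjective U]
        refine map_mono (le_sSup ⟨isEGroup_equiv (φ.symm.subgroupMap U |>.trans
          (MulEquiv.subgroupCongr (map_equiv_eq_comap_symm φ.symm U))) hE, ?_⟩)
        rw [thompsonSubgroup_eq, ← map_le_iff_le_comap, hJ]
        exact (thompsonSubgroup_eq 2).ge.trans hU
    rw [wFun, omegaOne_center_map _ φ.injective, hH]
    rfl

/-- the module lies in the centre of the E-groups above the Thompson subgroup -/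
theorem normalClosure_le_wIn (hfree : ¬ Involves (Equiv.Perm (Fin 4)) G)
    (hsec : ∀ (K R : Subgroup G) [hR : (R.subgroupOf K).Normal],
      centralizer (pCore 2 (K ⧸ R.subgroupOf K) : Set (K ⧸ R.subgroupOf K)) ≤ pCore 2 (K ⧸ R.subgroupOf K) →
        GoodFac (K ⧸ R.subgroupOf K))
    (S : Sylow 2 G) {M : Subgroup G} (hM : M = normalizer (jay 2 (S : Subgroup G) : Set G)) :
    (normalClosure (((Cfsg.omegaOne 2 ((S : Subgroup G) ⊓ centralizer ((S : Subgroup G) : Set G))).subgroupOf M :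
      Subgroup M) : Set M)).map M.subtype ≤ wIn (S : Subgroup G) := by
  classical
  haveI : Fact (Nat.Prime 2) := ⟨Nat.prime_two⟩
  set J := jay 2 (S : Subgroup G) with hJ
  set Z := Cfsg.omegaOne 2 ((S : Subgroup G) ⊓ centralizer ((S : Subgroup G) : Set G)) with hZ
  have hSM : (S : Subgroup G) ≤ M := hM ▸ le_normalizer.trans (normalizer_le_normalizer_jay 2 _)
  have hZS : Z ≤ (S : Subgroup G) ⊓ centralizer ((S : Subgroup G) : Set G) := (closure_le _).mpr fun _ h => h.1
  have hZJ : ∀ z ∈ Z, z ∈ J ∧ z ∈ centralizer (J : Set G) ∧ z * z = 1 := by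
    let T : Subgroup G :=
      { carrier := {z | z ∈ J ∧ z ∈ centralizer (J : Set G) ∧ z * z = 1}
        one_mem' := ⟨one_mem _, one_mem _, one_mul 1⟩
        mul_mem' := fun {a b} ha hb => ⟨mul_mem ha.1 hb.1, mul_mem ha.2.1 hb.2.1, by
          rw [show a * b * (a * b) = a * (b * a) * b by group, mem_centralizer_iff.mp ha.2.1 b hb.1,
            show a * (a * b) * b = a * a * (b * b) by group, ha.2.2, hb.2.2, one_mul]⟩
        inv_mem' := fun {a} ha => ⟨inv_mem ha.1, inv_mem ha.2.1, by rw [← mul_inv_rev, ha.2.2, inv_one]⟩ }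
    have hle : Z ≤ T := (closure_le _).mpr fun z hz => by
      obtain ⟨A, hA⟩ := maxIn_nonempty 2 (S : Subgroup G)
      exact ⟨le_jay hA (mem_of_mem_centralizer hA hz.1.1 (centralizer_le hA.1 hz.1.2) hz.2),
        centralizer_le jay_le hz.1.2, by rw [← sq]; exact hz.2⟩
    exact fun z hz => hle hz
  set V := normalClosure ((Z.subgroupOf M : Subgroup M) : Set M) with hV
  let Y : Subgroup M :=
    { carrier := {x | (x : G) ∈ J ∧ (x : G) ∈ centralizer (J : Set G) ∧ x * x = 1}
      one_mem' := ⟨one_mem _, one_mem _, one_mul 1⟩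
      mul_mem' := fun {a b} ha hb => ⟨J.mul_mem ha.1 hb.1, (centralizer (J : Set G)).mul_mem ha.2.1 hb.2.1, by
        have e : a * b = b * a := Subtype.ext (mem_centralizer_iff.mp hb.2.1 (a : G) ha.1)
        rw [show a * b * (a * b) = a * (b * a) * b by group, ← e, show a * (a * b) * b = a * a * (b * b) by group,
          ha.2.2, hb.2.2, one_mul]⟩
      inv_mem' := fun {a} ha => ⟨J.inv_mem ha.1, (centralizer (J : Set G)).inv_mem ha.2.1, by
        rw [← mul_inv_rev, ha.2.2, inv_one]⟩ }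
  haveI : Y.Normal := ⟨fun x hx m => by
    have hmN : (m : G) ∈ normalizer (J : Set G) := hM.le m.2
    refine ⟨(mem_normalizer_iff.mp hmN _).mp hx.1, mem_centralizer_iff.mpr fun y hy => ?_, ?_⟩
    · have hy' : (m : G)⁻¹ * y * m ∈ J := by
        simpa using (mem_normalizer_iff.mp (inv_mem hmN) y).mp hy
      show y * ((m : G) * x * (m : G)⁻¹) = (m : G) * x * (m : G)⁻¹ * y
      calc y * ((m : G) * x * (m : G)⁻¹) = m * ((m : G)⁻¹ * y * m * x) * (m : G)⁻¹ := by group
        _ = m * ((x : G) * ((m : G)⁻¹ * y * m)) * (m : G)⁻¹ := by rw [mem_centralizer_iff.mp hx.2.1 _ hy']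
        _ = _ := by group
    · rw [show m * x * m⁻¹ * (m * x * m⁻¹) = m * (x * x) * m⁻¹ by group, hx.2.2, mul_one, mul_inv_cancel]⟩
  have hVY : V ≤ Y := normalClosure_le_normal fun z hz =>
    ⟨(hZJ _ hz).1, (hZJ _ hz).2.1, Subtype.ext (hZJ _ hz).2.2⟩
  have hVel : ∀ v ∈ V, v * v = 1 := fun v hv => (hVY hv).2.2
  haveI : V.Normal := normalClosure_normal
  set SM := S.subtype hSM with hSMdef
  have hZc : Z.subgroupOf M ≤ centralizer ((SM : Subgroup M) : Set M) := fun z hz =>
    mem_centralizer_iff.mpr fun s hs => Subtype.ext (mem_centralizer_iff.mp (hZS hz).2 s.1 (by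
      rw [hSMdef, Sylow.coe_subtype] at hs
      exact hs))
  have hcore := core_quotient_center SM hZc V rfl
  have hfac : GoodFac (M ⧸ centralizer (V : Set M)) :=
    goodFac_normalizer_quotient hsec S jay_le hM hSM _ fun c hc =>
      mem_centralizer_iff.mpr fun v hv => Subtype.ext
        (mem_centralizer_iff.mp (mem_subgroupOf.mp hc) v.1 (hVY hv).1)
  rw [map_le_iff_le_comap]
  have hVH : ∀ v ∈ V, (v : G) ∈ centralizer (jHatIn (S : Subgroup G) : Set G) := by
    intro v hv
    rw [← zpowers_le, le_centralizer_iff]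
    refine sSup_le fun U ⟨hUS, hE, hJU⟩ => ?_
    have hUM : U ≤ M := hUS.trans hSM
    have h1 := le_centralizer_of_isEGroup (sfour_free_subgroup hfree M) V hfac hVel hcore
      (U := U.subgroupOf M) (isEGroup_equiv (subgroupOfEquivOfLe hUM).symm hE)
      (fun w hw => hJU (hVY hw).1)
    intro u hu
    refine mem_centralizer_iff.mpr ?_
    rintro _ ⟨i, rfl⟩
    have h2 : Commute (v : G) u := congrArg Subtype.val
      (mem_centralizer_iff.mp (h1 (show (⟨u, hUM hu⟩ : M) ∈ U.subgroupOf M from hu)) v hv)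
    exact (h2.zpow_left i).eq
  intro v hv
  exact subset_closure ⟨⟨jay_le_jHatIn _ (hVY hv).1, hVH v hv⟩, by
    rw [sq]; exact congrArg Subtype.val (hVY hv).2.2⟩

/-- a subgroup of `wIn S` normalised by the normalizer of the Thompson subgroup controls strong fusion -/
theorem controls_of_le_wIn (hfree : ¬ Involves (Equiv.Perm (Fin 4)) G)
    (hsec : ∀ (K R : Subgroup G) [hR : (R.subgroupOf K).Normal],
      centralizer (pCore 2 (K ⧸ R.subgroupOf K) : Set (K ⧸ R.subgroupOf K)) ≤ pCore 2 (K ⧸ R.subgroupOf K) →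
        GoodFac (K ⧸ R.subgroupOf K))
    (S : Sylow 2 G) {A : Subgroup G} (hA : A ≤ wIn (S : Subgroup G))
    (hN : normalizer (jay 2 (S : Subgroup G) : Set G) ≤ normalizer (A : Set G)) (X : Set G)
    (hX : X ⊆ (S : Subgroup G)) (g : G) (hg : (fun a => g * a * g⁻¹) '' X ⊆ (S : Subgroup G)) :
    ∃ x ∈ normalizer (A : Set G), ∀ a ∈ X, g * a * g⁻¹ = x * a * x⁻¹ := by
  classical
  haveI : Fact (Nat.Prime 2) := ⟨Nat.prime_two⟩
  set J := jay 2 (S : Subgroup G) with hJ
  set W := wIn (S : Subgroup G) with hW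
  have hNW : normalizer (W : Set G) ≤ normalizer (A : Set G) := by
    intro n hn
    set CW := (centralizer (W : Set G)).subgroupOf (normalizer (W : Set G)) with hCW
    haveI : CW.Normal := normal_subgroupOf_of_le_normalizer (fun m hm => H48.mem_normalizer_of_cj_eq (by
      rw [H48.cj, show (MulAut.conj m).toMonoidHom = (MulAut.conj m : G ≃* G).toMonoidHom from rfl,
        map_centralizer_equiv]
      rw [show W.map (MulAut.conj m).toMonoidHom = cj m W from rfl, H48.cj_eq_of_mem_normalizer hm]))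
    have hSW : (S : Subgroup G) ≤ normalizer (W : Set G) := fun s hs => H48.mem_normalizer_of_cj_eq (by
      rw [hW, cj_wIn, H48.cj_eq_of_mem_normalizer (le_normalizer hs)])
    have hJC : J ≤ centralizer (W : Set G) := by
      rw [le_centralizer_iff]
      refine le_trans ?_ (centralizer_le (SetLike.coe_subset_coe.mpr (jay_le_jHatIn (S : Subgroup G))))
      exact (closure_le _).mpr fun _ h => h.1.2
    obtain ⟨b, hb, c, hc, he⟩ : ∃ b ∈ normalizer ((((S.subtype hSW : Subgroup (normalizer (W : Set G))) ⊓ CW :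
        Subgroup _)) : Set (normalizer (W : Set G))), ∃ c ∈ CW, b * c = ⟨n, hn⟩ := by
      have h := (frattini_inf (S.subtype hSW) CW).ge (mem_top (⟨n, hn⟩ : normalizer (W : Set G)))
      rw [mem_sup_of_normal_right] at h
      exact h
    have hcA : (c : G) ∈ normalizer (A : Set G) :=
      centralizer_le_normalizer _ (centralizer_le hA hc)
    have hbJ : (b : G) ∈ normalizer (J : Set G) := by
      have h1 : ((S.subtype hSW : Subgroup (normalizer (W : Set G))) ⊓ CW).map (normalizer (W : Set G)).subtype =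
          (S : Subgroup G) ⊓ centralizer (W : Set G) := by
        rw [Sylow.coe_subtype, hCW, Subgroup.map_inf _ _ _ (Subgroup.subtype_injective _), subgroupOf_map_subtype,
          subgroupOf_map_subtype, inf_eq_left.mpr hSW, inf_eq_left.mpr (centralizer_le_normalizer _)]
      have h2 : (b : G) ∈ normalizer (((S : Subgroup G) ⊓ centralizer (W : Set G) : Subgroup G) : Set G) := by
        rw [← h1]
        exact le_normalizer_map _ ⟨b, hb, rfl⟩
      rw [hJ, ← jay_eq_of_le (le_inf jay_le hJC) inf_le_left]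
      exact normalizer_le_normalizer_jay 2 _ h2
    have hn' : n = b * c := (congrArg Subtype.val he).symm
    rw [hn']
    exact mul_mem (hN hbJ) hcA
  obtain ⟨T, -, hTp, hTidx, hT⟩ := S1996.result wFun jeFun isCharPFunctor_wFun isCharPFunctor_jeFun
    (fun K R _ hc T x => by
      obtain ⟨a, ha, b, hb, rfl⟩ := exists_omega_hat_factor hc (sfour_free_section hfree K R) (hsec K R hc) T x
      refine ⟨a, ?_, b, by rw [inducedFunctor_jeFun]; exact hb, rfl⟩
      rw [inducedFunctor_wFun]
      exact centralizer_le_normalizer _ ha)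
  rw [relIndex_top_right] at hTidx
  obtain ⟨t, ht⟩ := MulAction.exists_smul_eq G S (hTp.toSylow hTidx)
  have hTS : T = cj t (S : Subgroup G) := by
    have h := congrArg (fun P : Sylow 2 G => (P : Subgroup G)) ht
    rw [IsPGroup.toSylow_coe] at h
    rw [← h]
    rfl
  have hsub : ∀ {Y : Set G}, Y ⊆ (S : Subgroup G) → (fun a => t * a * t⁻¹) '' Y ⊆ (T : Set G) := by
    rintro Y hY _ ⟨a, ha, rfl⟩
    rw [hTS]
    exact H48.conj_mem_cj (hY ha)
  obtain ⟨n, c, hc0, hstep, -, hlast⟩ := hT ((fun a => t * a * t⁻¹) '' X) (t * g * t⁻¹) (mem_top _) (hsub hX) (by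
    rintro _ ⟨_, ⟨a, ha, rfl⟩, rfl⟩
    have := hsub hg ⟨_, ⟨a, ha, rfl⟩, rfl⟩
    simpa [mul_assoc] using this)
  have hgen : ∀ i : Fin (n + 1), c i ∈ cj t (normalizer (A : Set G)) := by
    intro i
    induction i using Fin.induction with
    | zero => rw [hc0]; exact one_mem _
    | succ i ih =>
      obtain ⟨Wf, hWf, hmem⟩ := hstep i
      have h1 : c i.succ * (c i.castSucc)⁻¹ ∈ cj t (normalizer (A : Set G)) := by
        rcases hWf with rfl | rfl
        · refine H48.cj_mono (g := t) hNW ?_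
          rw [H48.cj_normalizer, hW, cj_wIn, ← hTS, ← inducedFunctor_wFun]
          exact hmem.2
        · refine H48.cj_mono (g := t) hN ?_
          rw [H48.cj_normalizer, hJ, show cj t (jay 2 (S : Subgroup G)) = jay 2 (cj t (S : Subgroup G)) from
            (jay_map _ (MulAut.conj t).injective).symm, ← hTS, ← inducedFunctor_jeFun]
          exact hmem.2
      have := mul_mem h1 ih
      rwa [inv_mul_cancel_right] at this
  obtain ⟨x, hx, hxc⟩ := hgen (Fin.last n)
  refine ⟨x, hx, fun a ha => ?_⟩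
  have h := hlast _ ⟨a, ha, rfl⟩
  rw [← hxc] at h
  simp only [MulEquiv.coe_toMonoidHom, MulAut.conj_apply] at h
  calc g * a * g⁻¹ = t⁻¹ * (t * g * t⁻¹ * (t * a * t⁻¹) * (t * g * t⁻¹)⁻¹) * t := by group
    _ = t⁻¹ * (t * x * t⁻¹ * (t * a * t⁻¹) * (t * x * t⁻¹)⁻¹) * t := by rw [h]
    _ = x * a * x⁻¹ := by group

end Cfsg.Agent.Thompson.FourFree
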