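import Mathlib
import Cfsg.Agent.Cores.Constrained
import Cfsg.Agent.Thompson.ActionStable
import Cfsg.Agent.Thompson.StrongFusion
import Cfsg.Agent.H25.ShortAction

/-!
Thompson factorization for `p`-stable constrained groups, `p` odd.
-/

set_option autoImplicit false

namespace Cfsg.Agent.Thompson

open Subgroup
open scoped commutatorElement

universe u

variable {G : Type u} [Group G] {p : ℕ}

/-- `G = N(J(S)) C(Ω₁(Z(S)))` -/
theorem thompson_factorization [Finite G] [Fact p.Prime] (hp : p ≠ 2)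
    (hc : centralizer (pCore p G : Set G) ≤ pCore p G) (hst : StableOnNormal p G) (S : Sylow p G) (g : G) :
    ∃ a ∈ normalizer (jay p (S : Subgroup G) : Set G),
      ∃ c ∈ centralizer (omegaCenterOf p (S : Subgroup G) : Set G), g = a * c := by
  set Q := pCore p G with hQ
  have hQS : Q ≤ (S : Subgroup G) := Cores.pCore_le_sylow S
  set U := omegaCenterOf p (S : Subgroup G) with hU
  set V := normalClosure (U : Set G) with hV
  have hVQ : V ≤ omegaCenterOf p Q := normalClosure_le_normal fun x hx =>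
    ⟨hc (centralizer_le hQS hx.2.1), centralizer_le hQS hx.2.1, hx.2.2⟩
  have hVp : ∀ v ∈ V, v ^ p = 1 := fun v hv => (hVQ hv).2.2
  have hVc : IsMulCommutative V := isMulCommutative_iff_forall.mpr fun a ha b hb =>
    mem_centralizer_iff.mp (hVQ hb).2.1 a (hVQ ha).1
  have hVS : V ≤ (S : Subgroup G) := fun v hv => hQS (hVQ hv).1
  have hVpg : IsPGroup p V := S.isPGroup'.to_le hVS
  -- `O_p(G/C(V)) = 1`
  set C := centralizer (V : Set G) with hCdef
  set D := stabPre p V with hD
  have hDC : D ≤ C := by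
    have hDU : D ≤ centralizer (U : Set G) := by
      refine (stabPre_le S V).trans (sup_le (centralizer_le subset_normalClosure) fun s hs => ?_)
      exact mem_centralizer_iff.mpr fun u hu => (mem_centralizer_iff.mp hu.2.1 s hs).symm
    have h : V ≤ centralizer (D : Set G) := normalClosure_le_normal fun u hu =>
      mem_centralizer_iff.mpr fun d hd => (mem_centralizer_iff.mp (hDU hd) u hu).symm
    exact le_centralizer_iff.mp h
  -- all maximal subgroups centralize `V`
  have hquad : ∀ A ∈ maxIn p (S : Subgroup G), V ≤ normalizer (A : Set G) → A ≤ C := by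
    intro A hA hn
    refine le_trans (le_stabPre hst hVpg ?_) hDC
    refine eq_bot_iff.mpr (le_trans (commutator_mono (K₁ := A) ?_ (le_refl A))
      (commutator_eq_bot_iff_le_centralizer.mpr ?_).le)
    · exact commutator_le.mpr fun x hx a ha => by
        rw [commutatorElement_def]
        exact mul_mem ((Subgroup.mem_normalizer_iff.mp (hn hx) a).mp ha) (A.inv_mem ha)
    · have := hA.2.1.1
      exact le_centralizer A
  have hnorm : ∀ A ∈ maxIn p (S : Subgroup G), V ≤ normalizer (A : Set G) := by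
    by_contra hne
    push Not at hne
    obtain ⟨A, ⟨hA, hAn⟩, hmax⟩ := Set.exists_max_image {A | A ∈ maxIn p (S : Subgroup G) ∧ ¬ V ≤ normalizer (A : Set G)}
      (fun A => Nat.card ↥(A ⊓ V)) (Set.toFinite _) hne
    have hVV : ⁅V, V⁆ = ⊥ := commutator_eq_bot_iff_le_centralizer.mpr (have := hVc; le_centralizer V)
    have hcl : ⁅⁅V, V⁆, V⁆ = ⊥ := by
      rw [hVV]; exact le_bot_iff.mp (commutator_le_left ⊥ V)
    obtain ⟨A', hA'S, hA'e, hA'c, hlt, hA'N, -⟩ := replacement (.inr hVc) (.inr ((Fact.out : p.Prime).odd_of_ne_two hp))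
      S.isPGroup' hVS (le_top.trans (normalizer_eq_top (H := V)).ge) hA.1 hA.2.1 hcl (hVV.le.trans bot_le) hAn
    have hA'm : A' ∈ maxIn p (S : Subgroup G) := mem_maxIn_of_card_eq hA hA'S hA'e hA'c
    have hA'n : V ≤ normalizer (A' : Set G) := by
      by_contra h
      have := hmax A' ⟨hA'm, h⟩
      have h3 : Nat.card ↥(A ⊓ V) < Nat.card ↥(A' ⊓ V) := lt_of_le_of_ne (Subgroup.card_le_of_le hlt.le)
        fun hc => hlt.ne (Subgroup.eq_of_le_of_card_ge hlt.le hc.ge)
      omega
    refine hAn fun v hv => hA'N (mem_of_mem_centralizer hA'm (hVS hv) ?_ (hVp v hv))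
    exact (le_centralizer_iff.mp (hquad A' hA'm hA'n)) hv
  have hJ : jay p (S : Subgroup G) ≤ (S : Subgroup G) ⊓ C :=
    le_inf jay_le (sSup_le fun A hA => hquad A hA (hnorm A hA))
  obtain ⟨T, hT⟩ := exists_sylow_inf_normal S C
  have hfr := Sylow.normalizer_sup_eq_top T
  rw [hT] at hfr
  obtain ⟨a, ha, c, hc', rfl⟩ := mem_sup_of_normal_right.mp (hfr.ge (mem_top g))
  refine ⟨a, ?_, c, centralizer_le subset_normalClosure hc', rfl⟩
  rw [← jay_eq_of_le hJ inf_le_left]
  exact normalizer_le_normalizer_jay p _ ha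

theorem isMulCommutative_of_isPAbelianP [Finite G] [Fact p.Prime] (hp : p ≠ 2) (h : H25.IsPAbelianP p G)
    (T : Sylow 2 G) : IsMulCommutative (T : Subgroup G) := by
  obtain ⟨P₀, M, hPn, hMn, hP₀, hpow, hcomm, -⟩ := h
  refine isMulCommutative_iff_forall.mpr fun x hx y hy => ?_
  have hmem : ∀ z ∈ (T : Subgroup G), z ∈ M := fun z hz => by
    obtain ⟨k, hk⟩ := hpow z
    obtain ⟨m, hm⟩ := exists_pow_eq_self_of_coprime (x := z) (n := p ^ k) (by
      obtain ⟨i, hi⟩ := IsPGroup.iff_orderOf.mp T.isPGroup' ⟨z, hz⟩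
      rw [orderOf_mk] at hi
      rw [hi]
      exact ((Nat.coprime_primes Fact.out Nat.prime_two).mpr hp).pow k i)
    exact hm ▸ pow_mem hk m
  refine commutatorElement_eq_one_iff_mul_comm.mp ?_
  have hd : Disjoint (T : Subgroup G) P₀ := T.isPGroup'.disjoint_of_ne 2 p (Ne.symm hp) _ _ hP₀
  refine mem_bot.mp (hd.le_bot ⟨?_, hcomm x (hmem x hx) y (hmem y hy)⟩)
  rw [commutatorElement_def]
  exact mul_mem (mul_mem (mul_mem hx hy) ((T : Subgroup G).inv_mem hx)) ((T : Subgroup G).inv_mem hy)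

/-- Frattini: if the image of the `p`-subgroup `Z` in `G/O_{p'}(G)` is normal, `G = O_{p'}(G) N(Z)` -/
theorem sup_normalizer_of_map_normal [Finite G] [Fact p.Prime] {Z : Subgroup G} (hZp : IsPGroup p Z)
    (hn : (Z.map (QuotientGroup.mk' (pPrimeCore p G))).Normal) :
    pPrimeCore p G ⊔ normalizer (Z : Set G) = ⊤ := by
  set N := pPrimeCore p G
  set L := N ⊔ Z
  have : L.Normal := by
    have h1 := hn.comap (QuotientGroup.mk' N)
    rwa [Subgroup.comap_map_eq, QuotientGroup.ker_mk', sup_comm] at h1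
  have hd : N ⊓ Z = ⊥ := eq_bot_iff.mpr fun x hx => mem_bot.mpr (mem_bot.mp
    ((Cores.disjoint_of_isPGroup_of_coprime hZp Cores.coprime_card_pPrimeCore).le ⟨hx.2, hx.1⟩))
  have hidx : ¬ p ∣ (Z.subgroupOf L).index := by
    show ¬ p ∣ Z.relIndex L
    rw [relIndex_sup_eq_card (fun z _ => (normalizer_eq_top (H := N)).ge (mem_top z)) hd]
    exact Cores.not_dvd_card_pPrimeCore
  have hZL : IsPGroup p (Z.subgroupOf L) := hZp.comap_subtype
  have hfr := Sylow.normalizer_sup_eq_top (hZL.toSylow hidx)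
  rw [IsPGroup.toSylow_coe, subgroupOf_map_subtype, inf_eq_left.mpr le_sup_right] at hfr
  rw [eq_top_iff, ← hfr]
  exact sup_le le_sup_right (sup_le le_sup_left ((le_normalizer (H := Z)).trans le_sup_right))

end Cfsg.Agent.Thompson
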