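import Mathlib
import Cfsg.Prelude.Def_TwoFusion
import Cfsg.Agent.Thompson.ZJ
import Cfsg.Agent.H48.SylowIn

/-!
Glauberman's ZJ-theorem for strongly closed subgroups.
-/

set_option autoImplicit false

namespace Cfsg.Agent.Thompson.Closed

open Subgroup
open scoped commutatorElement

variable {G : Type*} [Group G] {p e : ℕ}

theorem le_normalizer_of_stronglyClosed [Finite G] {D P : Subgroup G} (hD : IsStronglyClosed D P) :
    P ≤ normalizer (D : Set G) := fun g hg => H48.mem_normalizer_of_cj_eq (H48.cj_eq_self_of_le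
  (H48.cj_le.mpr fun x hx => hD.2 x hx g (mul_mem (mul_mem hg (hD.1 hx)) (inv_mem hg))))

theorem le_normalizer_zjay_of [Finite G] {D P : Subgroup G} (hD : IsStronglyClosed D P) (e : ℕ) :
    P ≤ normalizer (zjay e D : Set G) :=
  (le_normalizer_of_stronglyClosed hD).trans
    ((normalizer_le_normalizer_jay e D).trans (normalizer_jay_le_normalizer_zjay e D))

/-- the key step -/
theorem normal_of_generated [Finite G] [Fact p.Prime] (hp : p ≠ 2) (he : e = 0 ∨ e = p)
    (hst : StableOnNormal p G) (S : Sylow p G) {D : Subgroup G} (hD : IsStronglyClosed D (S : Subgroup G)) (B W : Subgroup G) [B.Normal] (hB : IsPGroup p B)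
    (hWB : W ≤ B) (hSW : (S : Subgroup G) ≤ normalizer (W : Set G))
    (hJW : normalizer (jay e D : Set G) ≤ normalizer (W : Set G))
    (hWJ : W ≤ centralizer (jay e D : Set G))
    (hgen : normalClosure (W : Set G) = B) (hBD : B ≤ D) (hclass : ⁅⁅B, B⁆, B⁆ = ⊥)
    (hBA : ∀ A ∈ maxIn e D, ⁅B, B⁆ ≤ A) : W.Normal := by
  set L := (normalizer (W : Set G)).normalCore with hL
  have hLW : L ≤ normalizer (W : Set G) := normalCore_le _
  have hCB : centralizer (B : Set G) ≤ L := by
    rw [hL, normal_le_normalCore]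
    exact le_trans (centralizer_le hWB) (centralizer_le_normalizer _)
  have hBS : B ≤ (S : Subgroup G) := IsPGroup.le_sylow_of_normal hB S
  have hBL : B ≤ L := normal_le_normalCore.mpr (hBS.trans hSW)
  set Q := D ⊓ L with hQ
  have hfr : normalizer (Q : Set G) ⊔ L = ⊤ := by
    rw [eq_top_iff, ← frattini_inf S L]
    refine sup_le (le_trans (fun n hn => ?_) le_sup_left) le_sup_right
    refine H48.mem_normalizer_of_cj_eq (H48.cj_eq_self_of_le (H48.cj_le.mpr fun x hx => ?_))
    have h1 := (Subgroup.mem_normalizer_iff.mp hn x).mp ⟨hD.1 hx.1, hx.2⟩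
    exact ⟨hD.2 x hx.1 n h1.1, h1.2⟩
  by_cases hall : ∀ A ∈ maxIn e D, A ≤ L
  · have hJ : jay e D ≤ Q := le_inf jay_le (sSup_le hall)
    have hNQ : normalizer (Q : Set G) ≤ normalizer (W : Set G) := by
      refine le_trans ?_ hJW
      rw [← jay_eq_of_le hJ inf_le_left]
      exact normalizer_le_normalizer_jay e Q
    exact normalizer_eq_top_iff.mp (top_le_iff.mp (hfr ▸ sup_le hNQ hLW))
  exfalso
  push Not at hall
  obtain ⟨A, ⟨hA, hAL⟩, hmax⟩ := Set.exists_max_image {A | A ∈ maxIn e D ∧ ¬ A ≤ L}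
    (fun A => Nat.card ↥(A ⊓ B)) (Set.toFinite _) hall
  set E := closure {x : G | x ∈ B ∧ x ^ e = 1} with hE
  have hEB : E ≤ B := (closure_le _).mpr fun x hx => hx.1
  have : E.Normal := ⟨fun x hx g => by
    induction hx using closure_induction with
    | mem x hx => exact subset_closure ⟨Normal.conj_mem ‹B.Normal› x hx.1 g, by rw [conj_pow, hx.2]; simp⟩
    | one => simpa using one_mem _
    | mul x y _ _ hx hy => simpa [mul_assoc] using mul_mem hx hy
    | inv x _ hx => simpa [mul_assoc] using inv_mem hx⟩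
  have hEA : E ≤ normalizer (A : Set G) := by
    by_cases hBn : B ≤ normalizer (A : Set G)
    · exact hEB.trans hBn
    have he' : e = 0 ∨ Odd e := he.imp id fun h => by rw [h]; exact (Fact.out : p.Prime).odd_of_ne_two hp
    obtain ⟨A', -, hA'e, hA'c, hlt, hA'N, b, hbB, hA'le⟩ := replacement (.inl hp) he' S.isPGroup' hBS
      (le_top.trans (normalizer_eq_top (H := B)).ge) (hA.1.trans hD.1) hA.2.1 hclass (hBA A hA) hBn
    have hA'S : A' ≤ D := hA'le.trans (sup_le hA.1 (H48.cj_le.mpr fun x hx =>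
      hD.2 x (hA.1 hx) b (mul_mem (mul_mem (hBS hbB) (hD.1 (hA.1 hx))) (inv_mem (hBS hbB)))))
    have hA'm : A' ∈ maxIn e D := mem_maxIn_of_card_eq hA hA'S hA'e hA'c
    have hA'L : A' ≤ L := by
      by_contra h
      have hlt' := lt_of_le_of_ne (Subgroup.card_le_of_le hlt.le)
        fun hc => hlt.ne (Subgroup.eq_of_le_of_card_ge hlt.le hc.ge)
      exact absurd (hmax A' ⟨hA'm, h⟩) (not_le.mpr hlt')
    have hA'Q : A' ≤ Q := le_inf hA'S hA'L
    have hBC : B ≤ centralizer (jay e Q : Set G) := by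
      have hWQ : W ≤ centralizer (jay e Q : Set G) :=
        hWJ.trans (centralizer_le (jay_le_jay_of_mem hA'm hA'Q inf_le_left))
      rw [← hgen]
      refine (closure_le _).mpr fun x hx => ?_
      obtain ⟨w, hw, hc⟩ := Group.mem_conjugatesOfSet_iff.mp hx
      obtain ⟨g, rfl⟩ := isConj_iff.mp hc
      have hgtop : g ∈ ((normalizer (Q : Set G) ⊔ L : Subgroup G) : Set G) := by rw [hfr]; exact mem_top g
      rw [Subgroup.mul_normal] at hgtop
      obtain ⟨n, hn, l, hl, rfl⟩ := hgtop
      have hwl : l * w * l⁻¹ ∈ W := (Subgroup.mem_normalizer_iff.mp (hLW hl) w).mp hw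
      have hnJ := normalizer_le_normalizer_jay e Q hn
      rw [SetLike.mem_coe, mem_centralizer_iff]
      intro z hz
      have hz' : n⁻¹ * z * n ∈ jay e Q := by
        have := (Subgroup.mem_normalizer_iff.mp (inv_mem hnJ) z).mp hz
        simpa using this
      have h := mem_centralizer_iff.mp (hWQ hwl) _ hz'
      have h' := congrArg (fun y => n * y * n⁻¹) h
      simpa [mul_assoc] using h'
    refine (closure_le _).mpr fun x hx => hA'N ?_
    exact mem_of_mem_centralizer hA'm (hBD hx.1) (centralizer_le (le_jay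
      (show A' ∈ maxIn e Q from (maxIn_eq_of_mem hA'm hA'Q inf_le_left).symm ▸ ⟨hA'm, hA'Q⟩)) (hBC hx.1)) hx.2
  -- `A` acts quadratically on `E`
  have hquad : ⁅⁅E, A⁆, A⁆ = ⊥ := by
    refine eq_bot_iff.mpr (le_trans (commutator_mono (K₁ := A) ?_ (le_refl A)) (commutator_eq_bot_iff_le_centralizer.mpr ?_).le)
    · exact commutator_le.mpr fun x hx a ha => by
        rw [commutatorElement_def]
        exact mul_mem ((Subgroup.mem_normalizer_iff.mp (hEA hx) a).mp ha) (A.inv_mem ha)
    · have := hA.2.1.1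
      exact le_centralizer A
  have h1 : A ≤ stabPre p E := le_stabPre hst (hB.to_le hEB) hquad
  have h2 : stabPre p E ≤ stabPre p B := by
    set π := QuotientGroup.mk' (centralizer (B : Set G))
    have : ((stabPre p E).map π).Normal := Normal.map inferInstance π (QuotientGroup.mk'_surjective _)
    rw [stabPre, stabPre, ← map_le_iff_le_comap]
    refine Cores.le_pCore ?_
    rintro ⟨_, d, hd, rfl⟩
    obtain ⟨i, hi⟩ := Cores.pCore_isPGroup ⟨_, hd⟩
    have hdi : d ^ p ^ i ∈ centralizer (E : Set G) :=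
      (QuotientGroup.eq_one_iff _).mp (congrArg Subtype.val hi)
    obtain ⟨n, hn⟩ := Cfsg.Agent.Fusion.exists_pow_coprime (p := p) (d ^ p ^ i)
    have hmem : (d ^ p ^ i) ^ p ^ n ∈ centralizer (B : Set G) := by
      rcases he with rfl | rfl
      · refine pow_mem ?_ _
        exact mem_centralizer_iff.mpr fun x hx =>
          mem_centralizer_iff.mp hdi x (subset_closure ⟨hx, pow_zero _⟩)
      · refine mem_centralizer_of_coprime hp hB hclass ((normalizer_eq_top (H := B)).ge (mem_top _)) hn
          fun x hx hxe => ?_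
        exact (mem_centralizer_iff.mp (pow_mem hdi _) x (subset_closure ⟨hx, hxe⟩)).symm
    refine ⟨i + n, Subtype.ext ?_⟩
    show (π d) ^ p ^ (i + n) = 1
    rw [← map_pow, pow_add, pow_mul]
    exact (QuotientGroup.eq_one_iff _).mpr hmem
  have h3 : stabPre p B ≤ L := normal_le_normalCore.mpr
    ((stabPre_le S B).trans (sup_le (hCB.trans hLW) hSW))
  exact hAL (h1.trans (h2.trans h3))

/-- induction on normal `p`-subgroups -/
theorem inf_normal [Finite G] [Fact p.Prime] (hp : p ≠ 2) (he : e = 0 ∨ e = p)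
    (hst : StableOnNormal p G) (S : Sylow p G) {D : Subgroup G} (hD : IsStronglyClosed D (S : Subgroup G)) (Z : Subgroup G)
    (hZS : Z ≤ D) (hZab : IsMulCommutative Z)
    (hSZ : (S : Subgroup G) ≤ normalizer (Z : Set G))
    (hJZ : normalizer (jay e D : Set G) ≤ normalizer (Z : Set G))
    (hZJ : Z ≤ centralizer (jay e D : Set G))
    (hBA : ∀ (B : Subgroup G) [B.Normal], IsPGroup p B → normalClosure ((Z ⊓ B : Subgroup G) : Set G) = B →
      ⁅B, B⁆ ≤ Z → ⁅⁅B, B⁆, B⁆ = ⊥ → ∀ A ∈ maxIn e D, ⁅B, B⁆ ≤ A)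
    (B : Subgroup G) [hBn : B.Normal] (hB : IsPGroup p B) : (Z ⊓ B).Normal := by
  induction hc : Nat.card B using Nat.strong_induction_on generalizing B hBn with
  | _ m ih =>
  subst hc
  set W := Z ⊓ B with hW
  by_cases hgen : normalClosure (W : Set G) = B
  swap
  · have hle : normalClosure (W : Set G) ≤ B := normalClosure_le_normal inf_le_right
    have hlt := lt_of_le_of_ne (Subgroup.card_le_of_le hle)
      fun hc => hgen (Subgroup.eq_of_le_of_card_ge hle hc.ge)
    have hn := ih _ hlt (normalClosure (W : Set G)) (hB.to_le hle) rfl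
    rwa [show Z ⊓ normalClosure (W : Set G) = W from
      le_antisymm (inf_le_inf_left _ hle) (le_inf inf_le_left le_normalClosure)] at hn
  have hBS : B ≤ (S : Subgroup G) := IsPGroup.le_sylow_of_normal hB S
  by_cases hB0 : B = ⊥
  · rw [hW, hB0, inf_bot_eq]; infer_instance
  have hlt : Nat.card ↥⁅B, B⁆ < Nat.card B := by
    have : Nontrivial B := B.nontrivial_iff_ne_bot.mpr hB0
    have : Group.IsNilpotent B := hB.isNilpotent
    have h := Subgroup.map_subtype_commutator B
    rw [← h, card_map_of_injective B.subtype_injective]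
    have hlt' := Group.IsSolvable.commutator_lt_top_of_nontrivial B
    rw [lt_top_iff_ne_top] at hlt'
    refine lt_of_le_of_ne (card_le_card_group _) fun hc => hlt' (eq_top_of_card_eq _ hc)
  have hM : (Z ⊓ ⁅B, B⁆).Normal := ih _ hlt ⁅B, B⁆ (hB.to_le (commutator_le_self B)) rfl
  have hBB : ⁅B, B⁆ ≤ Z ⊓ ⁅B, B⁆ := by
    set M := Z ⊓ ⁅B, B⁆
    set π := QuotientGroup.mk' M
    have : (B.map π).Normal := hBn.map π (QuotientGroup.mk'_surjective _)
    have hle : B ≤ (centralizer ((B.map π : Subgroup (G ⧸ M)) : Set (G ⧸ M))).comap π := by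
      conv_lhs => rw [← hgen]
      refine normalClosure_le_normal fun w hw => mem_centralizer_iff.mpr ?_
      rintro _ ⟨x, hx, rfl⟩
      refine (commutatorElement_eq_one_iff_mul_comm.mp ?_).symm
      rw [← map_commutatorElement]
      refine (QuotientGroup.eq_one_iff _).mpr ⟨?_, commutator_mem_commutator hw.2 hx⟩
      rw [commutatorElement_def, mul_assoc w, mul_assoc w]
      exact mul_mem hw.1 ((Subgroup.mem_normalizer_iff.mp (hSZ (hBS hx)) _).mp (Z.inv_mem hw.1))
    refine commutator_le.mpr fun x hx y hy => ?_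
    refine (QuotientGroup.eq_one_iff (N := M) _).mp ?_
    show π _ = 1
    rw [map_commutatorElement, commutatorElement_eq_one_iff_mul_comm]
    exact (mem_centralizer_iff.mp (hle hx) _ ⟨y, hy, rfl⟩).symm
  have hBZ : ⁅B, B⁆ ≤ Z := hBB.trans inf_le_left
  have hclass : ⁅⁅B, B⁆, B⁆ = ⊥ := by
    rw [commutator_eq_bot_iff_le_centralizer, le_centralizer_iff]
    conv_lhs => rw [← hgen]
    refine normalClosure_le_normal fun w hw => mem_centralizer_iff.mpr fun x hx => ?_
    exact (isMulCommutative_iff_forall.mp hZab w hw.1 x (hBZ hx)).symm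
  have hBD : B ≤ D := by
    conv_lhs => rw [← hgen]
    refine (closure_le _).mpr fun x hx => ?_
    obtain ⟨w, hw, hc⟩ := Group.mem_conjugatesOfSet_iff.mp hx
    obtain ⟨g, rfl⟩ := isConj_iff.mp hc
    exact hD.2 w (hZS hw.1) g (hBS (hBn.conj_mem w hw.2 g))
  refine normal_of_generated hp he hst S hD B W hB inf_le_right ?_ ?_ (inf_le_left.trans hZJ) hgen hBD hclass
    (hBA B hB hgen hBZ hclass)
  · exact fun g hg => mem_normalizer_of_map_conj (by
      rw [hW, map_inf _ _ _ (MulAut.conj g).injective, map_conj_of_mem_normalizer (hSZ hg),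
        map_conj_of_mem_normalizer ((normalizer_eq_top (H := B)).ge (mem_top g))])
  · exact fun g hg => mem_normalizer_of_map_conj (by
      rw [hW, map_inf _ _ _ (MulAut.conj g).injective, map_conj_of_mem_normalizer (hJZ hg),
        map_conj_of_mem_normalizer ((normalizer_eq_top (H := B)).ge (mem_top g))])

theorem zjay_zero_normal [Finite G] [Fact p.Prime] (hp : p ≠ 2)
    (hc : centralizer (pCore p G : Set G) ≤ pCore p G) (hst : StableOnNormal p G) (S : Sylow p G) {D : Subgroup G} (hD : IsStronglyClosed D (S : Subgroup G)) :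
    (zjay 0 D).Normal := by
  have h := inf_normal hp (.inl rfl) hst S hD (zjay 0 D) zjay_le (isMulCommutative_zjay _ _)
    (le_normalizer_zjay_of hD 0) (normalizer_jay_le_normalizer_zjay _ _) inf_le_right
    (fun B _ _ _ hBZ _ A hA => hBZ.trans (zjay_zero_le hA)) (pCore p G) Cores.pCore_isPGroup
  rwa [inf_eq_left.mpr (le_pCore_of_stable hc hst S _ (isMulCommutative_zjay _ _) (le_normalizer_zjay_of hD 0))] at h

theorem zjayLevel_normal [Finite G] [Fact p.Prime] (hp : p ≠ 2)
    (hc : centralizer (pCore p G : Set G) ≤ pCore p G) (hst : StableOnNormal p G) (S : Sylow p G) {D : Subgroup G} (hD : IsStronglyClosed D (S : Subgroup G)) :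
    ∀ k : ℕ, (zjayLevel p p k D).Normal
  | 0 => by
    rw [show zjayLevel p p 0 D = ⊥ from eq_bot_iff.mpr fun x hx => by
      simpa using hx.2]
    infer_instance
  | k + 1 => by
    have ih := zjayLevel_normal hp hc hst S hD k
    set Z := zjayLevel p p (k + 1) D with hZ
    have hZz : Z ≤ zjay p D := fun x hx => hx.1
    have hZab : IsMulCommutative Z :=
      isMulCommutative_iff_forall.mpr fun _ ha _ hb => zjay_comm ha.1 hb.1
    have h := inf_normal hp (.inr rfl) hst S hD Z (hZz.trans zjay_le) hZab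
      ((le_normalizer_zjay_of hD p).trans (normalizer_zjay_le_normalizer_level _ _ _ _))
      ((normalizer_jay_le_normalizer_zjay _ _).trans (normalizer_zjay_le_normalizer_level _ _ _ _))
      (hZz.trans inf_le_right) ?_ (pCore p G) Cores.pCore_isPGroup
    · rwa [inf_eq_left.mpr (le_pCore_of_stable hc hst S _ hZab ((le_normalizer_zjay_of hD p).trans (normalizer_zjay_le_normalizer_level _ _ _ _)))] at h
    intro B hBn hB hgen hBZ hclass A hA
    set M := zjayLevel p p k D
    have hBM : B ≤ centralizer (M : Set G) := by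
      rw [← hgen]
      refine normalClosure_le_normal fun w hw => mem_centralizer_iff.mpr fun m hm => ?_
      exact zjay_comm hm.1 hw.1.1
    have hcent : ∀ d ∈ ⁅B, B⁆, ∀ z ∈ B, Commute d z := fun d hd z hz =>
      commutatorElement_eq_one_iff_mul_comm.mp (mem_bot.mp (hclass ▸ commutator_mem_commutator hd hz))
    let K : Subgroup G :=
      { carrier := {x | x ∈ B ∧ ∀ y ∈ B, ⁅x, y⁆ ^ p = 1}
        one_mem' := ⟨one_mem _, fun y _ => by simp⟩
        mul_mem' := fun {a b} ha hb => ⟨mul_mem ha.1 hb.1, fun y hy => by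
          have h1 : ⁅a * b, y⁆ = ⁅a, y⁆ * ⁅b, y⁆ := by
            have e1 : ⁅a * b, y⁆ = a * ⁅b, y⁆ * a⁻¹ * ⁅a, y⁆ := by
              simp only [commutatorElement_def]; group
            rw [e1, ← (hcent _ (commutator_mem_commutator hb.1 hy) a ha.1).eq, mul_inv_cancel_right,
              (hcent _ (commutator_mem_commutator hb.1 hy) _ (commutator_le_self B (commutator_mem_commutator ha.1 hy))).eq]
          rw [h1, (hcent _ (commutator_mem_commutator ha.1 hy) _
            (commutator_le_self B (commutator_mem_commutator hb.1 hy))).mul_pow, ha.2 y hy, hb.2 y hy, one_mul]⟩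
        inv_mem' := fun {a} ha => ⟨inv_mem ha.1, fun y hy => by
          have e1 : ⁅a⁻¹, y⁆ = a⁻¹ * ⁅a, y⁆⁻¹ * a := by simp only [commutatorElement_def]; group
          rw [e1, ← ((hcent _ (commutator_mem_commutator ha.1 hy) a ha.1).inv_inv).eq,
            inv_mul_cancel_right, inv_pow, ha.2 y hy, inv_one]⟩ }
    have : K.Normal := ⟨fun x hx g => ⟨hBn.conj_mem x hx.1 g, fun y hy => by
      have e1 : ⁅g * x * g⁻¹, y⁆ = g * ⁅x, g⁻¹ * y * g⁆ * g⁻¹ := by
        simp only [commutatorElement_def]; group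
      rw [e1, conj_pow, hx.2 _ (by simpa using hBn.conj_mem y hy g⁻¹), mul_one, mul_inv_cancel]⟩⟩
    have hBK : B ≤ K := by
      conv_lhs => rw [← hgen]
      refine normalClosure_le_normal fun w hw => ⟨hw.2, fun y hy => ?_⟩
      have hwp : w ^ p ∈ M := ⟨pow_mem hw.1.1 p, by rw [← pow_mul, ← pow_succ']; exact hw.1.2⟩
      have hw' : Commute ⁅w, y⁆ w := hcent _ (commutator_mem_commutator hw.2 hy) w hw.2
      have hy' : Commute ⁅w, y⁆ y := hcent _ (commutator_mem_commutator hw.2 hy) y hy
      have h1 := pow_mul_comm_class_two hy' hw' p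
      rw [mem_centralizer_iff.mp (hBM hy) _ hwp] at h1
      exact right_eq_mul.mp h1
    refine commutator_le.mpr fun x hx y hy => ?_
    have hd := commutator_mem_commutator hx hy
    exact mem_of_mem_centralizer hA (zjay_le (hZz (hBZ hd))) (centralizer_le (le_jay hA) (hZz (hBZ hd)).2)
      ((hBK hx).2 y hy)

theorem zjay_prime_normal [Finite G] [Fact p.Prime] (hp : p ≠ 2)
    (hc : centralizer (pCore p G : Set G) ≤ pCore p G) (hst : StableOnNormal p G) (S : Sylow p G) {D : Subgroup G} (hD : IsStronglyClosed D (S : Subgroup G)) :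
    (zjay p D).Normal := by
  obtain ⟨k, hk⟩ := IsPGroup.iff_card.mp (S.isPGroup'.to_le hD.1)
  have h : zjay p D = zjayLevel p p k D :=
    le_antisymm (fun x hx => ⟨hx, hk ▸ orderOf_dvd_iff_pow_eq_one.mp (orderOf_dvd_natCard _ (zjay_le hx))⟩)
      fun x hx => hx.1
  rw [h]
  exact zjayLevel_normal hp hc hst S hD k

theorem zjay_normal [Finite G] [Fact p.Prime] (hp : p ≠ 2) (he : e = 0 ∨ e = p)
    (hc : centralizer (pCore p G : Set G) ≤ pCore p G) (hst : StableOnNormal p G) (S : Sylow p G) {D : Subgroup G} (hD : IsStronglyClosed D (S : Subgroup G)) :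
    (zjay e D).Normal := by
  rcases he with rfl | rfl
  · exact zjay_zero_normal hp hc hst S hD
  · exact zjay_prime_normal hp hc hst S hD

end Cfsg.Agent.Thompson.Closed
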