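import Mathlib
import Cfsg.Agent.Thompson.StronglyClosed
import Cfsg.Agent.Thompson.ZJFusion
import Cfsg.Agent.Thompson.Factorization
import Cfsg.Agent.H25.ThompsonCriterion

/-!
Fusion and normal `p`-complements from a strongly closed subgroup.
-/

set_option autoImplicit false

namespace Cfsg.Agent.Thompson

open Subgroup
open H48 (cj limg IsSylowIn isSylowIn_sylow cj_le cj_mono conj_mem_cj mem_cj)

universe u

variable {p : ℕ} {G : Type u} [Group G] [Finite G]

/-- agreement modulo a normal `p'`-subgroup can be improved to equality inside `N(Z)` -/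
theorem fusion_of_congr [Fact p.Prime] (K : Subgroup G) [K.Normal] (hK : (Nat.card K).Coprime p)
    (S : Sylow p G) (Z : Subgroup G) (hSN : (S : Subgroup G) ≤ normalizer (Z : Set G)) {A : Set G} {g n0 : G}
    (hA : A ⊆ (S : Subgroup G)) (hAg : limg A g ⊆ (S : Subgroup G)) (hn0 : n0 ∈ normalizer (Z : Set G))
    (hcong : ∀ a ∈ A, QuotientGroup.mk' K (n0 * a * n0⁻¹) = QuotientGroup.mk' K (g * a * g⁻¹)) :
    ∃ n ∈ normalizer (Z : Set G), ∀ a ∈ A, n * a * n⁻¹ = g * a * g⁻¹ := by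
  set π := QuotientGroup.mk' K
  have hdis : ∀ {P : Subgroup G}, IsPGroup p P → ∀ x ∈ P, x ∈ K → x = 1 := fun hP x hx hxK =>
    mem_bot.mp ((Cores.disjoint_of_isPGroup_of_coprime hP hK).le ⟨hx, hxK⟩)
  set B := closure (limg A n0) with hB
  set B' := closure (limg A g) with hB'
  have hB'S : B' ≤ (S : Subgroup G) := (closure_le _).mpr hAg
  have hBS : B ≤ cj n0 (S : Subgroup G) := (closure_le _).mpr (by
    rintro _ ⟨a, ha, rfl⟩; exact conj_mem_cj (hA ha))
  have hBp : IsPGroup p B := (H48.isPGroup_cj S.isPGroup').to_le hBS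
  have hB'p : IsPGroup p B' := S.isPGroup'.to_le hB'S
  set N := normalizer (Z : Set G)
  have hSN' : (S : Subgroup G) ≤ N := hSN
  have hBN : B ≤ N := (closure_le _).mpr (by
    rintro _ ⟨a, ha, rfl⟩; show n0 * a * n0⁻¹ ∈ N; exact mul_mem (mul_mem hn0 (hSN' (hA ha))) (inv_mem hn0))
  set K0 := K ⊓ N
  have hNK0 : ∀ x ∈ N, x ∈ normalizer (K0 : Set G) := fun x hx => H48.mem_normalizer_of_cj_eq
    (H48.cj_eq_self_of_le (cj_le.mpr fun y hy => ⟨Normal.conj_mem inferInstance y hy.1 x,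
      N.mul_mem (N.mul_mem hx hy.2) (N.inv_mem hx)⟩))
  set L := B ⊔ K0 with hL
  have hB'L : B' ≤ L := (closure_le _).mpr (by
    rintro _ ⟨a, ha, rfl⟩
    show g * a * g⁻¹ ∈ L
    have hk : (n0 * a * n0⁻¹)⁻¹ * (g * a * g⁻¹) ∈ K0 := ⟨QuotientGroup.eq.mp (hcong a ha),
      N.mul_mem (N.inv_mem (hBN (subset_closure ⟨a, ha, rfl⟩))) (hSN' (hB'S (subset_closure ⟨a, ha, rfl⟩)))⟩
    rw [show g * a * g⁻¹ = (n0 * a * n0⁻¹) * ((n0 * a * n0⁻¹)⁻¹ * (g * a * g⁻¹)) by group]
    exact mul_mem (mem_sup_left (subset_closure ⟨a, ha, rfl⟩)) (mem_sup_right hk))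
  have hLB : ∀ x ∈ L, ∃ b ∈ B, ∃ k ∈ K0, x = b * k := fun x hx => by
    have hx' : x ∈ ((B ⊔ K0 : Subgroup G) : Set G) := hx
    rw [coe_mul_of_left_le_normalizer_right _ _ fun b hb => hNK0 b (hBN hb)] at hx'
    obtain ⟨b, hb, k, hk, rfl⟩ := hx'
    exact ⟨b, hb, k, hk, rfl⟩
  have hsyl : IsSylowIn p B L := by
    refine ⟨le_sup_left, hBp, fun hd => ?_⟩
    have h1 : B.relIndex L ∣ Nat.card K0 := by
      rw [hL, sup_comm]
      exact (relIndex_sup_eq_card (fun b hb => hNK0 b (hBN hb)) (eq_bot_iff.mpr fun x hx => mem_bot.mpr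
        (hdis hBp x hx.2 hx.1.1))).dvd
    exact (Fact.out : p.Prime).coprime_iff_not_dvd.mp hK.symm
      (hd.trans (h1.trans (card_dvd_of_le inf_le_left)))
  obtain ⟨l, hl, hlB⟩ := hsyl.exists_cj_le hB'p hB'L
  obtain ⟨b, hb, k0, hk0, rfl⟩ := hLB l hl
  -- `k0` carries `B'` into `B`
  have hk0B : cj k0 B' ≤ B := by
    have := cj_mono (g := b⁻¹) hlB
    rw [H48.cj_cj, inv_mul_cancel_left, H48.cj_eq_of_mem_normalizer (inv_mem (le_normalizer hb))] at this
    exact this
  refine ⟨k0⁻¹ * n0, mul_mem (inv_mem hk0.2) hn0, fun a ha => ?_⟩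
  have h1 : k0 * (g * a * g⁻¹) * k0⁻¹ ∈ B := hk0B (conj_mem_cj (subset_closure ⟨a, ha, rfl⟩))
  have h2 : (n0 * a * n0⁻¹)⁻¹ * (k0 * (g * a * g⁻¹) * k0⁻¹) ∈ K := QuotientGroup.eq.mp (by
    show π (n0 * a * n0⁻¹) = π (k0 * (g * a * g⁻¹) * k0⁻¹)
    rw [map_mul π (k0 * (g * a * g⁻¹)), map_mul π k0, map_inv, show π k0 = 1 from
      (QuotientGroup.eq_one_iff k0).mpr hk0.1, hcong a ha]
    simp)
  have h3 := inv_mul_eq_one.mp (hdis hBp _ (mul_mem (inv_mem (subset_closure ⟨a, ha, rfl⟩)) h1) h2)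
  calc k0⁻¹ * n0 * a * (k0⁻¹ * n0)⁻¹ = k0⁻¹ * (n0 * a * n0⁻¹) * k0 := by group
    _ = k0⁻¹ * (k0 * (g * a * g⁻¹) * k0⁻¹) * k0 := by rw [show n0 * a * n0⁻¹ = k0 * (g * a * g⁻¹) * k0⁻¹ from h3]
    _ = g * a * g⁻¹ := by group

/-- the normalizer of a `p`-subgroup maps onto the normalizer of its image modulo a `p'`-subgroup -/
theorem exists_mem_normalizer_mul [Fact p.Prime] (K : Subgroup G) [K.Normal] (hK : (Nat.card K).Coprime p)
    {Z : Subgroup G} (hZp : IsPGroup p Z) {m : G}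
    (hm : QuotientGroup.mk' K m ∈ normalizer ((Z.map (QuotientGroup.mk' K) : Subgroup (G ⧸ K)) : Set (G ⧸ K))) :
    ∃ n0 ∈ normalizer (Z : Set G), ∃ k ∈ K, m = n0 * k := by
  set π := QuotientGroup.mk' K
  have hdis : ∀ {P : Subgroup G}, IsPGroup p P → ∀ x ∈ P, x ∈ K → x = 1 := fun hP x hx hxK =>
    mem_bot.mp ((Cores.disjoint_of_isPGroup_of_coprime hP hK).le ⟨hx, hxK⟩)
  set L := Z ⊔ K with hL
  have hLc : L = (Z.map π).comap π := by rw [comap_map_eq, QuotientGroup.ker_mk']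
  have hmL : cj m L = L := by
    have h2 : (cj m L).map π = L.map π := by
      rw [hLc, map_comap_eq_self_of_surjective (QuotientGroup.mk'_surjective K)]
      conv_rhs => rw [← H48.cj_eq_of_mem_normalizer hm]
      rw [cj, cj, Subgroup.map_map,
        show π.comp (MulAut.conj m).toMonoidHom = (MulAut.conj (π m)).toMonoidHom.comp π from
          MonoidHom.ext fun x => by simp,
        ← Subgroup.map_map, map_comap_eq_self_of_surjective (QuotientGroup.mk'_surjective K)]
    refine H48.cj_eq_self_of_le fun x hx => ?_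
    have h3 : π x ∈ L.map π := h2.le ⟨x, hx, rfl⟩
    have h4 : x ∈ (L.map π).comap π := h3
    rwa [comap_map_eq, QuotientGroup.ker_mk', sup_eq_left.mpr (le_sup_right : K ≤ L)] at h4
  have hZL : IsSylowIn p Z L := by
    refine ⟨le_sup_left, hZp, ?_⟩
    intro hd
    have h1 : Z.relIndex L ∣ Nat.card K := by
      rw [hL, sup_comm]
      refine (relIndex_sup_eq_card (fun z _ => (normalizer_eq_top (H := K)).ge (mem_top z))
        (eq_bot_iff.mpr fun x hx => mem_bot.mpr
          (hdis hZp x hx.2 hx.1))).dvd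
    exact (Fact.out : p.Prime).coprime_iff_not_dvd.mp hK.symm (hd.trans h1)
  have hZm := hZL.cj m
  rw [hmL] at hZm
  obtain ⟨l, hl, hlZ⟩ := hZm.exists_conj hZL
  rw [H48.cj_cj] at hlZ
  have hl' : l⁻¹ ∈ Z ⊔ K := inv_mem hl
  obtain ⟨z, hz, k, hk, hzk⟩ := mem_sup_of_normal_right.mp hl'
  have hlm : l * m ∈ normalizer (Z : Set G) := H48.mem_normalizer_of_cj_eq hlZ
  refine ⟨z * (l * m), mul_mem (le_normalizer hz) hlm, (l * m)⁻¹ * k * (l * m),
    by simpa using Normal.conj_mem (inferInstance : K.Normal) k hk (l * m)⁻¹, ?_⟩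
  rw [show z * (l * m) * ((l * m)⁻¹ * k * (l * m)) = (z * k) * l * m by group, hzk,
    inv_mul_cancel, one_mul]

end Cfsg.Agent.Thompson

namespace Cfsg.Agent.Thompson

open Subgroup
open H48 (cj limg IsSylowIn isSylowIn_sylow cj_le cj_mono conj_mem_cj mem_cj)

universe u

variable {p : ℕ} {W : ∀ (G : Type u) [Group G], Subgroup G → Subgroup G}

/-- `W` is normal, at strongly closed subgroups, in stable constrained groups -/
def NormalAtClosed (p : ℕ) (W : ∀ (G : Type u) [Group G], Subgroup G → Subgroup G) : Prop :=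
  ∀ (G : Type u) [Group G] [Finite G], centralizer (pCore p G : Set G) ≤ pCore p G → StableOnNormal p G →
    ∀ (S : Sylow p G) (D : Subgroup G), IsStronglyClosed D (S : Subgroup G) → (W G D).Normal

variable {G : Type u} [Group G] [Finite G]

omit [Finite G] in
theorem isStronglyClosed_subgroupOf {D S M : Subgroup G} (hD : IsStronglyClosed D S) :
    IsStronglyClosed (D.subgroupOf M) (S.subgroupOf M) :=
  ⟨fun _ hx => hD.1 hx, fun x hx g hg => hD.2 (x : G) hx (g : G) hg⟩

theorem isStronglyClosed_map_coprime [Fact p.Prime] (K : Subgroup G) [K.Normal] (hK : (Nat.card K).Coprime p)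
    (S : Sylow p G) {D : Subgroup G} (hD : IsStronglyClosed D (S : Subgroup G)) :
    IsStronglyClosed (D.map (QuotientGroup.mk' K)) ((S : Subgroup G).map (QuotientGroup.mk' K)) := by
  set π := QuotientGroup.mk' K
  refine ⟨map_mono hD.1, ?_⟩
  rintro _ ⟨x, hx, rfl⟩ q hq
  obtain ⟨g, rfl⟩ := QuotientGroup.mk'_surjective K q
  have hyL : g * x * g⁻¹ ∈ K ⊔ (S : Subgroup G) := by
    have h : g * x * g⁻¹ ∈ ((S : Subgroup G).map π).comap π := by
      show π (g * x * g⁻¹) ∈ (S : Subgroup G).map π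
      rw [map_mul, map_mul, map_inv]; exact hq
    rwa [comap_map_eq, QuotientGroup.ker_mk', sup_comm] at h
  have hSL : IsSylowIn p (S : Subgroup G) (K ⊔ (S : Subgroup G)) :=
    ⟨le_sup_right, S.isPGroup', fun hd => S.not_dvd_index (hd.trans (relIndex_dvd_index_of_le le_sup_right))⟩
  have hyp : IsPGroup p (zpowers (g * x * g⁻¹)) := (H48.isPGroup_cj (g := g) S.isPGroup').to_le
    (zpowers_le.mpr (conj_mem_cj (hD.1 hx)))
  obtain ⟨l, hl, hle⟩ := hSL.exists_cj_le hyp (zpowers_le.mpr hyL)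
  obtain ⟨k, hk, s, hs, rfl⟩ := mem_sup_of_normal_left.mp hl
  have h1 := hle (conj_mem_cj (mem_zpowers (g * x * g⁻¹)))
  set k' := s⁻¹ * k * s
  have hk' : k' ∈ K := by simpa [k'] using Normal.conj_mem (inferInstance : K.Normal) k hk s⁻¹
  have h2 : k' * g * x * (k' * g)⁻¹ ∈ (S : Subgroup G) := by
    have := mul_mem (mul_mem (inv_mem hs) h1) hs
    convert this using 1
    simp only [k']; group
  refine ⟨k' * g * x * (k' * g)⁻¹, hD.2 x hx _ h2, ?_⟩
  rw [map_mul π (k' * g * x), map_mul π (k' * g), map_inv, map_mul π k', show π k' = 1 from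
    (QuotientGroup.eq_one_iff k').mpr hk', one_mul]

theorem IsPFunctor.le_normalizer_closed (hW : IsPFunctor p W) (S : Sylow p G) {D : Subgroup G}
    (hD : IsStronglyClosed D (S : Subgroup G)) : (S : Subgroup G) ≤ normalizer (W G D : Set G) :=
  (Closed.le_normalizer_of_stronglyClosed hD).trans (hW.normalizer_le (S.isPGroup'.to_le hD.1))

theorem IsPFunctor.normalizer_closed (hW : IsPFunctor p W) (S : Sylow p G) {D : Subgroup G}
    (hD : IsStronglyClosed D (S : Subgroup G)) :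
    normalizer ((S : Subgroup G) : Set G) ≤ normalizer (W G D : Set G) := by
  refine le_trans (fun g hg => ?_) (hW.normalizer_le (S.isPGroup'.to_le hD.1))
  exact H48.mem_normalizer_of_cj_eq (H48.cj_eq_self_of_le (cj_le.mpr fun x hx =>
    hD.2 x hx g ((mem_normalizer_iff.mp hg x).mp (hD.1 hx))))

theorem injective_mk'_comp [Fact p.Prime] (K : Subgroup G) [K.Normal] (hK : (Nat.card K).Coprime p)
    {P : Subgroup G} (hP : IsPGroup p P) : Function.Injective ((QuotientGroup.mk' K).comp P.subtype) :=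
  (injective_iff_map_eq_one _).mpr fun x hx => Subtype.ext (mem_bot.mp
    ((Cores.disjoint_of_isPGroup_of_coprime hP hK).le ⟨x.2, (QuotientGroup.eq_one_iff _).mp hx⟩))

/-- `N(W(D))` controls strong fusion when `Qd(p)` is not involved. -/
theorem closed_fusion [Fact p.Prime] (hp : p ≠ 2) (hW : IsPFunctor p W) (hWn : NormalAtClosed p W) :
    ∀ (n : ℕ) (G : Type u) [Group G] [Finite G], Nat.card G ≤ n → ¬ HasSection (qd p) G →
      ∀ (S : Sylow p G) (D : Subgroup G), IsStronglyClosed D (S : Subgroup G) →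
      ∀ (A : Set G) (g : G), A ⊆ (S : Subgroup G) → limg A g ⊆ (S : Subgroup G) →
        ∃ n ∈ normalizer (W G D : Set G), ∀ a ∈ A, n * a * n⁻¹ = g * a * g⁻¹ := by
  intro n
  induction n with
  | zero => intro G _ _ hc; exact absurd hc (Nat.not_le.mpr Nat.card_pos)
  | succ n ih =>
    intro G _ _ hcard hG S D hD A g hA hAg
    have hfuse : ∀ M : Subgroup G, (S : Subgroup G) ≤ M → M ≠ ⊤ → ∀ (A : Set G) (x : G), x ∈ M →
        A ⊆ (S : Subgroup G) → limg A x ⊆ (S : Subgroup G) →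
        ∃ n ∈ normalizer (W G D : Set G), ∀ a ∈ A, n * a * n⁻¹ = x * a * x⁻¹ := by
      intro M hSM hM A x hx hA hAx
      have hlt : Nat.card M < Nat.card G := lt_of_le_of_ne (card_le_card_group M) fun h => hM (eq_top_of_card_eq M h)
      obtain ⟨n', hn', hna⟩ := ih M (by omega) (fun h => hG (h.of_injective M.subtype_injective))
        (S.subtype hSM) (D.subgroupOf M) (isStronglyClosed_subgroupOf hD) {a | (a : G) ∈ A} ⟨x, hx⟩
        (fun a ha => hA ha) (by rintro _ ⟨a, ha, rfl⟩; exact hAx ⟨a, ha, rfl⟩)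
      refine ⟨n', H48.mem_normalizer_of_cj_eq ?_,
        fun a ha => congrArg Subtype.val (hna ⟨a, hSM (hA ha)⟩ ha)⟩
      have h := hW.map_eq M G M.subtype (D.subgroupOf M) ((S.isPGroup'.to_le hD.1).comap_subtype)
        (M.subtype_injective.comp Subtype.val_injective)
      rw [subgroupOf_map_subtype, inf_eq_left.mpr (hD.1.trans hSM)] at h
      rw [h, cj, Subgroup.map_map]
      conv_rhs => rw [← H48.cj_eq_of_mem_normalizer hn', cj, Subgroup.map_map]
      rfl
    by_cases hK : pPrimeCore p G = ⊥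
    swap
    · set K := pPrimeCore p G
      have hKc : (Nat.card K).Coprime p := Cores.coprime_card_pPrimeCore
      set π := QuotientGroup.mk' K
      have hcardQ : Nat.card (G ⧸ K) ≤ n := by
        have h1 := K.card_mul_index
        rw [index_eq_card] at h1
        have h2 : 2 ≤ Nat.card K := K.one_lt_card_iff_ne_bot.mpr hK
        have h3 : 0 < Nat.card (G ⧸ K) := Nat.card_pos
        nlinarith
      have hDp : IsPGroup p D := S.isPGroup'.to_le hD.1
      obtain ⟨m, hm, hma⟩ := ih (G ⧸ K) hcardQ (fun h => hG (h.of_surjective (QuotientGroup.mk'_surjective K)))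
        (S.mapSurjective (QuotientGroup.mk'_surjective K)) (D.map π) (isStronglyClosed_map_coprime K hKc S hD)
        (π '' A) (π g) (by rintro _ ⟨a, ha, rfl⟩; exact ⟨a, hA ha, rfl⟩) (by
          rintro _ ⟨_, ⟨a, ha, rfl⟩, rfl⟩
          exact ⟨g * a * g⁻¹, hAg ⟨a, ha, rfl⟩, by simp [π]⟩)
      obtain ⟨m, rfl⟩ := QuotientGroup.mk'_surjective K m
      rw [hW.map_eq G (G ⧸ K) π D hDp (injective_mk'_comp K hKc hDp)] at hm
      obtain ⟨n0, hn0, k, hk, rfl⟩ := exists_mem_normalizer_mul K hKc (hDp.to_le (hW.le G D hDp)) hm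
      refine fusion_of_congr K hKc S _ (hW.le_normalizer_closed S hD) hA hAg hn0 fun a ha => ?_
      have := hma (π a) ⟨a, ha, rfl⟩
      rw [map_mul π, show π k = 1 from (QuotientGroup.eq_one_iff k).mpr hk, mul_one] at this
      simpa [π] using this
    by_cases hD0 : D = ⊥
    · refine ⟨g, H48.mem_normalizer_of_cj_eq ?_, fun _ _ => rfl⟩
      rw [show W G D = ⊥ from le_bot_iff.mp (hD0 ▸ hW.le G D (S.isPGroup'.to_le hD.1)), cj, Subgroup.map_bot]
    -- reduce to `N(Z(J(S)))`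
    obtain ⟨x, hx, hxa⟩ := strongFusion_zjay hp (e := 0) (.inl rfl) G hG S A g hA hAg
    by_cases hH : normalizer (zjayW 0 G (S : Subgroup G) : Set G) = ⊤
    swap
    · obtain ⟨n', hn', hna⟩ := hfuse _ (le_normalizer_zjay 0 _) hH A x hx hA (by rw [H48.limg_congr hxa]; exact hAg)
      exact ⟨n', hn', fun a ha => (hna a ha).trans (hxa a ha)⟩
    have hZn : (zjay 0 (S : Subgroup G)).Normal := normalizer_eq_top_iff.mp hH
    set Q := pCore p G with hQ
    have hQS : Q ≤ (S : Subgroup G) := Cores.pCore_le_sylow S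
    have hSne : (S : Subgroup G) ≠ ⊥ := fun h => hD0 (le_bot_iff.mp (h ▸ hD.1))
    have hQ1 : Q ≠ ⊥ := fun h => zjay_ne_bot S.isPGroup' hSne (.inl rfl) (le_bot_iff.mp
      (h ▸ Cores.le_pCore (S.isPGroup'.to_le zjay_le)))
    set Cq := centralizer (Q : Set G) with hCq
    have hQp : IsPGroup p Q := Cores.pCore_isPGroup
    by_cases hconst : Cq ≤ Q
    · have : (W G D).Normal := hWn G hconst (stableOnNormal_of_qd_free hp hG) S D hD
      exact ⟨g, (normalizer_eq_top (H := W G D)).ge (mem_top g), fun _ _ => rfl⟩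
    by_cases hCS : Cq ⊔ (S : Subgroup G) = ⊤
    · have hGj : ∀ y : G, ∃ j : ℕ, y ^ p ^ j ∈ Cq := fun y => by
        obtain ⟨c, hc, s, hs, rfl⟩ := mem_sup_of_normal_left.mp (hCS.ge (mem_top y))
        obtain ⟨j, hj⟩ := S.isPGroup' ⟨s, hs⟩
        refine ⟨j, (QuotientGroup.eq_one_iff _).mp ?_⟩
        rw [QuotientGroup.mk_pow, QuotientGroup.mk_mul, (QuotientGroup.eq_one_iff c).mpr hc, one_mul,
          ← QuotientGroup.mk_pow, show s ^ p ^ j = 1 from congrArg Subtype.val hj]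
        rfl
      set π := QuotientGroup.mk' Q
      let S' : Sylow p (G ⧸ Q) := S.mapSurjective (QuotientGroup.mk'_surjective Q)
      set M := (normalizer (zjay 0 (S' : Subgroup (G ⧸ Q)) : Set (G ⧸ Q))).comap π with hM
      have hSM : (S : Subgroup G) ≤ M := fun s hs => le_normalizer_zjay 0 _ ⟨s, hs, rfl⟩
      by_cases hMtop : M = ⊤
      · have h1 : (zjay 0 (S' : Subgroup (G ⧸ Q))).Normal := by
          refine normalizer_eq_top_iff.mp (top_le_iff.mp fun x _ => ?_)
          obtain ⟨y, rfl⟩ := QuotientGroup.mk'_surjective Q x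
          exact (hMtop.ge (mem_top y) :)
        have h2 : (S' : Subgroup (G ⧸ Q)) = ⊥ := by
          by_contra hne
          refine zjay_ne_bot S'.isPGroup' hne (.inl rfl) (le_bot_iff.mp ?_)
          rw [← Cores.pCore_quotient_pCore (p := p) (G := G)]
          exact Cores.le_pCore (S'.isPGroup'.to_le zjay_le)
        have hSQ : (S : Subgroup G) = Q := le_antisymm (fun s hs =>
          (QuotientGroup.eq_one_iff s).mp (mem_bot.mp (h2 ▸ ⟨s, hs, rfl⟩))) hQS
        refine ⟨g, hW.normalizer_closed S hD ?_, fun _ _ => rfl⟩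
        rw [hSQ]
        exact (normalizer_eq_top (H := Q)).ge (mem_top g)
      have hquo : StrongFusionFor p (zjayW 0) (G ⧸ Q) := strongFusion_zjay hp (.inl rfl) _
        fun h => hG (h.of_surjective (QuotientGroup.mk'_surjective Q))
      have hmod : ∀ (B : Set G) (x : G), B ⊆ (S : Subgroup G) → limg B x ⊆ (S : Subgroup G) →
          ∃ m ∈ M, ∀ b ∈ B, (x * b * x⁻¹)⁻¹ * (m * b * m⁻¹) ∈ Q := by
        intro B x hB hBx
        obtain ⟨m, hm, hmb⟩ := hquo S' (π '' B) (π x) (by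
            rintro _ ⟨b, hb, rfl⟩; exact ⟨b, hB hb, rfl⟩) (by
            rintro _ ⟨_, ⟨b, hb, rfl⟩, rfl⟩
            exact ⟨x * b * x⁻¹, hBx ⟨b, hb, rfl⟩, by simp [π]⟩)
        obtain ⟨m, rfl⟩ := QuotientGroup.mk'_surjective Q m
        refine ⟨m, hm, fun b hb => QuotientGroup.eq.mp ?_⟩
        show π (x * b * x⁻¹) = π (m * b * m⁻¹)
        simpa [π] using (hmb (π b) ⟨b, hb, rfl⟩).symm
      set B0 := closure A ⊔ Q with hB0
      have hB0S : B0 ≤ (S : Subgroup G) := sup_le ((closure_le _).mpr hA) hQS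
      have hB0g : cj g B0 ≤ (S : Subgroup G) := by
        rw [cj, hB0, Subgroup.map_sup, MonoidHom.map_closure]
        refine sup_le ((closure_le _).mpr hAg) ?_
        rintro _ ⟨q, hq, rfl⟩
        exact hQS (Normal.conj_mem (inferInstance : Q.Normal) q hq g)
      obtain ⟨e, he1, -, he3⟩ := Fusion.exists_extremal S hB0S
      set E := cj e B0
      have hQE : Q ≤ E := fun q hq => mem_cj.mpr
        (mem_sup_right (by simpa using Normal.conj_mem (inferInstance : Q.Normal) q hq e⁻¹))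
      have hEsyl : IsSylowIn p ((S : Subgroup G) ⊓ normalizer (E : Set G)) (normalizer (E : Set G)) :=
        ⟨inf_le_right, S.isPGroup'.to_le inf_le_left, he3⟩
      have hEe : limg (B0 : Set G) e = (E : Set G) := H48.limg_coe B0 e
      have hEg : limg ((cj g B0 : Subgroup G) : Set G) (e * g⁻¹) = (E : Set G) := by
        rw [H48.limg_coe, H48.cj_cj, inv_mul_cancel_right]
      obtain ⟨m1, hm1, h1⟩ := exists_mem_of_extremal S hQp hGj hSM he1 hQE hEsyl hEe
        (hmod _ _ hB0S (hEe.le.trans he1))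
      obtain ⟨m2, hm2, h2⟩ := exists_mem_of_extremal S hQp hGj hSM he1 hQE hEsyl hEg
        (hmod _ _ hB0g (hEg.le.trans he1))
      have hag : ∀ a ∈ A, m2⁻¹ * m1 * a * (m2⁻¹ * m1)⁻¹ = g * a * g⁻¹ := fun a ha => by
        have ha0 : a ∈ B0 := mem_sup_left (subset_closure ha)
        have e2 := h2 _ (conj_mem_cj ha0)
        calc m2⁻¹ * m1 * a * (m2⁻¹ * m1)⁻¹ = m2⁻¹ * (m1 * a * m1⁻¹) * m2 := by group
          _ = m2⁻¹ * ((e * g⁻¹) * (g * a * g⁻¹) * (e * g⁻¹)⁻¹) * m2 := by rw [h1 a ha0]; group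
          _ = g * a * g⁻¹ := by rw [← e2]; group
      obtain ⟨n', hn, hna⟩ := hfuse M hSM hMtop A _ (mul_mem (inv_mem hm2) hm1) hA
        (by rintro _ ⟨a, ha, rfl⟩; show m2⁻¹ * m1 * a * (m2⁻¹ * m1)⁻¹ ∈ (S : Subgroup G); rw [hag a ha]; exact hAg ⟨a, ha, rfl⟩)
      exact ⟨n', hn, fun a ha => (hna a ha).trans (hag a ha)⟩
    -- `G = N(R) C(Q)`
    set L := Cq ⊔ Q with hL
    set R := (S : Subgroup G) ⊓ L with hR
    set H := normalizer (R : Set G) with hH
    have hQR : Q ≤ R := le_inf hQS le_sup_right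
    have hSH : (S : Subgroup G) ≤ H := fun s hs => H48.mem_normalizer_of_cj_eq
      (H48.cj_eq_self_of_le (cj_le.mpr fun r hr =>
        ⟨(S : Subgroup G).mul_mem ((S : Subgroup G).mul_mem hs hr.1) ((S : Subgroup G).inv_mem hs), Normal.conj_mem inferInstance r hr.2 s⟩))
    obtain ⟨T, hT⟩ := exists_sylow_inf_normal S L
    have hfr : H ⊔ L = ⊤ := by
      have := Sylow.normalizer_sup_eq_top T
      rwa [hT] at this
    have hHC : ∀ y : G, ∃ h ∈ H, ∃ c ∈ Cq, y = h * c := fun y => by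
      have hy : y ∈ H ⊔ Cq := by
        have : H ⊔ Cq = ⊤ := top_le_iff.mp (hfr.ge.trans (sup_le le_sup_left
          (sup_le le_sup_right ((hQS.trans hSH).trans le_sup_left))))
        exact this.ge (mem_top y)
      obtain ⟨h, hh, c, hc, rfl⟩ := mem_sup_of_normal_right.mp hy
      exact ⟨h, hh, c, hc, rfl⟩
    have hHtop : H ≠ ⊤ := by
      intro htop
      apply hconst
      have : R.Normal := normalizer_eq_top_iff.mp htop
      have hRQ : R ≤ Q := Cores.le_pCore (S.isPGroup'.to_le inf_le_left)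
      obtain ⟨T', hT'⟩ := exists_sylow_inf_normal S Cq
      have hcent : normalizer ((T' : Subgroup Cq) : Set Cq) ≤ centralizer ((T' : Subgroup Cq) : Set Cq) := by
        intro x _
        refine mem_centralizer_iff.mpr fun t ht => Subtype.ext ?_
        have htS : (t : G) ∈ (S : Subgroup G) ⊓ Cq := hT'.le ⟨t, ht, rfl⟩
        exact mem_centralizer_iff.mp x.2 _ (hRQ ⟨htS.1, mem_sup_left htS.2⟩)
      obtain ⟨P, N, hNn, hNP⟩ := Fusion.hasNormalPComplement_of_normalizer_le_centralizer T' hcent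
      have hN1 : (Nat.card N).Coprime p := ((Fact.out : p.Prime).coprime_iff_not_dvd.mpr
        (Fusion.not_dvd_card_of_isComplement' P hNP)).symm
      have hN : N = ⊥ := by
        have h3 : N ≤ pPrimeCore p Cq := Cores.le_pPrimeCore hN1
        have h4 : (pPrimeCore p Cq).map Cq.subtype ≤ ⊥ := hK ▸ Cores.map_pPrimeCore_le_of_normal Cq
        rw [le_bot_iff, Subgroup.map_eq_bot_iff_of_injective _ Cq.subtype_injective] at h4
        exact le_bot_iff.mp (h4 ▸ h3)
      have hP : (P : Subgroup Cq) = ⊤ := by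
        have := hNP.sup_eq_top
        rwa [hN, bot_sup_eq] at this
      intro c hc
      obtain ⟨x, hx⟩ := MulAction.exists_smul_eq Cq P T'
      have hT'top : (T' : Subgroup Cq) = ⊤ := by
        refine eq_top_of_card_eq _ ?_
        rw [Nat.card_congr (T'.equiv P).toEquiv, hP, card_top]
      have hcS : c ∈ (S : Subgroup G) ⊓ Cq := hT'.le ⟨⟨c, hc⟩, hT'top.ge (mem_top _), rfl⟩
      exact hRQ ⟨hcS.1, mem_sup_left hcS.2⟩
    obtain ⟨h, hh, c, hc, rfl⟩ := hHC g
    set L1 := (Cq ⊔ (S : Subgroup G)) ⊓ H with hL1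
    set B'' := closure (limg A c) with hB''
    have hB''h : B'' ≤ cj h⁻¹ (S : Subgroup G) := (closure_le _).mpr (by
      rintro _ ⟨a, ha, rfl⟩
      refine mem_cj.mpr ?_
      have := hAg ⟨a, ha, rfl⟩
      change h * c * a * (h * c)⁻¹ ∈ (S : Subgroup G) at this
      show (h⁻¹)⁻¹ * (c * a * c⁻¹) * h⁻¹ ∈ (S : Subgroup G)
      convert this using 1
      group)
    have hB''L : B'' ≤ L1 := le_inf ((closure_le _).mpr (by
        rintro _ ⟨a, ha, rfl⟩
        show c * a * c⁻¹ ∈ Cq ⊔ (S : Subgroup G)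
        exact mul_mem (mul_mem (mem_sup_left hc) (mem_sup_right (hA ha))) (inv_mem (mem_sup_left hc))))
      (hB''h.trans (cj_le.mpr fun s hs => by
        simpa using mul_mem (mul_mem (inv_mem hh) (hSH hs)) hh))
    have hSL1 : IsSylowIn p (S : Subgroup G) L1 :=
      ⟨le_inf le_sup_right hSH, S.isPGroup', fun hd => S.not_dvd_index
        (hd.trans (relIndex_dvd_index_of_le (le_inf le_sup_right hSH)))⟩
    obtain ⟨l, hl, hlB⟩ := hSL1.exists_cj_le ((H48.isPGroup_cj S.isPGroup').to_le hB''h) hB''L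
    obtain ⟨c1, hc1, s, hs, rfl⟩ := mem_sup_of_normal_left.mp hl.1
    -- move `s` to the left
    set d := s⁻¹ * c1 * s with hd
    have hdC : d ∈ Cq := by simpa [hd] using Normal.conj_mem (inferInstance : Cq.Normal) c1 hc1 s⁻¹
    have hdH : d ∈ H := by
      have : d = s⁻¹ * (c1 * s) := by rw [hd, mul_assoc]
      rw [this]; exact mul_mem (inv_mem (hSH hs)) hl.2
    have hdB : ∀ a ∈ A, d * c * a * (d * c)⁻¹ ∈ (S : Subgroup G) := fun a ha => by
      have h1 := hlB (conj_mem_cj (subset_closure (⟨a, ha, rfl⟩ : c * a * c⁻¹ ∈ limg A c)))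
      have h2 := mul_mem (mul_mem (inv_mem hs) h1) hs
      convert h2 using 1
      rw [hd]; group
    obtain ⟨n1, hn1, h1a⟩ := hfuse _ le_sup_right hCS A _
      (mem_sup_left (mul_mem hdC hc)) hA (by rintro _ ⟨a, ha, rfl⟩; exact hdB a ha)
    obtain ⟨n2, hn2, h2a⟩ := hfuse H hSH hHtop (limg A (d * c)) _
      (mul_mem hh (inv_mem hdH)) (by rintro _ ⟨a, ha, rfl⟩; exact hdB a ha) (by
        rw [H48.limg_limg, show h * d⁻¹ * (d * c) = h * c by group]; exact hAg)
    refine ⟨n2 * n1, mul_mem hn2 hn1, fun a ha => ?_⟩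
    calc n2 * n1 * a * (n2 * n1)⁻¹ = n2 * (n1 * a * n1⁻¹) * n2⁻¹ := by group
      _ = h * d⁻¹ * (d * c * a * (d * c)⁻¹) * (h * d⁻¹)⁻¹ := by rw [h1a a ha]; exact h2a _ ⟨a, ha, rfl⟩
      _ = h * c * a * (h * c)⁻¹ := by group

end Cfsg.Agent.Thompson
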