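import Mathlib
import Cfsg.Prelude.Def_LocalEven
import Cfsg.Agent.Cores.PCore
import Cfsg.Agent.H58.Qd

/-!
A group isomorphic to `Qd(p)` is not `p`-stable in the normalizer form.
-/

set_option autoImplicit false

namespace Cfsg.Agent.Thompson

open Subgroup
open scoped commutatorElement
open Cfsg.Agent.H58.Qd

theorem not_isNormalizerPStable_of_equiv_qd {Q : Type*} [Group Q] [Finite Q] {p : ℕ} [Fact p.Prime]
    (e : Q ≃* ↥(Cfsg.qdOver (ZMod p))) : ¬ IsNormalizerPStable p Q := by
  intro h
  set f : Q →* Matrix.SpecialLinearGroup (Fin 2) (ZMod p) := toSL2.comp e.toMonoidHom with hf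
  have hfs : Function.Surjective f := fun A => ⟨e.symm (mk A 0), by simp [hf, toSL2_mk]⟩
  set P := f.ker with hP
  have hPmem : ∀ x : Q, x ∈ P ↔ e x ∈ H58.Qd.trans (ZMod p) := fun x => Iff.rfl
  have hPp : IsPGroup p P := by
    rintro ⟨x, hx⟩
    obtain ⟨k, hk⟩ := trans_isPGroup (F := ZMod p) ⟨e x, (hPmem x).mp hx⟩
    exact ⟨k, Subtype.ext (e.injective ((map_pow e x _).trans ((congrArg Subtype.val hk).trans (map_one e).symm)))⟩
  let g : Q := e.symm (mk (upper 1) 0)
  have hg : g ∈ normalizer (P : Set Q) := (normalizer_eq_top (H := P)).ge (mem_top g)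
  -- the upper unitriangular copy
  let U : Multiplicative (ZMod p) →* ↥(Cfsg.qdOver (ZMod p)) := MonoidHom.mk' (fun t => mk (upper (Multiplicative.toAdd t)) 0) fun s t => by
    rw [mk_mul, Matrix.mulVec_zero, zero_add, upper_mul]; rfl
  have hz : ∀ z ∈ zpowers g, ∃ t, e z = mk (upper t) 0 := fun z hz => by
    obtain ⟨n, rfl⟩ := mem_zpowers_iff.mp hz
    refine ⟨Multiplicative.toAdd ((Multiplicative.ofAdd (1 : ZMod p)) ^ n), ?_⟩
    show _ = U _
    rw [map_zpow, map_zpow]
    congr 1
    exact e.apply_symm_apply _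
  let W : Subgroup Q :=
    { carrier := {x | ∃ v : Fin 2 → ZMod p, v 1 = 0 ∧ e x = mk 1 v}
      one_mem' := ⟨0, rfl, by rw [map_one, mk_one]⟩
      mul_mem' := by
        rintro x y ⟨v, hv, hx⟩ ⟨w, hw, hy⟩
        exact ⟨w + v, by simp [hv, hw], by rw [map_mul, hx, hy, mk_mul, one_mul, Matrix.SpecialLinearGroup.coe_one, Matrix.one_mulVec]⟩
      inv_mem' := by
        rintro x ⟨v, hv, hx⟩
        refine ⟨-v, by simp [hv], ?_⟩
        rw [map_inv, hx]
        refine inv_eq_of_mul_eq_one_right ?_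
        rw [mk_mul, one_mul, Matrix.SpecialLinearGroup.coe_one, Matrix.one_mulVec, neg_add_cancel, mk_one] }
  have h1 : ⁅P, zpowers g⁆ ≤ W := commutator_le.mpr fun x hx z hzg => by
    obtain ⟨v, hv⟩ := (mem_trans_iff _).mp ((hPmem x).mp hx)
    obtain ⟨t, ht⟩ := hz z hzg
    refine ⟨![-(t * v 1), 0], rfl, ?_⟩
    rw [map_commutatorElement, hv, ht]
    have e1 : mk (1 : Matrix.SpecialLinearGroup (Fin 2) (ZMod p)) v * mk (upper t) 0
        = mk 1 ![-(t * v 1), 0] * (mk (upper t) 0 * mk 1 v) := by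
      simp only [mk_mul, one_mul, mul_one, Matrix.SpecialLinearGroup.coe_one, Matrix.one_mulVec, zero_add, upper_coe]
      congr 1
      ext i; fin_cases i <;> simp [Matrix.mulVec, dotProduct, Fin.sum_univ_two]
    rw [commutatorElement_def, e1]; group
  have hq : ⁅⁅P, zpowers g⁆, zpowers g⁆ = ⊥ := by
    refine le_bot_iff.mp ((commutator_mono h1 le_rfl).trans (commutator_le.mpr fun x hx z hzg => ?_))
    obtain ⟨v, hv1, hv⟩ := hx
    obtain ⟨t, ht⟩ := hz z hzg
    refine mem_bot.mpr (commutatorElement_eq_one_iff_mul_comm.mpr (e.injective ?_))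
    rw [map_mul, map_mul, hv, ht, mk_mul, mk_mul]
    simp only [Matrix.SpecialLinearGroup.coe_one, Matrix.one_mulVec, one_mul, mul_one, add_zero, zero_add, upper_coe]
    congr 1
    ext i; fin_cases i <;> simp [Matrix.mulVec, dotProduct, Fin.sum_univ_two, hv1]
  have hmem := h P hPp g hg hq
  set N := normalizer (P : Set Q)
  have hC : (centralizer (P : Set Q)).subgroupOf N ≤ (f.comp N.subtype).ker := by
    rintro ⟨x, hxN⟩ hx
    show f x = 1
    have hc : ∀ v, ((toSL2 (e x) : Matrix.SpecialLinearGroup (Fin 2) (ZMod p)) : Matrix (Fin 2) (Fin 2) (ZMod p)).mulVec v = v := by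
      intro v
      have hv : e.symm (mk 1 v) ∈ P := (hPmem _).mpr (by rw [e.apply_symm_apply]; exact (mem_trans_iff _).mpr ⟨v, rfl⟩)
      have h2 := congrArg e (mem_centralizer_iff.mp hx _ hv)
      simp only [coe_subtype] at h2
      rw [map_mul, map_mul, e.apply_symm_apply, eq_mk (e x), mk_mul, mk_mul] at h2
      simp only [Matrix.SpecialLinearGroup.coe_one, Matrix.one_mulVec] at h2
      funext i
      fin_cases i
      · have h3 := congrArg (fun m => ent m 0 2) h2
        simp at h3
        simp [toSL2_apply, Matrix.vecHead, Matrix.vecTail] at h3 ⊢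
        linear_combination -h3
      · have h3 := congrArg (fun m => ent m 1 2) h2
        simp at h3
        simp [toSL2_apply, Matrix.vecHead, Matrix.vecTail] at h3 ⊢
        linear_combination -h3
    exact Subtype.ext (Matrix.ext_iff_mulVec.mpr fun v => (hc v).trans (Matrix.one_mulVec v).symm)
  set L := QuotientGroup.lift _ (f.comp N.subtype) hC with hL
  have hLs : Function.Surjective L := QuotientGroup.lift_surjective_of_surjective _ _ (fun A => by
    obtain ⟨x, rfl⟩ := hfs A
    exact ⟨⟨x, (normalizer_eq_top (H := P)).ge (mem_top x)⟩, rfl⟩) hC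
  have hN := toSL2_eq_one_of_normal (F := ZMod p)
    (Normal.map inferInstance L hLs : ((pCore p _).map L).Normal) (Cores.pCore_isPGroup.map L)
  have hu : f g = 1 := mem_bot.mp (hN ▸ ⟨_, hmem, rfl⟩)
  have := congrArg (fun m : Matrix.SpecialLinearGroup (Fin 2) (ZMod p) => m 0 1) hu
  simp [hf, g, toSL2_mk, upper_coe] at this

end Cfsg.Agent.Thompson
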