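import Mathlib
import Cfsg.Prelude.Def_LocalEven
import Cfsg.Agent.Thompson.ClosedFusion
import Cfsg.Agent.Thompson.Forms
import Cfsg.Agent.S1961
import Cfsg.Agent.PGroups.Basic

/-!
The two functors, the normal `p`-complement criterion and the local form for strongly closed subgroups.
-/

set_option autoImplicit false

namespace Cfsg.Agent.Thompson

open Subgroup
open scoped commutatorElement
open H48 (cj limg IsSylowIn isSylowIn_sylow cj_le cj_mono conj_mem_cj mem_cj)

universe u

variable {p : ℕ}

/-- `Ω₁(Z(J_e(P)))` as a functor -/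
abbrev omegaW (p : ℕ) : ∀ (G : Type u) [Group G], Subgroup G → Subgroup G := fun G _ P => zjayLevel p p 1 P

theorem zjayLevel_map_of_injective_comp {G H : Type u} [Group G] [Group H] (f : G →* H) (P : Subgroup G)
    (hf : Function.Injective (f.comp P.subtype)) : zjayLevel p p 1 (P.map f) = (zjayLevel p p 1 P).map f := by
  have h1 : P.map f = (⊤ : Subgroup P).map (f.comp P.subtype) := by
    rw [← Subgroup.map_map, ← MonoidHom.range_eq_map P.subtype, range_subtype]
  have h2 : zjayLevel p p 1 P = (zjayLevel p p 1 (⊤ : Subgroup P)).map P.subtype := by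
    rw [← zjayLevel_map P.subtype P.subtype_injective, ← MonoidHom.range_eq_map P.subtype, range_subtype]
  rw [h1, zjayLevel_map _ hf, h2, Subgroup.map_map]

theorem omegaW_isPFunctor [Fact p.Prime] : IsPFunctor.{u} p (omegaW p) where
  le _ _ _ _ _ := fun x hx => zjay_le hx.1
  ne_bot G _ _ P hP hne := by
    have hz := zjay_ne_bot hP hne (e := p) (.inr rfl)
    have : Nontrivial (zjay p P) := (zjay p P).nontrivial_iff_ne_bot.mpr hz
    obtain ⟨n, hn0, hn⟩ := (hP.to_le zjay_le : IsPGroup p (zjay p P)).nontrivial_iff_card.mp this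
    obtain ⟨x, hx⟩ := exists_prime_orderOf_dvd_card' p (G := zjay p P) (hn ▸ dvd_pow_self p hn0.ne')
    intro h
    have hmem : (x : G) ∈ zjayLevel p p 1 P := ⟨x.2, by
      have hxp : x ^ p = 1 := orderOf_dvd_iff_pow_eq_one.mp hx.dvd
      rw [pow_one]
      exact congrArg Subtype.val hxp⟩
    rw [show zjayLevel p p 1 P = ⊥ from h, mem_bot] at hmem
    rw [show x = 1 from Subtype.ext hmem, orderOf_one] at hx
    exact (Fact.out : p.Prime).one_lt.ne hx
  map_eq _ _ _ _ _ f P _ hf := zjayLevel_map_of_injective_comp f P hf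

theorem zjayW_normalAtClosed [Fact p.Prime] (hp : p ≠ 2) : NormalAtClosed.{u} p (zjayW 0) :=
  fun _ _ _ hc hst S _ hD => Closed.zjay_zero_normal hp hc hst S hD

theorem omegaW_normalAtClosed [Fact p.Prime] (hp : p ≠ 2) : NormalAtClosed.{u} p (omegaW p) :=
  fun _ _ _ hc hst S _ hD => Closed.zjayLevel_normal hp hc hst S hD 1

variable {W : ∀ (G : Type u) [Group G], Subgroup G → Subgroup G}

/-! ### stability passes to subgroups -/

theorem isNormalizerPStable_subgroup {G : Type u} [Group G] (h : IsNormalizerPStable p G) (N : Subgroup G) :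
    IsNormalizerPStable p N := by
  intro P hP g hg hq
  set P' := P.map N.subtype with hP'
  have hg' : (g : G) ∈ normalizer (P' : Set G) := by
    refine mem_normalizer_of_map_conj ?_
    conv_rhs => rw [hP', ← map_conj_of_mem_normalizer hg]
    rw [hP', Subgroup.map_map, Subgroup.map_map]
    rfl
  have hq' : ⁅⁅P', zpowers (g : G)⁆, zpowers (g : G)⁆ = ⊥ := by
    rw [hP', show (g : G) = N.subtype g from rfl, ← MonoidHom.map_zpowers, ← map_commutator, ← map_commutator,
      hq, Subgroup.map_bot]
  have hmem := h P' (hP.map _) (g : G) hg' hq'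
  let NP := normalizer (P : Set N)
  let NP' := normalizer (P' : Set G)
  let f : NP →* NP' := MonoidHom.codRestrict (N.subtype.comp NP.subtype) _ fun n => by
    refine mem_normalizer_of_map_conj ?_
    conv_rhs => rw [hP', ← map_conj_of_mem_normalizer n.2]
    rw [hP', Subgroup.map_map, Subgroup.map_map]
    rfl
  have hker : ∀ n : NP, n ∈ (centralizer (P : Set N)).subgroupOf NP ↔
      f n ∈ (centralizer (P' : Set G)).subgroupOf NP' := by
    intro n
    simp only [mem_subgroupOf, mem_centralizer_iff]
    constructor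
    · rintro hn _ ⟨x, hx, rfl⟩
      exact congrArg Subtype.val (hn x hx)
    · intro hn x hx
      exact Subtype.ext (hn _ ⟨x, hx, rfl⟩)
  have : ((centralizer (P : Set N)).subgroupOf NP).Normal := inferInstance
  let φ : NP ⧸ (centralizer (P : Set N)).subgroupOf NP →* NP' ⧸ (centralizer (P' : Set G)).subgroupOf NP' :=
    QuotientGroup.map _ _ f fun n hn => (hker n).mp hn
  have hinj : Function.Injective φ := (injective_iff_map_eq_one _).mpr fun x hx => by
    obtain ⟨n, rfl⟩ := QuotientGroup.mk'_surjective _ x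
    exact (QuotientGroup.eq_one_iff n).mpr ((hker n).mpr ((QuotientGroup.eq_one_iff _).mp hx))
  have hle : (pCore p (NP' ⧸ (centralizer (P' : Set G)).subgroupOf NP')).comap φ ≤
      pCore p (NP ⧸ (centralizer (P : Set N)).subgroupOf NP) :=
    Cores.le_pCore (Cores.pCore_isPGroup.comap_of_injective φ hinj)
  exact hle hmem

variable {G : Type u} [Group G] [Finite G]

theorem isPStable_of_isNormalizerPStable [Fact p.Prime] (hp : p ≠ 2) (h : IsNormalizerPStable p G)
    (hO : pCore p G ≠ ⊥) : IsPStable p G := by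
  refine ⟨(Fact.out : p.Prime).odd_of_ne_two hp, hO, ?_⟩
  rintro A P - hP - - - hq _ ⟨a, ha, rfl⟩
  exact h P hP a a.2 (quadratic_of_le (zpowers_le.mpr ha) hq)

/-! ### the conjugacy functor attached to a strongly closed subgroup -/

/-- elements of `R` conjugate to elements of `D` -/
def conjPart (D R : Subgroup G) : Subgroup G := closure {x | x ∈ R ∧ ∃ g : G, g * x * g⁻¹ ∈ D}

open Classical in
/-- `W` at the part of `R` coming from `D` -/
noncomputable def closedW (W : ∀ (G : Type u) [Group G], Subgroup G → Subgroup G) (D R : Subgroup G) :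
    Subgroup G :=
  if conjPart D R = ⊥ then R else W G (conjPart D R)

omit [Finite G] in
theorem conjPart_le (D R : Subgroup G) : conjPart D R ≤ R := (closure_le _).mpr fun _ hx => hx.1

theorem conjPart_eq {D S R : Subgroup G} (hD : IsStronglyClosed D S) (hR : R ≤ S) : conjPart D R = D ⊓ R := by
  refine le_antisymm ((closure_le _).mpr fun x hx => ?_) fun x hx => subset_closure ⟨hx.2, 1, by simpa using hx.1⟩
  obtain ⟨hxR, g, hg⟩ := hx
  refine ⟨?_, hxR⟩
  have := hD.2 _ hg g⁻¹ (by simpa [mul_assoc] using hR hxR)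
  simpa [mul_assoc] using this

omit [Finite G] in
theorem conjPart_conj (D R : Subgroup G) (g : G) : conjPart D (cj g R) = cj g (conjPart D R) := by
  show Subgroup.closure {x | x ∈ cj g R ∧ ∃ k : G, k * x * k⁻¹ ∈ D} =
    (Subgroup.closure {x | x ∈ R ∧ ∃ k : G, k * x * k⁻¹ ∈ D}).map (MulAut.conj g).toMonoidHom
  rw [MonoidHom.map_closure]
  congr 1
  ext x
  constructor
  · rintro ⟨⟨r, hr, rfl⟩, k, hk⟩
    exact ⟨r, ⟨hr, k * g, by simpa [mul_assoc] using hk⟩, rfl⟩
  · rintro ⟨r, ⟨hr, k, hk⟩, rfl⟩
    exact ⟨⟨r, hr, rfl⟩, k * g⁻¹, by simpa [mul_assoc] using hk⟩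

theorem closedW_isConjugacyFunctor [Fact p.Prime] (hW : IsPFunctor p W) (D : Subgroup G) :
    IsConjugacyFunctor p (closedW W D) := by
  intro R hR
  have hc : IsPGroup p (conjPart D R) := hR.to_le (conjPart_le D R)
  refine ⟨?_, fun hne => ?_, fun g => ?_⟩
  · unfold closedW; split_ifs
    · exact le_rfl
    · exact (hW.le G _ hc).trans (conjPart_le D R)
  · unfold closedW; split_ifs with h
    · exact hne
    · exact hW.ne_bot G _ hc h
  · show closedW W D (cj g R) = cj g (closedW W D R)
    unfold closedW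
    rw [conjPart_conj]
    by_cases h : conjPart D R = ⊥
    · rw [if_pos h, if_pos (by rw [h, cj, Subgroup.map_bot])]
    · rw [if_neg h, if_neg (H48.cj_ne_bot h)]
      exact (hW.isConjugacyFunctor _ hc).2.2 g

theorem exists_mem_inf_center [Fact p.Prime] (S : Sylow p G) {D : Subgroup G}
    (hD : IsStronglyClosed D (S : Subgroup G)) (hD0 : D ≠ ⊥) :
    ∃ z ∈ D, z ∈ centralizer ((S : Subgroup G) : Set G) ∧ z ≠ 1 := by
  set D' := D.subgroupOf (S : Subgroup G)
  have hn : D'.Normal := normal_subgroupOf_of_le_normalizer (Closed.le_normalizer_of_stronglyClosed hD)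
  have : Group.IsNilpotent (S : Subgroup G) := S.isPGroup'.isNilpotent
  have hne : D' ≠ ⊥ := fun h => hD0 (le_bot_iff.mp fun x hx => by
    have hx' : (⟨x, hD.1 hx⟩ : (S : Subgroup G)) ∈ D' := hx
    rw [h, mem_bot] at hx'
    exact mem_bot.mpr (congrArg Subtype.val hx'))
  obtain ⟨x, ⟨hx1, hx2⟩, hx3⟩ :=
    (Subgroup.bot_or_exists_ne_one _).resolve_left (PGroups.inf_center_ne_bot S.isPGroup' D' hne)
  exact ⟨x, hx1, mem_centralizer_iff.mpr fun s hs => congrArg Subtype.val (mem_center_iff.mp hx2 ⟨s, hs⟩),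
    fun h => hx3 (Subtype.ext h)⟩

/-- S3080: all local subgroups constrained, `G` stable -/
theorem closed_fusion_local [Fact p.Prime] (hp : p ≠ 2) (hW : IsPFunctor p W) (hWn : NormalAtClosed p W)
    (hst : IsNormalizerPStable p G) (S : Sylow p G)
    (hc : ∀ U : Subgroup G, U ≤ (S : Subgroup G) → U ≠ ⊥ → IsPConstrained p ↥(normalizer (U : Set G)))
    {D : Subgroup G} (hD : IsStronglyClosed D (S : Subgroup G)) (A : Set G) (g : G)
    (hA : A ⊆ (S : Subgroup G)) (hAg : limg A g ⊆ (S : Subgroup G)) :
    ∃ n ∈ normalizer (W G D : Set G), ∀ a ∈ A, n * a * n⁻¹ = g * a * g⁻¹ := by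
  by_cases hD0 : D = ⊥
  · refine ⟨g, H48.mem_normalizer_of_cj_eq ?_, fun _ _ => rfl⟩
    rw [show W G D = ⊥ from le_bot_iff.mp (hD0 ▸ hW.le G D (S.isPGroup'.to_le hD.1)), cj, Subgroup.map_bot]
  have hWS : closedW W D (S : Subgroup G) = W G D := by
    have h : conjPart D (S : Subgroup G) = D := (conjPart_eq hD le_rfl).trans (inf_eq_left.mpr hD.1)
    rw [closedW, if_neg (by rw [h]; exact hD0), h]
  obtain ⟨z, hzD, hzC, hz1⟩ := exists_mem_inf_center S hD hD0
  have hloc : ∀ T : Subgroup G, T ≠ ⊥ → IsWellPlaced p (closedW W D) (S : Subgroup G) T →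
      ControlsStrongFusionIn p (closedW W D) (normalizer (T : Set G)) := by
    intro T hT hwp
    have hR := H48.IsWellPlaced.isSylowIn S.isPGroup' hwp
    refine H48.controls_of_strongFusionAt hR fun A' h hh hA' hA'' => ?_
    set N := normalizer (T : Set G)
    set R := (S : Subgroup G) ⊓ N
    set DR := D ⊓ R
    have hDR0 : DR ≠ ⊥ := fun h0 => hz1 (mem_bot.mp (h0 ▸ ⟨hzD, hD.1 hzD,
      centralizer_le_normalizer _ (centralizer_le hwp.1 hzC)⟩))
    have hWR : closedW W D R = W G DR := by
      rw [closedW, conjPart_eq hD inf_le_left, if_neg hDR0]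
    -- inside `N`
    let SR : Sylow p N := hR.toSylow
    have hSR : (SR : Subgroup N) = R.subgroupOf N := hR.coe_toSylow
    have hDR : IsStronglyClosed (DR.subgroupOf N) (SR : Subgroup N) := by
      rw [hSR]
      exact ⟨fun x hx => hx.2, fun x hx y hy => ⟨hD.2 (x : G) hx.1 (y : G) hy.1, hy⟩⟩
    set K := pPrimeCore p N
    have hKc : (Nat.card K).Coprime p := Cores.coprime_card_pPrimeCore
    have hON : pCore p N ≠ ⊥ := fun h0 => hT (le_bot_iff.mp fun x hx => by
      have hn : (T.subgroupOf N).Normal := normal_subgroupOf_of_le_normalizer le_rfl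
      have hx' : (⟨x, le_normalizer hx⟩ : N) ∈ pCore p N :=
        Cores.le_pCore (hN := hn) ((S.isPGroup'.to_le hwp.1).comap_subtype) hx
      rw [h0, mem_bot] at hx'
      exact mem_bot.mpr (congrArg Subtype.val hx'))
    have hDp : IsPGroup p (DR.subgroupOf N) := SR.isPGroup'.to_le hDR.1
    have hnorm := hWn (N ⧸ K) (centralizer_pCore_quotient_le (hc T hwp.1 hT))
      (stableOnNormal_quotient_of_isPStable
        (isPStable_of_isNormalizerPStable hp (isNormalizerPStable_subgroup hst N) hON))
      (SR.mapSurjective (QuotientGroup.mk'_surjective K)) ((DR.subgroupOf N).map (QuotientGroup.mk' K))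
      (isStronglyClosed_map_coprime K hKc SR hDR)
    rw [hW.map_eq N (N ⧸ K) _ _ hDp (injective_mk'_comp K hKc hDp)] at hnorm
    obtain ⟨n0, hn0, k, hk, he⟩ := exists_mem_normalizer_mul K hKc (hDp.to_le (hW.le N _ hDp))
      (m := (⟨h, hh⟩ : N)) ((normalizer_eq_top (H := _)).ge (mem_top _))
    obtain ⟨x, hx, hxa⟩ := fusion_of_congr K hKc SR _ (hW.le_normalizer_closed SR hDR)
      (A := {a : N | (a : G) ∈ A'}) (g := (⟨h, hh⟩ : N)) (n0 := n0)
      (fun a ha => by rw [hSR]; exact hA' ha)
      (by rintro _ ⟨a, ha, rfl⟩; rw [hSR]; exact hA'' ⟨a, ha, rfl⟩) hn0 (fun a _ => by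
        rw [he, map_mul, map_mul, map_mul _ (n0 * k * a), map_mul _ (n0 * k), map_mul _ n0 k,
          map_inv, map_inv, map_mul, show QuotientGroup.mk' K k = 1 from (QuotientGroup.eq_one_iff k).mpr hk, mul_one])
    refine ⟨x, ⟨x.2, ?_⟩, fun a ha => congrArg Subtype.val (hxa ⟨a, hR.le (hA' ha) |> fun h => h⟩ ha)⟩
    rw [hWR]
    refine H48.mem_normalizer_of_cj_eq ?_
    have hm := hW.map_eq N G N.subtype (DR.subgroupOf N) hDp (N.subtype_injective.comp Subtype.val_injective)
    rw [subgroupOf_map_subtype, inf_eq_left.mpr (inf_le_right.trans inf_le_right : DR ≤ N)] at hm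
    rw [hm, cj, Subgroup.map_map]
    conv_rhs => rw [← H48.cj_eq_of_mem_normalizer hx, cj, Subgroup.map_map]
    rfl
  obtain ⟨x, hx, h⟩ := H48.strongFusionAt_of_controls (closedW_isConjugacyFunctor hW D)
    (S1961.result S _ (closedW_isConjugacyFunctor hW D) hloc) (isSylowIn_sylow S) A g (mem_top g) hA hAg
  rw [hWS] at hx
  exact ⟨x, hx.2, h⟩

/-- S3082: the normal `p`-complement criterion -/
theorem closed_complement [Fact p.Prime] (hp : p ≠ 2) (hW : IsPFunctor p W) (hWn : NormalAtClosed p W) :
    ∀ (n : ℕ) (G : Type u) [Group G] [Finite G], Nat.card G ≤ n →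
      ∀ (S : Sylow p G) (D : Subgroup G), IsStronglyClosed D (S : Subgroup G) →
        HasNormalPComplement p (normalizer (W G D : Set G)) → HasNormalPComplement p G := by
  intro n
  induction n with
  | zero => intro G _ _ hc; exact absurd hc (Nat.not_le.mpr Nat.card_pos)
  | succ n ih =>
    intro G _ _ hcard S D hD hN
    have hDp : IsPGroup p D := S.isPGroup'.to_le hD.1
    have hfin : normalizer (W G D : Set G) = ⊤ → HasNormalPComplement p G := fun h => by
      rw [h] at hN
      exact (Fusion.hasNormalPComplement_congr (Subgroup.topEquiv (G := G))).mp hN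
    have hsub : ∀ M : Subgroup G, (S : Subgroup G) ≤ M → M ≠ ⊤ → HasNormalPComplement p M := by
      intro M hSM hM
      have hlt : Nat.card M < Nat.card G := lt_of_le_of_ne (card_le_card_group M) fun h => hM (eq_top_of_card_eq M h)
      refine ih M (by omega) (S.subtype hSM) (D.subgroupOf M) (isStronglyClosed_subgroupOf hD) ?_
      refine hasNormalPComplement_normalizer_of_map M.subtype M.subtype_injective _ ?_
      have he := hW.map_eq M G M.subtype (D.subgroupOf M) hDp.comap_subtype
        (M.subtype_injective.comp Subtype.val_injective)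
      rw [subgroupOf_map_subtype, inf_eq_left.mpr (hD.1.trans hSM)] at he
      exact he ▸ hN
    by_cases hK : pPrimeCore p G = ⊥
    swap
    · set K := pPrimeCore p G
      set π := QuotientGroup.mk' K
      have hKc : (Nat.card K).Coprime p := Cores.coprime_card_pPrimeCore
      have hcardQ : Nat.card (G ⧸ K) ≤ n := by
        have h1 := K.card_mul_index
        rw [index_eq_card] at h1
        have h2 : 2 ≤ Nat.card K := K.one_lt_card_iff_ne_bot.mpr hK
        have h3 : 0 < Nat.card (G ⧸ K) := Nat.card_pos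
        nlinarith
      refine Fusion.hasNormalPComplement_of_quotient_normal K Cores.not_dvd_card_pPrimeCore
        (ih _ hcardQ (S.mapSurjective (QuotientGroup.mk'_surjective K)) (D.map π) (isStronglyClosed_map_coprime K hKc S hD) ?_)
      rw [hW.map_eq G (G ⧸ K) π D hDp (injective_mk'_comp K hKc hDp)]
      let f : normalizer (W G D : Set G) →* normalizer (((W G D).map π : Subgroup (G ⧸ K)) : Set (G ⧸ K)) :=
        MonoidHom.codRestrict (π.comp (normalizer (W G D : Set G)).subtype) _ fun m => by
          refine mem_normalizer_of_map_conj ?_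
          conv_rhs => rw [← map_conj_of_mem_normalizer m.2]
          rw [Subgroup.map_map, Subgroup.map_map]
          congr 1
      refine Fusion.hasNormalPComplement_of_surjective hN f fun ⟨q, hq⟩ => ?_
      obtain ⟨m, rfl⟩ := QuotientGroup.mk'_surjective K q
      obtain ⟨n0, hn0, k, hk, rfl⟩ := exists_mem_normalizer_mul K hKc (hDp.to_le (hW.le G D hDp)) hq
      exact ⟨⟨n0, hn0⟩, Subtype.ext (by
        show π n0 = π (n0 * k)
        rw [map_mul, show π k = 1 from (QuotientGroup.eq_one_iff k).mpr hk, mul_one])⟩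
    by_cases hD0 : D = ⊥
    · refine hfin (top_le_iff.mp fun g _ => H48.mem_normalizer_of_cj_eq ?_)
      rw [show W G D = ⊥ from le_bot_iff.mp (hD0 ▸ hW.le G D hDp), cj, Subgroup.map_bot]
    by_cases hH : normalizer (zjay 0 (S : Subgroup G) : Set G) = ⊤
    swap
    · exact (hasNormalPComplement_iff_zjay hp (.inl rfl) S).mpr (hsub _ (le_normalizer_zjay 0 _) hH)
    have hZn : (zjay 0 (S : Subgroup G)).Normal := normalizer_eq_top_iff.mp hH
    set O := pCore p G
    set π := QuotientGroup.mk' O
    have hSne : (S : Subgroup G) ≠ ⊥ := fun h => hD0 (le_bot_iff.mp (h ▸ hD.1))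
    let S' : Sylow p (G ⧸ O) := S.mapSurjective (QuotientGroup.mk'_surjective O)
    by_cases hS' : (S' : Subgroup (G ⧸ O)) = ⊥
    · have hSQ : (S : Subgroup G) = O := le_antisymm (fun s hs =>
        (QuotientGroup.eq_one_iff s).mp (mem_bot.mp (hS' ▸ ⟨s, hs, rfl⟩))) (Cores.pCore_le_sylow S)
      refine hfin (top_le_iff.mp fun g _ => hW.normalizer_closed S hD ?_)
      rw [hSQ]
      exact (normalizer_eq_top (H := O)).ge (mem_top g)
    have hQ : HasNormalPComplement p (G ⧸ O) := by
      refine (hasNormalPComplement_iff_zjay hp (.inl rfl) S').mpr ?_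
      set Z := zjay 0 (S' : Subgroup (G ⧸ O))
      set M := (normalizer (Z : Set (G ⧸ O))).comap π
      have hMtop : M ≠ ⊤ := by
        intro h
        have hn : Z.Normal := by
          refine normalizer_eq_top_iff.mp (top_le_iff.mp fun x _ => ?_)
          obtain ⟨y, rfl⟩ := QuotientGroup.mk'_surjective O x
          exact (h.ge (mem_top y) :)
        exact zjay_ne_bot S'.isPGroup' hS' (.inl rfl) (le_bot_iff.mp
          (Cores.pCore_quotient_pCore (p := p) (G := G) ▸ Cores.le_pCore (S'.isPGroup'.to_le zjay_le)))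
      refine Fusion.hasNormalPComplement_of_surjective
        (hsub M (fun s hs => le_normalizer_zjay 0 _ ⟨s, hs, rfl⟩) hMtop) (π.subgroupComap _) fun ⟨y, hy⟩ => ?_
      obtain ⟨a, rfl⟩ := QuotientGroup.mk'_surjective O y
      exact ⟨⟨a, hy⟩, rfl⟩
    have hps : IsPSolvable p G := by
      refine Cores.isPSolvable_of_normal_of_quotient O (Cores.isPSolvable_of_isPGroup Cores.pCore_isPGroup) ?_
      refine Cores.isPSolvable_of_normal_of_quotient (pResidual p (G ⧸ O)) (Cores.isPSolvable_of_coprime ?_)
        (Cores.isPSolvable_of_isPGroup Fusion.isPGroup_quotient_pResidual)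
      exact ((Fact.out : p.Prime).coprime_iff_not_dvd.mpr (Fusion.hasNormalPComplement_iff_pResidual.mp hQ)).symm
    have hcentral := Cores.centralizer_pCore_le hps hK
    have hSne' : (S : Subgroup G) ≠ ⊤ := fun h => hfin (top_le_iff.mp fun g _ =>
      hW.normalizer_closed S hD (le_normalizer (h.ge (mem_top g)))) |> fun hG => by
      exact hS' (eq_bot_iff.mpr fun x hx => by
        obtain ⟨s, hs, rfl⟩ := hx
        refine mem_bot.mpr ((QuotientGroup.eq_one_iff s).mpr ?_)
        have hp' : IsPGroup p G := (h ▸ S.isPGroup').of_equiv Subgroup.topEquiv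
        exact (Cores.pCore_eq_top_iff.mpr hp').ge (mem_top s))
    have hco : IsCoatom (S : Subgroup G) := by
      refine ⟨hSne', fun L hL => ?_⟩
      by_contra hLt
      refine hL.ne ?_
      have hSL := hL.le
      have hLc := hsub L hSL hLt
      have hOL : O ≤ L := (Cores.pCore_le_sylow S).trans hSL
      have h0 : pResidual p L = ⊥ := by
        refine (eq_bot_iff_forall _).mpr fun x hx => ?_
        have hxc : (x : G) ∈ centralizer (O : Set G) := mem_centralizer_iff.mpr fun o ho => by
          have hcomm := Fusion.commute_of_hasNormalPComplement hLc (Q := O.subgroupOf L)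
            Cores.pCore_isPGroup.comap_subtype ((Fusion.mem_pResidual_iff_of_hasNormalPComplement hLc).mp hx)
            (x := ⟨o, hOL ho⟩) ho
          exact (congrArg Subtype.val hcomm).symm
        obtain ⟨k, hk⟩ := Cores.pCore_isPGroup (p := p) (⟨(x : G), hcentral hxc⟩ : O)
        have hox : orderOf x ∣ p ^ k := orderOf_dvd_of_pow_eq_one (Subtype.ext (congrArg Subtype.val hk :))
        exact orderOf_eq_one_iff.mp (Nat.eq_one_of_dvd_coprimes
          (((Fusion.mem_pResidual_iff_of_hasNormalPComplement hLc).mp hx).pow_right k) dvd_rfl hox)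
      have hLp : IsPGroup p L := (Fusion.isPGroup_quotient_pResidual (p := p) (G := L)).of_injective
        (QuotientGroup.mk' (pResidual p L)) (by rw [← MonoidHom.ker_eq_bot_iff, QuotientGroup.ker_mk', h0])
      exact (S.is_maximal' hLp hSL).symm
    have hst := stableOnNormal_of_sl2_free hp (not_hasSection_SL2_of_abelian hp default
      (isMulCommutative_of_isPAbelianP hp (H25.isPAbelianP_of_coatom hQ S hco) default))
    have := hWn G hcentral hst S D hD
    exact hfin (normalizer_eq_top (H := W G D))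

end Cfsg.Agent.Thompson
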